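import Mathlib
import Cfsg.Agent.Helper70.Q8

set_option autoImplicit false

namespace Cfsg.Agent.Helper98

/-- Recognition of the structure `3^2 . Q_8` in a group of order 72 from explicit elements. -/
theorem structure_order_72 {G : Type*} [Group G] [Finite G] (hG : Nat.card G = 72) (a b x y : G)
    (ha : a ^ 3 = 1) (hb : b ^ 3 = 1) (hab : a * b = b * a) (ha1 : a ≠ 1) (hb1 : b ≠ 1)
    (hba : b ≠ a) (hba2 : b ≠ a ^ 2)
    (hxa : x * a * x⁻¹ ∈ Subgroup.closure ({a, b} : Set G))
    (hxb : x * b * x⁻¹ ∈ Subgroup.closure ({a, b} : Set G))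
    (hx4 : x ^ 4 = 1) (hx2 : x ^ 2 ≠ 1) (hy2 : y ^ 2 = x ^ 2) (hyx : y * x * y⁻¹ = x⁻¹) :
    ∃ (N : Subgroup G) (_ : N.Normal), Nat.card N = 9 ∧ (∀ g ∈ N, g ^ 3 = 1) ∧
      Nonempty (G ⧸ N ≃* QuaternionGroup 2) := by
  classical
  have : Fact (Nat.Prime 3) := ⟨Nat.prime_three⟩
  set N : Subgroup G := Subgroup.closure ({a, b} : Set G) with hN
  have haN : a ∈ N := Subgroup.subset_closure (by simp)
  have hbN : b ∈ N := Subgroup.subset_closure (by simp)
  -- N is commutative
  have hcomm_gen : ∀ g ∈ N, Commute g a ∧ Commute g b := by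
    intro g hg
    induction hg using Subgroup.closure_induction with
    | mem s hs =>
      rcases hs with rfl | rfl
      · exact ⟨Commute.refl _, hab⟩
      · exact ⟨hab.symm, Commute.refl _⟩
    | one => exact ⟨Commute.one_left _, Commute.one_left _⟩
    | mul g h _ _ ihg ihh => exact ⟨ihg.1.mul_left ihh.1, ihg.2.mul_left ihh.2⟩
    | inv g _ ih => exact ⟨ih.1.inv_left, ih.2.inv_left⟩
  have hcomm : ∀ g ∈ N, ∀ h ∈ N, Commute g h := by
    intro g hg h hh
    induction hh using Subgroup.closure_induction with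
    | mem s hs =>
      rcases hs with rfl | rfl
      · exact (hcomm_gen g hg).1
      · exact (hcomm_gen g hg).2
    | one => exact Commute.one_right _
    | mul h k _ _ ihh ihk => exact ihh.mul_right ihk
    | inv h _ ih => exact ih.inv_right
  -- exponent 3
  have hexp : ∀ g ∈ N, g ^ 3 = 1 := by
    intro g hg
    induction hg using Subgroup.closure_induction with
    | mem s hs =>
      rcases hs with rfl | rfl
      · exact ha
      · exact hb
    | one => simp
    | mul g h hg' hh' ihg ihh =>
      have hc : Commute g h := hcomm g hg' h hh'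
      rw [hc.mul_pow, ihg, ihh, one_mul]
    | inv g _ ih => rw [inv_pow, ih, inv_one]
  have hpN : IsPGroup 3 N := by
    intro g
    refine ⟨1, ?_⟩
    have := hexp g g.2
    exact Subtype.ext (by simpa using this)
  -- card N = 9
  have hoa : orderOf a = 3 := orderOf_eq_prime ha ha1
  have hza : Nat.card (Subgroup.zpowers a) = 3 := by rw [Nat.card_zpowers, hoa]
  have hzle : Subgroup.zpowers a ≤ N := by rw [Subgroup.zpowers_le]; exact haN
  have hbz : b ∉ Subgroup.zpowers a := by
    intro h
    obtain ⟨m, hm⟩ := Subgroup.mem_zpowers_iff.mp h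
    have hmod : a ^ (m % 3) = b := by
      have := zpow_mod_orderOf a m
      rw [hoa] at this
      rw [← hm]
      exact this
    have h0 : 0 ≤ m % 3 := Int.emod_nonneg m (by norm_num)
    have h3 : m % 3 < 3 := Int.emod_lt_of_pos m (by norm_num)
    interval_cases h : m % 3
    · exact hb1 (by rw [← hmod]; simp)
    · exact hba (by rw [← hmod]; simp)
    · exact hba2 (by rw [← hmod]; exact (zpow_ofNat a 2))
  obtain ⟨j, hj⟩ := IsPGroup.iff_card.mp hpN
  have hNdvd : Nat.card N ∣ 72 := hG ▸ Subgroup.card_subgroup_dvd_card N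
  have pow_bound : ∀ i : ℕ, 3 ^ i ∣ 72 → i ≤ 2 := by
    intro i hi
    by_contra hge
    push Not at hge
    have h27 : 3 ^ 3 ∣ 72 := (pow_dvd_pow 3 hge).trans hi
    revert h27
    decide
  have hNcard : Nat.card N = 9 := by
    have hj2 : j ≤ 2 := pow_bound j (hj ▸ hNdvd)
    have h3dvd : 3 ∣ Nat.card N := hza ▸ Subgroup.card_dvd_of_le hzle
    have hne3 : Nat.card N ≠ 3 := by
      intro h
      have := Subgroup.eq_of_le_of_card_ge hzle (by rw [h, hza])
      exact hbz (this ▸ hbN)
    rw [hj] at h3dvd hne3 ⊢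
    interval_cases j <;> simp_all
  obtain ⟨Q, hNQ⟩ := hpN.exists_le_sylow
  obtain ⟨k, hk⟩ := IsPGroup.iff_card.mp Q.isPGroup'
  have hQdvd : Nat.card Q ∣ 72 := hG ▸ Subgroup.card_subgroup_dvd_card (Q : Subgroup G)
  have hQ9 : Nat.card Q = 9 := by
    have hk2 : k ≤ 2 := pow_bound k (hk ▸ hQdvd)
    have h9 : 9 ∣ Nat.card Q := hNcard ▸ Subgroup.card_dvd_of_le hNQ
    rw [hk] at h9 ⊢
    interval_cases k <;> simp_all
  have hQN : (Q : Subgroup G) = N :=
    (Subgroup.eq_of_le_of_card_ge hNQ (by rw [hQ9, hNcard])).symm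
  -- x normalizes N
  have hxN : ∀ g ∈ N, x * g * x⁻¹ ∈ N := by
    intro g hg
    induction hg using Subgroup.closure_induction with
    | mem s hs =>
      rcases hs with rfl | rfl
      · exact hxa
      · exact hxb
    | one => simp [N.one_mem]
    | mul g h _ _ ihg ihh =>
      have : x * (g * h) * x⁻¹ = (x * g * x⁻¹) * (x * h * x⁻¹) := by group
      rw [this]
      exact N.mul_mem ihg ihh
    | inv g _ ih =>
      have : x * g⁻¹ * x⁻¹ = (x * g * x⁻¹)⁻¹ := by group
      rw [this]
      exact N.inv_mem ih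
  have hxnorm : x ∈ Subgroup.normalizer (N : Set G) := by
    rw [Subgroup.mem_normalizer_iff]
    intro g
    constructor
    · exact hxN g
    · intro h
      have h1 := hxN _ (hxN _ (hxN _ h))
      have hx4' : x⁻¹ ^ 4 = 1 := by rw [inv_pow, hx4, inv_one]
      have e : x * (x * (x * (x * g * x⁻¹) * x⁻¹) * x⁻¹) * x⁻¹ = x ^ 4 * g * x⁻¹ ^ 4 := by
        simp only [pow_succ, pow_zero, one_mul, mul_assoc]
      rw [e, hx4, hx4', one_mul, mul_one] at h1
      exact h1
  -- N is normal
  have hox : orderOf x = 4 := by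
    have := orderOf_eq_prime_pow (p := 2) (n := 1) (x := x) (by simpa using hx2) (by simpa using hx4)
    simpa using this
  have hnormal : N.Normal := by
    have hcardnorm : 36 ∣ Nat.card (Subgroup.normalizer (N : Set G)) := by
      have h9 : 9 ∣ Nat.card (Subgroup.normalizer (N : Set G)) :=
        hNcard ▸ Subgroup.card_dvd_of_le Subgroup.le_normalizer
      have h4 : 4 ∣ Nat.card (Subgroup.normalizer (N : Set G)) := by
        have : orderOf (⟨x, hxnorm⟩ : Subgroup.normalizer (N : Set G)) = 4 := by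
          rw [← hox]
          exact (Subgroup.orderOf_mk x hxnorm)
        rw [← this]
        exact orderOf_dvd_natCard _
      exact Nat.Coprime.mul_dvd_of_dvd_of_dvd (by norm_num) h9 h4
    have hidx : (Subgroup.normalizer (N : Set G)).index ∣ 2 := by
      obtain ⟨m, hm⟩ := hcardnorm
      have := Subgroup.index_mul_card (Subgroup.normalizer (N : Set G))
      rw [hG, hm] at this
      have hm2 : (Subgroup.normalizer (N : Set G)).index * m = 2 := by nlinarith
      exact Dvd.intro _ hm2
    have hsyl : Nat.card (Sylow 3 G) = (Subgroup.normalizer (N : Set G)).index :=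
      calc Nat.card (Sylow 3 G) = (Subgroup.normalizer ((Q : Subgroup G) : Set G)).index :=
            Sylow.card_eq_index_normalizer Q
        _ = (Subgroup.normalizer (N : Set G)).index := by rw [hQN]
    have hmod := card_sylow_modEq_one 3 G
    rw [hsyl] at hmod
    have hidx1 : (Subgroup.normalizer (N : Set G)).index = 1 := by
      have hle := Nat.le_of_dvd (by norm_num) hidx
      have hpos : 0 < (Subgroup.normalizer (N : Set G)).index :=
        Nat.pos_of_ne_zero Subgroup.index_ne_zero_of_finite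
      unfold Nat.ModEq at hmod
      interval_cases h : (Subgroup.normalizer (N : Set G)).index <;> simp_all
    rw [Subgroup.index_eq_one] at hidx1
    exact Subgroup.normalizer_eq_top_iff.mp hidx1
  refine ⟨N, hnormal, hNcard, hexp, ?_⟩
  -- the quotient
  have hcardQ : Nat.card (G ⧸ N) = 8 := by
    have := Subgroup.card_eq_card_quotient_mul_card_subgroup N
    rw [hG, hNcard] at this
    omega
  have hx2N : x ^ 2 ∉ N := by
    intro h
    apply hx2
    have h3 := hexp _ h
    have h4 : (x ^ 2) ^ 2 = 1 := by rw [← pow_mul]; exact hx4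
    have h5 : (x ^ 2) ^ 3 = (x ^ 2) ^ 2 * x ^ 2 := pow_succ _ 2
    rw [h3, h4, one_mul] at h5
    exact h5.symm
  set s : G ⧸ N := QuotientGroup.mk x with hs
  set t : G ⧸ N := QuotientGroup.mk y with ht
  have hs4 : s ^ 4 = 1 := by rw [hs, ← QuotientGroup.mk_pow, hx4, QuotientGroup.mk_one]
  have hs2 : s ^ 2 ≠ 1 := by
    rw [hs, ← QuotientGroup.mk_pow, Ne, QuotientGroup.eq_one_iff]
    exact hx2N
  have hts : t * s * t⁻¹ = s⁻¹ := by
    rw [hs, ht, ← QuotientGroup.mk_inv, ← QuotientGroup.mk_mul, ← QuotientGroup.mk_mul, hyx,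
      QuotientGroup.mk_inv]
  have ht2 : t ^ 2 = s ^ 2 := by
    rw [hs, ht, ← QuotientGroup.mk_pow, ← QuotientGroup.mk_pow, hy2]
  have hos : orderOf s = 4 := by
    have := orderOf_eq_prime_pow (p := 2) (n := 1) (x := s) (by simpa using hs2) (by simpa using hs4)
    simpa using this
  have hgen : Subgroup.closure ({s, t} : Set (G ⧸ N)) = ⊤ := by
    set K := Subgroup.closure ({s, t} : Set (G ⧸ N)) with hK
    have hsK : s ∈ K := Subgroup.subset_closure (by simp)
    have htK : t ∈ K := Subgroup.subset_closure (by simp)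
    have hle : Subgroup.zpowers s ≤ K := by
      rw [Subgroup.zpowers_le]; exact hsK
    have hcz : Nat.card (Subgroup.zpowers s) = 4 := by rw [Nat.card_zpowers, hos]
    have hne : Subgroup.zpowers s ≠ K := by
      intro h
      have htz : t ∈ Subgroup.zpowers s := h ▸ htK
      obtain ⟨m, hm⟩ := Subgroup.mem_zpowers_iff.mp htz
      have hct : t * s = s * t := by
        rw [← hm]
        exact ((Commute.refl s).zpow_left m).eq
      have : s⁻¹ = s := by
        rw [← hts, hct, mul_inv_cancel_right]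
      apply hs2
      rw [pow_two]
      nth_rewrite 1 [← this]
      exact inv_mul_cancel s
    have h4K : 4 ∣ Nat.card K := hcz ▸ Subgroup.card_dvd_of_le hle
    have hK8 : Nat.card K ∣ 8 := hcardQ ▸ Subgroup.card_subgroup_dvd_card K
    have hKne4 : Nat.card K ≠ 4 := by
      intro h
      exact hne (Subgroup.eq_of_le_of_card_ge hle (by rw [h, hcz]))
    have hKcard : Nat.card K = 8 := by
      obtain ⟨m, hm⟩ := h4K
      rw [hm] at hK8 hKne4 ⊢
      have hm2 : m ∣ 2 := Nat.dvd_of_mul_dvd_mul_left (by norm_num) (show 4 * m ∣ 4 * 2 from hK8)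
      have := Nat.le_of_dvd (by norm_num) hm2
      interval_cases m <;> simp_all
    exact Subgroup.eq_top_of_card_eq K (by rw [hKcard, hcardQ])
  exact Cfsg.Agent.Helper70.nonempty_mulEquiv_quaternion hcardQ s t hgen hs4 hts ht2

end Cfsg.Agent.Helper98
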