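import Mathlib
import Cfsg.Prelude.Def_Classical
import Cfsg.Agent.Helper27.GF4

/-!
Explicit generators of `SU_3(2)` over the concrete field `GF4`, transported to an arbitrary field of
order 4, and the relations they satisfy in `PSU_3(2)`.
-/

set_option autoImplicit false
open Cfsg Cfsg.Agent.Helper27 Matrix

namespace Cfsg.Agent.Helper98.PSU32

/-- `3 × 3` matrices over `GF4`. -/
abbrev M3 := Matrix (Fin 3) (Fin 3) GF4

instance instCharPGF4 : CharP GF4 2 :=
  CharTwo.of_one_ne_zero_of_two_eq_zero (by decide) (by decide)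

/-- Matrix criterion for membership in `SU_n` over a field of characteristic 2 with `q = 2`. -/
theorem mem_SU_of_matrix {K : Type*} [Field K] [CharP K 2] {n : ℕ}
    (A : Matrix.SpecialLinearGroup (Fin n) K)
    (h : (A.1)ᵀ * (A.1).map (· ^ 2) = 1) : A ∈ Cfsg.SU n K 2 := by
  intro u v
  have hA : slToMat n K A = A.1 := rfl
  rw [hA]
  unfold hermForm
  have key : ∀ i, ((A.1 *ᵥ v) i) ^ 2 = ((A.1).map (· ^ 2) *ᵥ (fun k => (v k) ^ 2)) i := by
    intro i
    simp only [Matrix.mulVec, dotProduct, Matrix.map_apply]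
    rw [sum_pow_char 2]
    exact Finset.sum_congr rfl (fun k _ => mul_pow _ _ _)
  calc ∑ i, (A.1 *ᵥ u) i * ((A.1 *ᵥ v) i) ^ 2
      = (A.1 *ᵥ u) ⬝ᵥ ((A.1).map (· ^ 2) *ᵥ (fun k => (v k) ^ 2)) := by
        simp only [dotProduct]
        exact Finset.sum_congr rfl (fun i _ => by rw [key i])
    _ = u ⬝ᵥ (fun k => (v k) ^ 2) := by
        rw [← Matrix.vecMul_transpose, Matrix.dotProduct_mulVec, Matrix.vecMul_vecMul, h,
          Matrix.vecMul_one]
    _ = ∑ i, u i * (v i) ^ 2 := rfl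

section transport

variable {F : Type*} [Field F] [Fintype F] (hF : Fintype.card F = 4)

/-- The map `SL_3(GF4) → SL_3(F)`. -/
noncomputable def Phi : Matrix.SpecialLinearGroup (Fin 3) GF4 →* Matrix.SpecialLinearGroup (Fin 3) F :=
  Matrix.SpecialLinearGroup.map (gf4Equiv F hF).toRingHom

theorem Phi_coe (A : Matrix.SpecialLinearGroup (Fin 3) GF4) :
    (Phi hF A).1 = (A.1).map (gf4Equiv F hF) := by
  unfold Phi
  rw [Matrix.SpecialLinearGroup.map_apply_coe]
  rfl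

theorem Phi_injective : Function.Injective (Phi hF) := by
  intro A B hAB
  have h1 : (Phi hF A).1 = (Phi hF B).1 := by rw [hAB]
  rw [Phi_coe, Phi_coe] at h1
  apply Subtype.ext
  exact Matrix.map_injective (gf4Equiv F hF).injective h1

theorem Phi_mem_SU (A : Matrix.SpecialLinearGroup (Fin 3) GF4) (hA : A ∈ Cfsg.SU 3 GF4 2) :
    Phi hF A ∈ Cfsg.SU 3 F 2 := by
  intro u v
  set e := gf4Equiv F hF with he
  have hM : slToMat 3 F (Phi hF A) = (A.1).map e := Phi_coe hF A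
  rw [hM]
  obtain ⟨u', rfl⟩ : ∃ u' : Fin 3 → GF4, u = e ∘ u' :=
    ⟨e.symm ∘ u, by funext i; simp⟩
  obtain ⟨v', rfl⟩ : ∃ v' : Fin 3 → GF4, v = e ∘ v' :=
    ⟨e.symm ∘ v, by funext i; simp⟩
  have h1 : ∀ w : Fin 3 → GF4, (A.1).map e *ᵥ (e ∘ w) = e ∘ (A.1 *ᵥ w) := by
    intro w
    funext i
    exact (RingHom.map_mulVec e.toRingHom A.1 w i).symm
  have h2 : ∀ s t : Fin 3 → GF4, hermForm 3 F 2 (e ∘ s) (e ∘ t) = e (hermForm 3 GF4 2 s t) := by
    intro s t
    unfold hermForm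
    rw [map_sum]
    exact Finset.sum_congr rfl (fun i _ => by simp)
  rw [h1, h1, h2, h2]
  congr 1
  exact hA u' v'

/-- The map `SU_3(GF4) → SU_3(F)`. -/
noncomputable def Psi : Cfsg.SU 3 GF4 2 →* Cfsg.SU 3 F 2 :=
  ((Phi hF).comp (Cfsg.SU 3 GF4 2).subtype).codRestrict (Cfsg.SU 3 F 2)
    (fun A => Phi_mem_SU hF A.1 A.2)

theorem Psi_coe (A : Cfsg.SU 3 GF4 2) : (Psi hF A).1 = Phi hF A.1 := rfl

theorem Psi_injective : Function.Injective (Psi hF) := by
  intro A B hAB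
  have h1 : (Psi hF A).1 = (Psi hF B).1 := by rw [hAB]
  rw [Psi_coe, Psi_coe] at h1
  exact Subtype.ext (Phi_injective hF h1)

/-- The map `SU_3(GF4) → PSU_3(F)`. -/
noncomputable def theta : Cfsg.SU 3 GF4 2 →* Cfsg.PSU 3 F 2 :=
  (QuotientGroup.mk' (Subgroup.center (Cfsg.SU 3 F 2))).comp (Psi hF)

theorem theta_eq_one_iff (A : Cfsg.SU 3 GF4 2) :
    theta hF A = 1 ↔ Psi hF A ∈ Subgroup.center (Cfsg.SU 3 F 2) := by
  unfold theta
  rw [MonoidHom.comp_apply, QuotientGroup.mk'_apply, QuotientGroup.eq_one_iff]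

/-- Elements that do not commute with something are not killed by `theta`. -/
theorem theta_ne_one (A B : Cfsg.SU 3 GF4 2) (h : A * B ≠ B * A) : theta hF A ≠ 1 := by
  intro h1
  rw [theta_eq_one_iff, Subgroup.mem_center_iff] at h1
  apply h
  apply Psi_injective hF
  rw [map_mul, map_mul]
  exact (h1 (Psi hF B)).symm

/-- Scalar matrices are killed by `theta`. -/
theorem theta_scalar (A : Cfsg.SU 3 GF4 2) (c : GF4) (hA : A.1.1 = c • (1 : M3)) :
    theta hF A = 1 := by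
  rw [theta_eq_one_iff, Subgroup.mem_center_iff]
  intro g
  apply Subtype.ext
  apply Subtype.ext
  show g.1.1 * (Psi hF A).1.1 = (Psi hF A).1.1 * g.1.1
  rw [Psi_coe, Phi_coe, hA]
  have : (c • (1 : M3)).map (gf4Equiv F hF) = (gf4Equiv F hF c) • (1 : Matrix (Fin 3) (Fin 3) F) := by
    ext i j
    by_cases hij : i = j
    · simp [hij]
    · simp [hij]
  rw [this, Matrix.mul_smul, Matrix.smul_mul, mul_one, one_mul]

end transport

/-! ### Concrete generators -/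

/-- Build an element of `SU_3(GF4)` from a matrix. -/
def mkSU (M : M3) (hd : M.det = 1) (hu : Mᵀ * M.map (· ^ 2) = 1) : Cfsg.SU 3 GF4 2 :=
  ⟨⟨M, hd⟩, mem_SU_of_matrix ⟨M, hd⟩ hu⟩

theorem mkSU_coe (M : M3) (hd : M.det = 1) (hu : Mᵀ * M.map (· ^ 2) = 1) :
    (mkSU M hd hu).1.1 = M := rfl

/-- the clock matrix -/
def a0m : M3 := !![1,0,0;0,GF4.w,0;0,0,GF4.w2]
/-- the shift matrix -/
def b0m : M3 := !![0,1,0;0,0,1;1,0,0]
/-- the scalar `w2` -/
def z0m : M3 := !![GF4.w2,0,0;0,GF4.w2,0;0,0,GF4.w2]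
/-- the Fourier matrix -/
def x0m : M3 := !![1,1,1;1,GF4.w,GF4.w2;1,GF4.w2,GF4.w]
/-- a twisted Fourier matrix -/
def y0m : M3 := !![1, GF4.w, GF4.w; GF4.w2, GF4.w, GF4.w2; GF4.w2, GF4.w2, GF4.w]

/-- clock -/
def a0 : Cfsg.SU 3 GF4 2 := mkSU a0m (by decide) (by decide)
/-- shift -/
def b0 : Cfsg.SU 3 GF4 2 := mkSU b0m (by decide) (by decide)
/-- scalar -/
def z0 : Cfsg.SU 3 GF4 2 := mkSU z0m (by decide) (by decide)
/-- Fourier -/
def x0 : Cfsg.SU 3 GF4 2 := mkSU x0m (by decide) (by decide)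
/-- twisted Fourier -/
def y0 : Cfsg.SU 3 GF4 2 := mkSU y0m (by decide) (by decide)

theorem z0_scalar : z0.1.1 = GF4.w2 • (1 : M3) := by
  show z0m = GF4.w2 • (1 : M3)
  decide

theorem rel_a3 : a0 * a0 * a0 = 1 := by
  apply Subtype.ext; apply Subtype.ext
  show a0m * a0m * a0m = 1
  decide

theorem rel_b3 : b0 * b0 * b0 = 1 := by
  apply Subtype.ext; apply Subtype.ext
  show b0m * b0m * b0m = 1
  decide

theorem rel_ab : a0 * b0 = z0 * b0 * a0 := by
  apply Subtype.ext; apply Subtype.ext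
  show a0m * b0m = z0m * b0m * a0m
  decide

theorem rel_xa : x0 * a0 = b0 * x0 := by
  apply Subtype.ext; apply Subtype.ext
  show x0m * a0m = b0m * x0m
  decide

theorem rel_xb : x0 * b0 = a0 * a0 * x0 := by
  apply Subtype.ext; apply Subtype.ext
  show x0m * b0m = a0m * a0m * x0m
  decide

theorem rel_x4 : x0 * x0 * x0 * x0 = 1 := by
  apply Subtype.ext; apply Subtype.ext
  show x0m * x0m * x0m * x0m = 1
  decide

theorem rel_y2 : y0 * y0 = x0 * x0 := by
  apply Subtype.ext; apply Subtype.ext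
  show y0m * y0m = x0m * x0m
  decide

theorem rel_yx : y0 * x0 = x0 * x0 * x0 * y0 := by
  apply Subtype.ext; apply Subtype.ext
  show y0m * x0m = x0m * x0m * x0m * y0m
  decide

theorem ne_ab : a0 * b0 ≠ b0 * a0 := by
  intro h
  have h1 : (a0 * b0).1.1 = (b0 * a0).1.1 := by rw [h]
  have h2 : a0m * b0m = b0m * a0m := h1
  revert h2
  decide

theorem ne_ba2 : (b0 * a0 * a0) * a0 ≠ a0 * (b0 * a0 * a0) := by
  intro h
  have h1 : ((b0 * a0 * a0) * a0).1.1 = (a0 * (b0 * a0 * a0)).1.1 := by rw [h]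
  have h2 : (b0m * a0m * a0m) * a0m = a0m * (b0m * a0m * a0m) := h1
  revert h2
  decide

theorem ne_ba : (b0 * a0) * a0 ≠ a0 * (b0 * a0) := by
  intro h
  have h1 : ((b0 * a0) * a0).1.1 = (a0 * (b0 * a0)).1.1 := by rw [h]
  have h2 : (b0m * a0m) * a0m = a0m * (b0m * a0m) := h1
  revert h2
  decide

theorem ne_x2 : (x0 * x0) * a0 ≠ a0 * (x0 * x0) := by
  intro h
  have h1 : ((x0 * x0) * a0).1.1 = (a0 * (x0 * x0)).1.1 := by rw [h]
  have h2 : (x0m * x0m) * a0m = a0m * (x0m * x0m) := h1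
  revert h2
  decide

end Cfsg.Agent.Helper98.PSU32
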