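import Mathlib

/-!
Kernel-evaluated enumeration of the subgroup of `SL_2(7) × SL_3(2)` generated by two pairs of
matrices: it is the graph of a homomorphism `SL_2(7) → SL_3(2)` with kernel `{±1}`.
-/

set_option autoImplicit false

namespace Cfsg.Agent.Helper98.L27

/-- pairs (2x2 over Z/7, 3x3 over Z/2), flat -/
structure E where
  /-- entry -/
  a : ZMod 7
  /-- entry -/
  b : ZMod 7
  /-- entry -/
  c : ZMod 7
  /-- entry -/
  d : ZMod 7
  /-- entry -/
  m11 : ZMod 2
  /-- entry -/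
  m12 : ZMod 2
  /-- entry -/
  m13 : ZMod 2
  /-- entry -/
  m21 : ZMod 2
  /-- entry -/
  m22 : ZMod 2
  /-- entry -/
  m23 : ZMod 2
  /-- entry -/
  m31 : ZMod 2
  /-- entry -/
  m32 : ZMod 2
  /-- entry -/
  m33 : ZMod 2
  deriving DecidableEq

namespace E

/-- product -/
def mul (x y : E) : E :=
  ⟨x.a * y.a + x.b * y.c, x.a * y.b + x.b * y.d, x.c * y.a + x.d * y.c, x.c * y.b + x.d * y.d,
   x.m11 * y.m11 + x.m12 * y.m21 + x.m13 * y.m31,
   x.m11 * y.m12 + x.m12 * y.m22 + x.m13 * y.m32,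
   x.m11 * y.m13 + x.m12 * y.m23 + x.m13 * y.m33,
   x.m21 * y.m11 + x.m22 * y.m21 + x.m23 * y.m31,
   x.m21 * y.m12 + x.m22 * y.m22 + x.m23 * y.m32,
   x.m21 * y.m13 + x.m22 * y.m23 + x.m23 * y.m33,
   x.m31 * y.m11 + x.m32 * y.m21 + x.m33 * y.m31,
   x.m31 * y.m12 + x.m32 * y.m22 + x.m33 * y.m32,
   x.m31 * y.m13 + x.m32 * y.m23 + x.m33 * y.m33⟩

/-- identity -/
def one : E := ⟨1,0,0,1, 1,0,0, 0,1,0, 0,0,1⟩
/-- first generator -/
def g1 : E := ⟨1,1,0,1, 0,0,1, 0,1,1, 1,1,0⟩
/-- second generator -/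
def g2 : E := ⟨0,6,1,0, 0,0,1, 1,1,1, 1,0,0⟩
/-- inverse of the first generator -/
def g1i : E := ⟨1,6,0,1, 1,1,1, 1,1,0, 1,0,0⟩
/-- inverse of the second generator -/
def g2i : E := ⟨0,1,6,0, 0,0,1, 1,1,1, 1,0,0⟩

/-- first component is the identity -/
def FstOne (s : E) : Prop := s.a = 1 ∧ s.b = 0 ∧ s.c = 0 ∧ s.d = 1
/-- first component is minus the identity -/
def FstNegOne (s : E) : Prop := s.a = 6 ∧ s.b = 0 ∧ s.c = 0 ∧ s.d = 6
/-- second component is the identity -/
def SndOne (s : E) : Prop :=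
  s.m11 = 1 ∧ s.m12 = 0 ∧ s.m13 = 0 ∧ s.m21 = 0 ∧ s.m22 = 1 ∧ s.m23 = 0 ∧ s.m31 = 0 ∧ s.m32 = 0 ∧ s.m33 = 1

instance (s : E) : Decidable (FstOne s) := by unfold FstOne; infer_instance
instance (s : E) : Decidable (FstNegOne s) := by unfold FstNegOne; infer_instance
instance (s : E) : Decidable (SndOne s) := by unfold SndOne; infer_instance

/-- worklist closure under right multiplication by the two generators -/
def close : ℕ → List E → List E → List E
  | 0, _, seen => seen
  | _ + 1, [], seen => seen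
  | fuel + 1, s :: rest, seen =>
    let t1 := mul s g1
    let b1 := seen.contains t1
    let seen1 := if b1 then seen else t1 :: seen
    let rest1 := if b1 then rest else t1 :: rest
    let t2 := mul s g2
    let b2 := seen1.contains t2
    let seen2 := if b2 then seen1 else t2 :: seen1
    let rest2 := if b2 then rest1 else t2 :: rest1
    close fuel rest2 seen2

/-- the properties checked by kernel evaluation -/
def Good (L : List E) : Prop :=
  one ∈ L ∧ (∀ s ∈ L, mul s g1 ∈ L) ∧ (∀ s ∈ L, mul s g2 ∈ L) ∧ (∀ s ∈ L, mul s g1i ∈ L) ∧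
    (∀ s ∈ L, mul s g2i ∈ L) ∧ (∀ s ∈ L, FstOne s → SndOne s) ∧
    (∀ s ∈ L, SndOne s → FstOne s ∨ FstNegOne s)

instance (L : List E) : Decidable (Good L) := by unfold Good; infer_instance

/-- the enumerated list -/
def theList : List E := close 400 [one] [one]

end E

set_option maxHeartbeats 0 in
set_option maxRecDepth 100000 in
theorem good_theList : E.Good E.theList := by decide +kernel

end Cfsg.Agent.Helper98.L27
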