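import Mathlib
import Cfsg.Agent.Helper98.L27Data
import Cfsg.Agent.Helper5.SLn

/-!
A homomorphism `SL_2(Z/7) → SL_3(Z/2)` with kernel `{±1}`, obtained as a graph subgroup of the
product, generated by two explicit pairs; the enumeration of the generated subgroup is done by
kernel evaluation in `L27Data`.
-/

set_option autoImplicit false

namespace Cfsg.Agent.Helper98.L27

open Matrix

/-- first component as a matrix -/
def fstMat (s : E) : Matrix (Fin 2) (Fin 2) (ZMod 7) := !![s.a, s.b; s.c, s.d]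

/-- second component as a matrix -/
def sndMat (s : E) : Matrix (Fin 3) (Fin 3) (ZMod 2) :=
  !![s.m11, s.m12, s.m13; s.m21, s.m22, s.m23; s.m31, s.m32, s.m33]

theorem fstMat_mul (s t : E) : fstMat (E.mul s t) = fstMat s * fstMat t := by
  ext i j
  fin_cases i <;> fin_cases j <;> simp [fstMat, E.mul, Matrix.mul_apply, Fin.sum_univ_two]

theorem sndMat_mul (s t : E) : sndMat (E.mul s t) = sndMat s * sndMat t := by
  ext i j
  fin_cases i <;> fin_cases j <;> simp [sndMat, E.mul, Matrix.mul_apply, Fin.sum_univ_three]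

theorem fstMat_one : fstMat E.one = 1 := by
  ext i j
  fin_cases i <;> fin_cases j <;> simp [fstMat, E.one]

theorem sndMat_one : sndMat E.one = 1 := by
  ext i j
  fin_cases i <;> fin_cases j <;> simp [sndMat, E.one]

theorem fstMat_eq_one_iff (s : E) : fstMat s = 1 ↔ E.FstOne s := by
  constructor
  · intro h
    refine ⟨?_, ?_, ?_, ?_⟩
    · simpa [fstMat] using congrFun (congrFun h 0) 0
    · simpa [fstMat] using congrFun (congrFun h 0) 1
    · simpa [fstMat] using congrFun (congrFun h 1) 0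
    · simpa [fstMat] using congrFun (congrFun h 1) 1
  · rintro ⟨h1, h2, h3, h4⟩
    ext i j
    fin_cases i <;> fin_cases j <;> simp [fstMat, h1, h2, h3, h4]

theorem fstMat_eq_neg_one_of (s : E) (h : E.FstNegOne s) : fstMat s = -1 := by
  obtain ⟨h1, h2, h3, h4⟩ := h
  have h6 : (6 : ZMod 7) = -1 := by decide
  ext i j
  fin_cases i <;> fin_cases j <;> simp [fstMat, h1, h2, h3, h4, h6]

theorem sndMat_eq_one_iff (s : E) : sndMat s = 1 ↔ E.SndOne s := by
  constructor
  · intro h
    refine ⟨?_, ?_, ?_, ?_, ?_, ?_, ?_, ?_, ?_⟩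
    · simpa [sndMat] using congrFun (congrFun h 0) 0
    · simpa [sndMat] using congrFun (congrFun h 0) 1
    · simpa [sndMat] using congrFun (congrFun h 0) 2
    · simpa [sndMat] using congrFun (congrFun h 1) 0
    · simpa [sndMat] using congrFun (congrFun h 1) 1
    · simpa [sndMat] using congrFun (congrFun h 1) 2
    · simpa [sndMat] using congrFun (congrFun h 2) 0
    · simpa [sndMat] using congrFun (congrFun h 2) 1
    · simpa [sndMat] using congrFun (congrFun h 2) 2
  · rintro ⟨h1, h2, h3, h4, h5, h6, h7, h8, h9⟩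
    ext i j
    fin_cases i <;> fin_cases j <;> simp [sndMat, h1, h2, h3, h4, h5, h6, h7, h8, h9]

/-- an element of `E` with both determinants one, as a pair of special linear matrices -/
def toPair (s : E) (h1 : (fstMat s).det = 1) (h2 : (sndMat s).det = 1) :
    SpecialLinearGroup (Fin 2) (ZMod 7) × SpecialLinearGroup (Fin 3) (ZMod 2) :=
  (⟨fstMat s, h1⟩, ⟨sndMat s, h2⟩)

theorem det_fst_g1 : (fstMat E.g1).det = 1 := by
  rw [Matrix.det_fin_two]; simp [fstMat, E.g1]
theorem det_fst_g2 : (fstMat E.g2).det = 1 := by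
  rw [Matrix.det_fin_two]; simp [fstMat, E.g2]; decide
theorem det_fst_g1i : (fstMat E.g1i).det = 1 := by
  rw [Matrix.det_fin_two]; simp [fstMat, E.g1i]
theorem det_fst_g2i : (fstMat E.g2i).det = 1 := by
  rw [Matrix.det_fin_two]; simp [fstMat, E.g2i]; decide
theorem det_snd_g1 : (sndMat E.g1).det = 1 := by
  rw [Matrix.det_fin_three]; simp [sndMat, E.g1]
theorem det_snd_g2 : (sndMat E.g2).det = 1 := by
  rw [Matrix.det_fin_three]; simp [sndMat, E.g2]
theorem det_snd_g1i : (sndMat E.g1i).det = 1 := by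
  rw [Matrix.det_fin_three]; simp [sndMat, E.g1i]
theorem det_snd_g2i : (sndMat E.g2i).det = 1 := by
  rw [Matrix.det_fin_three]; simp [sndMat, E.g2i]

/-- first generating pair -/
def G1 : SpecialLinearGroup (Fin 2) (ZMod 7) × SpecialLinearGroup (Fin 3) (ZMod 2) :=
  toPair E.g1 det_fst_g1 det_snd_g1
/-- second generating pair -/
def G2 : SpecialLinearGroup (Fin 2) (ZMod 7) × SpecialLinearGroup (Fin 3) (ZMod 2) :=
  toPair E.g2 det_fst_g2 det_snd_g2
/-- inverse of the first generating pair -/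
def G1i : SpecialLinearGroup (Fin 2) (ZMod 7) × SpecialLinearGroup (Fin 3) (ZMod 2) :=
  toPair E.g1i det_fst_g1i det_snd_g1i
/-- inverse of the second generating pair -/
def G2i : SpecialLinearGroup (Fin 2) (ZMod 7) × SpecialLinearGroup (Fin 3) (ZMod 2) :=
  toPair E.g2i det_fst_g2i det_snd_g2i

theorem pair_ext {p q : SpecialLinearGroup (Fin 2) (ZMod 7) × SpecialLinearGroup (Fin 3) (ZMod 2)}
    (h1 : p.1.1 = q.1.1) (h2 : p.2.1 = q.2.1) : p = q :=
  Prod.ext (Subtype.ext h1) (Subtype.ext h2)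

theorem G1_mul_G1i : G1 * G1i = 1 := by
  have h : E.mul E.g1 E.g1i = E.one := by decide
  apply pair_ext
  · change fstMat E.g1 * fstMat E.g1i = 1
    rw [← fstMat_mul, h, fstMat_one]
  · change sndMat E.g1 * sndMat E.g1i = 1
    rw [← sndMat_mul, h, sndMat_one]

theorem G2_mul_G2i : G2 * G2i = 1 := by
  have h : E.mul E.g2 E.g2i = E.one := by decide
  apply pair_ext
  · change fstMat E.g2 * fstMat E.g2i = 1
    rw [← fstMat_mul, h, fstMat_one]
  · change sndMat E.g2 * sndMat E.g2i = 1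
    rw [← sndMat_mul, h, sndMat_one]

theorem G1_inv : G1⁻¹ = G1i := inv_eq_of_mul_eq_one_right G1_mul_G1i
theorem G2_inv : G2⁻¹ = G2i := inv_eq_of_mul_eq_one_right G2_mul_G2i

/-- the generated subgroup -/
def P : Subgroup (SpecialLinearGroup (Fin 2) (ZMod 7) × SpecialLinearGroup (Fin 3) (ZMod 2)) :=
  Subgroup.closure {G1, G2}

/-- every element of `P` is represented in the enumerated list -/
theorem exists_mem_theList {p : SpecialLinearGroup (Fin 2) (ZMod 7) × SpecialLinearGroup (Fin 3) (ZMod 2)}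
    (hp : p ∈ P) : ∃ s ∈ E.theList, fstMat s = p.1.1 ∧ sndMat s = p.2.1 := by
  obtain ⟨h1, hg1, hg2, hg1i, hg2i, -, -⟩ := good_theList
  induction hp using Subgroup.closure_induction_right with
  | one => exact ⟨E.one, h1, fstMat_one, sndMat_one⟩
  | mul_right x hx y hy ih =>
    obtain ⟨s, hs, hs1, hs2⟩ := ih
    rcases hy with rfl | rfl
    · refine ⟨E.mul s E.g1, hg1 s hs, ?_, ?_⟩
      · rw [fstMat_mul, hs1]; rfl
      · rw [sndMat_mul, hs2]; rfl
    · refine ⟨E.mul s E.g2, hg2 s hs, ?_, ?_⟩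
      · rw [fstMat_mul, hs1]; rfl
      · rw [sndMat_mul, hs2]; rfl
  | mul_inv_cancel x hx y hy ih =>
    obtain ⟨s, hs, hs1, hs2⟩ := ih
    rcases hy with rfl | rfl
    · rw [G1_inv]
      refine ⟨E.mul s E.g1i, hg1i s hs, ?_, ?_⟩
      · rw [fstMat_mul, hs1]; rfl
      · rw [sndMat_mul, hs2]; rfl
    · rw [G2_inv]
      refine ⟨E.mul s E.g2i, hg2i s hs, ?_, ?_⟩
      · rw [fstMat_mul, hs1]; rfl
      · rw [sndMat_mul, hs2]; rfl

theorem snd_eq_one_of_fst_eq_one {p : SpecialLinearGroup (Fin 2) (ZMod 7) × SpecialLinearGroup (Fin 3) (ZMod 2)}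
    (hp : p ∈ P) (h : p.1 = 1) : p.2 = 1 := by
  obtain ⟨s, hs, hs1, hs2⟩ := exists_mem_theList hp
  obtain ⟨-, -, -, -, -, hC1, -⟩ := good_theList
  have : E.FstOne s := by
    rw [← fstMat_eq_one_iff, hs1, h]; rfl
  have h2 := (sndMat_eq_one_iff s).2 (hC1 s hs this)
  apply Subtype.ext
  rw [← hs2, h2]; rfl

theorem fst_eq_of_snd_eq_one {p : SpecialLinearGroup (Fin 2) (ZMod 7) × SpecialLinearGroup (Fin 3) (ZMod 2)}
    (hp : p ∈ P) (h : p.2 = 1) : p.1.1 = 1 ∨ p.1.1 = -1 := by
  obtain ⟨s, hs, hs1, hs2⟩ := exists_mem_theList hp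
  obtain ⟨-, -, -, -, -, -, hC4⟩ := good_theList
  have : E.SndOne s := by
    rw [← sndMat_eq_one_iff, hs2, h]; rfl
  rcases hC4 s hs this with h1 | h1
  · left; rw [← hs1]; exact (fstMat_eq_one_iff s).2 h1
  · right; rw [← hs1]; exact fstMat_eq_neg_one_of s h1

/-- `(-1, 1)` lies in `P` -/
theorem neg_one_mem : ∃ p ∈ P, p.1.1 = -1 ∧ p.2 = 1 := by
  refine ⟨G2 * G2, mul_mem (Subgroup.subset_closure (by simp)) (Subgroup.subset_closure (by simp)), ?_, ?_⟩
  · change fstMat E.g2 * fstMat E.g2 = -1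
    rw [← fstMat_mul]
    exact fstMat_eq_neg_one_of _ (by decide)
  · apply Subtype.ext
    change sndMat E.g2 * sndMat E.g2 = 1
    rw [← sndMat_mul]
    exact (sndMat_eq_one_iff _).2 (by decide)


section surj

local instance fact_prime_seven : Fact (Nat.Prime 7) := ⟨by norm_num⟩

/-- the projection of `P` to the first factor -/
def P1 : Subgroup (SpecialLinearGroup (Fin 2) (ZMod 7)) := P.map (MonoidHom.fst _ _)

theorem fst_mem_P1 {p : SpecialLinearGroup (Fin 2) (ZMod 7) × SpecialLinearGroup (Fin 3) (ZMod 2)}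
    (hp : p ∈ P) : p.1 ∈ P1 := Subgroup.mem_map.2 ⟨p, hp, rfl⟩

theorem G1_mem : G1 ∈ P := Subgroup.subset_closure (by simp)
theorem G2_mem : G2 ∈ P := Subgroup.subset_closure (by simp)
theorem G1i_mem : G1i ∈ P := by rw [← G1_inv]; exact inv_mem G1_mem
theorem G2i_mem : G2i ∈ P := by rw [← G2_inv]; exact inv_mem G2_mem

theorem upper_mem : SpecialLinearGroup.transvection (show (0 : Fin 2) ≠ 1 by decide) (1 : ZMod 7) ∈ P1 := by
  have h : SpecialLinearGroup.transvection (show (0 : Fin 2) ≠ 1 by decide) (1 : ZMod 7) = G1.1 := by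
    apply Subtype.ext
    rw [SpecialLinearGroup.transvection_coe]
    change _ = fstMat E.g1
    ext i j
    fin_cases i <;> fin_cases j <;> simp [fstMat, E.g1]
  rw [h]
  exact fst_mem_P1 G1_mem

theorem lower_mem : SpecialLinearGroup.transvection (show (1 : Fin 2) ≠ 0 by decide) (1 : ZMod 7) ∈ P1 := by
  have h : SpecialLinearGroup.transvection (show (1 : Fin 2) ≠ 0 by decide) (1 : ZMod 7) =
      (G2 * G1i * G2i).1 := by
    apply Subtype.ext
    rw [SpecialLinearGroup.transvection_coe]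
    change _ = fstMat E.g2 * fstMat E.g1i * fstMat E.g2i
    rw [← fstMat_mul, ← fstMat_mul]
    have h4 : (E.mul (E.mul E.g2 E.g1i) E.g2i).a = 1 ∧ (E.mul (E.mul E.g2 E.g1i) E.g2i).b = 0 ∧
        (E.mul (E.mul E.g2 E.g1i) E.g2i).c = 1 ∧ (E.mul (E.mul E.g2 E.g1i) E.g2i).d = 1 := by decide
    obtain ⟨ha, hb, hc, hd⟩ := h4
    ext i j
    fin_cases i <;> fin_cases j <;> simp [fstMat, ha, hb, hc, hd]
  rw [h]
  exact fst_mem_P1 (mul_mem (mul_mem G2_mem G1i_mem) G2i_mem)

theorem transvection_natCast_mem {i j : Fin 2} (hij : i ≠ j)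
    (h : SpecialLinearGroup.transvection hij (1 : ZMod 7) ∈ P1) (n : ℕ) :
    SpecialLinearGroup.transvection hij (n : ZMod 7) ∈ P1 := by
  induction n with
  | zero =>
    have : SpecialLinearGroup.transvection hij ((0 : ℕ) : ZMod 7) = 1 := by
      apply Subtype.ext
      rw [SpecialLinearGroup.transvection_coe]
      simp
    rw [this]
    exact one_mem _
  | succ n ih =>
    rw [Nat.cast_succ, SpecialLinearGroup.transvection_add]
    exact mul_mem ih h

theorem transvection_mem {i j : Fin 2} (hij : i ≠ j) (a : ZMod 7) :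
    SpecialLinearGroup.transvection hij a ∈ P1 := by
  have h1 : SpecialLinearGroup.transvection hij (1 : ZMod 7) ∈ P1 := by
    fin_cases i <;> fin_cases j
    · exact absurd rfl hij
    · exact upper_mem
    · exact lower_mem
    · exact absurd rfl hij
  have := transvection_natCast_mem hij h1 a.val
  rwa [ZMod.natCast_zmod_val] at this

theorem P1_eq_top : P1 = ⊤ := by
  rw [eq_top_iff]
  intro M _
  exact Cfsg.Agent.Helper5.transvection_induction (fun M => M ∈ P1)
    (fun i j hij a => transvection_mem hij a) (fun A B hA hB => mul_mem hA hB) M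

end surj

/-- the homomorphism `SL_2(7) → SL_3(2)` with kernel `{±1}` -/
theorem exists_hom : ∃ ψ : SpecialLinearGroup (Fin 2) (ZMod 7) →* SpecialLinearGroup (Fin 3) (ZMod 2),
    ∀ x, ψ x = 1 ↔ (x.1 = 1 ∨ x.1 = -1) := by
  have hbij : Function.Bijective (Prod.fst ∘ P.subtype) := by
    constructor
    · rw [← MonoidHom.coe_fst, ← MonoidHom.coe_comp, injective_iff_map_eq_one]
      rintro ⟨p, hp⟩ h
      have h1 : p.1 = 1 := h
      have h2 : p.2 = 1 := snd_eq_one_of_fst_eq_one hp h1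
      exact Subtype.ext (Prod.ext h1 h2)
    · intro x
      have hx : x ∈ P1 := by rw [P1_eq_top]; exact Subgroup.mem_top x
      obtain ⟨p, hp, rfl⟩ := Subgroup.mem_map.1 hx
      exact ⟨⟨p, hp⟩, rfl⟩
  obtain ⟨ψ, hψ⟩ := Subgroup.exists_eq_graph hbij
  have hmem : ∀ x y, (x, y) ∈ P ↔ ψ x = y := by
    intro x y
    rw [hψ, MonoidHom.mem_graph]
  refine ⟨ψ, fun x => ⟨fun hx => ?_, fun hx => ?_⟩⟩
  · have : (x, (1 : SpecialLinearGroup (Fin 3) (ZMod 2))) ∈ P := (hmem x 1).2 hx
    exact fst_eq_of_snd_eq_one this rfl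
  · rcases hx with hx | hx
    · have : x = 1 := Subtype.ext hx
      rw [this, map_one]
    · obtain ⟨p, hp, hp1, hp2⟩ := neg_one_mem
      have hxp : x = p.1 := Subtype.ext (by rw [hx, hp1])
      have : (p.1, p.2) ∈ P := hp
      rw [hmem] at this
      rw [hxp, this, hp2]

end Cfsg.Agent.Helper98.L27
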