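import Mathlib

/-!
Kernel-evaluated enumeration of the subgroup of `SL_2(7) × SL_3(9)` generated by two pairs of
matrices (the second components unitary): it is the graph of a homomorphism `SL_2(7) → SU_3(3)` with
kernel `{±1}` and centreless image.  Elements of the field with nine elements are written `re + im * i`
with `i^2 = 2`.
-/

set_option autoImplicit false

namespace Cfsg.Agent.Helper98.U33

/-- `2 × 2` matrices over `Z/7`, flat -/
structure A2 where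
  /-- entry -/
  a : ZMod 7
  /-- entry -/
  b : ZMod 7
  /-- entry -/
  c : ZMod 7
  /-- entry -/
  d : ZMod 7
  deriving DecidableEq

/-- `3 × 3` matrices over `F_9 = F_3[i]`, flat -/
structure B3 where
  /-- entry -/
  r11 : ZMod 3
  /-- entry -/
  i11 : ZMod 3
  /-- entry -/
  r12 : ZMod 3
  /-- entry -/
  i12 : ZMod 3
  /-- entry -/
  r13 : ZMod 3
  /-- entry -/
  i13 : ZMod 3
  /-- entry -/
  r21 : ZMod 3
  /-- entry -/
  i21 : ZMod 3
  /-- entry -/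
  r22 : ZMod 3
  /-- entry -/
  i22 : ZMod 3
  /-- entry -/
  r23 : ZMod 3
  /-- entry -/
  i23 : ZMod 3
  /-- entry -/
  r31 : ZMod 3
  /-- entry -/
  i31 : ZMod 3
  /-- entry -/
  r32 : ZMod 3
  /-- entry -/
  i32 : ZMod 3
  /-- entry -/
  r33 : ZMod 3
  /-- entry -/
  i33 : ZMod 3
  deriving DecidableEq

/-- pairs -/
structure E where
  /-- first component -/
  fst : A2
  /-- second component -/
  snd : B3
  deriving DecidableEq

namespace A2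
/-- product -/
def mul (x y : A2) : A2 :=
  ⟨x.a * y.a + x.b * y.c, x.a * y.b + x.b * y.d, x.c * y.a + x.d * y.c, x.c * y.b + x.d * y.d⟩
/-- identity -/
def one : A2 := ⟨1, 0, 0, 1⟩
/-- minus identity -/
def negOne : A2 := ⟨6, 0, 0, 6⟩
end A2

namespace B3
/-- product -/
def mul (x y : B3) : B3 :=
  ⟨(x.r11 * y.r11 + 2 * x.i11 * y.i11) + (x.r12 * y.r21 + 2 * x.i12 * y.i21) + (x.r13 * y.r31 + 2 * x.i13 * y.i31),
   (x.r11 * y.i11 + x.i11 * y.r11) + (x.r12 * y.i21 + x.i12 * y.r21) + (x.r13 * y.i31 + x.i13 * y.r31),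
   (x.r11 * y.r12 + 2 * x.i11 * y.i12) + (x.r12 * y.r22 + 2 * x.i12 * y.i22) + (x.r13 * y.r32 + 2 * x.i13 * y.i32),
   (x.r11 * y.i12 + x.i11 * y.r12) + (x.r12 * y.i22 + x.i12 * y.r22) + (x.r13 * y.i32 + x.i13 * y.r32),
   (x.r11 * y.r13 + 2 * x.i11 * y.i13) + (x.r12 * y.r23 + 2 * x.i12 * y.i23) + (x.r13 * y.r33 + 2 * x.i13 * y.i33),
   (x.r11 * y.i13 + x.i11 * y.r13) + (x.r12 * y.i23 + x.i12 * y.r23) + (x.r13 * y.i33 + x.i13 * y.r33),
   (x.r21 * y.r11 + 2 * x.i21 * y.i11) + (x.r22 * y.r21 + 2 * x.i22 * y.i21) + (x.r23 * y.r31 + 2 * x.i23 * y.i31),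
   (x.r21 * y.i11 + x.i21 * y.r11) + (x.r22 * y.i21 + x.i22 * y.r21) + (x.r23 * y.i31 + x.i23 * y.r31),
   (x.r21 * y.r12 + 2 * x.i21 * y.i12) + (x.r22 * y.r22 + 2 * x.i22 * y.i22) + (x.r23 * y.r32 + 2 * x.i23 * y.i32),
   (x.r21 * y.i12 + x.i21 * y.r12) + (x.r22 * y.i22 + x.i22 * y.r22) + (x.r23 * y.i32 + x.i23 * y.r32),
   (x.r21 * y.r13 + 2 * x.i21 * y.i13) + (x.r22 * y.r23 + 2 * x.i22 * y.i23) + (x.r23 * y.r33 + 2 * x.i23 * y.i33),
   (x.r21 * y.i13 + x.i21 * y.r13) + (x.r22 * y.i23 + x.i22 * y.r23) + (x.r23 * y.i33 + x.i23 * y.r33),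
   (x.r31 * y.r11 + 2 * x.i31 * y.i11) + (x.r32 * y.r21 + 2 * x.i32 * y.i21) + (x.r33 * y.r31 + 2 * x.i33 * y.i31),
   (x.r31 * y.i11 + x.i31 * y.r11) + (x.r32 * y.i21 + x.i32 * y.r21) + (x.r33 * y.i31 + x.i33 * y.r31),
   (x.r31 * y.r12 + 2 * x.i31 * y.i12) + (x.r32 * y.r22 + 2 * x.i32 * y.i22) + (x.r33 * y.r32 + 2 * x.i33 * y.i32),
   (x.r31 * y.i12 + x.i31 * y.r12) + (x.r32 * y.i22 + x.i32 * y.r22) + (x.r33 * y.i32 + x.i33 * y.r32),
   (x.r31 * y.r13 + 2 * x.i31 * y.i13) + (x.r32 * y.r23 + 2 * x.i32 * y.i23) + (x.r33 * y.r33 + 2 * x.i33 * y.i33),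
   (x.r31 * y.i13 + x.i31 * y.r13) + (x.r32 * y.i23 + x.i32 * y.r23) + (x.r33 * y.i33 + x.i33 * y.r33)⟩
/-- identity -/
def one : B3 := ⟨1, 0, 0, 0, 0, 0, 0, 0, 1, 0, 0, 0, 0, 0, 0, 0, 1, 0⟩
end B3

namespace E

/-- product -/
def mul (x y : E) : E := ⟨A2.mul x.fst y.fst, B3.mul x.snd y.snd⟩
/-- identity -/
def one : E := ⟨A2.one, B3.one⟩
/-- first generator -/
def g1 : E := ⟨⟨1, 1, 0, 1⟩, ⟨0, 0, 1, 1, 1, 2, 1, 1, 1, 0, 0, 1, 1, 1, 2, 0, 0, 2⟩⟩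
/-- second generator -/
def g2 : E := ⟨⟨0, 6, 1, 0⟩, ⟨0, 0, 0, 0, 0, 1, 0, 0, 2, 0, 0, 0, 0, 2, 0, 0, 0, 0⟩⟩
/-- inverse of the first generator -/
def g1i : E := ⟨⟨1, 6, 0, 1⟩, ⟨0, 0, 1, 2, 1, 2, 1, 2, 1, 0, 2, 0, 1, 1, 0, 2, 0, 1⟩⟩
/-- inverse of the second generator -/
def g2i : E := ⟨⟨0, 1, 6, 0⟩, ⟨0, 0, 0, 0, 0, 1, 0, 0, 2, 0, 0, 0, 0, 2, 0, 0, 0, 0⟩⟩

/-- worklist closure under right multiplication by the two generators -/
def close : ℕ → List E → List E → List E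
  | 0, _, seen => seen
  | _ + 1, [], seen => seen
  | fuel + 1, s :: rest, seen =>
    let t1 := mul s g1
    let b1 := seen.contains t1
    let seen1 := if b1 then seen else t1 :: seen
    let rest1 := if b1 then rest else t1 :: rest
    let t2 := mul s g2
    let b2 := seen1.contains t2
    let seen2 := if b2 then seen1 else t2 :: seen1
    let rest2 := if b2 then rest1 else t2 :: rest1
    close fuel rest2 seen2

/-- the properties checked by kernel evaluation -/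
def Good (L : List E) : Prop :=
  one ∈ L ∧ (∀ s ∈ L, mul s g1 ∈ L) ∧ (∀ s ∈ L, mul s g2 ∈ L) ∧ (∀ s ∈ L, mul s g1i ∈ L) ∧
    (∀ s ∈ L, mul s g2i ∈ L) ∧ (∀ s ∈ L, s.fst = A2.one → s.snd = B3.one) ∧
    (∀ s ∈ L, s.snd = B3.one → s.fst = A2.one ∨ s.fst = A2.negOne) ∧
    (∀ s ∈ L, B3.mul s.snd g1.snd = B3.mul g1.snd s.snd → B3.mul s.snd g2.snd = B3.mul g2.snd s.snd →
      s.snd = B3.one)

instance (L : List E) : Decidable (Good L) := by unfold Good; infer_instance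

/-- the enumerated list -/
def theList : List E := close 400 [one] [one]

end E

set_option maxHeartbeats 0 in
set_option maxRecDepth 100000 in
theorem good_theList : E.Good E.theList := by decide +kernel

end Cfsg.Agent.Helper98.U33
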