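import Mathlib
import Cfsg.Agent.Helper98.U33Data

/-!
Kernel-evaluated check: every `3 × 3` unitary matrix of determinant one over `F_9`
(given by its first two columns, the third being the conjugate of their cross product)
has order dividing `8`, `12` or `7`.
-/

set_option autoImplicit false

namespace Cfsg.Agent.Helper98.SU33

open Cfsg.Agent.Helper98.U33

/-- elements of `F_9 = F_3[i]`, flat -/
structure S9 where
  /-- real part -/
  re : ZMod 3
  /-- imaginary part -/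
  im : ZMod 3
  deriving DecidableEq

namespace S9
/-- product -/
def mul (x y : S9) : S9 := ⟨x.re * y.re + 2 * x.im * y.im, x.re * y.im + x.im * y.re⟩
/-- difference -/
def sub (x y : S9) : S9 := ⟨x.re - y.re, x.im - y.im⟩
/-- conjugate -/
def conj (x : S9) : S9 := ⟨x.re, -x.im⟩
end S9

/-- the matrix with first two columns `a`, `b` and third column the conjugate of `a × b` -/
def mk3 (a1 a2 a3 b1 b2 b3 : S9) : B3 :=
  let c1 := S9.conj (S9.sub (S9.mul a2 b3) (S9.mul a3 b2))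
  let c2 := S9.conj (S9.sub (S9.mul a3 b1) (S9.mul a1 b3))
  let c3 := S9.conj (S9.sub (S9.mul a1 b2) (S9.mul a2 b1))
  ⟨a1.re, a1.im, b1.re, b1.im, c1.re, c1.im,
   a2.re, a2.im, b2.re, b2.im, c2.re, c2.im,
   a3.re, a3.im, b3.re, b3.im, c3.re, c3.im⟩

/-- Hermitian norm of a column -/
def nrm (a1 a2 a3 : S9) : ZMod 3 :=
  a1.re * a1.re + a1.im * a1.im + (a2.re * a2.re + a2.im * a2.im) + (a3.re * a3.re + a3.im * a3.im)

/-- real part of the Hermitian product of two columns -/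
def orthRe (a1 a2 a3 b1 b2 b3 : S9) : ZMod 3 :=
  a1.re * b1.re + a1.im * b1.im + (a2.re * b2.re + a2.im * b2.im) + (a3.re * b3.re + a3.im * b3.im)

/-- imaginary part of the Hermitian product of two columns -/
def orthIm (a1 a2 a3 b1 b2 b3 : S9) : ZMod 3 :=
  a1.im * b1.re - a1.re * b1.im + (a2.im * b2.re - a2.re * b2.im) + (a3.im * b3.re - a3.re * b3.im)

/-- the order divides 8, 12 or 7 -/
def okOrder (x : B3) : Bool :=
  let x2 := B3.mul x x
  let x4 := B3.mul x2 x2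
  let x8 := B3.mul x4 x4
  let x12 := B3.mul x8 x4
  let x7 := B3.mul (B3.mul x4 x2) x
  decide (x8 = B3.one) || decide (x12 = B3.one) || decide (x7 = B3.one)

/-- an element commuting with the two generators of `U33Data` is the identity -/
def okCent (x : B3) : Bool :=
  !(decide (B3.mul x E.g1.snd = B3.mul E.g1.snd x) && decide (B3.mul x E.g2.snd = B3.mul E.g2.snd x))
    || decide (x = B3.one)

/-- both checks -/
def okAll (x : B3) : Bool := okOrder x && okCent x

/-- the statement checked for a fixed first entry of the first column -/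
def Slice (a1 : S9) : Prop :=
  ∀ a2r a2i a3r a3i : ZMod 3, nrm a1 ⟨a2r, a2i⟩ ⟨a3r, a3i⟩ = 1 →
    ∀ b1r b1i b2r b2i b3r b3i : ZMod 3,
      nrm ⟨b1r, b1i⟩ ⟨b2r, b2i⟩ ⟨b3r, b3i⟩ = 1 →
      orthRe a1 ⟨a2r, a2i⟩ ⟨a3r, a3i⟩ ⟨b1r, b1i⟩ ⟨b2r, b2i⟩ ⟨b3r, b3i⟩ = 0 →
      orthIm a1 ⟨a2r, a2i⟩ ⟨a3r, a3i⟩ ⟨b1r, b1i⟩ ⟨b2r, b2i⟩ ⟨b3r, b3i⟩ = 0 →
      okAll (mk3 a1 ⟨a2r, a2i⟩ ⟨a3r, a3i⟩ ⟨b1r, b1i⟩ ⟨b2r, b2i⟩ ⟨b3r, b3i⟩) = true

instance (a1 : S9) : Decidable (Slice a1) := by unfold Slice; infer_instance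

set_option maxHeartbeats 0 in
set_option maxRecDepth 100000 in
theorem slice_00 : Slice ⟨0, 0⟩ := by decide +kernel

set_option maxHeartbeats 0 in
set_option maxRecDepth 100000 in
theorem slice_01 : Slice ⟨0, 1⟩ := by decide +kernel

set_option maxHeartbeats 0 in
set_option maxRecDepth 100000 in
theorem slice_02 : Slice ⟨0, 2⟩ := by decide +kernel

end Cfsg.Agent.Helper98.SU33
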