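import Mathlib
import Cfsg.Agent.Helper98.SU33Data

/-!
Further slices of the kernel-evaluated check of `SU33Data`.
-/

set_option autoImplicit false

namespace Cfsg.Agent.Helper98.SU33

set_option maxHeartbeats 0 in
set_option maxRecDepth 100000 in
theorem slice_20 : Slice ⟨2, 0⟩ := by decide +kernel

set_option maxHeartbeats 0 in
set_option maxRecDepth 100000 in
theorem slice_21 : Slice ⟨2, 1⟩ := by decide +kernel

set_option maxHeartbeats 0 in
set_option maxRecDepth 100000 in
theorem slice_22 : Slice ⟨2, 2⟩ := by decide +kernel

end Cfsg.Agent.Helper98.SU33
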