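import Mathlib
import Cfsg.Agent.Helper98.U33Data
import Cfsg.Agent.Helper98.GF9
import Cfsg.Agent.Helper98.SUKit
import Cfsg.Agent.Helper5.SLn

/-!
A homomorphism `SL_2(Z/7) → SU_3(3)` (over the concrete field `GF9`) with kernel `{±1}` and
centreless image, obtained as a graph subgroup; the enumeration is done in `U33Data`.
-/

set_option autoImplicit false

namespace Cfsg.Agent.Helper98.U33

open Matrix

/-- first component as a matrix -/
def fstMat (x : A2) : Matrix (Fin 2) (Fin 2) (ZMod 7) := !![x.a, x.b; x.c, x.d]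

/-- second component as a matrix -/
def sndMat (x : B3) : Matrix (Fin 3) (Fin 3) GF9 :=
  !![⟨x.r11, x.i11⟩, ⟨x.r12, x.i12⟩, ⟨x.r13, x.i13⟩;
     ⟨x.r21, x.i21⟩, ⟨x.r22, x.i22⟩, ⟨x.r23, x.i23⟩;
     ⟨x.r31, x.i31⟩, ⟨x.r32, x.i32⟩, ⟨x.r33, x.i33⟩]

theorem fstMat_mul (s t : A2) : fstMat (A2.mul s t) = fstMat s * fstMat t := by
  ext i j
  fin_cases i <;> fin_cases j <;> simp [fstMat, A2.mul, Matrix.mul_apply, Fin.sum_univ_two]

set_option maxHeartbeats 2000000 in
theorem sndMat_mul (s t : B3) : sndMat (B3.mul s t) = sndMat s * sndMat t := by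
  ext i j
  all_goals
    fin_cases i <;> fin_cases j <;>
      simp [sndMat, B3.mul, Matrix.mul_apply, Fin.sum_univ_three]

theorem fstMat_one : fstMat A2.one = 1 := by
  ext i j
  fin_cases i <;> fin_cases j <;> simp [fstMat, A2.one]

theorem sndMat_one : sndMat B3.one = 1 := by
  ext i j
  all_goals fin_cases i <;> fin_cases j <;> simp [sndMat, B3.one, QuadraticAlgebra.re_one, QuadraticAlgebra.im_one]


theorem fstMat_eq_one_iff (x : A2) : fstMat x = 1 ↔ x = A2.one := by
  constructor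
  · intro h
    have h1 : x.a = 1 := by simpa [fstMat] using congrFun (congrFun h 0) 0
    have h2 : x.b = 0 := by simpa [fstMat] using congrFun (congrFun h 0) 1
    have h3 : x.c = 0 := by simpa [fstMat] using congrFun (congrFun h 1) 0
    have h4 : x.d = 1 := by simpa [fstMat] using congrFun (congrFun h 1) 1
    cases x
    simp only [A2.one, A2.mk.injEq]
    exact ⟨h1, h2, h3, h4⟩
  · rintro rfl
    exact fstMat_one

theorem fstMat_negOne : fstMat A2.negOne = -1 := by
  have h6 : (6 : ZMod 7) = -1 := by decide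
  ext i j
  fin_cases i <;> fin_cases j <;> simp [fstMat, A2.negOne, h6]

theorem sndMat_injective : Function.Injective sndMat := by
  intro x y h
  have e := fun i j => congrFun (congrFun h i) j
  have h11 := e 0 0
  have h12 := e 0 1
  have h13 := e 0 2
  have h21 := e 1 0
  have h22 := e 1 1
  have h23 := e 1 2
  have h31 := e 2 0
  have h32 := e 2 1
  have h33 := e 2 2
  cases x
  cases y
  simp only [sndMat, Matrix.of_apply, Matrix.cons_val', Matrix.cons_val_zero, Matrix.cons_val_one,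
    Matrix.cons_val, QuadraticAlgebra.mk.injEq] at h11 h12 h13 h21 h22 h23 h31 h32 h33
  simp only [B3.mk.injEq]
  tauto

theorem sndMat_eq_one_iff (x : B3) : sndMat x = 1 ↔ x = B3.one := by
  rw [← sndMat_one]
  exact sndMat_injective.eq_iff


/-- transpose, flat -/
def transB (x : B3) : B3 :=
  ⟨x.r11, x.i11, x.r21, x.i21, x.r31, x.i31, x.r12, x.i12, x.r22, x.i22, x.r32, x.i32,
   x.r13, x.i13, x.r23, x.i23, x.r33, x.i33⟩

/-- entrywise Frobenius (conjugation), flat -/
def conjB (x : B3) : B3 :=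
  ⟨x.r11, -x.i11, x.r12, -x.i12, x.r13, -x.i13, x.r21, -x.i21, x.r22, -x.i22, x.r23, -x.i23,
   x.r31, -x.i31, x.r32, -x.i32, x.r33, -x.i33⟩

theorem sndMat_transB (x : B3) : sndMat (transB x) = (sndMat x)ᵀ := by
  ext i j
  all_goals fin_cases i <;> fin_cases j <;> simp [sndMat, transB]

theorem sndMat_conjB (x : B3) : sndMat (conjB x) = (sndMat x).map (· ^ 3) := by
  ext i j
  all_goals fin_cases i <;> fin_cases j <;> simp [sndMat, conjB, GF9_pow_three]

/-- the flat unitarity condition implies membership in `SU_3(3)` -/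
theorem mem_SU_of_flat (x : B3) (hdet : (sndMat x).det = 1)
    (h : B3.mul (transB x) (conjB x) = B3.one) :
    (⟨sndMat x, hdet⟩ : SpecialLinearGroup (Fin 3) GF9) ∈ Cfsg.SU 3 GF9 3 := by
  apply SUKit.mem_SU_of_matrix 3
  change (sndMat x)ᵀ * (sndMat x).map (· ^ 3) = 1
  rw [← sndMat_transB, ← sndMat_conjB, ← sndMat_mul, h, sndMat_one]

theorem det_fstMat (x : A2) : (fstMat x).det = x.a * x.d - x.b * x.c := by
  rw [Matrix.det_fin_two]; simp [fstMat]

theorem det_fst_g1 : (fstMat E.g1.fst).det = 1 := by rw [det_fstMat]; decide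
theorem det_fst_g2 : (fstMat E.g2.fst).det = 1 := by rw [det_fstMat]; decide
theorem det_fst_g1i : (fstMat E.g1i.fst).det = 1 := by rw [det_fstMat]; decide
theorem det_fst_g2i : (fstMat E.g2i.fst).det = 1 := by rw [det_fstMat]; decide

theorem det_snd_g1 : (sndMat E.g1.snd).det = 1 := by
  rw [Matrix.det_fin_three]; simp [sndMat, E.g1]; decide
theorem det_snd_g2 : (sndMat E.g2.snd).det = 1 := by
  rw [Matrix.det_fin_three]; simp [sndMat, E.g2]; decide
theorem det_snd_g1i : (sndMat E.g1i.snd).det = 1 := by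
  rw [Matrix.det_fin_three]; simp [sndMat, E.g1i]; decide
theorem det_snd_g2i : (sndMat E.g2i.snd).det = 1 := by
  rw [Matrix.det_fin_three]; simp [sndMat, E.g2i]; decide


/-- `SL_2(7)` -/
abbrev SL2 : Type := SpecialLinearGroup (Fin 2) (ZMod 7)
/-- `SL_3(9)` -/
abbrev SL3 : Type := SpecialLinearGroup (Fin 3) GF9

/-- an element of `E` with both determinants one, as a pair of special linear matrices -/
def toPair (s : E) (h1 : (fstMat s.fst).det = 1) (h2 : (sndMat s.snd).det = 1) : SL2 × SL3 :=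
  (⟨fstMat s.fst, h1⟩, ⟨sndMat s.snd, h2⟩)

/-- first generating pair -/
def G1 : SL2 × SL3 := toPair E.g1 det_fst_g1 det_snd_g1
/-- second generating pair -/
def G2 : SL2 × SL3 := toPair E.g2 det_fst_g2 det_snd_g2
/-- inverse of the first generating pair -/
def G1i : SL2 × SL3 := toPair E.g1i det_fst_g1i det_snd_g1i
/-- inverse of the second generating pair -/
def G2i : SL2 × SL3 := toPair E.g2i det_fst_g2i det_snd_g2i

theorem pair_ext {p q : SL2 × SL3} (h1 : p.1.1 = q.1.1) (h2 : p.2.1 = q.2.1) : p = q :=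
  Prod.ext (Subtype.ext h1) (Subtype.ext h2)

theorem G1_mul_G1i : G1 * G1i = 1 := by
  have h : E.mul E.g1 E.g1i = E.one := by decide
  have ha : A2.mul E.g1.fst E.g1i.fst = A2.one := congrArg E.fst h
  have hb : B3.mul E.g1.snd E.g1i.snd = B3.one := congrArg E.snd h
  apply pair_ext
  · change fstMat E.g1.fst * fstMat E.g1i.fst = 1
    rw [← fstMat_mul, ha, fstMat_one]
  · change sndMat E.g1.snd * sndMat E.g1i.snd = 1
    rw [← sndMat_mul, hb, sndMat_one]

theorem G2_mul_G2i : G2 * G2i = 1 := by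
  have h : E.mul E.g2 E.g2i = E.one := by decide
  have ha : A2.mul E.g2.fst E.g2i.fst = A2.one := congrArg E.fst h
  have hb : B3.mul E.g2.snd E.g2i.snd = B3.one := congrArg E.snd h
  apply pair_ext
  · change fstMat E.g2.fst * fstMat E.g2i.fst = 1
    rw [← fstMat_mul, ha, fstMat_one]
  · change sndMat E.g2.snd * sndMat E.g2i.snd = 1
    rw [← sndMat_mul, hb, sndMat_one]

theorem G1_inv : G1⁻¹ = G1i := inv_eq_of_mul_eq_one_right G1_mul_G1i
theorem G2_inv : G2⁻¹ = G2i := inv_eq_of_mul_eq_one_right G2_mul_G2i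

/-- the generated subgroup -/
def P : Subgroup (SL2 × SL3) := Subgroup.closure {G1, G2}

theorem G1_mem : G1 ∈ P := Subgroup.subset_closure (by simp)
theorem G2_mem : G2 ∈ P := Subgroup.subset_closure (by simp)
theorem G1i_mem : G1i ∈ P := by rw [← G1_inv]; exact inv_mem G1_mem
theorem G2i_mem : G2i ∈ P := by rw [← G2_inv]; exact inv_mem G2_mem

/-- every element of `P` is represented in the enumerated list -/
theorem exists_mem_theList {p : SL2 × SL3} (hp : p ∈ P) :
    ∃ s ∈ E.theList, fstMat s.fst = p.1.1 ∧ sndMat s.snd = p.2.1 := by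
  obtain ⟨h1, hg1, hg2, hg1i, hg2i, -, -, -⟩ := good_theList
  induction hp using Subgroup.closure_induction_right with
  | one => exact ⟨E.one, h1, fstMat_one, sndMat_one⟩
  | mul_right x hx y hy ih =>
    obtain ⟨s, hs, hs1, hs2⟩ := ih
    rcases hy with rfl | rfl
    · refine ⟨E.mul s E.g1, hg1 s hs, ?_, ?_⟩
      · change fstMat (A2.mul s.fst E.g1.fst) = _
        rw [fstMat_mul, hs1]; rfl
      · change sndMat (B3.mul s.snd E.g1.snd) = _
        rw [sndMat_mul, hs2]; rfl
    · refine ⟨E.mul s E.g2, hg2 s hs, ?_, ?_⟩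
      · change fstMat (A2.mul s.fst E.g2.fst) = _
        rw [fstMat_mul, hs1]; rfl
      · change sndMat (B3.mul s.snd E.g2.snd) = _
        rw [sndMat_mul, hs2]; rfl
  | mul_inv_cancel x hx y hy ih =>
    obtain ⟨s, hs, hs1, hs2⟩ := ih
    rcases hy with rfl | rfl
    · rw [G1_inv]
      refine ⟨E.mul s E.g1i, hg1i s hs, ?_, ?_⟩
      · change fstMat (A2.mul s.fst E.g1i.fst) = _
        rw [fstMat_mul, hs1]; rfl
      · change sndMat (B3.mul s.snd E.g1i.snd) = _
        rw [sndMat_mul, hs2]; rfl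
    · rw [G2_inv]
      refine ⟨E.mul s E.g2i, hg2i s hs, ?_, ?_⟩
      · change fstMat (A2.mul s.fst E.g2i.fst) = _
        rw [fstMat_mul, hs1]; rfl
      · change sndMat (B3.mul s.snd E.g2i.snd) = _
        rw [sndMat_mul, hs2]; rfl

theorem snd_eq_one_of_fst_eq_one {p : SL2 × SL3} (hp : p ∈ P) (h : p.1 = 1) : p.2 = 1 := by
  obtain ⟨s, hs, hs1, hs2⟩ := exists_mem_theList hp
  obtain ⟨-, -, -, -, -, hC1, -, -⟩ := good_theList
  have h1 : s.fst = A2.one := by
    rw [← fstMat_eq_one_iff, hs1, h]; rfl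
  have h2 := (sndMat_eq_one_iff s.snd).2 (hC1 s hs h1)
  apply Subtype.ext
  rw [← hs2, h2]; rfl

theorem fst_eq_of_snd_eq_one {p : SL2 × SL3} (hp : p ∈ P) (h : p.2 = 1) :
    p.1.1 = 1 ∨ p.1.1 = -1 := by
  obtain ⟨s, hs, hs1, hs2⟩ := exists_mem_theList hp
  obtain ⟨-, -, -, -, -, -, hC4, -⟩ := good_theList
  have h1 : s.snd = B3.one := by
    rw [← sndMat_eq_one_iff, hs2, h]; rfl
  rcases hC4 s hs h1 with h2 | h2
  · left; rw [← hs1, h2]; exact fstMat_one
  · right; rw [← hs1, h2]; exact fstMat_negOne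

/-- an element of `P` whose second component commutes with those of the generators has trivial
second component -/
theorem snd_eq_one_of_commute {p : SL2 × SL3} (hp : p ∈ P) (h1 : p.2 * G1.2 = G1.2 * p.2)
    (h2 : p.2 * G2.2 = G2.2 * p.2) : p.2 = 1 := by
  obtain ⟨s, hs, hs1, hs2⟩ := exists_mem_theList hp
  obtain ⟨-, -, -, -, -, -, -, hC5⟩ := good_theList
  have e1 : B3.mul s.snd E.g1.snd = B3.mul E.g1.snd s.snd := by
    apply sndMat_injective
    rw [sndMat_mul, sndMat_mul, hs2]
    exact congrArg Subtype.val h1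
  have e2 : B3.mul s.snd E.g2.snd = B3.mul E.g2.snd s.snd := by
    apply sndMat_injective
    rw [sndMat_mul, sndMat_mul, hs2]
    exact congrArg Subtype.val h2
  have h3 := (sndMat_eq_one_iff s.snd).2 (hC5 s hs e1 e2)
  apply Subtype.ext
  rw [← hs2, h3]; rfl

/-- `(-1, 1)` lies in `P` -/
theorem neg_one_mem : ∃ p ∈ P, p.1.1 = -1 ∧ p.2 = 1 := by
  have h : E.mul E.g2 E.g2 = ⟨A2.negOne, B3.one⟩ := by decide
  have ha : A2.mul E.g2.fst E.g2.fst = A2.negOne := congrArg E.fst h
  have hb : B3.mul E.g2.snd E.g2.snd = B3.one := congrArg E.snd h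
  refine ⟨G2 * G2, mul_mem G2_mem G2_mem, ?_, ?_⟩
  · change fstMat E.g2.fst * fstMat E.g2.fst = -1
    rw [← fstMat_mul, ha, fstMat_negOne]
  · apply Subtype.ext
    change sndMat E.g2.snd * sndMat E.g2.snd = 1
    rw [← sndMat_mul, hb, sndMat_one]

/-- all second components of `P` are unitary -/
theorem snd_mem_SU {p : SL2 × SL3} (hp : p ∈ P) : p.2 ∈ Cfsg.SU 3 GF9 3 := by
  have hle : P ≤ (Cfsg.SU 3 GF9 3).comap (MonoidHom.snd SL2 SL3) := by
    apply (Subgroup.closure_le _).2
    rintro x (rfl | rfl)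
    · exact mem_SU_of_flat E.g1.snd det_snd_g1 (by decide)
    · exact mem_SU_of_flat E.g2.snd det_snd_g2 (by decide)
  exact hle hp


section surj

local instance fact_prime_seven : Fact (Nat.Prime 7) := ⟨by norm_num⟩

/-- the projection of `P` to the first factor -/
def P1 : Subgroup SL2 := P.map (MonoidHom.fst _ _)

theorem fst_mem_P1 {p : SL2 × SL3} (hp : p ∈ P) : p.1 ∈ P1 := Subgroup.mem_map.2 ⟨p, hp, rfl⟩

theorem upper_mem : SpecialLinearGroup.transvection (show (0 : Fin 2) ≠ 1 by decide) (1 : ZMod 7) ∈ P1 := by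
  have h : SpecialLinearGroup.transvection (show (0 : Fin 2) ≠ 1 by decide) (1 : ZMod 7) = G1.1 := by
    apply Subtype.ext
    rw [SpecialLinearGroup.transvection_coe]
    change _ = fstMat E.g1.fst
    ext i j
    fin_cases i <;> fin_cases j <;> simp [fstMat, E.g1]
  rw [h]
  exact fst_mem_P1 G1_mem

theorem lower_mem : SpecialLinearGroup.transvection (show (1 : Fin 2) ≠ 0 by decide) (1 : ZMod 7) ∈ P1 := by
  have h : SpecialLinearGroup.transvection (show (1 : Fin 2) ≠ 0 by decide) (1 : ZMod 7) =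
      (G2 * G1i * G2i).1 := by
    apply Subtype.ext
    rw [SpecialLinearGroup.transvection_coe]
    change _ = fstMat E.g2.fst * fstMat E.g1i.fst * fstMat E.g2i.fst
    rw [← fstMat_mul, ← fstMat_mul]
    have h4 : A2.mul (A2.mul E.g2.fst E.g1i.fst) E.g2i.fst = ⟨1, 0, 1, 1⟩ := by decide
    rw [h4]
    ext i j
    fin_cases i <;> fin_cases j <;> simp [fstMat]
  rw [h]
  exact fst_mem_P1 (mul_mem (mul_mem G2_mem G1i_mem) G2i_mem)

theorem transvection_natCast_mem {i j : Fin 2} (hij : i ≠ j)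
    (h : SpecialLinearGroup.transvection hij (1 : ZMod 7) ∈ P1) (n : ℕ) :
    SpecialLinearGroup.transvection hij (n : ZMod 7) ∈ P1 := by
  induction n with
  | zero =>
    have : SpecialLinearGroup.transvection hij ((0 : ℕ) : ZMod 7) = 1 := by
      apply Subtype.ext
      rw [SpecialLinearGroup.transvection_coe]
      simp
    rw [this]
    exact one_mem _
  | succ n ih =>
    rw [Nat.cast_succ, SpecialLinearGroup.transvection_add]
    exact mul_mem ih h

theorem transvection_mem {i j : Fin 2} (hij : i ≠ j) (a : ZMod 7) :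
    SpecialLinearGroup.transvection hij a ∈ P1 := by
  have h1 : SpecialLinearGroup.transvection hij (1 : ZMod 7) ∈ P1 := by
    fin_cases i <;> fin_cases j
    · exact absurd rfl hij
    · exact upper_mem
    · exact lower_mem
    · exact absurd rfl hij
  have := transvection_natCast_mem hij h1 a.val
  rwa [ZMod.natCast_zmod_val] at this

theorem P1_eq_top : P1 = ⊤ := by
  rw [eq_top_iff]
  intro M _
  exact Cfsg.Agent.Helper5.transvection_induction (fun M => M ∈ P1)
    (fun i j hij a => transvection_mem hij a) (fun A B hA hB => mul_mem hA hB) M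

end surj

theorem fst_bijective : Function.Bijective (Prod.fst ∘ P.subtype) := by
  constructor
  · rw [← MonoidHom.coe_fst, ← MonoidHom.coe_comp, injective_iff_map_eq_one]
    rintro ⟨p, hp⟩ h
    have h1 : p.1 = 1 := h
    have h2 : p.2 = 1 := snd_eq_one_of_fst_eq_one hp h1
    exact Subtype.ext (Prod.ext h1 h2)
  · intro x
    have hx : x ∈ P1 := by rw [P1_eq_top]; exact Subgroup.mem_top x
    obtain ⟨p, hp, rfl⟩ := Subgroup.mem_map.1 hx
    exact ⟨⟨p, hp⟩, rfl⟩

end Cfsg.Agent.Helper98.U33
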