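import Mathlib
import Cfsg.Agent.Helper98.SU33Data
import Cfsg.Agent.Helper98.SU33DataB
import Cfsg.Agent.Helper98.SU33DataC
import Cfsg.Agent.Helper98.U33
import Cfsg.Agent.Helper98.SUKit

/-!
The special unitary group `SU_3(3)` over the concrete field `GF9`: its set of element orders is
`{1, 2, 3, 4, 6, 7, 8, 12}` and its centre is trivial.
-/

set_option autoImplicit false

namespace Cfsg.Agent.Helper98.SU33

open Matrix Cfsg.Agent.Helper98.U33

theorem all_slices (a1 : S9) : Slice a1 := by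
  obtain ⟨r, i⟩ := a1
  fin_cases r <;> fin_cases i
  · exact slice_00
  · exact slice_01
  · exact slice_02
  · exact slice_10
  · exact slice_11
  · exact slice_12
  · exact slice_20
  · exact slice_21
  · exact slice_22

/-- converse of the matrix criterion: elements of `SU_n` satisfy `Aᵀ A^σ = 1` -/
theorem matrix_of_mem_SU {K : Type*} [Field K] (p : ℕ) (hp : p ≠ 0) {n : ℕ}
    (A : Matrix.SpecialLinearGroup (Fin n) K) (h : A ∈ Cfsg.SU n K p) :
    (A.1)ᵀ * (A.1).map (· ^ p) = 1 := by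
  ext i j
  have hij := h (Pi.single i 1) (Pi.single j 1)
  have hA : slToMat n K A = A.1 := rfl
  rw [hA] at hij
  unfold hermForm at hij
  simp only [Matrix.mulVec_single_one] at hij
  rw [Matrix.mul_apply]
  simp only [Matrix.transpose_apply, Matrix.map_apply]
  simp only [Matrix.col_apply] at hij
  rw [hij]
  simp only [Pi.single_apply, Matrix.one_apply]
  by_cases hne : i = j
  · subst hne
    simp [hp]
  · simp [hne, hp]
    intro k
    exact hne k.symm

/-- flat form of an element of `GF9` -/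
def toS9 (x : GF9) : S9 := ⟨x.re, x.im⟩

/-- an element of `GF9` from its flat form -/
def ofS9 (s : S9) : GF9 := ⟨s.re, s.im⟩

theorem ofS9_toS9 (x : GF9) : ofS9 (toS9 x) = x := rfl

theorem ofS9_mul (s t : S9) : ofS9 (S9.mul s t) = ofS9 s * ofS9 t := by
  apply QuadraticAlgebra.ext <;> simp [ofS9, S9.mul]

theorem ofS9_sub (s t : S9) : ofS9 (S9.sub s t) = ofS9 s - ofS9 t := by
  apply QuadraticAlgebra.ext <;> simp [ofS9, S9.sub]

theorem ofS9_conj (s : S9) : ofS9 (S9.conj s) = ofS9 s ^ 3 := by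
  rw [GF9_pow_three]
  rfl

theorem herm_re_im : ∀ x y : GF9, (x * y ^ 3).re = x.re * y.re + x.im * y.im ∧
    (x * y ^ 3).im = x.im * y.re - x.re * y.im := by decide

theorem pow_three_pow_three : ∀ x : GF9, (x ^ 3) ^ 3 = x := by decide

/-- `SL_3(9)` -/
abbrev SL3' : Type := SpecialLinearGroup (Fin 3) GF9

/-- every element of `SU_3(3)` is of the enumerated form -/
theorem exists_flat (A : SL3') (hA : A ∈ Cfsg.SU 3 GF9 3) :
    ∃ a1 a2 a3 b1 b2 b3 : S9, nrm a1 a2 a3 = 1 ∧ nrm b1 b2 b3 = 1 ∧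
      orthRe a1 a2 a3 b1 b2 b3 = 0 ∧ orthIm a1 a2 a3 b1 b2 b3 = 0 ∧
      sndMat (mk3 a1 a2 a3 b1 b2 b3) = A.1 := by
  have h := matrix_of_mem_SU 3 (by norm_num) A hA
  set M : Matrix (Fin 3) (Fin 3) GF9 := A.1 with hM
  have hdet : M.det = 1 := A.2
  -- the conjugate matrix is the transposed adjugate
  have hB : M.map (· ^ 3) = (Matrix.adjugate M)ᵀ := by
    have h1 : (Matrix.adjugate M)ᵀ * Mᵀ = 1 := by
      rw [← Matrix.transpose_mul, Matrix.mul_adjugate, hdet, one_smul, Matrix.transpose_one]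
    calc M.map (· ^ 3) = ((Matrix.adjugate M)ᵀ * Mᵀ) * M.map (· ^ 3) := by rw [h1, Matrix.one_mul]
      _ = (Matrix.adjugate M)ᵀ * (Mᵀ * M.map (· ^ 3)) := Matrix.mul_assoc _ _ _
      _ = (Matrix.adjugate M)ᵀ := by rw [h, Matrix.mul_one]
  have hcol : ∀ k : Fin 3, M k 2 = (Matrix.adjugate M 2 k) ^ 3 := by
    intro k
    have := congrFun (congrFun hB k) 2
    simp only [Matrix.map_apply, Matrix.transpose_apply] at this
    rw [← this, pow_three_pow_three]
  have h00 := congrFun (congrFun h 0) 0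
  have h11 := congrFun (congrFun h 1) 1
  have h01 := congrFun (congrFun h 0) 1
  simp only [Matrix.mul_apply, Fin.sum_univ_three, Matrix.transpose_apply, Matrix.map_apply,
    Matrix.one_apply] at h00 h11 h01
  refine ⟨toS9 (M 0 0), toS9 (M 1 0), toS9 (M 2 0), toS9 (M 0 1), toS9 (M 1 1), toS9 (M 2 1),
    ?_, ?_, ?_, ?_, ?_⟩
  · have := congrArg QuadraticAlgebra.re h00
    simp only [QuadraticAlgebra.re_add, (herm_re_im _ _).1] at this
    simpa [nrm, toS9, QuadraticAlgebra.re_one] using this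
  · have := congrArg QuadraticAlgebra.re h11
    simp only [QuadraticAlgebra.re_add, (herm_re_im _ _).1] at this
    simpa [nrm, toS9, QuadraticAlgebra.re_one] using this
  · have := congrArg QuadraticAlgebra.re h01
    simp only [QuadraticAlgebra.re_add, (herm_re_im _ _).1] at this
    simpa [orthRe, toS9] using this
  · have := congrArg QuadraticAlgebra.im h01
    simp only [QuadraticAlgebra.im_add, (herm_re_im _ _).2] at this
    simpa [orthIm, toS9] using this
  · rw [Matrix.adjugate_fin_three] at hcol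
    have c0 : M 0 2 = (M 1 0 * M 2 1 - M 1 1 * M 2 0) ^ 3 := by
      have := hcol 0
      simpa using this
    have c1 : M 1 2 = (-(M 0 0 * M 2 1) + M 0 1 * M 2 0) ^ 3 := by
      have := hcol 1
      simpa using this
    have c2 : M 2 2 = (M 0 0 * M 1 1 - M 0 1 * M 1 0) ^ 3 := by
      have := hcol 2
      simpa using this
    apply Matrix.ext
    intro i j
    fin_cases j
    · fin_cases i <;> rfl
    · fin_cases i <;> rfl
    · fin_cases i
      · change ofS9 (S9.conj (S9.sub (S9.mul (toS9 (M 1 0)) (toS9 (M 2 1)))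
          (S9.mul (toS9 (M 2 0)) (toS9 (M 1 1))))) = M 0 2
        rw [c0, ofS9_conj, ofS9_sub, ofS9_mul, ofS9_mul, ofS9_toS9, ofS9_toS9, ofS9_toS9,
          ofS9_toS9]
        ring
      · change ofS9 (S9.conj (S9.sub (S9.mul (toS9 (M 2 0)) (toS9 (M 0 1)))
          (S9.mul (toS9 (M 0 0)) (toS9 (M 2 1))))) = M 1 2
        rw [c1, ofS9_conj, ofS9_sub, ofS9_mul, ofS9_mul, ofS9_toS9, ofS9_toS9, ofS9_toS9,
          ofS9_toS9]
        ring
      · change ofS9 (S9.conj (S9.sub (S9.mul (toS9 (M 0 0)) (toS9 (M 1 1)))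
          (S9.mul (toS9 (M 1 0)) (toS9 (M 0 1))))) = M 2 2
        rw [c2, ofS9_conj, ofS9_sub, ofS9_mul, ofS9_mul, ofS9_toS9, ofS9_toS9, ofS9_toS9,
          ofS9_toS9]
        ring

end Cfsg.Agent.Helper98.SU33
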