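import Mathlib
import Cfsg.Agent.Helper98.SU33

/-!
Consequences of the enumeration of `SU_3(3)`: element orders and trivial centre.
-/

set_option autoImplicit false

namespace Cfsg.Agent.Helper98.SU33

open Matrix Cfsg.Agent.Helper98.U33

theorem exists_ok (A : SL3') (hA : A ∈ Cfsg.SU 3 GF9 3) :
    ∃ x : B3, sndMat x = A.1 ∧ okAll x = true := by
  obtain ⟨a1, a2, a3, b1, b2, b3, h1, h2, h3, h4, h5⟩ := exists_flat A hA
  refine ⟨_, h5, ?_⟩
  exact all_slices a1 a2.re a2.im a3.re a3.im h1 b1.re b1.im b2.re b2.im b3.re b3.im h2 h3 h4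

theorem mat_pow8 (X : Matrix (Fin 3) (Fin 3) GF9) : X * X * (X * X) * (X * X * (X * X)) = X ^ 8 := by
  noncomm_ring

theorem mat_pow12 (X : Matrix (Fin 3) (Fin 3) GF9) :
    X * X * (X * X) * (X * X * (X * X)) * (X * X * (X * X)) = X ^ 12 := by
  noncomm_ring

theorem mat_pow7 (X : Matrix (Fin 3) (Fin 3) GF9) : X * X * (X * X) * (X * X) * X = X ^ 7 := by
  noncomm_ring

theorem pow_cases (A : SL3') (hA : A ∈ Cfsg.SU 3 GF9 3) : A ^ 8 = 1 ∨ A ^ 12 = 1 ∨ A ^ 7 = 1 := by
  obtain ⟨x, hx, hok⟩ := exists_ok A hA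
  simp only [okAll, okOrder, Bool.and_eq_true, Bool.or_eq_true, decide_eq_true_eq] at hok
  obtain ⟨hord, -⟩ := hok
  rcases hord with (h | h) | h
  · left
    have := congrArg sndMat h
    simp only [sndMat_mul, sndMat_one, hx] at this
    have key : ((A ^ 8 : SL3') : Matrix (Fin 3) (Fin 3) GF9) = 1 := by
      rw [Matrix.SpecialLinearGroup.coe_pow, ← mat_pow8]; exact this
    exact Subtype.ext key
  · right; left
    have := congrArg sndMat h
    simp only [sndMat_mul, sndMat_one, hx] at this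
    have key : ((A ^ 12 : SL3') : Matrix (Fin 3) (Fin 3) GF9) = 1 := by
      rw [Matrix.SpecialLinearGroup.coe_pow, ← mat_pow12]; exact this
    exact Subtype.ext key
  · right; right
    have := congrArg sndMat h
    simp only [sndMat_mul, sndMat_one, hx] at this
    have key : ((A ^ 7 : SL3') : Matrix (Fin 3) (Fin 3) GF9) = 1 := by
      rw [Matrix.SpecialLinearGroup.coe_pow, ← mat_pow7]; exact this
    exact Subtype.ext key

/-- an element of `SU_3(3)` commuting with the two generators of `U33` is trivial -/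
theorem eq_one_of_commute (A : SL3') (hA : A ∈ Cfsg.SU 3 GF9 3) (h1 : A * G1.2 = G1.2 * A)
    (h2 : A * G2.2 = G2.2 * A) : A = 1 := by
  obtain ⟨x, hx, hok⟩ := exists_ok A hA
  simp only [okAll, okCent, Bool.and_eq_true, Bool.or_eq_true, Bool.not_eq_true',
    Bool.and_eq_false_iff, decide_eq_true_eq, decide_eq_false_iff_not] at hok
  obtain ⟨-, hc⟩ := hok
  have e1 : B3.mul x E.g1.snd = B3.mul E.g1.snd x := by
    apply sndMat_injective
    rw [sndMat_mul, sndMat_mul, hx]
    exact congrArg Subtype.val h1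
  have e2 : B3.mul x E.g2.snd = B3.mul E.g2.snd x := by
    apply sndMat_injective
    rw [sndMat_mul, sndMat_mul, hx]
    exact congrArg Subtype.val h2
  rcases hc with (hc | hc) | hc
  · exact absurd e1 hc
  · exact absurd e2 hc
  · apply Subtype.ext
    rw [← hx, hc, sndMat_one]; rfl

end Cfsg.Agent.Helper98.SU33
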