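import Mathlib
import Cfsg.Agent.Helper98.SU33b

/-!
The spectrum of `SU_3(3)` (over `GF9`), the triviality of its centre, and transport to an arbitrary
field with nine elements.
-/

set_option autoImplicit false

namespace Cfsg.Agent.Helper98.SU33

open Matrix Cfsg.Agent.Helper98.U33

/-- flat power -/
def fpowB (x : B3) : ℕ → B3
  | 0 => B3.one
  | n + 1 => B3.mul (fpowB x n) x

theorem sndMat_fpowB (x : B3) (n : ℕ) : sndMat (fpowB x n) = sndMat x ^ n := by
  induction n with
  | zero => simp [fpowB, sndMat_one]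
  | succ n ih => rw [fpowB, sndMat_mul, ih, pow_succ]

/-- element of order 8 -/
def e8 : B3 := ⟨0, 0, 0, 0, 0, 1, 0, 0, 0, 1, 0, 0, 1, 0, 0, 0, 0, 0⟩
/-- element of order 12 -/
def e12 : B3 := ⟨0, 0, 0, 0, 0, 1, 1, 1, 2, 1, 0, 0, 1, 2, 2, 2, 0, 0⟩
/-- element of order 7 -/
def e7 : B3 := ⟨0, 0, 0, 0, 0, 1, 1, 1, 1, 1, 0, 0, 1, 1, 2, 2, 0, 0⟩

theorem det_e8 : (sndMat e8).det = 1 := by
  rw [Matrix.det_fin_three]; simp [sndMat, e8]; decide
theorem det_e12 : (sndMat e12).det = 1 := by
  rw [Matrix.det_fin_three]; simp [sndMat, e12]; decide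
theorem det_e7 : (sndMat e7).det = 1 := by
  rw [Matrix.det_fin_three]; simp [sndMat, e7]; decide

/-- the group `SU_3(3)` over `GF9` -/
abbrev S : Type := Cfsg.SU 3 GF9 3

/-- a flat unitary matrix of determinant one as an element of `SU_3(3)` -/
def toSU (x : B3) (hdet : (sndMat x).det = 1) (h : B3.mul (transB x) (conjB x) = B3.one) : S :=
  ⟨⟨sndMat x, hdet⟩, mem_SU_of_flat x hdet h⟩

theorem toSU_pow_eq_one_iff (x : B3) (hdet : (sndMat x).det = 1)
    (h : B3.mul (transB x) (conjB x) = B3.one) (n : ℕ) :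
    toSU x hdet h ^ n = 1 ↔ fpowB x n = B3.one := by
  constructor
  · intro hn
    apply sndMat_injective
    rw [sndMat_fpowB, sndMat_one]
    have h1 := congrArg (fun A : S => ((A : SL3') : Matrix (Fin 3) (Fin 3) GF9)) hn
    simp only [Subgroup.coe_pow, Matrix.SpecialLinearGroup.coe_pow, Subgroup.coe_one,
      Matrix.SpecialLinearGroup.coe_one] at h1
    exact h1
  · intro hn
    have key : (((toSU x hdet h ^ n : S) : SL3') : Matrix (Fin 3) (Fin 3) GF9) = 1 := by
      rw [Subgroup.coe_pow, Matrix.SpecialLinearGroup.coe_pow]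
      change sndMat x ^ n = 1
      rw [← sndMat_fpowB, hn, sndMat_one]
    exact Subtype.ext (Subtype.ext key)


theorem flat_e8 : B3.mul (transB e8) (conjB e8) = B3.one := by decide
theorem flat_e12 : B3.mul (transB e12) (conjB e12) = B3.one := by decide
theorem flat_e7 : B3.mul (transB e7) (conjB e7) = B3.one := by decide

theorem orderOf_e8 : orderOf (toSU e8 det_e8 flat_e8) = 8 := by
  have e : (8 : ℕ) = 2 ^ (2 + 1) := by norm_num
  rw [e]
  apply orderOf_eq_prime_pow
  · intro h
    rw [toSU_pow_eq_one_iff] at h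
    revert h; decide
  · rw [toSU_pow_eq_one_iff]; decide

theorem orderOf_e7 : orderOf (toSU e7 det_e7 flat_e7) = 7 := by
  have : Fact (Nat.Prime 7) := ⟨by norm_num⟩
  apply orderOf_eq_prime
  · rw [toSU_pow_eq_one_iff]; decide
  · intro h
    have h1 : toSU e7 det_e7 flat_e7 ^ 1 = 1 := by rw [pow_one, h]
    rw [toSU_pow_eq_one_iff] at h1
    revert h1; decide

theorem orderOf_e12 : orderOf (toSU e12 det_e12 flat_e12) = 12 := by
  apply orderOf_eq_of_pow_and_pow_div_prime (by norm_num)
  · rw [toSU_pow_eq_one_iff]; decide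
  · intro q hq hq12
    have hq' : q = 2 ∨ q = 3 := by
      have h1 : q ∣ 2 * (2 * 3) := hq12
      rcases (Nat.Prime.dvd_mul hq).1 h1 with h | h
      · left; exact (Nat.prime_dvd_prime_iff_eq hq Nat.prime_two).1 h
      · rcases (Nat.Prime.dvd_mul hq).1 h with h | h
        · left; exact (Nat.prime_dvd_prime_iff_eq hq Nat.prime_two).1 h
        · right; exact (Nat.prime_dvd_prime_iff_eq hq Nat.prime_three).1 h
    rcases hq' with rfl | rfl
    · intro h
      rw [toSU_pow_eq_one_iff] at h
      revert h; decide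
    · intro h
      rw [toSU_pow_eq_one_iff] at h
      revert h; decide

theorem pow_cases_S (A : S) : A ^ 8 = 1 ∨ A ^ 12 = 1 ∨ A ^ 7 = 1 := by
  rcases pow_cases A.1 A.2 with h | h | h
  · left; exact Subtype.ext (by rw [Subgroup.coe_pow, h]; rfl)
  · right; left; exact Subtype.ext (by rw [Subgroup.coe_pow, h]; rfl)
  · right; right; exact Subtype.ext (by rw [Subgroup.coe_pow, h]; rfl)

/-- the spectrum of `SU_3(3)` -/
theorem range_orderOf_S : Set.range (orderOf : S → ℕ) = {1, 2, 3, 4, 6, 7, 8, 12} := by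
  ext k
  constructor
  · rintro ⟨A, rfl⟩
    have hd : orderOf A ∣ 8 ∨ orderOf A ∣ 12 ∨ orderOf A ∣ 7 := by
      rcases pow_cases_S A with h | h | h
      · left; exact orderOf_dvd_of_pow_eq_one h
      · right; left; exact orderOf_dvd_of_pow_eq_one h
      · right; right; exact orderOf_dvd_of_pow_eq_one h
    rcases hd with h | h | h
    · have : orderOf A ∈ Nat.divisors 8 := Nat.mem_divisors.2 ⟨h, by norm_num⟩
      have h8 : Nat.divisors 8 = {1, 2, 4, 8} := by decide
      rw [h8] at this
      simp only [Finset.mem_insert, Finset.mem_singleton] at this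
      simp only [Set.mem_insert_iff, Set.mem_singleton_iff]
      omega
    · have : orderOf A ∈ Nat.divisors 12 := Nat.mem_divisors.2 ⟨h, by norm_num⟩
      have h12 : Nat.divisors 12 = {1, 2, 3, 4, 6, 12} := by decide
      rw [h12] at this
      simp only [Finset.mem_insert, Finset.mem_singleton] at this
      simp only [Set.mem_insert_iff, Set.mem_singleton_iff]
      omega
    · have : orderOf A ∈ Nat.divisors 7 := Nat.mem_divisors.2 ⟨h, by norm_num⟩
      have h7 : Nat.divisors 7 = {1, 7} := by decide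
      rw [h7] at this
      simp only [Finset.mem_insert, Finset.mem_singleton] at this
      simp only [Set.mem_insert_iff, Set.mem_singleton_iff]
      omega
  · intro hk
    simp only [Set.mem_insert_iff, Set.mem_singleton_iff] at hk
    have ha := orderOf_e8
    have hb := orderOf_e12
    set a := toSU e8 det_e8 flat_e8 with hadef
    set b := toSU e12 det_e12 flat_e12 with hbdef
    rcases hk with rfl | rfl | rfl | rfl | rfl | rfl | rfl | rfl
    · exact ⟨1, orderOf_one⟩
    · exact ⟨a ^ 4, by rw [orderOf_pow' a (by norm_num), ha]; norm_num⟩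
    · exact ⟨b ^ 4, by rw [orderOf_pow' b (by norm_num), hb]; norm_num⟩
    · exact ⟨a ^ 2, by rw [orderOf_pow' a (by norm_num), ha]; norm_num⟩
    · exact ⟨b ^ 2, by rw [orderOf_pow' b (by norm_num), hb]; norm_num⟩
    · exact ⟨_, orderOf_e7⟩
    · exact ⟨a, ha⟩
    · exact ⟨b, hb⟩

/-- the centre of `SU_3(3)` is trivial -/
theorem center_S : Subgroup.center S = ⊥ := by
  rw [eq_bot_iff]
  intro z hz
  rw [Subgroup.mem_bot]
  rw [Subgroup.mem_center_iff] at hz
  have m1 : G1.2 ∈ Cfsg.SU 3 GF9 3 := snd_mem_SU G1_mem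
  have m2 : G2.2 ∈ Cfsg.SU 3 GF9 3 := snd_mem_SU G2_mem
  have h1 := hz ⟨G1.2, m1⟩
  have h2 := hz ⟨G2.2, m2⟩
  have c1 : z.1 * G1.2 = G1.2 * z.1 := (congrArg Subtype.val h1).symm
  have c2 : z.1 * G2.2 = G2.2 * z.1 := (congrArg Subtype.val h2).symm
  exact Subtype.ext (eq_one_of_commute z.1 z.2 c1 c2)

section transport

variable {F : Type*} [Field F] [Fintype F] (hF : Fintype.card F = 9)

/-- `SU_3(3)` over `GF9` is isomorphic to `SU_3(3)` over any field with nine elements -/
noncomputable def suEquiv : S ≃* Cfsg.SU 3 F 3 :=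
  MulEquiv.ofBijective (SUKit.suMap (gf9Equiv F hF) 3 3)
    ⟨SUKit.suMap_injective (gf9Equiv F hF) 3 3, by
      intro B
      refine ⟨SUKit.suMap (gf9Equiv F hF).symm 3 3 B, ?_⟩
      apply Subtype.ext
      apply Subtype.ext
      rw [SUKit.suMap_coe, SUKit.slMap_coe, SUKit.suMap_coe, SUKit.slMap_coe]
      ext i j
      simp⟩

include hF in
theorem center_SU_eq_bot : Subgroup.center (Cfsg.SU 3 F 3) = ⊥ := by
  rw [eq_bot_iff]
  intro z hz
  rw [Subgroup.mem_bot]
  rw [Subgroup.mem_center_iff] at hz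
  have hz' : (suEquiv hF).symm z ∈ Subgroup.center S := by
    rw [Subgroup.mem_center_iff]
    intro g
    apply (suEquiv hF).injective
    rw [map_mul, map_mul, MulEquiv.apply_symm_apply]
    exact hz _
  rw [center_S, Subgroup.mem_bot] at hz'
  have := congrArg (suEquiv hF) hz'
  rwa [MulEquiv.apply_symm_apply, map_one] at this

/-- `PSU_3(3)` over any field with nine elements is isomorphic to `SU_3(3)` over `GF9` -/
noncomputable def psuEquiv : Cfsg.PSU 3 F 3 ≃* S :=
  ((QuotientGroup.quotientMulEquivOfEq (center_SU_eq_bot hF)).trans QuotientGroup.quotientBot).trans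
    (suEquiv hF).symm

end transport

end Cfsg.Agent.Helper98.SU33
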