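import Cfsg.Agent.Helper98.J2Check2

/-!
# A base and strong generating set for the Hall–Janko group on 315 points

From the kernel-checked Schreier certificates: every element of `G315` is uniquely a product of
three transversal elements, `G315` has order `604800`, and its elements are determined by the
images of the base points `0, 106, 29`.
-/

set_option autoImplicit false

namespace Cfsg.Agent.Helper98.J2

open Cfsg.Agent.Helper7.J2

/-- permutations of the 315 points -/
abbrev P315 : Type := Equiv.Perm (Fin 315)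

/-- induction over a finite generated group by left multiplication with generators -/
theorem closure_left_induction (S : Set P315) (p : P315 → Prop) (h1 : p 1)
    (hmul : ∀ s ∈ S, ∀ y, p y → p (s * y)) : ∀ g ∈ Subgroup.closure S, p g := by
  have hfin : ∀ s ∈ S, IsOfFinOrder s := fun s _ => isOfFinOrder_of_finite s
  have key : ∀ g ∈ Submonoid.closure S, p g := by
    intro g hg
    induction hg using Submonoid.closure_induction_left with
    | one => exact h1
    | mul_left s hs y _ ih => exact hmul s hs y ih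
  intro g hg
  apply key
  rw [← Subgroup.closure_toSubmonoid_of_isOfFinOrder hfin]
  exact hg

/-- the subgroup generated by the permutations with codes in a list -/
def genSub (gens : List ℕ) : Subgroup P315 :=
  Subgroup.closure {g | ∃ k < gens.length, IsCode g (gens.getD k 0)}

theorem genSub_le {gens : List ℕ} {S : Subgroup P315}
    (h : ∀ k < gens.length, Rep S (gens.getD k 0)) : genSub gens ≤ S := by
  unfold genSub
  rw [Subgroup.closure_le]
  rintro g ⟨k, hk, hg⟩
  obtain ⟨g', hg', hc⟩ := h k hk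
  rw [hg.ext hc]
  exact hg'

theorem rep_genSub {gens : List ℕ} {S : Subgroup P315}
    (h : ∀ k < gens.length, Rep S (gens.getD k 0)) :
    ∀ k < gens.length, Rep (genSub gens) (gens.getD k 0) := by
  intro k hk
  obtain ⟨g, -, hc⟩ := h k hk
  exact ⟨g, Subgroup.subset_closure ⟨k, hk, hc⟩, hc⟩

theorem isCode_g315 (k : Fin 4) : IsCode (g315 k) (sCode.getD k 0) := fun j => sCode_ok k j

theorem rep_sCode : ∀ k < sCode.length, Rep G315 (sCode.getD k 0) := by
  intro k hk
  have hk4 : k < 4 := hk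
  exact ⟨g315 ⟨k, hk4⟩, Subgroup.subset_closure ⟨_, rfl⟩, isCode_g315 ⟨k, hk4⟩⟩

theorem genSub_sCode : genSub sCode = G315 := by
  apply le_antisymm (genSub_le rep_sCode)
  unfold G315
  rw [Subgroup.closure_le]
  rintro _ ⟨k, rfl⟩
  exact Subgroup.subset_closure ⟨k.val, k.isLt, isCode_g315 k⟩

/-- the stabiliser of the point `0` -/
def L1 : Subgroup P315 := genSub g1Code

/-- the stabiliser of the points `0` and `106` -/
def L2 : Subgroup P315 := genSub g2Code

theorem rep_g1_G : ∀ k < g1Code.length, Rep G315 (g1Code.getD k 0) := by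
  intro k hk
  have hk2 : k < 2 := hk
  obtain ⟨h1, h2⟩ := slp1_idx k hk2
  rw [← h2]
  apply rep_of_slp slp1_ok _ _ h1
  intro j hj
  rw [slp1_head j hj]
  exact rep_sCode j hj

theorem rep_g1 : ∀ k < g1Code.length, Rep L1 (g1Code.getD k 0) := rep_genSub rep_g1_G

theorem L1_le : L1 ≤ G315 := genSub_le rep_g1_G

theorem rep_g2_L1 : ∀ k < g2Code.length, Rep L1 (g2Code.getD k 0) := by
  intro k hk
  have hk2 : k < 2 := hk
  obtain ⟨h1, h2⟩ := slp2_idx k hk2
  rw [← h2]
  apply rep_of_slp slp2_ok _ _ h1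
  intro j hj
  rw [slp2_head j hj]
  exact rep_g1 j hj

theorem rep_g2 : ∀ k < g2Code.length, Rep L2 (g2Code.getD k 0) := rep_genSub rep_g2_L1

theorem L2_le : L2 ≤ L1 := genSub_le rep_g2_L1

/-! ### the transversals -/

theorem rep_T0 : ∀ i < 315, Rep G315 (fld trT0 pw i) := rep_of_trav trav0_ok rep_sCode

theorem rep_T1 : ∀ i < 160, Rep L1 (fld trT1 pw i) := rep_of_trav trav1_ok rep_g1

theorem rep_T2 : ∀ i < 12, Rep L2 (fld trT2 pw i) := rep_of_trav trav2_ok rep_g2

/-- the transversal of level 0 -/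
noncomputable def U0 (i : ℕ) : P315 := if h : i < 315 then Classical.choose (rep_T0 i h) else 1

/-- the transversal of level 1 -/
noncomputable def U1 (i : ℕ) : P315 := if h : i < 160 then Classical.choose (rep_T1 i h) else 1

/-- the transversal of level 2 -/
noncomputable def U2 (i : ℕ) : P315 := if h : i < 12 then Classical.choose (rep_T2 i h) else 1

theorem U0_mem {i : ℕ} (h : i < 315) : U0 i ∈ G315 := by
  rw [U0, dif_pos h]; exact (Classical.choose_spec (rep_T0 i h)).1

theorem U0_code {i : ℕ} (h : i < 315) : IsCode (U0 i) (fld trT0 pw i) := by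
  rw [U0, dif_pos h]; exact (Classical.choose_spec (rep_T0 i h)).2

theorem U1_mem {i : ℕ} (h : i < 160) : U1 i ∈ L1 := by
  rw [U1, dif_pos h]; exact (Classical.choose_spec (rep_T1 i h)).1

theorem U1_code {i : ℕ} (h : i < 160) : IsCode (U1 i) (fld trT1 pw i) := by
  rw [U1, dif_pos h]; exact (Classical.choose_spec (rep_T1 i h)).2

theorem U2_mem {i : ℕ} (h : i < 12) : U2 i ∈ L2 := by
  rw [U2, dif_pos h]; exact (Classical.choose_spec (rep_T2 i h)).1

theorem U2_code {i : ℕ} (h : i < 12) : IsCode (U2 i) (fld trT2 pw i) := by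
  rw [U2, dif_pos h]; exact (Classical.choose_spec (rep_T2 i h)).2

theorem U0_zero : U0 0 = 1 :=
  (U0_code (by norm_num)).ext (isCode_one (travOK_spec trav0_ok).1)

theorem U1_zero : U1 0 = 1 :=
  (U1_code (by norm_num)).ext (isCode_one (travOK_spec trav1_ok).1)

theorem U2_zero : U2 0 = 1 :=
  (U2_code (by norm_num)).ext (isCode_one (travOK_spec trav2_ok).1)

theorem fld_zero (w i : ℕ) : fld 0 w i = 0 := by
  rw [fld_eq, Nat.zero_shiftRight, Nat.zero_and]

/-- the Schreier certificates as equations of permutations -/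
theorem cert_eq {g TU n off ta tb tc : ℕ}
    (h : certOK g TU n off ta tb tc trT0 trT1 trT2 = true) {i : ℕ} (hi : i < n)
    {s u : P315} (hs : IsCode s g) (hu : IsCode u (fld TU pw i)) :
    fld ta 9 (off + i) < 315 ∧ fld tb 8 (off + i) < 160 ∧ fld tc 4 (off + i) < 12 ∧
      s * u = U0 (fld ta 9 (off + i)) * U1 (fld tb 8 (off + i)) * U2 (fld tc 4 (off + i)) := by
  obtain ⟨h1, h2, h3, h4⟩ := certOK_spec h i hi
  refine ⟨h1, h2, h3, ?_⟩
  apply Equiv.ext
  intro x
  apply Fin.ext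
  rw [Equiv.Perm.mul_apply, Equiv.Perm.mul_apply, Equiv.Perm.mul_apply, hs (u x), hu x,
    U0_code h1 _, U1_code h2 _, U2_code h3 x]
  exact h4 x x.isLt

/-- the core of the covering argument -/
theorem cover_core (S : Set P315) (n : ℕ) (U : ℕ → P315) (H : Subgroup P315)
    (h1 : U 0 = 1) (hn : 0 < n)
    (hstep : ∀ s ∈ S, ∀ i < n, ∃ i' < n, ∃ h ∈ H, s * U i = U i' * h) :
    ∀ x ∈ Subgroup.closure S, ∃ i < n, ∃ h ∈ H, x = U i * h := by
  apply closure_left_induction
  · exact ⟨0, hn, 1, H.one_mem, by rw [h1, mul_one]⟩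
  · rintro s hs y ⟨i, hi, h, hh, rfl⟩
    obtain ⟨i', hi', h', hh', e⟩ := hstep s hs i hi
    exact ⟨i', hi', h' * h, H.mul_mem hh' hh, by rw [← mul_assoc, e, mul_assoc]⟩

theorem cover2 : ∀ x ∈ L2, ∃ i < 12, x = U2 i := by
  have key := cover_core {g | ∃ k < g2Code.length, IsCode g (g2Code.getD k 0)} 12 U2 ⊥ U2_zero
    (by norm_num) (by
      rintro s ⟨k, hk, hs⟩ i hi
      have hk2 : k < 2 := hk
      have hc : certOK (g2Code.getD k 0) trT2 12 (12 * k) 0 0 ct2c trT0 trT1 trT2 = true := by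
        interval_cases k
        · exact cert2_ok0
        · exact cert2_ok1
      obtain ⟨-, -, h3, e⟩ := cert_eq hc hi hs (U2_code hi)
      rw [fld_zero, fld_zero, U0_zero, U1_zero, one_mul, one_mul] at e
      exact ⟨_, h3, 1, Subgroup.mem_bot.2 rfl, by rw [mul_one]; exact e⟩)
  intro x hx
  obtain ⟨i, hi, h, hh, e⟩ := key x hx
  rw [Subgroup.mem_bot.1 hh, mul_one] at e
  exact ⟨i, hi, e⟩

theorem cover1 : ∀ x ∈ L1, ∃ i < 160, ∃ j < 12, x = U1 i * U2 j := by
  have key := cover_core {g | ∃ k < g1Code.length, IsCode g (g1Code.getD k 0)} 160 U1 L2 U1_zero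
    (by norm_num) (by
      rintro s ⟨k, hk, hs⟩ i hi
      have hk2 : k < 2 := hk
      have hc : certOK (g1Code.getD k 0) trT1 160 (160 * k) 0 ct1b ct1c trT0 trT1 trT2 = true := by
        interval_cases k
        · exact cert1_ok0
        · exact cert1_ok1
      obtain ⟨-, h2, h3, e⟩ := cert_eq hc hi hs (U1_code hi)
      rw [fld_zero, U0_zero, one_mul] at e
      exact ⟨_, h2, _, U2_mem h3, e⟩)
  intro x hx
  obtain ⟨i, hi, h, hh, e⟩ := key x hx
  obtain ⟨j, hj, rfl⟩ := cover2 h hh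
  exact ⟨i, hi, j, hj, e⟩

theorem cover0 : ∀ x ∈ G315, ∃ i < 315, ∃ j < 160, ∃ l < 12, x = U0 i * U1 j * U2 l := by
  have key := cover_core {g | ∃ k < sCode.length, IsCode g (sCode.getD k 0)} 315 U0 L1 U0_zero
    (by norm_num) (by
      rintro s ⟨k, hk, hs⟩ i hi
      have hk4 : k < 4 := hk
      have hc : certOK (sCode.getD k 0) trT0 315 (315 * k) ct0a ct0b ct0c trT0 trT1 trT2 = true := by
        interval_cases k
        · exact cert0_ok0
        · exact cert0_ok1
        · exact cert0_ok2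
        · exact cert0_ok3
      obtain ⟨h1, h2, h3, e⟩ := cert_eq hc hi hs (U0_code hi)
      rw [mul_assoc] at e
      exact ⟨_, h1, _, L1.mul_mem (U1_mem h2) (L2_le (U2_mem h3)), e⟩)
  intro x hx
  rw [← genSub_sCode] at hx
  obtain ⟨i, hi, h, hh, e⟩ := key x hx
  obtain ⟨j, hj, l, hl, rfl⟩ := cover1 h hh
  exact ⟨i, hi, j, hj, l, hl, by rw [e, mul_assoc]⟩

/-! ### base images -/

/-- the first base point -/
def b0 : Fin 315 := 0

/-- the second base point -/
def b1 : Fin 315 := ⟨106, by norm_num⟩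

/-- the third base point -/
def b2 : Fin 315 := ⟨29, by norm_num⟩

theorem U0_b0 {i : ℕ} (h : i < 315) : ((U0 i b0 : Fin 315) : ℕ) = trPts0.getD i 999 := by
  rw [U0_code h b0]; exact (ptsOK_spec pts0_ok i h).1

theorem U1_b1 {i : ℕ} (h : i < 160) : ((U1 i b1 : Fin 315) : ℕ) = trPts1.getD i 999 := by
  rw [U1_code h b1]; exact (ptsOK_spec pts1_ok i h).1

theorem U2_b2 {i : ℕ} (h : i < 12) : ((U2 i b2 : Fin 315) : ℕ) = trPts2.getD i 999 := by
  rw [U2_code h b2]; exact (ptsOK_spec pts2_ok i h).1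

theorem U1_b0 {i : ℕ} (h : i < 160) : U1 i b0 = b0 := by
  apply Fin.ext
  rw [U1_code h b0]
  exact (ptsOK_spec pts1_ok i h).2.2 0 (by simp)

theorem U2_b0 {i : ℕ} (h : i < 12) : U2 i b0 = b0 := by
  apply Fin.ext
  rw [U2_code h b0]
  exact (ptsOK_spec pts2_ok i h).2.2 0 (by simp)

theorem U2_b1 {i : ℕ} (h : i < 12) : U2 i b1 = b1 := by
  apply Fin.ext
  rw [U2_code h b1]
  exact (ptsOK_spec pts2_ok i h).2.2 106 (by simp)

theorem pts0_inj {i j : ℕ} (hi : i < 315) (hj : j < 315)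
    (e : trPts0.getD i 999 = trPts0.getD j 999) : i = j := by
  have h1 := (ptsOK_spec pts0_ok i hi).2.1
  have h2 := (ptsOK_spec pts0_ok j hj).2.1
  rw [e] at h1
  omega

theorem pts1_inj {i j : ℕ} (hi : i < 160) (hj : j < 160)
    (e : trPts1.getD i 999 = trPts1.getD j 999) : i = j := by
  have h1 := (ptsOK_spec pts1_ok i hi).2.1
  have h2 := (ptsOK_spec pts1_ok j hj).2.1
  rw [e] at h1
  omega

theorem pts2_inj {i j : ℕ} (hi : i < 12) (hj : j < 12)
    (e : trPts2.getD i 999 = trPts2.getD j 999) : i = j := by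
  have h1 := (ptsOK_spec pts2_ok i hi).2.1
  have h2 := (ptsOK_spec pts2_ok j hj).2.1
  rw [e] at h1
  omega

/-- the images of the base points under a product of transversal elements -/
theorem triple_b0 {i j l : ℕ} (hj : j < 160) (hl : l < 12) :
    (U0 i * U1 j * U2 l) b0 = U0 i b0 := by
  rw [Equiv.Perm.mul_apply, Equiv.Perm.mul_apply, U2_b0 hl, U1_b0 hj]

theorem triple_b1 {i j l : ℕ} (hl : l < 12) :
    (U0 i * U1 j * U2 l) b1 = U0 i (U1 j b1) := by
  rw [Equiv.Perm.mul_apply, Equiv.Perm.mul_apply, U2_b1 hl]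

theorem triple_b2 {i j l : ℕ} : (U0 i * U1 j * U2 l) b2 = U0 i (U1 j (U2 l b2)) := by
  rw [Equiv.Perm.mul_apply, Equiv.Perm.mul_apply]

/-- elements of `G315` are determined by the images of the base points -/
theorem eq_of_base {x y : P315} (hx : x ∈ G315) (hy : y ∈ G315) (h0 : x b0 = y b0)
    (h1 : x b1 = y b1) (h2 : x b2 = y b2) : x = y := by
  obtain ⟨i, hi, j, hj, l, hl, rfl⟩ := cover0 x hx
  obtain ⟨i', hi', j', hj', l', hl', rfl⟩ := cover0 y hy
  rw [triple_b0 hj hl, triple_b0 hj' hl'] at h0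
  have e0 : i = i' := by
    apply pts0_inj hi hi'
    rw [← U0_b0 hi, ← U0_b0 hi', h0]
  subst e0
  rw [triple_b1 hl, triple_b1 hl'] at h1
  have e1 : j = j' := by
    apply pts1_inj hj hj'
    rw [← U1_b1 hj, ← U1_b1 hj', (U0 i).injective h1]
  subst e1
  rw [triple_b2, triple_b2] at h2
  have e2 : l = l' := by
    apply pts2_inj hl hl'
    rw [← U2_b2 hl, ← U2_b2 hl', (U1 j).injective ((U0 i).injective h2)]
  rw [e2]

theorem triple_mem {i j l : ℕ} (hi : i < 315) (hj : j < 160) (hl : l < 12) :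
    U0 i * U1 j * U2 l ∈ G315 :=
  G315.mul_mem (G315.mul_mem (U0_mem hi) (L1_le (U1_mem hj))) (L1_le (L2_le (U2_mem hl)))

theorem triple_inj {i j l i' j' l' : ℕ} (hi : i < 315) (hj : j < 160) (hl : l < 12)
    (hi' : i' < 315) (hj' : j' < 160) (hl' : l' < 12)
    (e : U0 i * U1 j * U2 l = U0 i' * U1 j' * U2 l') : i = i' ∧ j = j' ∧ l = l' := by
  have h0 := congrArg (fun f : P315 => f b0) e
  have h1 := congrArg (fun f : P315 => f b1) e
  have h2 := congrArg (fun f : P315 => f b2) e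
  rw [triple_b0 hj hl, triple_b0 hj' hl'] at h0
  have e0 : i = i' := by
    apply pts0_inj hi hi'
    rw [← U0_b0 hi, ← U0_b0 hi', h0]
  subst e0
  rw [triple_b1 hl, triple_b1 hl'] at h1
  have e1 : j = j' := by
    apply pts1_inj hj hj'
    rw [← U1_b1 hj, ← U1_b1 hj', (U0 i).injective h1]
  subst e1
  rw [triple_b2, triple_b2] at h2
  have e2 : l = l' := by
    apply pts2_inj hl hl'
    rw [← U2_b2 hl, ← U2_b2 hl', (U1 j).injective ((U0 i).injective h2)]
  exact ⟨rfl, rfl, e2⟩

/-- the order of the Hall–Janko group -/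
theorem card_G315 : Nat.card G315 = 604800 := by
  let f : Fin 315 × Fin 160 × Fin 12 → G315 := fun t =>
    ⟨U0 t.1.val * U1 t.2.1.val * U2 t.2.2.val, triple_mem t.1.isLt t.2.1.isLt t.2.2.isLt⟩
  have hbij : Function.Bijective f := by
    constructor
    · rintro ⟨i, j, l⟩ ⟨i', j', l'⟩ e
      have e' : U0 i.val * U1 j.val * U2 l.val = U0 i'.val * U1 j'.val * U2 l'.val :=
        congrArg Subtype.val e
      obtain ⟨h1, h2, h3⟩ := triple_inj i.isLt j.isLt l.isLt i'.isLt j'.isLt l'.isLt e'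
      rw [Fin.ext h1, Fin.ext h2, Fin.ext h3]
    · rintro ⟨x, hx⟩
      obtain ⟨i, hi, j, hj, l, hl, rfl⟩ := cover0 x hx
      exact ⟨(⟨i, hi⟩, ⟨j, hj⟩, ⟨l, hl⟩), rfl⟩
  rw [← Nat.card_eq_of_bijective f hbij, Nat.card_prod, Nat.card_prod, Nat.card_fin, Nat.card_fin,
    Nat.card_fin]

/-! ### the stabiliser of the first base point -/

theorem L1_b0 {x : P315} (hx : x ∈ L1) : x b0 = b0 := by
  obtain ⟨j, hj, l, hl, rfl⟩ := cover1 x hx
  rw [Equiv.Perm.mul_apply, U2_b0 hl, U1_b0 hj]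

theorem pts0_zero : trPts0.getD 0 999 = 0 := by
  rw [← U0_b0 (by norm_num), U0_zero]
  rfl

theorem mem_L1_iff {x : P315} : x ∈ L1 ↔ x ∈ G315 ∧ x b0 = b0 := by
  constructor
  · intro hx
    exact ⟨L1_le hx, L1_b0 hx⟩
  · rintro ⟨hx, h0⟩
    obtain ⟨i, hi, j, hj, l, hl, rfl⟩ := cover0 x hx
    rw [triple_b0 hj hl] at h0
    have e0 : i = 0 := by
      apply pts0_inj hi (by norm_num)
      rw [← U0_b0 hi, h0, pts0_zero]
      rfl
    subst e0
    rw [U0_zero, one_mul]
    exact L1.mul_mem (U1_mem hj) (L2_le (U2_mem hl))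

theorem card_L1 : Nat.card L1 = 1920 := by
  let f : Fin 160 × Fin 12 → L1 := fun t =>
    ⟨U1 t.1.val * U2 t.2.val, L1.mul_mem (U1_mem t.1.isLt) (L2_le (U2_mem t.2.isLt))⟩
  have hbij : Function.Bijective f := by
    constructor
    · rintro ⟨j, l⟩ ⟨j', l'⟩ e
      have e' : U0 0 * U1 j.val * U2 l.val = U0 0 * U1 j'.val * U2 l'.val := by
        rw [U0_zero, one_mul, one_mul]
        exact congrArg Subtype.val e
      obtain ⟨-, h2, h3⟩ := triple_inj (by norm_num) j.isLt l.isLt (by norm_num) j'.isLt l'.isLt e'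
      rw [Fin.ext h2, Fin.ext h3]
    · rintro ⟨x, hx⟩
      obtain ⟨j, hj, l, hl, rfl⟩ := cover1 x hx
      exact ⟨(⟨j, hj⟩, ⟨l, hl⟩), rfl⟩
  rw [← Nat.card_eq_of_bijective f hbij, Nat.card_prod, Nat.card_fin, Nat.card_fin]

end Cfsg.Agent.Helper98.J2
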