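import Cfsg.Agent.Helper98.J2Eq

/-!
# Elements of the Hall–Janko group by index, words, and tables of subgroups

Every element of `G315` is `elG t` for a unique `t < 604800`; equations between words in such
elements are decided by evaluating both sides on the base points.
-/

set_option autoImplicit false

namespace Cfsg.Agent.Helper98.J2

open Cfsg.Agent.Helper7.J2

/-- the element with index `t` -/
noncomputable def elG (t : ℕ) : P315 := U0 (t / 1920) * U1 (t / 12 % 160) * U2 (t % 12)

/-- its three factors -/
noncomputable def triP (t : ℕ) : List P315 := [U0 (t / 1920), U1 (t / 12 % 160), U2 (t % 12)]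

/-- the codes of the three factors -/
def triC (t : ℕ) : List ℕ :=
  [fld trT0 pw (t / 1920), fld trT1 pw (t / 12 % 160), fld trT2 pw (t % 12)]

theorem triP_prod (t : ℕ) : (triP t).prod = elG t := by
  simp [triP, elG, mul_assoc]

theorem idx_bounds {t : ℕ} (h : t < 604800) : t / 1920 < 315 ∧ t / 12 % 160 < 160 ∧ t % 12 < 12 := by
  omega

theorem triP_code {t : ℕ} (h : t < 604800) : List.Forall₂ IsCode (triP t) (triC t) := by
  obtain ⟨h0, h1, h2⟩ := idx_bounds h
  exact .cons (U0_code h0) (.cons (U1_code h1) (.cons (U2_code h2) .nil))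

theorem triP_mem {t : ℕ} (h : t < 604800) : ∀ g ∈ triP t, g ∈ G315 := by
  obtain ⟨h0, h1, h2⟩ := idx_bounds h
  intro g hg
  simp only [triP, List.mem_cons, List.not_mem_nil, or_false] at hg
  rcases hg with rfl | rfl | rfl
  · exact U0_mem h0
  · exact L1_le (U1_mem h1)
  · exact L1_le (L2_le (U2_mem h2))

theorem elG_mem {t : ℕ} (h : t < 604800) : elG t ∈ G315 := by
  obtain ⟨h0, h1, h2⟩ := idx_bounds h
  exact triple_mem h0 h1 h2

theorem elG_zero : elG 0 = 1 := by
  simp [elG, U0_zero, U1_zero, U2_zero]

theorem elG_inj {s t : ℕ} (hs : s < 604800) (ht : t < 604800) (e : elG s = elG t) : s = t := by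
  obtain ⟨h0, h1, h2⟩ := idx_bounds hs
  obtain ⟨h0', h1', h2'⟩ := idx_bounds ht
  obtain ⟨e0, e1, e2⟩ := triple_inj h0 h1 h2 h0' h1' h2' e
  omega

theorem exists_elG {x : P315} (hx : x ∈ G315) : ∃ t < 604800, x = elG t := by
  obtain ⟨i, hi, j, hj, l, hl, rfl⟩ := cover0 x hx
  refine ⟨(i * 160 + j) * 12 + l, by omega, ?_⟩
  have e0 : ((i * 160 + j) * 12 + l) / 1920 = i := by omega
  have e1 : ((i * 160 + j) * 12 + l) / 12 % 160 = j := by omega
  have e2 : ((i * 160 + j) * 12 + l) % 12 = l := by omega
  rw [elG, e0, e1, e2]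

theorem mem_L1_iff_elG {x : P315} : x ∈ L1 ↔ ∃ t < 1920, x = elG t := by
  constructor
  · intro hx
    obtain ⟨j, hj, l, hl, rfl⟩ := cover1 x hx
    refine ⟨j * 12 + l, by omega, ?_⟩
    have e0 : (j * 12 + l) / 1920 = 0 := by omega
    have e1 : (j * 12 + l) / 12 % 160 = j := by omega
    have e2 : (j * 12 + l) % 12 = l := by omega
    rw [elG, e0, e1, e2, U0_zero, one_mul]
  · rintro ⟨t, ht, rfl⟩
    have e0 : t / 1920 = 0 := by omega
    rw [elG, e0, U0_zero, one_mul]
    exact L1.mul_mem (U1_mem (by omega)) (L2_le (U2_mem (by omega)))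

/-! ### words -/

/-- the factors of a word -/
noncomputable def wordP (ws : List ℕ) : List P315 := ws.flatMap triP

/-- the codes of the factors of a word -/
def wordC (ws : List ℕ) : List ℕ := ws.flatMap triC

/-- the value of a word -/
noncomputable def wordG (ws : List ℕ) : P315 := (ws.map elG).prod

theorem wordG_nil : wordG [] = 1 := rfl

theorem wordG_cons (t : ℕ) (ws : List ℕ) : wordG (t :: ws) = elG t * wordG ws := by
  simp [wordG]

theorem wordP_prod (ws : List ℕ) : (wordP ws).prod = wordG ws := by
  induction ws with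
  | nil => rfl
  | cons t ws ih =>
    rw [wordP, List.flatMap_cons, List.prod_append, triP_prod, wordG_cons]
    congr 1

theorem forall₂_append {α β : Type*} {R : α → β → Prop} {l1 l2 : List α} {m1 m2 : List β}
    (h1 : List.Forall₂ R l1 m1) (h2 : List.Forall₂ R l2 m2) :
    List.Forall₂ R (l1 ++ l2) (m1 ++ m2) := by
  induction h1 with
  | nil => exact h2
  | cons h _ ih => exact .cons h ih

theorem wordP_code {ws : List ℕ} (h : ∀ t ∈ ws, t < 604800) :
    List.Forall₂ IsCode (wordP ws) (wordC ws) := by
  induction ws with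
  | nil => exact .nil
  | cons t ws ih =>
    rw [wordP, wordC, List.flatMap_cons, List.flatMap_cons]
    exact forall₂_append (triP_code (h t (by simp))) (ih (fun s hs => h s (by simp [hs])))

theorem wordP_mem {ws : List ℕ} (h : ∀ t ∈ ws, t < 604800) : ∀ g ∈ wordP ws, g ∈ G315 := by
  intro g hg
  rw [wordP, List.mem_flatMap] at hg
  obtain ⟨t, ht, hg⟩ := hg
  exact triP_mem (h t ht) g hg

theorem wordG_mem {ws : List ℕ} (h : ∀ t ∈ ws, t < 604800) : wordG ws ∈ G315 := by
  rw [← wordP_prod]
  exact Subgroup.list_prod_mem _ (wordP_mem h)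

/-- two words have the same value -/
def wordEq (ws vs : List ℕ) : Bool := baseEq (wordC ws) (wordC vs)

theorem wordEq_iff {ws vs : List ℕ} (hws : ∀ t ∈ ws, t < 604800) (hvs : ∀ t ∈ vs, t < 604800) :
    wordEq ws vs = true ↔ wordG ws = wordG vs := by
  constructor
  · intro h
    rw [← wordP_prod, ← wordP_prod]
    exact prod_eq_of_baseEq (wordP_code hws) (wordP_code hvs) (wordP_mem hws) (wordP_mem hvs) h
  · intro h
    rw [← wordP_prod, ← wordP_prod] at h
    simp only [wordEq, baseEq, List.all_cons, List.all_nil, Bool.and_true, Bool.and_eq_true,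
      beq_iff_eq]
    have e0 := evalL_spec (wordP_code hws) b0
    have e1 := evalL_spec (wordP_code hws) b1
    have e2 := evalL_spec (wordP_code hws) b2
    rw [h, evalL_spec (wordP_code hvs)] at e0 e1 e2
    exact ⟨e0.symm, e1.symm, e2.symm⟩

/-! ### the same in the subtype -/

/-- the element with index `t`, in the group -/
noncomputable def elM (t : ℕ) : ↥G315 := if h : t < 604800 then ⟨elG t, elG_mem h⟩ else 1

theorem elM_coe {t : ℕ} (h : t < 604800) : ((elM t : ↥G315) : P315) = elG t := by
  rw [elM, dif_pos h]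

theorem elM_zero : elM 0 = 1 := by
  apply Subtype.ext
  rw [elM_coe (by norm_num), elG_zero]
  rfl

theorem exists_elM (x : ↥G315) : ∃ t < 604800, x = elM t := by
  obtain ⟨t, ht, e⟩ := exists_elG x.2
  exact ⟨t, ht, Subtype.ext (by rw [elM_coe ht, e])⟩

theorem elM_inj {s t : ℕ} (hs : s < 604800) (ht : t < 604800) (e : elM s = elM t) : s = t := by
  apply elG_inj hs ht
  rw [← elM_coe hs, ← elM_coe ht, e]

/-- the value of a word, in the group -/
noncomputable def wordM (ws : List ℕ) : ↥G315 := (ws.map elM).prod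

theorem wordM_nil : wordM [] = 1 := rfl

theorem wordM_cons (t : ℕ) (ws : List ℕ) : wordM (t :: ws) = elM t * wordM ws := by
  simp [wordM]

theorem wordM_append (ws vs : List ℕ) : wordM (ws ++ vs) = wordM ws * wordM vs := by
  simp [wordM]

theorem wordM_coe {ws : List ℕ} (h : ∀ t ∈ ws, t < 604800) :
    ((wordM ws : ↥G315) : P315) = wordG ws := by
  induction ws with
  | nil => rfl
  | cons t ws ih =>
    rw [wordM_cons, wordG_cons, Subgroup.coe_mul, elM_coe (h t (by simp)),
      ih (fun s hs => h s (by simp [hs]))]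

/-- all entries of a list are indices of elements -/
def okL (ws : List ℕ) : Bool := ws.all fun t => decide (t < 604800)

theorem okL_spec {ws : List ℕ} (h : okL ws = true) : ∀ t ∈ ws, t < 604800 := by
  intro t ht
  rw [okL, List.all_eq_true] at h
  simpa using h t ht

/-- two words of indices have the same value -/
def wEq (ws vs : List ℕ) : Bool := okL ws && okL vs && wordEq ws vs

theorem wEq_spec {ws vs : List ℕ} (h : wEq ws vs = true) : wordM ws = wordM vs := by
  simp only [wEq, Bool.and_eq_true] at h
  obtain ⟨⟨h1, h2⟩, h3⟩ := h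
  apply Subtype.ext
  rw [wordM_coe (okL_spec h1), wordM_coe (okL_spec h2)]
  exact (wordEq_iff (okL_spec h1) (okL_spec h2)).1 h3

/-- two words of indices have different values -/
def wNe (ws vs : List ℕ) : Bool := okL ws && okL vs && !wordEq ws vs

theorem wNe_spec {ws vs : List ℕ} (h : wNe ws vs = true) : wordM ws ≠ wordM vs := by
  simp only [wNe, Bool.and_eq_true, Bool.not_eq_true'] at h
  obtain ⟨⟨h1, h2⟩, h3⟩ := h
  intro e
  have e' := congrArg (Subtype.val) e
  rw [wordM_coe (okL_spec h1), wordM_coe (okL_spec h2)] at e'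
  rw [(wordEq_iff (okL_spec h1) (okL_spec h2)).2 e'] at h3
  exact Bool.noConfusion h3

theorem wordM_one (t : ℕ) : wordM [t] = elM t := by
  rw [wordM_cons, wordM_nil, mul_one]

theorem wordM_two (s t : ℕ) : wordM [s, t] = elM s * elM t := by
  rw [wordM_cons, wordM_one]

theorem wordM_three (s t u : ℕ) : wordM [s, t, u] = elM s * elM t * elM u := by
  rw [wordM_cons, wordM_two, mul_assoc]

/-- induction over a finite generated group by left multiplication with generators -/
theorem closure_left_inductionM (S : Set ↥G315) (p : ↥G315 → Prop) (h1 : p 1)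
    (hmul : ∀ s ∈ S, ∀ y, p y → p (s * y)) : ∀ g ∈ Subgroup.closure S, p g := by
  have hfin : ∀ s ∈ S, IsOfFinOrder s := fun s _ => isOfFinOrder_of_finite s
  have key : ∀ g ∈ Submonoid.closure S, p g := by
    intro g hg
    induction hg using Submonoid.closure_induction_left with
    | one => exact h1
    | mul_left s hs y _ ih => exact hmul s hs y ih
  intro g hg
  apply key
  rw [← Subgroup.closure_toSubmonoid_of_isOfFinOrder hfin]
  exact hg

/-! ### tables -/

/-- `tab` is closed under left multiplication by `gens`, with images `perm` and a spanning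
tree -/
def tblOK (gens tab : List ℕ) (perm : List (List ℕ)) (par pgen : List ℕ) : Bool :=
  (tab.getD 0 1 == 0) && okL tab && okL gens &&
  ((List.range gens.length).all fun g => (List.range tab.length).all fun i =>
    withNat ((perm.getD g []).getD i 0) fun j =>
      decide (j < tab.length) && wordEq [gens.getD g 0, tab.getD i 0] [tab.getD j 0]) &&
  ((List.range tab.length).all fun i => i == 0 ||
    (decide (par.getD i 0 < i) && decide (pgen.getD i 0 < gens.length) &&
      ((perm.getD (pgen.getD i 0) []).getD (par.getD i 0) 0 == i)))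

theorem getD_lt_of_okL {l : List ℕ} (h : okL l = true) (i : ℕ)
    (hi : i < l.length) : l.getD i 0 < 604800 := by
  apply okL_spec h
  rw [List.getD_eq_getElem _ _ hi]
  exact List.getElem_mem hi

/-- the subgroup generated by the elements with indices in a list -/
noncomputable def tblSub (gens : List ℕ) : Subgroup ↥G315 :=
  Subgroup.closure {g | ∃ k < gens.length, g = elM (gens.getD k 0)}

theorem tbl_mem_iff {gens tab : List ℕ} {perm : List (List ℕ)} {par pgen : List ℕ}
    (h : tblOK gens tab perm par pgen = true) (x : ↥G315) :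
    x ∈ tblSub gens ↔ ∃ i < tab.length, x = elM (tab.getD i 0) := by
  simp only [tblOK, Bool.and_eq_true, beq_iff_eq, List.all_eq_true, List.mem_range, withNat_eq,
    decide_eq_true_eq, Bool.or_eq_true] at h
  obtain ⟨⟨⟨⟨h0, htab⟩, hgens⟩, hcl⟩, htree⟩ := h
  have htab' : ∀ i < tab.length, tab.getD i 0 < 604800 := getD_lt_of_okL htab
  have hgens' : ∀ k < gens.length, gens.getD k 0 < 604800 := getD_lt_of_okL hgens
  have hlen : 0 < tab.length := by
    rcases Nat.eq_zero_or_pos tab.length with h | h
    · rw [List.length_eq_zero_iff] at h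
      rw [h] at h0
      simp at h0
    · exact h
  have h00 : tab.getD 0 0 = 0 := by
    rw [List.getD_eq_getElem _ _ hlen] at h0 ⊢
    exact h0
  have hmul : ∀ k < gens.length, ∀ i < tab.length,
      (perm.getD k []).getD i 0 < tab.length ∧
        elM (gens.getD k 0) * elM (tab.getD i 0) = elM (tab.getD ((perm.getD k []).getD i 0) 0) := by
    intro k hk i hi
    obtain ⟨h1, h2⟩ := hcl k hk i hi
    refine ⟨h1, ?_⟩
    have := (wordEq_iff (ws := [gens.getD k 0, tab.getD i 0])
      (vs := [tab.getD ((perm.getD k []).getD i 0) 0]) (by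
        intro t ht
        simp only [List.mem_cons, List.not_mem_nil, or_false] at ht
        rcases ht with rfl | rfl
        · exact hgens' k hk
        · exact htab' i hi) (by
        intro t ht
        simp only [List.mem_cons, List.not_mem_nil, or_false] at ht
        subst ht
        exact htab' _ h1)).1 h2
    apply Subtype.ext
    rw [Subgroup.coe_mul, elM_coe (hgens' k hk), elM_coe (htab' i hi), elM_coe (htab' _ h1)]
    simpa [wordG_cons, wordG_nil] using this
  constructor
  · apply closure_left_inductionM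
    · exact ⟨0, hlen, by rw [h00, elM_zero]⟩
    · rintro s ⟨k, hk, rfl⟩ y ⟨i, hi, rfl⟩
      obtain ⟨h1, h2⟩ := hmul k hk i hi
      exact ⟨_, h1, h2⟩
  · rintro ⟨i, hi, rfl⟩
    induction i using Nat.strong_induction_on with
    | _ i ih =>
      rcases Nat.eq_zero_or_pos i with rfl | hpos
      · rw [h00, elM_zero]
        exact Subgroup.one_mem _
      · rcases htree i hi with h1 | ⟨⟨h1, h2⟩, h3⟩
        · omega
        · have hp : par.getD i 0 < tab.length := by omega
          obtain ⟨-, h4⟩ := hmul _ h2 _ hp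
          rw [h3] at h4
          rw [← h4]
          exact Subgroup.mul_mem _ (Subgroup.subset_closure ⟨_, h2, rfl⟩) (ih _ h1 hp)

theorem tbl_lt {gens tab : List ℕ} {perm : List (List ℕ)} {par pgen : List ℕ}
    (h : tblOK gens tab perm par pgen = true) : ∀ i < tab.length, tab.getD i 0 < 604800 := by
  simp only [tblOK, Bool.and_eq_true] at h
  exact getD_lt_of_okL h.1.1.1.2

theorem tbl_card {gens tab : List ℕ} {perm : List (List ℕ)} {par pgen : List ℕ}
    (h : tblOK gens tab perm par pgen = true) (hnd : tab.Nodup) :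
    Nat.card (tblSub gens) = tab.length := by
  have hlt := tbl_lt h
  let f : Fin tab.length → tblSub gens := fun i =>
    ⟨elM (tab.getD i.val 0), (tbl_mem_iff h _).2 ⟨i.val, i.isLt, rfl⟩⟩
  have hbij : Function.Bijective f := by
    constructor
    · intro i j e
      have e' : elM (tab.getD i.val 0) = elM (tab.getD j.val 0) := congrArg Subtype.val e
      have e2 := elM_inj (hlt _ i.isLt) (hlt _ j.isLt) e'
      rw [List.getD_eq_getElem _ _ i.isLt, List.getD_eq_getElem _ _ j.isLt] at e2
      exact Fin.ext ((List.Nodup.getElem_inj_iff hnd).1 e2)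
    · rintro ⟨x, hx⟩
      obtain ⟨i, hi, rfl⟩ := (tbl_mem_iff h x).1 hx
      exact ⟨⟨i, hi⟩, rfl⟩
  rw [← Nat.card_eq_of_bijective f hbij, Nat.card_fin]

/-- membership of a table entry, by index -/
theorem tbl_mem_of_contains {gens tab : List ℕ} {perm : List (List ℕ)} {par pgen : List ℕ}
    (h : tblOK gens tab perm par pgen = true) {t : ℕ} (ht : tab.contains t = true) :
    elM t ∈ tblSub gens := by
  rw [List.contains_iff_mem, List.mem_iff_getElem] at ht
  obtain ⟨i, hi, e⟩ := ht
  exact (tbl_mem_iff h _).2 ⟨i, hi, by rw [List.getD_eq_getElem _ _ hi, e]⟩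

/-- the stabiliser of the first base point, in the group -/
def LM : Subgroup ↥G315 := L1.subgroupOf G315

theorem mem_LM_iff {x : ↥G315} : x ∈ LM ↔ ∃ t < 1920, x = elM t := by
  rw [LM, Subgroup.mem_subgroupOf, mem_L1_iff_elG]
  constructor
  · rintro ⟨t, ht, e⟩
    exact ⟨t, ht, Subtype.ext (by rw [elM_coe (by omega), e])⟩
  · rintro ⟨t, ht, rfl⟩
    exact ⟨t, ht, elM_coe (by omega)⟩

theorem card_LM : Nat.card LM = 1920 := by
  rw [LM, Nat.card_congr (Subgroup.subgroupOfEquivOfLe L1_le).toEquiv, card_L1]

theorem mem_LM_iff_b0 {x : ↥G315} : x ∈ LM ↔ (x : P315) b0 = b0 := by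
  rw [LM, Subgroup.mem_subgroupOf, mem_L1_iff]
  exact ⟨fun h => h.2, fun h => ⟨x.2, h⟩⟩

end Cfsg.Agent.Helper98.J2
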