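import Cfsg.Agent.Helper98.J2Check3

/-!
# The Hall–Janko group on 315 points is simple

By the Iwasawa criterion: the action on the 315 points is primitive, the centres of the point
stabilisers are commutative, conjugate and generate the group, and the group is perfect.
-/

set_option autoImplicit false

namespace Cfsg.Agent.Helper98.J2

open Cfsg.Agent.Helper7.J2 MulAction
open scoped Pointwise commutatorElement

/-- the Hall–Janko group as a type -/
abbrev M : Type := ↥G315

theorem smul_eq (g : M) (a : Fin 315) : g • a = (g : P315) a := rfl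

/-- the generators as elements of `M` -/
def sM (k : Fin 4) : M := ⟨g315 k, Subgroup.subset_closure ⟨k, rfl⟩⟩

theorem closure_sM : Subgroup.closure (Set.range sM) = (⊤ : Subgroup M) := by
  have h := Subgroup.closure_closure_coe_preimage (k := Set.range g315)
  have e : ((↑) : ↥(Subgroup.closure (Set.range g315)) → P315) ⁻¹' (Set.range g315) =
      Set.range sM := by
    ext x
    constructor
    · rintro ⟨k, hk⟩
      exact ⟨k, Subtype.ext hk⟩
    · rintro ⟨k, rfl⟩
      exact ⟨k, rfl⟩
  rw [e] at h
  exact h

/-! ### the Iwasawa structure -/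

/-- the centre of the stabiliser of a point -/
def TT (a : Fin 315) : Subgroup M where
  carrier := {z | z • a = a ∧ ∀ y : M, y • a = a → z * y = y * z}
  one_mem' := ⟨one_smul _ _, fun y _ => by rw [one_mul, mul_one]⟩
  mul_mem' := by
    rintro z w ⟨hz1, hz2⟩ ⟨hw1, hw2⟩
    refine ⟨by rw [mul_smul, hw1, hz1], fun y hy => ?_⟩
    rw [mul_assoc, hw2 y hy, ← mul_assoc, hz2 y hy, mul_assoc]
  inv_mem' := by
    rintro z ⟨hz1, hz2⟩
    refine ⟨by rw [inv_smul_eq_iff, hz1], fun y hy => ?_⟩
    have := hz2 y hy
    calc z⁻¹ * y = z⁻¹ * (y * z) * z⁻¹ := by group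
      _ = z⁻¹ * (z * y) * z⁻¹ := by rw [this]
      _ = y * z⁻¹ := by group

theorem mem_TT {a : Fin 315} {z : M} :
    z ∈ TT a ↔ z • a = a ∧ ∀ y : M, y • a = a → z * y = y * z := Iff.rfl

theorem TT_conj (g : M) (a : Fin 315) : TT (g • a) = MulAut.conj g • TT a := by
  ext z
  rw [Subgroup.mem_pointwise_smul_iff_inv_smul_mem, MulAut.smul_def, MulAut.conj_inv_apply,
    mem_TT, mem_TT]
  constructor
  · rintro ⟨h1, h2⟩
    constructor
    · rw [mul_smul, mul_smul, h1, inv_smul_smul]
    · intro y hy
      have hy' : (g * y * g⁻¹) • g • a = g • a := by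
        rw [mul_smul, mul_smul, inv_smul_smul, hy]
      have := h2 _ hy'
      calc g⁻¹ * z * g * y = g⁻¹ * (z * (g * y * g⁻¹)) * g := by group
        _ = g⁻¹ * ((g * y * g⁻¹) * z) * g := by rw [this]
        _ = y * (g⁻¹ * z * g) := by group
  · rintro ⟨h1, h2⟩
    constructor
    · rw [mul_smul, mul_smul, inv_smul_eq_iff] at h1
      exact h1
    · intro y hy
      have hy' : (g⁻¹ * y * g) • a = a := by
        rw [mul_smul, mul_smul, hy, inv_smul_smul]
      have := h2 _ hy'
      calc z * y = g * ((g⁻¹ * z * g) * (g⁻¹ * y * g)) * g⁻¹ := by group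
        _ = g * ((g⁻¹ * y * g) * (g⁻¹ * z * g)) * g⁻¹ := by rw [this]
        _ = y * z := by group

theorem b0_eq : b0 = (0 : Fin 315) := rfl

/-- the first generator is central in the stabiliser of `0` -/
theorem s0_mem_TT : sM 0 ∈ TT b0 := by
  rw [mem_TT]
  constructor
  · apply Fin.ext
    rw [smul_eq]
    show ((g315 0 b0 : Fin 315) : ℕ) = 0
    rw [isCode_g315 0 b0]
    exact s0_fix
  · intro y hy
    have hyL : (y : P315) ∈ L1 := mem_L1_iff.2 ⟨y.2, hy⟩
    have hcen : L1 ≤ Subgroup.centralizer {g315 0} := by
      rw [L1_eq_closure, Subgroup.closure_le]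
      have key : ∀ j < 2, gC j ∈ Subgroup.centralizer {g315 0} := by
        intro j hj
        rw [Subgroup.mem_centralizer_iff]
        intro h hh
        rw [Set.mem_singleton_iff] at hh
        subst hh
        have := prod_eq_of_baseEq (gs := [g315 0, gC j]) (hs := [gC j, g315 0])
          (List.Forall₂.cons (isCode_g315 0) (List.Forall₂.cons (gC_code hj) List.Forall₂.nil))
          (List.Forall₂.cons (gC_code hj) (List.Forall₂.cons (isCode_g315 0) List.Forall₂.nil))
          (by
            intro g hg
            simp only [List.mem_cons, List.not_mem_nil, or_false] at hg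
            rcases hg with rfl | rfl
            · exact Subgroup.subset_closure ⟨0, rfl⟩
            · exact L1_le (gC_mem hj))
          (by
            intro g hg
            simp only [List.mem_cons, List.not_mem_nil, or_false] at hg
            rcases hg with rfl | rfl
            · exact L1_le (gC_mem hj)
            · exact Subgroup.subset_closure ⟨0, rfl⟩)
          (s0_comm j hj)
        simpa using this
      rintro g (rfl | rfl)
      · exact key 0 (by norm_num)
      · exact key 1 (by norm_num)
    have := Subgroup.mem_centralizer_iff.1 (hcen hyL) (g315 0) (Set.mem_singleton _)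
    apply Subtype.ext
    show g315 0 * (y : P315) = (y : P315) * g315 0
    exact this

/-- the other generators are conjugate to the first -/
theorem sM_conj (k : Fin 4) : ∃ g : M, sM k = g * sM 0 * g⁻¹ := by
  have key : ∀ (i : ℕ) (hi : i < 315) (k : Fin 4),
      baseEq [fld trT0 pw i, sCode.getD 0 0] [sCode.getD k 0, fld trT0 pw i] = true →
        ∃ g : M, sM k = g * sM 0 * g⁻¹ := by
    intro i hi k h
    refine ⟨⟨U0 i, U0_mem hi⟩, ?_⟩
    have := prod_eq_of_baseEq (gs := [U0 i, g315 0]) (hs := [g315 k, U0 i])
      (List.Forall₂.cons (U0_code hi) (List.Forall₂.cons (isCode_g315 0) List.Forall₂.nil))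
      (List.Forall₂.cons (isCode_g315 k) (List.Forall₂.cons (U0_code hi) List.Forall₂.nil))
      (by
        intro g hg
        simp only [List.mem_cons, List.not_mem_nil, or_false] at hg
        rcases hg with rfl | rfl
        · exact U0_mem hi
        · exact Subgroup.subset_closure ⟨0, rfl⟩)
      (by
        intro g hg
        simp only [List.mem_cons, List.not_mem_nil, or_false] at hg
        rcases hg with rfl | rfl
        · exact Subgroup.subset_closure ⟨k, rfl⟩
        · exact U0_mem hi)
      h
    simp only [List.prod_cons, List.prod_nil, mul_one] at this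
    rw [eq_mul_inv_iff_mul_eq]
    apply Subtype.ext
    exact this.symm
  fin_cases k
  · exact ⟨1, by simp⟩
  · exact key 4 (by norm_num) 1 conj_ok.1
  · exact key 7 (by norm_num) 2 conj_ok.2.1
  · exact key 10 (by norm_num) 3 conj_ok.2.2

/-- the Iwasawa structure -/
def iwasawa : IwasawaStructure M (Fin 315) where
  T := TT
  is_comm a := ⟨⟨fun x y => Subtype.ext (x.2.2 y.1 y.2.1)⟩⟩
  is_conj := TT_conj
  is_generator := by
    rw [eq_top_iff, ← closure_sM, Subgroup.closure_le]
    rintro _ ⟨k, rfl⟩
    obtain ⟨g, hg⟩ := sM_conj k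
    have h1 : sM k ∈ MulAut.conj g • TT b0 := by
      rw [Subgroup.mem_pointwise_smul_iff_inv_smul_mem, MulAut.smul_def, MulAut.conj_inv_apply, hg]
      have : g⁻¹ * (g * sM 0 * g⁻¹) * g = sM 0 := by group
      rw [this]
      exact s0_mem_TT
    rw [← TT_conj] at h1
    exact (le_iSup TT (g • b0)) h1

/-! ### primitivity -/

instance pretransitive : IsPretransitive M (Fin 315) := by
  rw [isPretransitive_iff_base b0]
  intro x
  obtain ⟨h1, h2⟩ := pos0_ok x.val x.isLt
  refine ⟨⟨U0 (trPos0.getD x.val 999), U0_mem h1⟩, ?_⟩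
  apply Fin.ext
  rw [smul_eq]
  show ((U0 (trPos0.getD x.val 999) b0 : Fin 315) : ℕ) = x.val
  rw [U0_b0 h1, h2]

/-- the root of an orbit of the stabiliser -/
def rootF (c : ℕ) : Fin 315 := ⟨oRoot.getD c 315 % 315, Nat.mod_lt _ (by norm_num)⟩

/-- a block containing the point `0` is a union of orbits of the stabiliser -/
theorem block_class {B : Set (Fin 315)} (hB : IsBlock M B) (h0 : b0 ∈ B) (x : Fin 315) :
    x ∈ B ↔ rootF (oCls.getD x.val 0) ∈ B := by
  -- invariance under the generators of the stabiliser
  have hinv : ∀ j < 2, ∀ p : Fin 315, (gC j p ∈ B ↔ p ∈ B) := by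
    intro j hj p
    let c : M := ⟨gC j, L1_le (gC_mem hj)⟩
    have hc0 : c • b0 = b0 := L1_b0 (gC_mem hj)
    have hcB : c • B = B := hB.smul_eq_of_mem h0 (by rw [hc0]; exact h0)
    constructor
    · intro h
      have : c • p ∈ c • B := by rw [hcB]; exact h
      exact (Set.smul_mem_smul_set_iff).1 this
    · intro h
      have : c • p ∈ c • B := Set.smul_mem_smul_set h
      rw [hcB] at this
      exact this
  have key : ∀ x < 315, ∀ hx : x < 315, ((⟨x, hx⟩ : Fin 315) ∈ B ↔
      rootF (oCls.getD x 0) ∈ B) := by
    have := tree_induction (P := fun x => ∀ hx : x < 315, ((⟨x, hx⟩ : Fin 315) ∈ B ↔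
      rootF (oCls.getD x 0) ∈ B))
      oTree_ok
      (by
        intro x hx hroot hx'
        rw [beq_iff_eq] at hroot
        have : rootF (oCls.getD x 0) = ⟨x, hx'⟩ := by
          apply Fin.ext
          show oRoot.getD (oCls.getD x 0) 315 % 315 = x
          rw [hroot, Nat.mod_eq_of_lt hx]
        rw [this])
      (by
        intro p hp k hk ih hx'
        have hk2 : k < 2 := hk
        have h1 := invarOK_spec oInv_ok k hk p hp
        have h2 : (⟨look (g1Code.getD k 0) p, hx'⟩ : Fin 315) = gC k ⟨p, hp⟩ := by
          apply Fin.ext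
          rw [gC_code hk2 ⟨p, hp⟩]
        rw [h2, hinv k hk2, h1]
        exact ih hp)
    intro x hx hx'
    exact this x hx hx'
  exact key x.val x.isLt x.isLt

instance preprimitive : IsPreprimitive M (Fin 315) := by
  apply IsPreprimitive.of_isTrivialBlock_base b0
  intro B h0 hB
  classical
  -- the set of orbits meeting `B`
  let J : Fin 6 → Bool := fun c => decide (rootF c.val ∈ B)
  have hmem : ∀ x : Fin 315, x ∈ B ↔ J (clsF x) = true := by
    intro x
    rw [block_class hB h0 x]
    simp only [J, decide_eq_true_eq]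
    have e : (clsF x).val = oCls.getD x.val 0 := Nat.mod_eq_of_lt (oCls_lt x.val x.isLt)
    rw [e]
  have hJ0 : J 0 = true := by
    have := (hmem b0).1 h0
    exact this
  have hcard : (Finset.univ.filter fun x : Fin 315 => J (clsF x) = true).card ∣ 315 := by
    have h1 := hB.ncard_dvd_card ⟨b0, h0⟩
    rw [Nat.card_fin] at h1
    have h2 : B.ncard = (Finset.univ.filter fun x : Fin 315 => J (clsF x) = true).card := by
      rw [Set.ncard_eq_toFinset_card']
      congr 1
      ext x
      simp only [Set.mem_toFinset, Finset.mem_filter, Finset.mem_univ, true_and]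
      exact hmem x
    rw [← h2]
    exact h1
  rcases block_arith J hJ0 hcard with h | h
  · left
    intro x hx y hy
    have hx0 : clsF x = 0 := by
      by_contra hne
      have := h _ hne
      rw [(hmem x).1 hx] at this
      exact Bool.noConfusion this
    have hy0 : clsF y = 0 := by
      by_contra hne
      have := h _ hne
      rw [(hmem y).1 hy] at this
      exact Bool.noConfusion this
    rw [clsF_zero x hx0, clsF_zero y hy0]
  · right
    rw [Set.eq_univ_iff_forall]
    intro x
    exact (hmem x).2 (h _)

/-! ### perfectness -/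

theorem perfect : commutator M = ⊤ := by
  rw [eq_top_iff, ← closure_sM, Subgroup.closure_le]
  -- the first generator is a commutator
  have h0 : sM 0 ∈ commutator M := by
    have hc : gC 0 ∈ G315 := L1_le (gC_mem (by norm_num))
    have hu : U2 9 ∈ G315 := L1_le (L2_le (U2_mem (by norm_num)))
    have := prod_eq_of_baseEq (gs := [gC 0, U2 9]) (hs := [g315 0, U2 9, gC 0])
      (List.Forall₂.cons (gC_code (by norm_num))
        (List.Forall₂.cons (U2_code (by norm_num)) List.Forall₂.nil))
      (List.Forall₂.cons (isCode_g315 0) (List.Forall₂.cons (U2_code (by norm_num))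
        (List.Forall₂.cons (gC_code (by norm_num)) List.Forall₂.nil)))
      (by
        intro g hg
        simp only [List.mem_cons, List.not_mem_nil, or_false] at hg
        rcases hg with rfl | rfl
        · exact hc
        · exact hu)
      (by
        intro g hg
        simp only [List.mem_cons, List.not_mem_nil, or_false] at hg
        rcases hg with rfl | rfl | rfl
        · exact Subgroup.subset_closure ⟨0, rfl⟩
        · exact hu
        · exact hc)
      comm_ok
    simp only [List.prod_cons, List.prod_nil, mul_one] at this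
    have e : sM 0 = ⁅(⟨gC 0, hc⟩ : M), ⟨U2 9, hu⟩⁆ := by
      apply Subtype.ext
      rw [commutatorElement_def]
      show g315 0 = gC 0 * U2 9 * (gC 0)⁻¹ * (U2 9)⁻¹
      rw [this]
      group
    rw [e, commutator_def]
    exact Subgroup.commutator_mem_commutator (Subgroup.mem_top _) (Subgroup.mem_top _)
  rintro _ ⟨k, rfl⟩
  obtain ⟨g, hg⟩ := sM_conj k
  rw [SetLike.mem_coe, hg]
  have hn : (commutator M).Normal := inferInstance
  exact hn.conj_mem _ h0 g

/-! ### the result -/

theorem nontrivial_M : Nontrivial M := by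
  refine ⟨⟨sM 0, 1, ?_⟩⟩
  intro h
  obtain ⟨i, hi, hne⟩ := noncomm_ok
  apply hne
  have h1 : g315 0 = 1 := congrArg Subtype.val h
  have e0 : ∀ p : ℕ, ∀ hp : p < 315, look (sCode.getD 0 0) p = p := by
    intro p hp
    have h2 : ((g315 0 ⟨p, hp⟩ : Fin 315) : ℕ) = look (sCode.getD 0 0) p := isCode_g315 0 ⟨p, hp⟩
    rw [← h2, h1]
    rfl
  have hlt : look (sCode.getD 1 0) i < 315 := by
    have h2 : ((g315 1 ⟨i, hi⟩ : Fin 315) : ℕ) = look (sCode.getD 1 0) i := isCode_g315 1 ⟨i, hi⟩
    rw [← h2]
    exact Fin.isLt _
  rw [e0 _ hlt, e0 _ hi]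

theorem simple_G315 : IsSimpleGroup M := by
  have := nontrivial_M
  exact iwasawa.isSimpleGroup perfect inferInstance

theorem noncomm_G315 : ∃ a b : M, a * b ≠ b * a := by
  refine ⟨sM 0, sM 1, ?_⟩
  intro h
  obtain ⟨i, hi, hne⟩ := noncomm_ok
  apply hne
  have h1 : g315 0 * g315 1 = g315 1 * g315 0 := congrArg Subtype.val h
  have h2 := congrArg (fun f : P315 => ((f ⟨i, hi⟩ : Fin 315) : ℕ)) h1
  simp only [Equiv.Perm.mul_apply] at h2
  rw [isCode_g315 0, isCode_g315 1, isCode_g315 1, isCode_g315 0] at h2
  exact h2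

end Cfsg.Agent.Helper98.J2
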