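import Cfsg.Agent.Helper98.J3Main
import Cfsg.Agent.Helper98.J3Data9
import Cfsg.Prelude.Def_Spor_J3

/-!
# The generators of the definition of `3·J₃` and the two generators `a`, `b`

Transport from an arbitrary field with four elements (and a root `ω` of `x² + x + 1`) to `GF4`,
and from matrices indexed by `F9` to matrices indexed by `Fin 9`.
-/

set_option autoImplicit false
set_option linter.unusedSectionVars false

namespace Cfsg.Agent.Helper98.J3

open Cfsg Cfsg.Spor Cfsg.Agent.Helper27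

/-- the index map: `i ↦ (i / 3, i % 3)` -/
def f9 (i : Fin 9) : F9 := (((i.val / 3 : ℕ) : ZMod 3), ((i.val % 3 : ℕ) : ZMod 3))

theorem f9_bijective : Function.Bijective f9 := by decide

/-- the index map as an equivalence -/
noncomputable def f9Equiv : Fin 9 ≃ F9 := Equiv.ofBijective f9 f9_bijective

theorem f9Equiv_apply (i : Fin 9) : f9Equiv i = f9 i := rfl

section Generic

variable {F : Type*} [Field F] (σ : F ≃+* GF4)

/-- matrices over `F` indexed by `F9` to matrices over `GF4` indexed by `Fin 9` -/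
noncomputable def psi : Matrix F9 F9 F →+* Matrix (Fin 9) (Fin 9) GF4 :=
  (Matrix.reindexAlgEquiv GF4 GF4 f9Equiv.symm).toRingEquiv.toRingHom.comp σ.toRingHom.mapMatrix

theorem psi_apply (M : Matrix F9 F9 F) (i j : Fin 9) : psi σ M i j = σ (M (f9 i) (f9 j)) := by
  simp [psi, f9Equiv_apply]

theorem psi_injective : Function.Injective (psi σ) := by
  intro M N h
  ext z z'
  obtain ⟨i, rfl⟩ := f9_bijective.2 z
  obtain ⟨j, rfl⟩ := f9_bijective.2 z'
  have := congrFun (congrFun h i) j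
  rw [psi_apply, psi_apply] at this
  exact σ.injective this

/-- the matrix over `GF4` of an invertible matrix over `F` -/
noncomputable def phi0 : GL F9 F →* Matrix (Fin 9) (Fin 9) GF4 :=
  (psi σ).toMonoidHom.comp (Units.coeHom _)

theorem phi0_apply (g : GL F9 F) : phi0 σ g = psi σ (g : Matrix F9 F9 F) := rfl

theorem phi0_injective : Function.Injective (phi0 σ) := by
  intro g h e
  rw [phi0_apply, phi0_apply] at e
  exact Units.ext (psi_injective σ e)

/-- a matrix whose image has an inverse is invertible -/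
theorem unit_of_code {M : Matrix F9 F9 F} {c c' : ℕ} (h : psi σ M = toMat c)
    (hinv : eqMul c c' idCode = true) : ∃ g : GL F9 F, (g : Matrix F9 F9 F) = M := by
  obtain ⟨M', hM'⟩ : ∃ M' : Matrix F9 F9 F, psi σ M' = toMat c' := by
    refine ⟨Matrix.of fun z z' => σ.symm ((toMat c') (f9Equiv.symm z) (f9Equiv.symm z')), ?_⟩
    ext i j
    rw [psi_apply]
    simp [← f9Equiv_apply]
  have h1 : M * M' = 1 := by
    apply psi_injective σ
    rw [map_mul, h, hM', eqMul_spec hinv, toMat_idCode, map_one]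
  exact ⟨⟨M, M', h1, mul_eq_one_comm.1 h1⟩, rfl⟩

end Generic

/-! ### the generators of the definition over `GF4` -/

/-- the position of `Z` in the list of all elements of `F9` -/
def f9idx (z : F9) : ℕ := 3 * z.1.val + z.2.val

theorem f9idx_lt : ∀ z : F9, f9idx z < 9 := by decide

theorem f9idx_f9 : ∀ i : Fin 9, f9idx (f9 i) = i.val := by decide

theorem f9_ne_zero : ∀ i : Fin 9, i.val ≠ 0 → f9 i ≠ 0 := by decide

set_option maxRecDepth 100000 in
theorem chkA : ∀ Z : F9, ∀ i j : Fin 9,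
    decide (j3A GF4 GF4.w Z (f9 i) (f9 j) = toMat (genCodes.getD (f9idx Z) 0) i j) = true := by
  decide +kernel

set_option maxRecDepth 100000 in
theorem chkE : ∀ Z : F9, ∀ i j : Fin 9,
    decide (j3E GF4 GF4.w Z (f9 i) (f9 j) = toMat (genCodes.getD (9 + f9idx Z) 0) i j) = true := by
  decide +kernel

set_option maxRecDepth 100000 in
theorem chkD : ∀ Z : F9, ∀ i j : Fin 9,
    decide (j3D GF4 GF4.w Z (f9 i) (f9 j) = toMat (genCodes.getD (18 + f9idx Z) 0) i j) = true := by
  decide +kernel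

set_option maxRecDepth 100000 in
theorem chkB : ∀ Z : F9, Z ≠ 0 → ∀ i j : Fin 9,
    decide (j3B GF4 Z (f9 i) (f9 j) = toMat (genCodes.getD (26 + f9idx Z) 0) i j) = true := by
  decide +kernel

set_option maxRecDepth 100000 in
theorem chkC : ∀ Z : F9, Z ≠ 0 → ∀ i j : Fin 9,
    decide (j3C GF4 Z (f9 i) (f9 j) = toMat (genCodes.getD (34 + f9idx Z) 0) i j) = true := by
  decide +kernel

/-! ### kernel checks on the straight line programs -/

set_option maxRecDepth 1000000 in
theorem genInv_ok : ∀ k < 43, eqMul (genCodes.getD k 0) (genInvCodes.getD k 0) idCode = true := by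
  decide +kernel

set_option maxRecDepth 1000000 in
theorem slpA_ok : slpOK slpA slpAprog 43 = true := by decide +kernel

set_option maxRecDepth 1000000 in
theorem slpA_facts : (∀ k < 43, slpA.getD k 0 = genCodes.getD k 0) ∧ slpA.getD ixA_a 0 = aCode ∧
    slpA.getD ixA_b 0 = bCode ∧ ixA_a < slpA.length ∧ ixA_b < slpA.length := by decide +kernel

set_option maxRecDepth 1000000 in
theorem slpB_ok : slpOK slpB slpBprog 2 = true := by decide +kernel

set_option maxRecDepth 1000000 in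
theorem slpB_facts : slpB.getD 0 0 = aCode ∧ slpB.getD 1 0 = bCode ∧
    ∀ k < 43, ixB.getD k 0 < slpB.length ∧ slpB.getD (ixB.getD k 0) 0 = genCodes.getD k 0 := by
  decide +kernel

/-! ### the generators of the definition over an arbitrary field -/

section Generic2

variable {F : Type*} [Field F] (ω : F) (σ : F ≃+* GF4)

theorem map_j3A (Z z z' : F9) : σ (j3A F ω Z z z') = j3A GF4 (σ ω) Z z z' := by
  simp only [j3A, Matrix.diagonal_apply, omegaPow]
  split_ifs <;> simp [map_pow]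

theorem map_j3E (Z z z' : F9) : σ (j3E F ω Z z z') = j3E GF4 (σ ω) Z z z' := by
  simp only [j3E, Matrix.diagonal_apply, omegaPow]
  split_ifs <;> simp [map_pow]

theorem map_j3D (Z z z' : F9) : σ (j3D F ω Z z z') = j3D GF4 (σ ω) Z z z' := by
  simp only [j3D, Matrix.of_apply, j3Lam]
  split_ifs <;> simp [map_pow]

theorem map_j3B (Z z z' : F9) : σ (j3B F Z z z') = j3B GF4 Z z z' := by
  simp only [j3B, Matrix.of_apply]
  split_ifs <;> simp

theorem map_j3C (Z z z' : F9) : σ (j3C F Z z z') = j3C GF4 Z z z' := by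
  simp only [j3C, Matrix.of_apply]
  split_ifs <;> simp

variable (hσ : σ ω = GF4.w)
include hσ

theorem psi_j3A (Z : F9) : psi σ (j3A F ω Z) = toMat (genCodes.getD (f9idx Z) 0) := by
  ext i j
  rw [psi_apply, map_j3A, hσ]
  exact of_decide_eq_true (chkA Z i j)

theorem psi_j3E (Z : F9) : psi σ (j3E F ω Z) = toMat (genCodes.getD (9 + f9idx Z) 0) := by
  ext i j
  rw [psi_apply, map_j3E, hσ]
  exact of_decide_eq_true (chkE Z i j)

theorem psi_j3D (Z : F9) : psi σ (j3D F ω Z) = toMat (genCodes.getD (18 + f9idx Z) 0) := by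
  ext i j
  rw [psi_apply, map_j3D, hσ]
  exact of_decide_eq_true (chkD Z i j)

omit hσ in
theorem psi_j3B (Z : F9) (hZ : Z ≠ 0) :
    psi σ (j3B F Z) = toMat (genCodes.getD (26 + f9idx Z) 0) := by
  ext i j
  rw [psi_apply, map_j3B]
  exact of_decide_eq_true (chkB Z hZ i j)

omit hσ in
theorem psi_j3C (Z : F9) (hZ : Z ≠ 0) :
    psi σ (j3C F Z) = toMat (genCodes.getD (34 + f9idx Z) 0) := by
  ext i j
  rw [psi_apply, map_j3C]
  exact of_decide_eq_true (chkC Z hZ i j)

/-- every generator of the definition has one of the listed codes -/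
theorem gens_cover (M : Matrix F9 F9 F) (hM : M ∈ j3Gens F ω) :
    ∃ k < 43, psi σ M = toMat (genCodes.getD k 0) := by
  rcases hM with (((⟨Z, rfl⟩ | ⟨Z, rfl⟩) | ⟨Z, rfl⟩) | ⟨Z, hZ, rfl⟩) | ⟨Z, hZ, rfl⟩
  · exact ⟨_, by have := f9idx_lt Z; omega, psi_j3A ω σ hσ Z⟩
  · exact ⟨_, by have := f9idx_lt Z; omega, psi_j3E ω σ hσ Z⟩
  · exact ⟨_, by have := f9idx_lt Z; omega, psi_j3D ω σ hσ Z⟩
  · exact ⟨_, by have := f9idx_lt Z; omega, psi_j3B σ Z hZ⟩
  · exact ⟨_, by have := f9idx_lt Z; omega, psi_j3C σ Z hZ⟩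

/-- every listed code is the code of a generator of the definition -/
theorem gens_rep (k : ℕ) (hk : k < 43) :
    ∃ M ∈ j3Gens F ω, psi σ M = toMat (genCodes.getD k 0) := by
  rcases Nat.lt_or_ge k 9 with h1 | h1
  · refine ⟨j3A F ω (f9 ⟨k, h1⟩), Or.inl (Or.inl (Or.inl (Or.inl ⟨_, rfl⟩))), ?_⟩
    rw [psi_j3A ω σ hσ, f9idx_f9]
  rcases Nat.lt_or_ge k 18 with h2 | h2
  · refine ⟨j3E F ω (f9 ⟨k - 9, by omega⟩), Or.inl (Or.inl (Or.inl (Or.inr ⟨_, rfl⟩))), ?_⟩
    rw [psi_j3E ω σ hσ, f9idx_f9]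
    congr 3
    simp only []
    omega
  rcases Nat.lt_or_ge k 27 with h3 | h3
  · refine ⟨j3D F ω (f9 ⟨k - 18, by omega⟩), Or.inl (Or.inl (Or.inr ⟨_, rfl⟩)), ?_⟩
    rw [psi_j3D ω σ hσ, f9idx_f9]
    congr 3
    simp only []
    omega
  rcases Nat.lt_or_ge k 35 with h4 | h4
  · have hne : f9 ⟨k - 26, by omega⟩ ≠ 0 := f9_ne_zero _ (by simp only []; omega)
    refine ⟨j3B F (f9 ⟨k - 26, by omega⟩), Or.inl (Or.inr ⟨_, hne, rfl⟩), ?_⟩
    rw [psi_j3B σ _ hne, f9idx_f9]
    congr 3
    simp only []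
    omega
  · have hne : f9 ⟨k - 34, by omega⟩ ≠ 0 := f9_ne_zero _ (by simp only []; omega)
    refine ⟨j3C F (f9 ⟨k - 34, by omega⟩), Or.inr ⟨_, hne, rfl⟩, ?_⟩
    rw [psi_j3C σ _ hne, f9idx_f9]
    congr 3
    simp only []
    omega

/-- the group of the definition is generated by two elements with the matrices `a`, `b` -/
theorem threeJ3_eq : ∃ a0 b0 : GL F9 F, phi0 σ a0 = toMat aCode ∧ phi0 σ b0 = toMat bCode ∧
    threeJ3 F ω = Subgroup.closure {a0, b0} := by
  have hrep : ∀ k < 43, Rep (phi0 σ) (threeJ3 F ω) (genCodes.getD k 0) := by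
    intro k hk
    obtain ⟨M, hM, e⟩ := gens_rep ω σ hσ k hk
    obtain ⟨g, rfl⟩ := unit_of_code σ e (genInv_ok k hk)
    exact ⟨g, Subgroup.subset_closure hM, e⟩
  obtain ⟨fA1, fA2, fA3, fA4, fA5⟩ := slpA_facts
  have hA := rep_of_slp (φ := phi0 σ) (S := threeJ3 F ω) slpA_ok (by
    intro k hk
    rw [fA1 k hk]
    exact hrep k hk)
  obtain ⟨a0, ha0, ea⟩ := hA ixA_a fA4
  obtain ⟨b0, hb0, eb⟩ := hA ixA_b fA5
  rw [fA2] at ea
  rw [fA3] at eb
  obtain ⟨fB1, fB2, fB3⟩ := slpB_facts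
  have hB := rep_of_slp (φ := phi0 σ) (S := Subgroup.closure {a0, b0}) slpB_ok (by
    intro k hk
    interval_cases k
    · rw [fB1]
      exact ⟨a0, Subgroup.subset_closure (Set.mem_insert _ _), ea⟩
    · rw [fB2]
      exact ⟨b0, Subgroup.subset_closure (Set.mem_insert_of_mem _ (Set.mem_singleton _)), eb⟩)
  refine ⟨a0, b0, ea, eb, ?_⟩
  apply le_antisymm
  · rw [threeJ3, Subgroup.closure_le]
    intro g hg
    obtain ⟨k, hk, e⟩ := gens_cover ω σ hσ _ hg
    obtain ⟨g', hg', e'⟩ := hB (ixB.getD k 0) (fB3 k hk).1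
    rw [(fB3 k hk).2] at e'
    have : g = g' := phi0_injective σ (by rw [phi0_apply, e, e'])
    rw [SetLike.mem_coe, this]
    exact hg'
  · rw [Subgroup.closure_le]
    intro g hg
    rcases hg with rfl | rfl
    · exact ha0
    · exact hb0

omit hσ in
/-- the abstract setting of `J3Main` for a subgroup generated by two such elements -/
theorem closure_setup (a0 b0 : GL F9 F) (ea : phi0 σ a0 = toMat aCode)
    (eb : phi0 σ b0 = toMat bCode) :
    ∃ (_ : Finite ↥(Subgroup.closure {a0, b0}))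
      (φ : ↥(Subgroup.closure {a0, b0}) →* Matrix (Fin 9) (Fin 9) GF4)
      (_ : Function.Injective φ) (a b : ↥(Subgroup.closure {a0, b0})),
      φ a = toMat aCode ∧ φ b = toMat bCode ∧ Subgroup.closure {a, b} = ⊤ := by
  have hinj : Function.Injective ((phi0 σ).comp (Subgroup.closure {a0, b0}).subtype) := by
    intro x y h
    exact Subtype.ext (phi0_injective σ h)
  have hfin : Finite ↥(Subgroup.closure {a0, b0}) := Finite.of_injective _ hinj
  have hA' : a0 ∈ Subgroup.closure {a0, b0} := Subgroup.subset_closure (Set.mem_insert _ _)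
  have hB' : b0 ∈ Subgroup.closure {a0, b0} :=
    Subgroup.subset_closure (Set.mem_insert_of_mem _ (Set.mem_singleton _))
  have hgen : Subgroup.closure {(⟨a0, hA'⟩ : ↥(Subgroup.closure {a0, b0})), ⟨b0, hB'⟩} = ⊤ := by
    have h : Subgroup.closure ((Subtype.val : ↥(Subgroup.closure {a0, b0}) → GL F9 F) ⁻¹'
        {a0, b0}) = ⊤ := Subgroup.closure_closure_coe_preimage (k := ({a0, b0} : Set (GL F9 F)))
    rw [← h]
    congr 1
    ext x
    simp only [Set.mem_insert_iff, Set.mem_singleton_iff, Set.mem_preimage, Subtype.ext_iff]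
  exact ⟨hfin, _, hinj, ⟨a0, hA'⟩, ⟨b0, hB'⟩, ea, eb, hgen⟩

/-- the group of the definition -/
theorem threeJ3_facts : Nat.card ↥(Subgroup.center ↥(threeJ3 F ω)) = 3 ∧
    Nat.card ↥(threeJ3 F ω) = 150698880 ∧ Nat.card (J3 F ω) = 50232960 ∧
    IsSimpleGroup (J3 F ω) := by
  obtain ⟨a0, b0, ea, eb, heq⟩ := threeJ3_eq ω σ hσ
  have key : ∀ T : Subgroup (GL F9 F), T = Subgroup.closure {a0, b0} →
      Nat.card ↥(Subgroup.center ↥T) = 3 ∧ Nat.card ↥T = 150698880 ∧
        Nat.card (↥T ⧸ Subgroup.center ↥T) = 50232960 ∧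
        IsSimpleGroup (↥T ⧸ Subgroup.center ↥T) := by
    rintro _ rfl
    obtain ⟨_, φ, hφ, a, b, ha, hb, hgen⟩ := closure_setup σ a0 b0 ea eb
    obtain ⟨r1, r2, r3, r4⟩ := main hφ ha hb hgen
    exact ⟨r2, r1, r4, r3⟩
  exact key _ heq

end Generic2

/-! ### the choice of the isomorphism with `GF4` -/

/-- the Frobenius automorphism of `GF4` -/
def frobGF4 : GF4 ≃+* GF4 where
  toFun x := x * x
  invFun x := x * x
  left_inv := by decide
  right_inv := by decide
  map_mul' := by decide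
  map_add' := by decide

theorem exists_sigma (F : Type*) [Field F] [Fintype F] (hF : Fintype.card F = 4) (ω : F)
    (hω : ω ^ 2 + ω + 1 = 0) : ∃ σ : F ≃+* GF4, σ ω = GF4.w := by
  have h : ((gf4Equiv F hF).symm ω) ^ 2 + (gf4Equiv F hF).symm ω + 1 = 0 := by
    rw [← map_pow, ← map_add, ← map_one (gf4Equiv F hF).symm, ← map_add, hω, map_zero]
  rcases GF4.root_cases _ h with h1 | h1
  · exact ⟨(gf4Equiv F hF).symm, h1⟩
  · refine ⟨(gf4Equiv F hF).symm.trans frobGF4, ?_⟩
    rw [RingEquiv.trans_apply, h1]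
    rfl

end Cfsg.Agent.Helper98.J3
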