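import Cfsg.Agent.Helper98.J3Chk
import Cfsg.Agent.Helper98.J3Data40

/-!
# Packed vectors over `GF4`: isotropy, proportionality, and the checks for the orbit of `3·J₃` on
isotropic vectors
-/

set_option autoImplicit false

namespace Cfsg.Agent.Helper98.J3

open Cfsg.Agent.Helper27

/-! ### scalar multiples -/

theorem toVec_wRow {r : ℕ} (hr : r < 2 ^ 18) : toVec (wRow r) = GF4.w • toVec r := by
  funext j
  rw [Pi.smul_apply, smul_eq_mul]
  exact entRow_wRow hr j.isLt

theorem toVec_zero : toVec 0 = 0 := by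
  funext j
  exact entRow_zero j.val

/-- `x` is one of the three nonzero multiples of `z` -/
def propB (x z : ℕ) : Bool :=
  Nat.beq x z || (Nat.beq x (wRowR z) || Nat.beq x (wRowR (wRowR z)))

theorem propB_spec {x z : ℕ} (h : propB x z = true) (hz : z < 2 ^ 18) :
    ∃ c : GF4, c ≠ 0 ∧ toVec x = c • toVec z := by
  simp only [propB, Bool.or_eq_true, wRowR_eq] at h
  rcases h with h | h | h
  · exact ⟨1, by decide, by rw [Nat.eq_of_beq_eq_true h, one_smul]⟩
  · exact ⟨GF4.w, by decide, by rw [Nat.eq_of_beq_eq_true h, toVec_wRow hz]⟩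
  · exact ⟨GF4.w * GF4.w, by decide,
      by rw [Nat.eq_of_beq_eq_true h, toVec_wRow (wRow_lt hz), toVec_wRow hz, smul_smul]⟩

/-! ### isotropy -/

/-- entry `j` of the packed row is nonzero -/
def nzBit (r j : ℕ) : Bool := r.testBit j || r.testBit (9 + j)

/-- the number of nonzero entries is even -/
def isoB (r : ℕ) : Bool :=
  !(nzBit r 0 ^^ nzBit r 1 ^^ nzBit r 2 ^^ nzBit r 3 ^^ nzBit r 4 ^^ nzBit r 5 ^^ nzBit r 6 ^^
    nzBit r 7 ^^ nzBit r 8)

theorem entRow_pow_three (r j : ℕ) : (entRow r j) ^ 3 = if nzBit r j then 1 else 0 := by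
  rw [entRow, nzBit]
  cases r.testBit (9 + j) <;> cases r.testBit j <;> decide

theorem entRow_eq_zero_iff (r j : ℕ) : entRow r j = 0 ↔ nzBit r j = false := by
  rw [entRow, nzBit]
  cases r.testBit (9 + j) <;> cases r.testBit j <;> decide

theorem isoB_iff (r : ℕ) : isoB r = true ↔ ∑ j : Fin 9, (toVec r j) ^ 3 = 0 := by
  have key : ∀ b0 b1 b2 b3 b4 b5 b6 b7 b8 : Bool,
      (!(b0 ^^ b1 ^^ b2 ^^ b3 ^^ b4 ^^ b5 ^^ b6 ^^ b7 ^^ b8)) = true ↔
        ((if b0 then (1 : GF4) else 0) + (if b1 then 1 else 0) + (if b2 then 1 else 0) +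
          (if b3 then 1 else 0) + (if b4 then 1 else 0) + (if b5 then 1 else 0) +
          (if b6 then 1 else 0) + (if b7 then 1 else 0) + (if b8 then 1 else 0)) = 0 := by
    decide
  have h : ∑ j : Fin 9, (toVec r j) ^ 3 = ∑ j ∈ Finset.range 9, (entRow r j) ^ 3 :=
    Fin.sum_univ_eq_sum_range (fun j => (entRow r j) ^ 3) 9
  rw [h]
  simp only [Finset.sum_range_succ, Finset.sum_range_zero, zero_add, entRow_pow_three]
  exact key _ _ _ _ _ _ _ _ _

/-- the word of the nonzero entries -/
def nzWord (r : ℕ) : ℕ := Nat.land (Nat.lor r (Nat.shiftRight r 9)) 511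

theorem nzWord_eq (r : ℕ) : nzWord r = (r ||| r >>> 9) &&& 511 := rfl

theorem nzWord_lt (r : ℕ) : nzWord r < 512 := by
  have h511 : (511 : ℕ) = 2 ^ 9 - 1 := by norm_num
  rw [nzWord_eq, h511, Nat.and_two_pow_sub_one_eq_mod]
  exact Nat.mod_lt _ (by norm_num)

theorem testBit_nzWord (r : ℕ) {j : ℕ} (hj : j < 9) : (nzWord r).testBit j = nzBit r j := by
  have h511 : (511 : ℕ) = 2 ^ 9 - 1 := by norm_num
  rw [nzWord_eq, Nat.testBit_and, Nat.testBit_or, Nat.testBit_shiftRight, h511,
    Nat.testBit_two_pow_sub_one, nzBit]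
  simp [hj]

/-- bit `n` is the parity of the number of ones of `n`, for `n < 512` -/
def parTbl : ℕ :=
  7877703466965951741784356862959128443265788382021580589009765834561689170293574700951863729220303088751879007905492507289381878411509378061636115163081110

set_option maxRecDepth 100000 in
theorem parTbl_spec : ∀ n < 512, parTbl.testBit n =
    (n.testBit 0 ^^ n.testBit 1 ^^ n.testBit 2 ^^ n.testBit 3 ^^ n.testBit 4 ^^ n.testBit 5 ^^
      n.testBit 6 ^^ n.testBit 7 ^^ n.testBit 8) := by
  decide +kernel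

/-- the number of nonzero entries is even, at the level of words -/
def isoW (r : ℕ) : Bool := withNat (nzWord r) fun n => !(Nat.testBit parTbl n)

theorem isoW_eq (r : ℕ) : isoW r = isoB r := by
  rw [isoW, withNat_eq, parTbl_spec _ (nzWord_lt r), isoB]
  simp only [testBit_nzWord r (by norm_num : 0 < 9), testBit_nzWord r (by norm_num : 1 < 9),
    testBit_nzWord r (by norm_num : 2 < 9), testBit_nzWord r (by norm_num : 3 < 9),
    testBit_nzWord r (by norm_num : 4 < 9), testBit_nzWord r (by norm_num : 5 < 9),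
    testBit_nzWord r (by norm_num : 6 < 9), testBit_nzWord r (by norm_num : 7 < 9),
    testBit_nzWord r (by norm_num : 8 < 9)]

/-! ### the action of a matrix on a column vector, by the transposed code -/

theorem toVec_rowMul {s sT : ℕ}
    (hT : ∀ i j : Fin 9, entRow (rowOf sT i.val) j.val = entRow (rowOf s j.val) i.val) (r : ℕ) :
    toVec (rowMul r sT) = Matrix.mulVec (toMat s) (toVec r) := by
  funext j
  rw [toVec, entRow_rowMul _ _ j.isLt, Matrix.mulVec, dotProduct]
  apply Finset.sum_congr rfl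
  intro k _
  rw [hT k j, mul_comm]
  rfl

/-- the row-times-matrix product by the all-rows product -/
def rowMulW (r B : ℕ) : ℕ := Nat.land (prodCode r B) 262143

theorem rowMulW_eq {r : ℕ} (hr : r < 2 ^ 18) (B : ℕ) : rowMulW r B = rowMul r B := by
  have h1 : rowMulW r B = rowOf (prodCode r B) 0 := by
    rw [rowOf, rowMulW]
    rfl
  have h2 : rowOf r 0 = r := by
    rw [rowOf_eq_div_mod]
    simp only [Nat.mul_zero, pow_zero, Nat.div_one]
    exact Nat.mod_eq_of_lt hr
  rw [h1, rowOf_prodCode r B (by norm_num : 0 < 9), h2]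

/-- every vector has a code -/
theorem exists_code (u : Fin 9 → GF4) : ∃ k < 2 ^ 18, toVec k = u := by
  let f : Fin (2 ^ 18) → (Fin 9 → GF4) := fun k => toVec k.val
  have hinj : Function.Injective f := fun x y h => Fin.ext (toVec_inj x.isLt y.isLt h)
  have hcard : Fintype.card (Fin (2 ^ 18)) = Fintype.card (Fin 9 → GF4) := by
    rw [Fintype.card_fin, Fintype.card_fun, GF4.card_eq, Fintype.card_fin]
    norm_num
  obtain ⟨k, hk⟩ := ((Fintype.bijective_iff_injective_and_card f).2 ⟨hinj, hcard⟩).2 u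
  exact ⟨k.val, k.isLt, hk⟩

/-! ### the table of isotropic vectors -/

/-- the chunks of the table -/
def isoChunks : List ℕ := [isoBig0, isoBig1, isoBig2, isoBig3, isoBig4]

/-- entry `i` of the table -/
def isoT (i : ℕ) : ℕ := fld (isoChunks.getD (Nat.div i 8721) 0) 18 (Nat.mod i 8721)

theorem isoT_lt (i : ℕ) : isoT i < 2 ^ 18 := fld_lt _ _ _

/-- each entry is proportional to the image of an earlier one under one of the two generators -/
def isoTreeOK (lo len : ℕ) : Bool :=
  (List.range' lo len).all fun i =>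
    (i == 0) || withNat (fld isoPar 16 i) fun p =>
      decide (p < i) &&
        withNat (isoT i) fun x => withNat (isoT p) fun y =>
          withNat (if isoPg.testBit i then bTCode else aTCode) fun B =>
            withNat (rowMulW y B) fun z => propB x z

theorem isoTreeOK_spec {lo len : ℕ} (h : isoTreeOK lo len = true) (i : ℕ) (h1 : lo ≤ i)
    (h2 : i < lo + len) (hi : i ≠ 0) :
    fld isoPar 16 i < i ∧
      propB (isoT i) (rowMul (isoT (fld isoPar 16 i))
        (if isoPg.testBit i then bTCode else aTCode)) = true := by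
  simp only [isoTreeOK, List.all_eq_true, List.mem_range'_1, withNat_eq, Bool.and_eq_true,
    decide_eq_true_eq, Bool.or_eq_true, beq_iff_eq] at h
  rcases h i ⟨h1, h2⟩ with h4 | h4
  · exact absurd h4 hi
  · rw [rowMulW_eq (isoT_lt _)] at h4
    exact h4

/-- the chunks of the index -/
def idxChunks : List ℕ := [isoIdx0, isoIdx1, isoIdx2, isoIdx3, isoIdx4, isoIdx5, isoIdx6, isoIdx7,
  isoIdx8, isoIdx9, isoIdx10, isoIdx11, isoIdx12, isoIdx13, isoIdx14, isoIdx15]

/-- every nonzero isotropic code in chunk `q` of the index is proportional to a table entry -/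
def isoAllOK (q lo len : ℕ) : Bool :=
  withNat (idxChunks.getD q 0) fun C =>
    (List.range' lo len).all fun t =>
      withNat (Nat.add (Nat.mul 16384 q) t) fun k =>
        (k == 0) || !isoW k ||
          withNat (fld C 16 t) fun j => decide (j < 43605) && withNat (isoT j) fun x => propB x k

theorem isoAllOK_spec {q lo len : ℕ} (h : isoAllOK q lo len = true) (t : ℕ) (h1 : lo ≤ t)
    (h2 : t < lo + len) (hk : 16384 * q + t ≠ 0) (hiso : isoB (16384 * q + t) = true) :
    ∃ j < 43605, propB (isoT j) (16384 * q + t) = true := by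
  simp only [isoAllOK, List.all_eq_true, List.mem_range'_1, withNat_eq, Bool.and_eq_true,
    decide_eq_true_eq, Bool.or_eq_true, beq_iff_eq, Bool.not_eq_true', isoW_eq] at h
  have e : Nat.add (Nat.mul 16384 q) t = 16384 * q + t := rfl
  rcases h t ⟨h1, h2⟩ with (h3 | h3) | h3
  · rw [e] at h3; exact absurd h3 hk
  · rw [e, hiso] at h3; cases h3
  · rw [e] at h3
    exact ⟨_, h3.1, h3.2⟩

/-! ### the first column of a matrix code -/

/-- the entries `(k, 0)` with `1 ≤ k` vanish -/
def colZ (A : ℕ) : Bool :=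
  (List.range' 1 8).all fun k => withNat (rowOf A k) fun r => !(nzBit r 0)

theorem colZ_spec {A : ℕ} : colZ A = true ↔ ∀ k, 1 ≤ k → k < 9 → entRow (rowOf A k) 0 = 0 := by
  simp only [colZ, List.all_eq_true, List.mem_range'_1, withNat_eq, Bool.not_eq_true',
    entRow_eq_zero_iff]
  constructor
  · intro h k h1 h2
    exact h k ⟨h1, by omega⟩
  · intro h k hk
    exact h k hk.1 (by omega)

end Cfsg.Agent.Helper98.J3
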