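import Cfsg.Agent.Helper98.J3Str
import Cfsg.Agent.Helper98.J3Gen
import Cfsg.Prelude.Def_Spor_J3

/-!
# The centraliser of an involution of `J₃`, for the group of the definition
-/

set_option autoImplicit false
set_option linter.unusedSectionVars false

namespace Cfsg.Agent.Helper98.J3

open Cfsg Cfsg.Spor Cfsg.Agent.Helper27

section

variable {K : Type*} [Group K] [Finite K] {φ : K →* Matrix (Fin 9) (Fin 9) GF4}
  (hφ : Function.Injective φ) {a b : K} (ha : φ a = toMat aCode) (hb : φ b = toMat bCode)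
  (hgen : Subgroup.closure {a, b} = (⊤ : Subgroup K))

include hφ ha hb hgen

/-- the involutions of `3·J₃` modulo its centre, and the centraliser of one of them -/
theorem centralizer_structure_K :
    (∀ x y : K ⧸ Subgroup.center K, orderOf x = 2 → orderOf y = 2 → IsConj x y) ∧
    ∃ t : K ⧸ Subgroup.center K, orderOf t = 2 ∧
      ∃ (Q : Subgroup ↥(Subgroup.centralizer ({t} : Set (K ⧸ Subgroup.center K))))
        (_ : Q.Normal),
        Cfsg.IsExtraspecial 2 Q ∧ Nat.card Q = 32 ∧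
        (∀ E' : Subgroup Q, Cfsg.IsElementaryAbelian 2 E' → Nat.card E' ≤ 2 ^ 2) ∧
        (∃ H' : Subgroup ↥(Subgroup.centralizer ({t} : Set (K ⧸ Subgroup.center K))),
          Q.IsComplement' H') ∧
        Nonempty (↥(Subgroup.centralizer ({t} : Set (K ⧸ Subgroup.center K))) ⧸ Q ≃*
          ↥(alternatingGroup (Fin 5))) := by
  obtain ⟨r1, r2, r3, r4⟩ := main hφ ha hb hgen
  obtain ⟨E, H, hs, hE, haE, hEC, hnorm, hsq, hcomm, hcen, hnoE8, hH, hHC, hHgen, hHcomm, hdisj⟩ :=
    local_data2 hφ ha hb hgen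
  have oa := order_a hφ ha
  have ha2 : a ^ 2 = 1 := by rw [← oa]; exact pow_orderOf_eq_one a
  have ha1 : a ≠ 1 := by
    rintro rfl
    rw [orderOf_one] at oa
    omega
  exact centralizer_structure (QuotientGroup.mk' (Subgroup.center K))
    (QuotientGroup.mk'_surjective _) (QuotientGroup.ker_mk' _) r2 a ha2 ha1
    (involution_conj hφ ha hb hgen) (card_centralizer_a hφ ha hb hgen) E H hs hE haE hEC hnorm
    hsq hcomm hcen hnoE8 hH hHC hHgen hHcomm hdisj

end

/-- the involutions of `J₃ F ω` and the centraliser of one of them -/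
theorem threeJ3_centralizer {F : Type*} [Field F] (ω : F) (σ : F ≃+* GF4) (hσ : σ ω = GF4.w) :
    (∀ x y : J3 F ω, orderOf x = 2 → orderOf y = 2 → IsConj x y) ∧
    ∃ t : J3 F ω, orderOf t = 2 ∧
      ∃ (Q : Subgroup ↥(Subgroup.centralizer ({t} : Set (J3 F ω)))) (_ : Q.Normal),
        Cfsg.IsExtraspecial 2 Q ∧ Nat.card Q = 32 ∧
        (∀ E' : Subgroup Q, Cfsg.IsElementaryAbelian 2 E' → Nat.card E' ≤ 2 ^ 2) ∧
        (∃ H' : Subgroup ↥(Subgroup.centralizer ({t} : Set (J3 F ω))), Q.IsComplement' H') ∧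
        Nonempty (↥(Subgroup.centralizer ({t} : Set (J3 F ω))) ⧸ Q ≃*
          ↥(alternatingGroup (Fin 5))) := by
  obtain ⟨a0, b0, ea, eb, heq⟩ := threeJ3_eq ω σ hσ
  have key : ∀ U : Subgroup (GL F9 F), U = Subgroup.closure {a0, b0} →
      ((∀ x y : ↥U ⧸ Subgroup.center ↥U, orderOf x = 2 → orderOf y = 2 → IsConj x y) ∧
      ∃ t : ↥U ⧸ Subgroup.center ↥U, orderOf t = 2 ∧
        ∃ (Q : Subgroup ↥(Subgroup.centralizer ({t} : Set (↥U ⧸ Subgroup.center ↥U))))
          (_ : Q.Normal),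
          Cfsg.IsExtraspecial 2 Q ∧ Nat.card Q = 32 ∧
          (∀ E' : Subgroup Q, Cfsg.IsElementaryAbelian 2 E' → Nat.card E' ≤ 2 ^ 2) ∧
          (∃ H' : Subgroup ↥(Subgroup.centralizer ({t} : Set (↥U ⧸ Subgroup.center ↥U))),
            Q.IsComplement' H') ∧
          Nonempty (↥(Subgroup.centralizer ({t} : Set (↥U ⧸ Subgroup.center ↥U))) ⧸ Q ≃*
            ↥(alternatingGroup (Fin 5)))) := by
    rintro _ rfl
    obtain ⟨_, φ, hφ, a, b, ha, hb, hgen⟩ := closure_setup σ a0 b0 ea eb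
    exact centralizer_structure_K hφ ha hb hgen
  exact key _ heq

end Cfsg.Agent.Helper98.J3
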