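import Mathlib
import Cfsg.Agent.Lib.Nilpotent

/-!
# Group-theoretic lemmas for the verification of `3·J₃`

Coset covers, injectivity from sorted keys, and a simplicity criterion for a central quotient by
normal-closure certificates on central elements of Sylow subgroups.
-/

set_option autoImplicit false

namespace Cfsg.Agent.Helper98.J3

section cover

variable {M : Type*} [Group M] [Finite M]

/-- If the cosets `U i * H` are permuted by left multiplication with the generators, they cover
the generated group. -/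
theorem coset_cover (S : Set M) (H : Subgroup M) {n : ℕ} (U : Fin n → M) (z : Fin n)
    (hUz : U z ∈ H) (hstep : ∀ s ∈ S, ∀ i, ∃ j, ∃ h ∈ H, s * U i = U j * h) :
    ∀ g ∈ Subgroup.closure S, ∃ i, ∃ h ∈ H, g = U i * h := by
  have hfin : ∀ s ∈ S, IsOfFinOrder s := fun s _ => isOfFinOrder_of_finite s
  have key : ∀ g ∈ Submonoid.closure S, ∃ i, ∃ h ∈ H, g = U i * h := by
    intro g hg
    induction hg using Submonoid.closure_induction_left with
    | one => exact ⟨z, (U z)⁻¹, H.inv_mem hUz, by group⟩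
    | mul_left s hs y _ ih =>
      obtain ⟨i, h, hh, rfl⟩ := ih
      obtain ⟨j, h', hh', e⟩ := hstep s hs i
      exact ⟨j, h' * h, H.mul_mem hh' hh, by rw [← mul_assoc, e, mul_assoc]⟩
  intro g hg
  apply key
  rw [← Subgroup.closure_toSubmonoid_of_isOfFinOrder hfin]
  exact hg

/-- induction over a finite generated group by left multiplication with generators -/
theorem closure_left_induction (S : Set M) (p : M → Prop) (h1 : p 1)
    (hmul : ∀ s ∈ S, ∀ y, p y → p (s * y)) : ∀ g ∈ Subgroup.closure S, p g := by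
  have hfin : ∀ s ∈ S, IsOfFinOrder s := fun s _ => isOfFinOrder_of_finite s
  have key : ∀ g ∈ Submonoid.closure S, p g := by
    intro g hg
    induction hg using Submonoid.closure_induction_left with
    | one => exact h1
    | mul_left s hs y _ ih => exact hmul s hs y ih
  intro g hg
  apply key
  rw [← Subgroup.closure_toSubmonoid_of_isOfFinOrder hfin]
  exact hg

end cover

/-- keys that are strictly increasing along a sorting map are pairwise distinct -/
theorem inj_of_sorted (Kf sg : ℕ → ℕ) (n : ℕ)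
    (h : ∀ k, k + 1 < n → sg k < n ∧ sg (k + 1) < n ∧ Kf (sg k) < Kf (sg (k + 1)))
    {i j : ℕ} (hi : i < n) (hj : j < n) (e : Kf i = Kf j) : i = j := by
  rcases Nat.lt_or_ge n 2 with hn | hn
  · omega
  have hs : ∀ k, k < n → sg k < n := by
    intro k hk
    rcases Nat.lt_or_ge (k + 1) n with h1 | h1
    · exact (h k h1).1
    · have : k = (k - 1) + 1 := by omega
      rw [this]
      exact (h (k - 1) (by omega)).2.1
  let σ : Fin n → Fin n := fun k => ⟨sg k.val, hs k.val k.isLt⟩
  have hmono : StrictMono (fun k : Fin n => Kf (σ k).val) := by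
    have : n = (n - 1) + 1 := by omega
    revert σ hs h hi hj
    generalize n - 1 = m at this
    subst this
    intro h hi hj hs σ
    rw [Fin.strictMono_iff_lt_succ]
    intro k
    exact (h k.val (by have := k.isLt; omega)).2.2
  have hσinj : Function.Injective σ := by
    intro x y hxy
    apply hmono.injective
    show Kf (σ x).val = Kf (σ y).val
    rw [hxy]
  have hσsurj : Function.Surjective σ := Finite.injective_iff_surjective.1 hσinj
  obtain ⟨x, hx⟩ := hσsurj ⟨i, hi⟩
  obtain ⟨y, hy⟩ := hσsurj ⟨j, hj⟩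
  have hxy : x = y := by
    apply hmono.injective
    show Kf (σ x).val = Kf (σ y).val
    rw [hx, hy]
    exact e
  have := congrArg Fin.val (hx.symm.trans ((congrArg σ hxy).trans hy))
  exact this

/-! ### simplicity criteria -/

/-- A finite group is simple if for every prime `p` there is a `p`-subgroup of index prime to `p`
all of whose nonidentity central elements have the whole group as normal closure. -/
theorem isSimpleGroup_of_sylow_center_cert {G : Type*} [Group G] [Finite G] [Nontrivial G]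
    (h : ∀ p : ℕ, p.Prime → p ∣ Nat.card G → ∃ P : Subgroup G, IsPGroup p P ∧ ¬ p ∣ P.index ∧
      ∀ z ∈ P, z ≠ 1 → (∀ y ∈ P, y * z = z * y) → Subgroup.normalClosure {z} = ⊤) :
    IsSimpleGroup G := by
  refine ⟨fun N hN => ?_⟩
  by_contra hcon
  push Not at hcon
  obtain ⟨hbot, htop⟩ := hcon
  have hcard : Nat.card N ≠ 1 := fun h1 => hbot (Subgroup.card_eq_one.1 h1)
  obtain ⟨p, hp, hpN⟩ := Nat.exists_prime_and_dvd hcard
  have hpG : p ∣ Nat.card G := hpN.trans (Subgroup.card_subgroup_dvd_card N)
  obtain ⟨P, hP1, hP2, hP3⟩ := h p hp hpG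
  have : Fact p.Prime := ⟨hp⟩
  obtain ⟨z, hz⟩ := exists_prime_orderOf_dvd_card' p hpN
  have hzG : orderOf (z : G) = p := by rw [Subgroup.orderOf_coe, hz]
  have hZ : IsPGroup p (Subgroup.zpowers (z : G)) :=
    IsPGroup.of_card (n := 1) (by rw [Nat.card_zpowers, hzG, pow_one])
  obtain ⟨Q, hQ⟩ := hZ.exists_le_sylow
  obtain ⟨g, hg⟩ := MulAction.exists_smul_eq G Q (hP1.toSylow hP2)
  have hzQ : (z : G) ∈ (Q : Subgroup G) := hQ (Subgroup.mem_zpowers _)
  have hw : g * (z : G) * g⁻¹ ∈ P := by
    have h1 : g * (z : G) * g⁻¹ ∈ ((g • Q : Sylow p G) : Subgroup G) := by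
      rw [Sylow.coe_subgroup_smul]
      have := Subgroup.smul_mem_pointwise_smul (z : G) (MulAut.conj g) (Q : Subgroup G) hzQ
      simpa [MulAut.smul_def] using this
    rw [hg] at h1
    exact h1
  have hw1 : g * (z : G) * g⁻¹ ≠ 1 := by
    intro h1
    have : (z : G) = 1 := by
      have := congrArg (fun t => g⁻¹ * t * g) h1
      simpa [mul_assoc] using this
    rw [this, orderOf_one] at hzG
    exact hp.one_lt.ne hzG
  have hwN : g * (z : G) * g⁻¹ ∈ N := hN.conj_mem _ z.2 g
  -- the normal subgroup `N ∩ P` of `P` meets the centre of `P`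
  haveI : Finite ↥P := inferInstance
  haveI : Group.IsNilpotent ↥P := hP1.isNilpotent
  let M : Subgroup ↥P := N.subgroupOf P
  haveI : M.Normal := hN.subgroupOf P
  have hM : M ≠ ⊥ := by
    intro hM
    have : (⟨g * (z : G) * g⁻¹, hw⟩ : ↥P) ∈ M := Subgroup.mem_subgroupOf.2 hwN
    rw [hM, Subgroup.mem_bot] at this
    exact hw1 (congrArg Subtype.val this)
  have hMc := Cfsg.Agent.Lib.normal_inf_center_ne_bot M hM
  obtain ⟨⟨⟨x, hxP⟩, hxm⟩, hx1⟩ :=
    (Subgroup.ne_bot_iff_exists_ne_one (H := M ⊓ Subgroup.center ↥P)).1 hMc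
  -- unpack: `x` is a nonidentity element of `N ∩ P` central in `P`
  obtain ⟨hxN, hxc⟩ := Subgroup.mem_inf.1 hxm
  have hxN' : x ∈ N := Subgroup.mem_subgroupOf.1 hxN
  have hx1' : x ≠ 1 := by
    intro h1
    apply hx1
    apply Subtype.ext
    apply Subtype.ext
    exact h1
  have hxc' : ∀ y ∈ P, y * x = x * y := by
    intro y hy
    have := Subgroup.mem_center_iff.1 hxc ⟨y, hy⟩
    exact congrArg Subtype.val this
  have := hP3 x hxP hx1' hxc'
  apply htop
  rw [eq_top_iff, ← this]
  exact Subgroup.normalClosure_le_normal (Set.singleton_subset_iff.2 hxN')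

/-- Simplicity of a central quotient `K ⧸ Z` from certificates in `K`. -/
theorem simple_quotient_cert {K : Type*} [Group K] [Finite K] (Z : Subgroup K) [Z.Normal]
    [Nontrivial (K ⧸ Z)]
    (h : ∀ p : ℕ, p.Prime → p ∣ Nat.card (K ⧸ Z) → ∃ P : Subgroup K, IsPGroup p P ∧
      ¬ p ∣ (P ⊔ Z).index ∧
      ∀ z ∈ P, z ∉ Z → (∀ y ∈ P, ∃ c ∈ Z, y * z = c * (z * y)) →
        Subgroup.normalClosure {z} = ⊤) :
    IsSimpleGroup (K ⧸ Z) := by
  apply isSimpleGroup_of_sylow_center_cert
  intro p hp hdvd
  obtain ⟨P, hP1, hP2, hP3⟩ := h p hp hdvd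
  refine ⟨P.map (QuotientGroup.mk' Z), hP1.map _, ?_, ?_⟩
  · rw [Subgroup.index_map, QuotientGroup.ker_mk', QuotientGroup.range_mk', Subgroup.index_top,
      mul_one]
    exact hP2
  · rintro _ ⟨z, hz, rfl⟩ hz1 hcen
    have hzZ : z ∉ Z := by
      intro hzZ
      apply hz1
      exact (QuotientGroup.eq_one_iff z).2 hzZ
    have hc : ∀ y ∈ P, ∃ c ∈ Z, y * z = c * (z * y) := by
      intro y hy
      have h1 := hcen (QuotientGroup.mk' Z y) ⟨y, hy, rfl⟩
      rw [← map_mul, ← map_mul] at h1
      refine ⟨(y * z) * (z * y)⁻¹, ?_, by group⟩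
      rw [← QuotientGroup.eq_one_iff]
      show QuotientGroup.mk' Z ((y * z) * (z * y)⁻¹) = 1
      rw [map_mul, map_inv, h1, mul_inv_cancel]
    have h2 := hP3 z hz hzZ hc
    have h3 := Subgroup.map_normalClosure {z} (QuotientGroup.mk' Z) (QuotientGroup.mk'_surjective Z)
    rw [h2, Set.image_singleton] at h3
    rw [← h3, ← MonoidHom.range_eq_map, QuotientGroup.range_mk']

/-- the certificate for a cyclic Sylow subgroup of prime order -/
theorem cyclic_cert {K : Type*} [Group K] {p : ℕ} (hp : p.Prime) (e : K) (he : orderOf e = p)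
    (hNC : Subgroup.normalClosure {e} = ⊤) :
    ∀ z ∈ Subgroup.zpowers e, z ≠ 1 → Subgroup.normalClosure {z} = ⊤ := by
  intro z hz hz1
  have : Fact p.Prime := ⟨hp⟩
  have hzp : z ^ p = 1 := by
    obtain ⟨k, rfl⟩ := Subgroup.mem_zpowers_iff.1 hz
    rw [← zpow_natCast, ← zpow_mul, mul_comm, zpow_mul, zpow_natCast, ← he,
      pow_orderOf_eq_one, one_zpow]
  have hoz : orderOf z = p := by
    rcases (Nat.dvd_prime hp).1 (orderOf_dvd_of_pow_eq_one hzp) with h1 | h1
    · exact absurd (orderOf_eq_one_iff.1 h1) hz1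
    · exact h1
  have hle : Subgroup.zpowers z ≤ Subgroup.zpowers e := by
    rw [Subgroup.zpowers_le]; exact hz
  have hfin : (Subgroup.zpowers e : Set K).Finite := by
    have : Finite ↥(Subgroup.zpowers e) := by
      apply Nat.finite_of_card_ne_zero
      rw [Nat.card_zpowers, he]
      exact hp.ne_zero
    exact Set.toFinite _
  have heq : Subgroup.zpowers z = Subgroup.zpowers e := by
    have : Finite ↥(Subgroup.zpowers e) := hfin
    exact Subgroup.eq_of_le_of_card_ge hle (by rw [Nat.card_zpowers, Nat.card_zpowers, hoz, he])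
  have hez : e ∈ Subgroup.normalClosure ({z} : Set K) := by
    have h1 : Subgroup.zpowers z ≤ Subgroup.normalClosure ({z} : Set K) := by
      rw [Subgroup.zpowers_le]; exact Subgroup.subset_normalClosure (Set.mem_singleton z)
    apply h1
    rw [heq]; exact Subgroup.mem_zpowers e
  rw [eq_top_iff, ← hNC]
  exact Subgroup.normalClosure_le_normal (Set.singleton_subset_iff.2 hez)

end Cfsg.Agent.Helper98.J3
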