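import Mathlib

/-!
Spectrum (set of element orders) of a semidirect product `V ⋊ C` of an elementary abelian `p`-group `V`
by a group `C` acting "fixed-point-freely" (in the form: `w ↦ w / c • w` is surjective for `c ≠ 1`).
-/

set_option autoImplicit false

namespace Cfsg.Agent.Helper98.FrobSpec

open SemidirectProduct

variable {N C : Type*} [Group N] [Group C] (φ : C →* MulAut N)

/-- if `w ↦ w * (φ c w)⁻¹` is onto, then every `(v, c)` is conjugate to `(1, c)` -/
theorem exists_conj_eq (c : C) (v : N) (h : ∃ w : N, w * (φ c w)⁻¹ = v) :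
    ∃ g : N ⋊[φ] C, g * inr c * g⁻¹ = ⟨v, c⟩ := by
  obtain ⟨w, hw⟩ := h
  refine ⟨inl w, ?_⟩
  ext
  · simp [← hw]
  · simp

theorem orderOf_mk_of_surj (c : C) (v : N) (h : ∃ w : N, w * (φ c w)⁻¹ = v) :
    orderOf (⟨v, c⟩ : N ⋊[φ] C) = orderOf c := by
  obtain ⟨g, hg⟩ := exists_conj_eq φ c v h
  rw [← hg]
  have h1 : g * inr c * g⁻¹ = MulAut.conj g (inr c) := by simp [MulAut.conj_apply]
  rw [h1, MulEquiv.orderOf_eq]
  exact orderOf_injective (inr : C →* N ⋊[φ] C) inr_injective c

theorem orderOf_mk_one (v : N) : orderOf (⟨v, 1⟩ : N ⋊[φ] C) = orderOf v := by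
  have : (⟨v, 1⟩ : N ⋊[φ] C) = inl v := by ext <;> simp
  rw [this]
  exact orderOf_injective (inl : N →* N ⋊[φ] C) inl_injective v

/-- the spectrum of `N ⋊ C` when `N` has prime exponent `p` and `C` acts freely -/
theorem range_orderOf (p : ℕ) (hN : ∀ v : N, v ≠ 1 → orderOf v = p) (hnt : ∃ v : N, v ≠ 1)
    (hfree : ∀ c : C, c ≠ 1 → ∀ v : N, ∃ w : N, w * (φ c w)⁻¹ = v) :
    Set.range (orderOf : N ⋊[φ] C → ℕ) = insert p (Set.range (orderOf : C → ℕ)) := by
  ext k
  constructor
  · rintro ⟨⟨v, c⟩, rfl⟩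
    by_cases hc : c = 1
    · subst hc
      rw [orderOf_mk_one]
      by_cases hv : v = 1
      · right
        exact ⟨1, by rw [hv, orderOf_one, orderOf_one]⟩
      · left
        exact hN v hv
    · right
      exact ⟨c, (orderOf_mk_of_surj φ c v (hfree c hc v)).symm⟩
  · rintro (rfl | ⟨c, rfl⟩)
    · obtain ⟨v, hv⟩ := hnt
      exact ⟨⟨v, 1⟩, by rw [orderOf_mk_one, hN v hv]⟩
    · exact ⟨inr c, orderOf_injective (inr : C →* N ⋊[φ] C) inr_injective c⟩

theorem isSolvable [Group.IsSolvable C] (hcomm : ∀ a b : N, a * b = b * a) :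
    Group.IsSolvable (N ⋊[φ] C) := by
  have : Group.IsSolvable N := Group.isSolvable_of_comm hcomm
  exact Group.isSolvable_of_ker_le_range (inl : N →* N ⋊[φ] C) rightHom
    (le_of_eq range_inl_eq_ker_rightHom.symm)


section linear

variable (n p : ℕ)

/-- the additive automorphism of `(Z/p)^n` given by an invertible matrix -/
def vecAddEquiv (g : Matrix.GeneralLinearGroup (Fin n) (ZMod p)) :
    (Fin n → ZMod p) ≃+ (Fin n → ZMod p) where
  toFun v := g.1.mulVec v
  invFun v := (g⁻¹).1.mulVec v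
  left_inv v := by
    change (g⁻¹).1.mulVec (g.1.mulVec v) = v
    rw [Matrix.mulVec_mulVec, ← Units.val_mul, inv_mul_cancel, Units.val_one, Matrix.one_mulVec]
  right_inv v := by
    change g.1.mulVec ((g⁻¹).1.mulVec v) = v
    rw [Matrix.mulVec_mulVec, ← Units.val_mul, mul_inv_cancel, Units.val_one, Matrix.one_mulVec]
  map_add' v w := Matrix.mulVec_add _ v w

/-- the action of `GL_n(Z/p)` on the multiplicative copy of `(Z/p)^n` -/
def glAut : Matrix.GeneralLinearGroup (Fin n) (ZMod p) →*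
    MulAut (Multiplicative (Fin n → ZMod p)) where
  toFun g := AddEquiv.toMultiplicative (vecAddEquiv n p g)
  map_one' := by
    apply MulEquiv.ext
    intro v
    change Multiplicative.ofAdd ((1 : Matrix (Fin n) (Fin n) (ZMod p)).mulVec v.toAdd) = v
    rw [Matrix.one_mulVec]
    rfl
  map_mul' g h := by
    apply MulEquiv.ext
    intro v
    change Multiplicative.ofAdd ((g.1 * h.1).mulVec v.toAdd) =
      Multiplicative.ofAdd (g.1.mulVec (h.1.mulVec v.toAdd))
    rw [Matrix.mulVec_mulVec]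

theorem glAut_apply (g : Matrix.GeneralLinearGroup (Fin n) (ZMod p))
    (v : Multiplicative (Fin n → ZMod p)) :
    glAut n p g v = Multiplicative.ofAdd (g.1.mulVec v.toAdd) := rfl

theorem orderOf_vec [Fact p.Prime] (v : Multiplicative (Fin n → ZMod p)) (hv : v ≠ 1) :
    orderOf v = p := by
  apply orderOf_eq_prime _ hv
  change Multiplicative.ofAdd (p • v.toAdd) = 1
  have : p • v.toAdd = 0 := by
    funext i
    simp
  rw [this]
  rfl

variable {n p}

/-- the spectrum of the semidirect product `(Z/p)^n ⋊ C` for a group `C` of matrices acting freely -/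
theorem range_orderOf_linear [Fact p.Prime] (hn : 0 < n) {C : Type*} [Group C]
    (ρ : C →* Matrix.GeneralLinearGroup (Fin n) (ZMod p))
    (hfree : ∀ c : C, c ≠ 1 → ∀ v : Fin n → ZMod p, ∃ w : Fin n → ZMod p,
      w - (ρ c).1.mulVec w = v) :
    Set.range (orderOf : Multiplicative (Fin n → ZMod p) ⋊[(glAut n p).comp ρ] C → ℕ) =
      insert p (Set.range (orderOf : C → ℕ)) := by
  apply range_orderOf _ p (orderOf_vec n p)
  · refine ⟨Multiplicative.ofAdd (fun _ => 1), ?_⟩
    intro h
    have h1 : (fun _ : Fin n => (1 : ZMod p)) = 0 := h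
    have h2 := congrFun h1 ⟨0, hn⟩
    exact one_ne_zero h2
  · intro c hc v
    obtain ⟨w, hw⟩ := hfree c hc v.toAdd
    refine ⟨Multiplicative.ofAdd w, ?_⟩
    have : (Multiplicative.ofAdd w * ((((glAut n p).comp ρ) c) (Multiplicative.ofAdd w))⁻¹ :
        Multiplicative (Fin n → ZMod p)) = Multiplicative.ofAdd (w - (ρ c).1.mulVec w) := by
      rw [sub_eq_add_neg, ofAdd_add, ofAdd_neg]
      rfl
    rw [this, hw]
    rfl

theorem isSolvable_linear {C : Type*} [Group C] [Group.IsSolvable C]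
    (ρ : C →* Matrix.GeneralLinearGroup (Fin n) (ZMod p)) :
    Group.IsSolvable (Multiplicative (Fin n → ZMod p) ⋊[(glAut n p).comp ρ] C) :=
  isSolvable _ (fun a b => mul_comm a b)

end linear

end Cfsg.Agent.Helper98.FrobSpec
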