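import Mathlib

set_option autoImplicit false

namespace Cfsg.Agent.Helper98

variable {G : Type*} [Group G]

theorem subgroupOf_eq_iff_of_le {A B K : Subgroup G} (hA : A ≤ K) (hB : B ≤ K) :
    A.subgroupOf K = B.subgroupOf K ↔ A = B := by
  rw [Subgroup.subgroupOf_inj, inf_eq_left.mpr hA, inf_eq_left.mpr hB]

theorem subgroupOf_le_iff_of_le {A B K : Subgroup G} (hA : A ≤ K) :
    A.subgroupOf K ≤ B.subgroupOf K ↔ A ≤ B := by
  constructor
  · intro h x hx
    exact h (show (⟨x, hA hx⟩ : K) ∈ A.subgroupOf K from hx)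
  · intro h
    exact Subgroup.subgroupOf_mono K h

/-- `H.subgroupOf K` is a coatom of `Subgroup K` iff `H` is a maximal proper subgroup of `K`
(for `H ≤ K`). -/
theorem isCoatom_subgroupOf_iff {H K : Subgroup G} (hHK : H ≤ K) :
    IsCoatom (H.subgroupOf K) ↔ H ≠ K ∧ ∀ L : Subgroup G, H ≤ L → L ≤ K → L = H ∨ L = K := by
  rw [isCoatom_iff_ge_of_le, Subgroup.forall]
  constructor
  · rintro ⟨hne, hmax⟩
    refine ⟨fun h => hne (by rw [h]; exact Subgroup.subgroupOf_self K), fun L hHL hLK => ?_⟩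
    by_cases hLK' : L = K
    · exact Or.inr hLK'
    · left
      have h1 := hmax L hLK (by
        rw [ne_eq, Subgroup.subgroupOf_eq_top]
        exact fun h => hLK' (le_antisymm hLK h)) (Subgroup.subgroupOf_mono K hHL)
      exact le_antisymm ((subgroupOf_le_iff_of_le hLK).mp h1) hHL
  · rintro ⟨hne, hmax⟩
    refine ⟨?_, fun L hLK hLtop hHL => ?_⟩
    · rw [ne_eq, Subgroup.subgroupOf_eq_top]
      exact fun h => hne (le_antisymm hHK h)
    · have hHL' : H ≤ L := (subgroupOf_le_iff_of_le hHK).mp hHL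
      rcases hmax L hHL' hLK with h | h
      · rw [h]
      · exact absurd (by rw [h]; exact Subgroup.subgroupOf_self K) hLtop

end Cfsg.Agent.Helper98
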