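import Mathlib
import Cfsg.Agent.Helper98.Basic

set_option autoImplicit false

namespace Cfsg.Agent.Helper98

open Equiv

section PartStab

variable {Ω : Type*} {β : Type*} (f : Ω → β)

/-- The stabilizer of the partition of `Ω` into the fibres of `f`. -/
def partStab : Subgroup (Perm Ω) where
  carrier := {g | ∀ x y, f x = f y ↔ f (g x) = f (g y)}
  one_mem' := fun x y => Iff.rfl
  mul_mem' := by
    intro g h hg hh x y
    rw [hh x y, hg (h x) (h y)]
    rfl
  inv_mem' := by
    intro g hg x y
    have := hg (g⁻¹ x) (g⁻¹ y)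
    simp only [Perm.coe_inv, Equiv.apply_symm_apply] at this
    exact this.symm

theorem mem_partStab {g : Perm Ω} : g ∈ partStab f ↔ ∀ x y, f x = f y ↔ f (g x) = f (g y) := Iff.rfl

theorem closure_partSet :
    Subgroup.closure {g : Perm Ω | ∀ x y : Ω, f x = f y ↔ f (g x) = f (g y)} = partStab f :=
  Subgroup.closure_eq (partStab f)

variable [DecidableEq Ω]

theorem f_swap_of_eq {x y : Ω} (h : f x = f y) (u : Ω) : f (swap x y u) = f u := by
  by_cases hux : u = x
  · rw [hux, swap_apply_left, h]
  · by_cases huy : u = y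
    · rw [huy, swap_apply_right, h]
    · rw [swap_apply_of_ne_of_ne hux huy]

theorem swap_mem_partStab {x y : Ω} (h : f x = f y) : swap x y ∈ partStab f := by
  intro u v
  rw [f_swap_of_eq f h, f_swap_of_eq f h]

end PartStab

section Coordinates

variable {Ω : Type*} [Finite Ω] {a b : ℕ} (f : Ω → Fin b)
  (hf : ∀ i : Fin b, Nat.card {x : Ω // f x = i} = a)

/-- Coordinates on `Ω` adapted to the partition: the first coordinate is the block. -/
noncomputable def fibreEquiv : Ω ≃ Fin b × Fin a :=
  (sigmaFiberEquiv f).symm.trans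
    ((sigmaCongrRight fun i => Finite.equivFinOfCardEq (hf i)).trans (sigmaEquivProd _ _))

theorem fibreEquiv_fst (x : Ω) : (fibreEquiv f hf x).1 = f x := rfl

/-- The permutation of `Ω` permuting the blocks via `σ`. -/
noncomputable def blockPerm (σ : Perm (Fin b)) : Perm Ω :=
  (fibreEquiv f hf).trans ((σ.prodCongr (Equiv.refl _)).trans (fibreEquiv f hf).symm)

theorem f_blockPerm (σ : Perm (Fin b)) (x : Ω) : f (blockPerm f hf σ x) = σ (f x) := by
  rw [← fibreEquiv_fst f hf, ← fibreEquiv_fst f hf x]
  simp [blockPerm]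

theorem blockPerm_mem (σ : Perm (Fin b)) : blockPerm f hf σ ∈ partStab f := by
  intro x y
  rw [f_blockPerm f hf, f_blockPerm f hf, σ.injective.eq_iff]

end Coordinates

/-- A permutation of `Fin b` with prescribed values at two points. -/
theorem exists_perm_two {β : Type*} [DecidableEq β] {i j i' j' : β} (hij : i ≠ j) (hij' : i' ≠ j') :
    ∃ σ : Perm β, σ i = i' ∧ σ j = j' := by
  refine ⟨swap (swap i i' j) j' * swap i i', ?_, ?_⟩
  · rw [Perm.mul_apply, swap_apply_left]
    apply swap_apply_of_ne_of_ne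
    · intro h
      have := (swap i i').injective ((swap_apply_left i i').trans h)
      exact hij this
    · exact hij'
  · rw [Perm.mul_apply, swap_apply_left]

section Main

variable {Ω : Type*} [Fintype Ω] [DecidableEq Ω] {a b : ℕ}

/-- If `L` contains the partition stabilizer and a transposition across two blocks, it contains every
transposition across blocks. -/
theorem swap_mem_of_swap_mem (f : Ω → Fin b) (hf : ∀ i : Fin b, Nat.card {x : Ω // f x = i} = a)
    (L : Subgroup (Perm Ω)) (hL : partStab f ≤ L) {u v : Ω} (huv : f u ≠ f v) (hswap : swap u v ∈ L)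
    {u' v' : Ω} (huv' : f u' ≠ f v') : swap u' v' ∈ L := by
  obtain ⟨σ, hσ1, hσ2⟩ := exists_perm_two huv huv'
  set w := blockPerm f hf σ with hw
  have hwL : w ∈ L := hL (blockPerm_mem f hf σ)
  have h1 : swap (w u) (w v) ∈ L := by
    rw [swap_apply_apply]
    exact L.mul_mem (L.mul_mem hwL hswap) (L.inv_mem hwL)
  have hfu : f (w u) = f u' := by rw [hw, f_blockPerm f hf, hσ1]
  have hfv : f (w v) = f v' := by rw [hw, f_blockPerm f hf, hσ2]
  -- move w u to u'
  have h2 : swap u' (w v) ∈ L := by
    have hs : swap (w u) u' ∈ L := hL (swap_mem_partStab f hfu)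
    have := L.mul_mem (L.mul_mem hs h1) (L.inv_mem hs)
    rw [← swap_apply_apply, swap_apply_left] at this
    rwa [swap_apply_of_ne_of_ne] at this
    · intro h; exact huv' (by rw [← hfu, ← hfv, h])
    · intro h; exact huv' (by rw [← hfv, h])
  have hs : swap (w v) v' ∈ L := hL (swap_mem_partStab f hfv)
  have := L.mul_mem (L.mul_mem hs h2) (L.inv_mem hs)
  rw [← swap_apply_apply, swap_apply_left] at this
  rwa [swap_apply_of_ne_of_ne] at this
  · intro h; exact huv' (by rw [h, hfv])
  · intro h; exact huv' (by rw [h])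

/-- The partition stabilizer `S_a ≀ S_b` is a maximal subgroup of the symmetric group. -/
theorem isCoatom_partStab (ha : 2 ≤ a) (hb : 2 ≤ b) (f : Ω → Fin b)
    (hf : ∀ i : Fin b, Nat.card {x : Ω // f x = i} = a) : IsCoatom (partStab f) := by
  classical
  -- points
  have hfibre : ∀ i : Fin b, ∃ x x' : Ω, x ≠ x' ∧ f x = i ∧ f x' = i := by
    intro i
    have h1 : 1 < Nat.card {x : Ω // f x = i} := by rw [hf i]; omega
    rw [Finite.one_lt_card_iff_nontrivial] at h1
    obtain ⟨x, x', hxx'⟩ := h1
    exact ⟨x.1, x'.1, fun h => hxx' (Subtype.ext h), x.2, x'.2⟩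
  constructor
  · -- not everything
    intro htop
    obtain ⟨x, x', hxx', hx, hx'⟩ := hfibre ⟨0, by omega⟩
    obtain ⟨y, _, _, hy, _⟩ := hfibre ⟨1, by omega⟩
    have h01 : (⟨0, by omega⟩ : Fin b) ≠ ⟨1, by omega⟩ := by
      intro h; simpa using congrArg Fin.val h
    have hmem : swap x y ∈ partStab f := htop ▸ Subgroup.mem_top _
    have := (hmem x x').mp (hx.trans hx'.symm)
    rw [swap_apply_left, swap_apply_of_ne_of_ne hxx'.symm
      (fun h => h01 (by rw [← hx', h, hy])), hy, hx'] at this
    exact h01 this.symm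
  · intro L hlt
    obtain ⟨hle, hne⟩ := lt_iff_le_and_ne.mp hlt
    -- an element of L not preserving the partition
    obtain ⟨g, hgL, hgP⟩ : ∃ g, g ∈ L ∧ g ∉ partStab f := by
      by_contra h
      push Not at h
      exact hne (le_antisymm hle h)
    -- WLOG it splits a block
    obtain ⟨g, hgL, x, y, hxy, hgxy⟩ : ∃ g, g ∈ L ∧ ∃ x y, f x = f y ∧ f (g x) ≠ f (g y) := by
      rw [mem_partStab] at hgP
      push Not at hgP
      obtain ⟨x, y, h⟩ := hgP
      rcases h with ⟨h1, h2⟩ | ⟨h1, h2⟩
      · exact ⟨g, hgL, x, y, h1, h2⟩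
      · refine ⟨g⁻¹, L.inv_mem hgL, g x, g y, h2, ?_⟩
        simpa using h1
    have hswap : swap (g x) (g y) ∈ L := by
      rw [swap_apply_apply]
      exact L.mul_mem (L.mul_mem hgL (hle (swap_mem_partStab f hxy))) (L.inv_mem hgL)
    -- every transposition is in L
    rw [eq_top_iff, ← Perm.closure_isSwap, Subgroup.closure_le]
    rintro τ ⟨u, v, -, rfl⟩
    by_cases huv : f u = f v
    · exact hle (swap_mem_partStab f huv)
    · exact swap_mem_of_swap_mem f hf L hle hgxy hswap huv

end Main

end Cfsg.Agent.Helper98
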