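import Mathlib
import Cfsg.Agent.Helper98.Wreath

set_option autoImplicit false

namespace Cfsg.Agent.Helper98

open Equiv

/-- The 8 points, as 4 blocks of size 2. -/
abbrev X8 := Fin 4 × Fin 2

/-- Bitwise xor on `Fin 4`. -/
def xor4 (i j : Fin 4) : Fin 4 := ⟨(i.val ^^^ j.val) % 4, Nat.mod_lt _ (by decide)⟩

/-- The addition of `𝔽₂³` on `X8`. -/
def xadd (x y : X8) : X8 := (xor4 x.1 y.1, x.2 + y.2)

theorem affA : ∀ σ : Perm (Fin 4), ∀ x y z : X8,
    (prodCongrLeft (fun _ : Fin 2 => σ)) (xadd (xadd x y) z) =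
      xadd (xadd (prodCongrLeft (fun _ : Fin 2 => σ) x) (prodCongrLeft (fun _ : Fin 2 => σ) y))
        (prodCongrLeft (fun _ : Fin 2 => σ) z) := by
  decide

theorem affB : ∀ c : Fin 4 → Fin 2, (∏ i, (if c i = 0 then (1 : ℤˣ) else -1) = 1) → ∀ x y z : X8,
    (prodCongrRight (fun i : Fin 4 => Equiv.addRight (c i))) (xadd (xadd x y) z) =
      xadd (xadd (prodCongrRight (fun i : Fin 4 => Equiv.addRight (c i)) x)
        (prodCongrRight (fun i : Fin 4 => Equiv.addRight (c i)) y))
        (prodCongrRight (fun i : Fin 4 => Equiv.addRight (c i)) z) := by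
  decide

theorem signC : ∀ c : Fin 2,
    Perm.sign (Equiv.addRight c : Perm (Fin 2)) = if c = 0 then 1 else -1 := by
  decide

/-- The affine permutations of `X8 = 𝔽₂³` (those preserving sums of three points). -/
def affStab : Subgroup (Perm X8) where
  carrier := {g | ∀ x y z, g (xadd (xadd x y) z) = xadd (xadd (g x) (g y)) (g z)}
  one_mem' := fun _ _ _ => rfl
  mul_mem' := by
    intro a b ha hb x y z
    simp only [Perm.mul_apply]
    rw [hb, ha]
  inv_mem' := by
    intro a ha x y z
    apply a.injective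
    rw [ha]
    simp

theorem mem_affStab {g : Perm X8} :
    g ∈ affStab ↔ ∀ x y z, g (xadd (xadd x y) z) = xadd (xadd (g x) (g y)) (g z) := Iff.rfl

theorem fin2_ne : ∀ a b : Fin 2, a ≠ b → a = 1 + b := by decide

/-- Fibre-preserving permutations of `X8` decompose. -/
theorem decomp_X8 (g : Perm X8) (hg : g ∈ partStab (Prod.fst : X8 → Fin 4)) :
    ∃ (σ : Perm (Fin 4)) (c : Fin 4 → Fin 2),
      g = prodCongrLeft (fun _ : Fin 2 => σ) * prodCongrRight (fun i : Fin 4 => Equiv.addRight (c i)) := by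
  have hinj : Function.Injective (fun i : Fin 4 => (g (i, 0)).1) := by
    intro i j hij
    exact (hg (i, 0) (j, 0)).mpr hij
  let σ : Perm (Fin 4) := Equiv.ofBijective _ (Finite.injective_iff_bijective.mp hinj)
  refine ⟨σ, fun i => (g (i, 0)).2, ?_⟩
  have key : ∀ (i : Fin 4) (t : Fin 2), g (i, t) = (σ i, t + (g (i, 0)).2) := by
    intro i t
    have ht : t = 0 ∨ t = 1 := by
      revert t; decide
    rcases ht with rfl | rfl
    · rw [zero_add]
      rfl
    · have h1 : (g (i, 1)).1 = (g (i, 0)).1 := (hg (i, 1) (i, 0)).mp rfl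
      have h2 : (g (i, 1)).2 ≠ (g (i, 0)).2 := by
        intro h
        have : g (i, 1) = g (i, 0) := Prod.ext h1 h
        have := g.injective this
        simp at this
      exact Prod.ext h1 (fin2_ne _ _ h2)
  ext ⟨i, t⟩ : 1
  rw [key]
  simp [Perm.mul_apply]

theorem mem_affStab_of_even (g : Perm X8) (hg : g ∈ partStab (Prod.fst : X8 → Fin 4))
    (hsign : Perm.sign g = 1) : g ∈ affStab := by
  obtain ⟨σ, c, rfl⟩ := decomp_X8 g hg
  rw [Perm.sign_mul, Perm.sign_prodCongrLeft, Perm.sign_prodCongrRight] at hsign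
  simp only [Finset.prod_const, Finset.card_univ, Fintype.card_fin, signC] at hsign
  have hsq : Perm.sign σ ^ 2 = 1 := by
    rw [sq]; exact Int.units_mul_self _
  rw [hsq, one_mul] at hsign
  exact affStab.mul_mem (affA σ) (affB c hsign)

/-- An affine even permutation of `X8` not preserving the blocks. -/
def hX8 : Perm X8 := swap ((0, 1) : X8) (1, 0) * swap ((2, 1) : X8) (3, 0)

theorem hX8_aff : hX8 ∈ affStab := by
  rw [mem_affStab]
  decide

theorem hX8_sign : Perm.sign hX8 = 1 := by
  unfold hX8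
  rw [Perm.sign_mul, Perm.sign_swap (by decide), Perm.sign_swap (by decide)]
  rfl

theorem hX8_not : hX8 ∉ partStab (Prod.fst : X8 → Fin 4) := by
  intro h
  have := (h (0, 1) (0, 0)).mp rfl
  revert this
  decide

/-- An even permutation which is not affine. -/
def cX8 : Perm X8 := swap ((0, 0) : X8) (0, 1) * swap ((0, 0) : X8) (1, 0)

theorem cX8_sign : Perm.sign cX8 = 1 := by
  unfold cX8
  rw [Perm.sign_mul, Perm.sign_swap (by decide), Perm.sign_swap (by decide)]
  rfl

theorem cX8_not : cX8 ∉ affStab := by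
  rw [mem_affStab]
  decide

end Cfsg.Agent.Helper98
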