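import Mathlib
import Cfsg.Agent.Helper98.Basic

set_option autoImplicit false

namespace Cfsg.Agent.Helper98

/-- Transport of a coatom along an injective homomorphism: the image is a coatom of the range. -/
theorem isCoatom_map_subgroupOf_range {A B : Type*} [Group A] [Group B] (φ : A →* B)
    (hφ : Function.Injective φ) (C : Subgroup A) (hC : IsCoatom C) :
    IsCoatom ((C.map φ).subgroupOf φ.range) := by
  rw [isCoatom_subgroupOf_iff (Subgroup.map_le_range φ C)]
  constructor
  · intro h
    apply hC.1
    rw [MonoidHom.range_eq_map] at h
    exact Subgroup.map_injective hφ h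
  · intro L hCL hLr
    have hL : (L.comap φ).map φ = L := Subgroup.map_comap_eq_self hLr
    have hCL' : C ≤ L.comap φ := by
      rw [← Subgroup.map_le_iff_le_comap]; exact hCL
    rcases eq_or_lt_of_le hCL' with h | h
    · left; rw [← hL, ← h]
    · right
      rw [← hL, hC.2 _ h, MonoidHom.range_eq_map]

end Cfsg.Agent.Helper98
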