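import Mathlib
import Cfsg.Agent.Helper98.Maximal

set_option autoImplicit false

namespace Cfsg.Agent.Helper98

/-- The preimage of a coatom under a surjective homomorphism is a coatom. -/
theorem isCoatom_comap_of_surjective {A B : Type*} [Group A] [Group B] (f : A →* B)
    (hf : Function.Surjective f) (C : Subgroup B) (hC : IsCoatom C) : IsCoatom (C.comap f) := by
  constructor
  · intro h
    apply hC.1
    rw [← Subgroup.map_comap_eq_self_of_surjective hf C, h, Subgroup.map_top_of_surjective f hf]
  · intro L hL
    have hker : f.ker ≤ L := (Subgroup.ker_le_comap f C).trans hL.le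
    have hLeq : (L.map f).comap f = L := by
      rw [Subgroup.comap_map_eq, sup_eq_left]; exact hker
    have hCL : C ≤ L.map f := by
      rw [← Subgroup.map_comap_eq_self_of_surjective hf C]
      exact Subgroup.map_mono hL.le
    rcases eq_or_lt_of_le hCL with h | h
    · exfalso
      rw [← hLeq, ← h] at hL
      exact lt_irrefl _ hL
    · rw [← hLeq, hC.2 _ h, Subgroup.comap_top]

section AGL

open scoped LinearAlgebra.Projectivization
open MulAction

variable (p d : ℕ) [hp : Fact p.Prime]

/-- The vector space `𝔽_p^d`. -/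
abbrev Vec := Fin d → ZMod p

/-- Linear automorphisms as affine automorphisms. -/
def linToAff : (Vec p d ≃ₗ[ZMod p] Vec p d) →* (Vec p d ≃ᵃ[ZMod p] Vec p d) where
  toFun := LinearEquiv.toAffineEquiv
  map_one' := rfl
  map_mul' _ _ := rfl

theorem linToAff_injective : Function.Injective (linToAff p d) := by
  intro a b h
  ext x : 1
  have := congrArg (fun g : Vec p d ≃ᵃ[ZMod p] Vec p d => g x) h
  exact this

theorem linearHom_linToAff (c : Vec p d ≃ₗ[ZMod p] Vec p d) :
    AffineEquiv.linearHom (linToAff p d c) = c := rfl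

theorem linearHom_surjective :
    Function.Surjective (AffineEquiv.linearHom : (Vec p d ≃ᵃ[ZMod p] Vec p d) →* _) :=
  fun c => ⟨linToAff p d c, rfl⟩

theorem mem_range_linToAff (g : Vec p d ≃ᵃ[ZMod p] Vec p d) :
    g ∈ (linToAff p d).range ↔ g 0 = 0 := by
  constructor
  · rintro ⟨c, rfl⟩
    exact map_zero c
  · intro h0
    refine ⟨g.linear, ?_⟩
    ext x : 1
    have := g.map_vadd 0 x
    rw [vadd_eq_add, add_zero, h0, vadd_eq_add, add_zero] at this
    exact this.symm

theorem apply_eq_linear_add (g : Vec p d ≃ᵃ[ZMod p] Vec p d) (x : Vec p d) :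
    g x = g.linear x + g 0 := by
  have := g.map_vadd 0 x
  rwa [vadd_eq_add, add_zero, vadd_eq_add] at this

end AGL

end Cfsg.Agent.Helper98
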