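import Mathlib
import Cfsg.Agent.S5913

set_option autoImplicit false

namespace Cfsg.Agent.Helper98

open Equiv

/-- Permuting the coordinates of a direct power, as an automorphism. -/
def permAut {S : Type*} [Group S] {ι : Type*} (σ : Perm ι) : (ι → S) ≃* (ι → S) where
  toFun x := x ∘ σ
  invFun x := x ∘ σ.symm
  left_inv x := by ext i; simp
  right_inv x := by ext i; simp
  map_mul' x y := rfl

/-- The shear `y_j ↦ y_j * y_i ^ m` of a commutative direct power, as an automorphism. -/
def shearAut {S : Type*} [CommGroup S] {ι : Type*} [DecidableEq ι] (i j : ι) (hij : i ≠ j) (m : ℤ) :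
    (ι → S) ≃* (ι → S) where
  toFun x := x * Pi.mulSingle j (x i ^ m)
  invFun x := x * Pi.mulSingle j (x i ^ (-m))
  left_inv x := by
    ext k
    by_cases hk : k = j
    · subst hk
      simp [Pi.mulSingle_eq_of_ne hij, mul_assoc]
    · simp [Pi.mulSingle_eq_of_ne hk]
  right_inv x := by
    ext k
    by_cases hk : k = j
    · subst hk
      simp [Pi.mulSingle_eq_of_ne hij, mul_assoc]
    · simp [Pi.mulSingle_eq_of_ne hk]
  map_mul' x y := by
    ext k
    by_cases hk : k = j
    · subst hk
      simp [mul_zpow, mul_mul_mul_comm]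
    · simp [Pi.mulSingle_eq_of_ne hk]

theorem shearAut_apply_same {S : Type*} [CommGroup S] {ι : Type*} [DecidableEq ι] (i j : ι)
    (hij : i ≠ j) (m : ℤ) (x : ι → S) : shearAut i j hij m x j = x j * x i ^ m := by
  simp [shearAut]

theorem shearAut_apply_ne {S : Type*} [CommGroup S] {ι : Type*} [DecidableEq ι] (i j : ι)
    (hij : i ≠ j) (m : ℤ) (x : ι → S) (k : ι) (hk : k ≠ j) : shearAut i j hij m x k = x k := by
  simp [shearAut, Pi.mulSingle_eq_of_ne hk]

/-- A direct power of a non-abelian simple group is characteristically simple. -/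
theorem charSimple_pi_of_noncomm {S : Type*} [Group S] [IsSimpleGroup S] (hS : ¬ IsMulCommutative S)
    (n : ℕ) (H : Subgroup (Fin n → S)) [hH : H.Characteristic] : H = ⊥ ∨ H = ⊤ := by
  classical
  haveI : H.Normal := Subgroup.normal_of_characteristic H
  obtain ⟨T, hT⟩ := S5913.result hS n H
  by_cases hTe : ∀ i, i ∉ T
  · left
    rw [eq_bot_iff]
    intro x hx
    rw [Subgroup.mem_bot]
    ext i
    exact (hT x).mp hx i (hTe i)
  by_cases hTu : ∀ i, i ∈ T
  · right
    rw [eq_top_iff]
    intro x _
    exact (hT x).mpr (fun i hi => absurd (hTu i) hi)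
  exfalso
  push Not at hTe hTu
  obtain ⟨i, hi⟩ := hTe
  obtain ⟨j, hj⟩ := hTu
  obtain ⟨s, hs⟩ := exists_ne (1 : S)
  have hx : Pi.mulSingle i s ∈ H := by
    rw [hT]
    intro k hk
    exact Pi.mulSingle_eq_of_ne (M := fun _ => S) (fun h : k = i => hk (h ▸ hi)) s
  have hfix := hH.fixed (permAut (swap i j))
  have hx' : permAut (swap i j) (Pi.mulSingle i s) ∈ H := by
    rw [← hfix] at hx
    rw [← hfix]
    show permAut (swap i j) (permAut (swap i j) (Pi.mulSingle i s)) ∈ H
    have : permAut (swap i j) (permAut (swap i j) (Pi.mulSingle i s)) = (Pi.mulSingle i s : Fin n → S) := by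
      ext k
      simp [permAut]
    rw [this]
    rw [hfix] at hx
    exact hx
  have := (hT _).mp hx' j hj
  simp [permAut] at this
  exact hs this

end Cfsg.Agent.Helper98
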