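import Mathlib
import Cfsg.Agent.Helper98.CharSimpleA

set_option autoImplicit false

namespace Cfsg.Agent.Helper98

open Equiv

/-- A direct power of a simple abelian group is characteristically simple. -/
theorem charSimple_pi_of_comm {S : Type*} [CommGroup S] [IsSimpleGroup S]
    (n : ℕ) (H : Subgroup (Fin n → S)) [hH : H.Characteristic] : H = ⊥ ∨ H = ⊤ := by
  classical
  by_cases hbot : H = ⊥
  · exact Or.inl hbot
  right
  have hmem : ∀ (ϕ : (Fin n → S) ≃* (Fin n → S)) (x : Fin n → S), x ∈ H → ϕ x ∈ H := by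
    intro ϕ x hx
    have h2 := hH.fixed ϕ.symm
    rw [← h2]
    show ϕ.symm (ϕ x) ∈ H
    rw [MulEquiv.symm_apply_apply]
    exact hx
  let supp : (Fin n → S) → Finset (Fin n) := fun y => Finset.univ.filter (fun i => y i ≠ 1)
  have hsupp : ∀ y i, i ∈ supp y ↔ y i ≠ 1 := by
    intro y i
    simp [supp]
  -- a nontrivial element of minimal support
  have hex : ∃ m, ∃ y, y ∈ H ∧ y ≠ 1 ∧ (supp y).card = m := by
    rw [Subgroup.eq_bot_iff_forall] at hbot
    push Not at hbot
    obtain ⟨x, hx, hx1⟩ := hbot
    exact ⟨_, x, hx, hx1, rfl⟩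
  obtain ⟨y, hy, hy1, hym⟩ := Nat.find_spec hex
  have hmin : ∀ z, z ∈ H → z ≠ 1 → (supp y).card ≤ (supp z).card := by
    intro z hz hz1
    rw [hym]
    exact Nat.find_min' hex ⟨z, hz, hz1, rfl⟩
  -- some coordinate of y is nontrivial
  obtain ⟨i, hi⟩ : ∃ i, y i ≠ 1 := by
    by_contra h
    push Not at h
    exact hy1 (funext h)
  have hgen : ∀ t : S, ∃ m : ℤ, y i ^ m = t := by
    intro t
    have : Subgroup.zpowers (y i) = ⊤ :=
      (eq_bot_or_eq_top (Subgroup.zpowers (y i))).resolve_left (Subgroup.zpowers_ne_bot.2 hi)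
    have ht : t ∈ Subgroup.zpowers (y i) := this ▸ Subgroup.mem_top t
    exact Subgroup.mem_zpowers_iff.mp ht
  -- the support of y is {i}
  have hsingle : ∀ j, j ≠ i → y j = 1 := by
    intro j hji
    by_contra hj
    obtain ⟨m, hm⟩ := hgen (y j)⁻¹
    set y' := shearAut i j (Ne.symm hji) m y with hy'
    have hy'H : y' ∈ H := hmem _ y hy
    have hy'j : y' j = 1 := by
      rw [hy', shearAut_apply_same, hm, mul_inv_cancel]
    have hy'k : ∀ k, k ≠ j → y' k = y k := fun k hk => shearAut_apply_ne i j _ m y k hk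
    have hy'1 : y' ≠ 1 := by
      intro h
      apply hi
      rw [← hy'k i (Ne.symm hji), h]
      rfl
    have hlt : (supp y').card < (supp y).card := by
      apply Finset.card_lt_card
      rw [Finset.ssubset_iff_of_subset]
      · refine ⟨j, (hsupp y j).mpr hj, ?_⟩
        rw [hsupp]
        exact not_not.mpr hy'j
      · intro k hk
        rw [hsupp] at hk ⊢
        by_cases hkj : k = j
        · exact absurd (hkj ▸ hy'j) hk
        · rwa [hy'k k hkj] at hk
    exact absurd (hmin y' hy'H hy'1) (not_le.mpr hlt)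
  have hy_eq : y = Pi.mulSingle i (y i) := by
    ext k
    by_cases hk : k = i
    · subst hk; simp
    · rw [hsingle k hk, Pi.mulSingle_eq_of_ne hk]
  -- the whole i-th factor lies in H
  have hfac_i : ∀ t : S, Pi.mulSingle i t ∈ H := by
    intro t
    obtain ⟨m, hm⟩ := hgen t
    have : (Pi.mulSingle i t : Fin n → S) = y ^ m := by
      rw [hy_eq, ← hm]
      ext k
      by_cases hk : k = i
      · subst hk; simp
      · simp [Pi.mulSingle_eq_of_ne hk]
    rw [this]
    exact H.zpow_mem hy m
  -- every factor lies in H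
  have hfac : ∀ (j : Fin n) (t : S), Pi.mulSingle j t ∈ H := by
    intro j t
    have := hmem (permAut (swap i j)) _ (hfac_i t)
    convert this using 1
    ext k
    simp only [permAut, MulEquiv.coe_mk, Equiv.coe_fn_mk, Function.comp_apply, Pi.mulSingle_apply]
    by_cases hk : k = j
    · subst hk; simp
    · have : swap i j k ≠ i := by
        intro h
        apply hk
        have := congrArg (swap i j) h
        simpa using this
      simp [hk, this]
  rw [eq_top_iff]
  intro z _
  rw [← Finset.univ_prod_mulSingle z]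
  exact H.prod_mem (fun j _ => hfac j (z j))

end Cfsg.Agent.Helper98
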