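import Mathlib

set_option autoImplicit false

namespace Cfsg.Agent.Helper98

section

variable {G : Type*} [Group G]

/-- The data carried along the induction: an injective homomorphism from a direct power of `N`
with normal range, restricting to the inclusion on one coordinate. -/
structure PowEmb (N : Subgroup G) (k : ℕ) where
  ψ : (Fin k → N) →* G
  inj : Function.Injective ψ
  normal : ψ.range.Normal
  i₀ : Fin k
  spec : ∀ a : N, ψ (Pi.mulSingle i₀ a) = a

/-- The starting embedding. -/
def PowEmb.one (N : Subgroup G) [hN : N.Normal] : PowEmb N 1 where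
  ψ := N.subtype.comp (Pi.evalMonoidHom (fun _ : Fin 1 => N) 0)
  inj := by
    intro x y h
    have h' : x 0 = y 0 := Subtype.ext h
    ext i
    rw [Fin.eq_zero i, h']
  normal := by
    have : (N.subtype.comp (Pi.evalMonoidHom (fun _ : Fin 1 => N) 0)).range = N := by
      ext g
      constructor
      · rintro ⟨x, rfl⟩
        exact (x 0).2
      · intro hg
        exact ⟨fun _ => ⟨g, hg⟩, rfl⟩
    rw [this]
    exact hN
  i₀ := 0
  spec := by
    intro a
    simp

/-- The extension step. -/
noncomputable def PowEmb.extend {N : Subgroup G} {k : ℕ} (E : PowEmb N k) (φ : G ≃* G)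
    (hcomm : ∀ x ∈ E.ψ.range, ∀ n ∈ N, Commute x (φ n))
    (hdisj : ∀ x ∈ E.ψ.range, ∀ n ∈ N, x = φ n → n = 1)
    (hPn : (N.map φ.toMonoidHom).Normal) : PowEmb N (k + 1) where
  ψ :=
    { toFun := fun x => E.ψ (Fin.init x) * φ (x (Fin.last k))
      map_one' := by
        have : Fin.init (1 : Fin (k + 1) → N) = 1 := rfl
        simp [this]
      map_mul' := by
        intro x y
        have h1 : Fin.init (x * y) = Fin.init x * Fin.init y := rfl
        have h2 : (x * y) (Fin.last k) = x (Fin.last k) * y (Fin.last k) := rfl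
        rw [h1, h2, map_mul]
        simp only [Subgroup.coe_mul, map_mul]
        have hc := hcomm (E.ψ (Fin.init y)) ⟨_, rfl⟩ (x (Fin.last k)) (x (Fin.last k)).2
        calc E.ψ (Fin.init x) * E.ψ (Fin.init y) * (φ (x (Fin.last k)) * φ (y (Fin.last k)))
            = E.ψ (Fin.init x) * (E.ψ (Fin.init y) * φ (x (Fin.last k))) * φ (y (Fin.last k)) := by
              group
          _ = E.ψ (Fin.init x) * (φ (x (Fin.last k)) * E.ψ (Fin.init y)) * φ (y (Fin.last k)) := by
              rw [hc.eq]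
          _ = _ := by group }
  inj := by
    rw [injective_iff_map_eq_one]
    intro x hx
    have hx' : E.ψ (Fin.init x) * φ (x (Fin.last k)) = 1 := hx
    have h1 : E.ψ (Fin.init x) = φ ((x (Fin.last k))⁻¹ : N) := by
      rw [Subgroup.coe_inv, map_inv]
      exact eq_inv_of_mul_eq_one_left hx'
    have h2 : (x (Fin.last k))⁻¹ = 1 := by
      have := hdisj _ ⟨_, rfl⟩ _ ((x (Fin.last k))⁻¹).2 h1
      exact Subtype.ext this
    have h3 : x (Fin.last k) = 1 := inv_eq_one.mp h2
    rw [h3] at hx'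
    simp only [Subgroup.coe_one, map_one, mul_one] at hx'
    have h4 : Fin.init x = 1 := (injective_iff_map_eq_one E.ψ).mp E.inj _ hx'
    ext i
    refine Fin.lastCases ?_ (fun j => ?_) i
    · rw [h3]; rfl
    · have := congrFun h4 j
      simp only [Fin.init] at this
      rw [this]; rfl
  normal := by
    constructor
    rintro _ ⟨x, rfl⟩ g
    have hM := E.normal
    have hmemM : E.ψ (Fin.init x) ∈ E.ψ.range := ⟨Fin.init x, rfl⟩
    obtain ⟨x₁, hx₁⟩ := hM.conj_mem (E.ψ (Fin.init x)) hmemM g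
    have hmemP : φ (x (Fin.last k)) ∈ N.map φ.toMonoidHom := ⟨x (Fin.last k), (x (Fin.last k)).2, rfl⟩
    obtain ⟨n', hn', hn'eq⟩ := hPn.conj_mem (φ (x (Fin.last k))) hmemP g
    refine ⟨Fin.snoc (α := fun _ => N) x₁ (⟨n', hn'⟩ : N), ?_⟩
    show E.ψ (Fin.init (α := fun _ => N) (Fin.snoc (α := fun _ => N) x₁ (⟨n', hn'⟩ : N))) *
        φ ((Fin.snoc (α := fun _ => N) x₁ (⟨n', hn'⟩ : N) : Fin (k + 1) → N) (Fin.last k))
      = g * (E.ψ (Fin.init x) * φ (x (Fin.last k))) * g⁻¹
    rw [Fin.init_snoc, Fin.snoc_last, hx₁]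
    have : φ n' = g * φ (x (Fin.last k)) * g⁻¹ := hn'eq
    rw [this]
    group
  i₀ := Fin.castSucc E.i₀
  spec := by
    intro a
    show E.ψ (Fin.init (α := fun _ => N) (Pi.mulSingle (Fin.castSucc E.i₀) a : Fin (k + 1) → N)) *
      φ ((Pi.mulSingle (Fin.castSucc E.i₀) a : Fin (k + 1) → N) (Fin.last k)) = a
    have h1 : Fin.init (α := fun _ => N) (Pi.mulSingle (Fin.castSucc E.i₀) a : Fin (k + 1) → N)
        = Pi.mulSingle E.i₀ a := by
      ext j
      simp only [Fin.init, Pi.mulSingle_apply]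
      by_cases hj : j = E.i₀
      · subst hj; simp
      · have : Fin.castSucc j ≠ Fin.castSucc E.i₀ := fun h => hj (Fin.castSucc_injective _ h)
        simp [hj, this]
    have h2 : (Pi.mulSingle (Fin.castSucc E.i₀) a : Fin (k + 1) → N) (Fin.last k) = 1 := by
      apply Pi.mulSingle_eq_of_ne
      exact (Fin.castSucc_lt_last E.i₀).ne'
    rw [h1, h2, E.spec]
    simp

end

end Cfsg.Agent.Helper98
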