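import Mathlib
import Cfsg.Agent.Helper98.CharSimpleC

set_option autoImplicit false

namespace Cfsg.Agent.Helper98

/-- A finite nontrivial characteristically simple group is a direct power of a simple group. -/
theorem exists_pi_of_charSimple {G : Type*} [Group G] [Finite G] [Nontrivial G]
    (hchar : ∀ H : Subgroup G, H.Characteristic → H = ⊥ ∨ H = ⊤) :
    ∃ (N : Subgroup G) (k : ℕ), IsSimpleGroup N ∧ 1 ≤ k ∧ Nonempty ((Fin k → N) ≃* G) := by
  classical
  -- (a) a minimal normal subgroup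
  have hex : ∃ m, ∃ A : Subgroup G, A.Normal ∧ A ≠ ⊥ ∧ Nat.card A = m :=
    ⟨_, ⊤, Subgroup.normal_top, top_ne_bot, rfl⟩
  obtain ⟨N, hNn, hNbot, hNcard⟩ := Nat.find_spec hex
  have hNmin : ∀ A : Subgroup G, A.Normal → A ≠ ⊥ → A ≤ N → A = N := by
    intro A hA hAbot hAN
    apply Subgroup.eq_of_le_of_card_ge hAN
    rw [hNcard]
    exact Nat.find_min' hex ⟨A, hA, hAbot, rfl⟩
  haveI : N.Normal := hNn
  -- (b) the join of the automorphic images is everything
  let K : Subgroup G := ⨆ φ : G ≃* G, N.map φ.toMonoidHom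
  have hKchar : K.Characteristic := by
    rw [Subgroup.characteristic_iff_map_le]
    intro ϕ
    rw [Subgroup.map_iSup]
    apply iSup_le
    intro φ
    rw [Subgroup.map_map]
    exact le_iSup (fun φ : G ≃* G => N.map φ.toMonoidHom) (φ.trans ϕ)
  have hNK : N ≤ K := by
    have h := le_iSup (fun φ : G ≃* G => N.map φ.toMonoidHom) (MulEquiv.refl G)
    have h2 : N.map (MulEquiv.refl G).toMonoidHom = N := by
      ext x
      simp
    rw [h2] at h
    exact h
  have hKtop : K = ⊤ := by
    rcases hchar K hKchar with h | h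
    · exact absurd (le_bot_iff.mp (h ▸ hNK)) hNbot
    · exact h
  -- (c) growth
  have hstep : ∀ k, ∀ E : PowEmb N k, E.ψ.range ≠ ⊤ → Nonempty (PowEmb N (k + 1)) := by
    intro k E hne
    have hMn : E.ψ.range.Normal := E.normal
    obtain ⟨φ, hφ⟩ : ∃ φ : G ≃* G, ¬ N.map φ.toMonoidHom ≤ E.ψ.range := by
      by_contra hcon
      push Not at hcon
      apply hne
      rw [eq_top_iff, ← hKtop]
      exact iSup_le hcon
    have hPn : (N.map φ.toMonoidHom).Normal := hNn.map _ φ.surjective
    -- the intersection is trivial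
    have hdisj0 : N.map φ.toMonoidHom ⊓ E.ψ.range = ⊥ := by
      let A : Subgroup G := (N.map φ.toMonoidHom ⊓ E.ψ.range).comap φ.toMonoidHom
      have hAn : A.Normal := (Subgroup.normal_inf_normal _ _).comap _
      have hAN : A ≤ N := by
        intro x hx
        obtain ⟨n, hn, hnx⟩ := hx.1
        have : n = x := φ.injective hnx
        exact this ▸ hn
      by_cases hAbot : A = ⊥
      · rw [eq_bot_iff]
        intro y hy
        obtain ⟨x, rfl⟩ := φ.surjective y
        have : x ∈ A := hy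
        rw [hAbot, Subgroup.mem_bot] at this
        rw [this, map_one]
        exact Subgroup.one_mem _
      · exfalso
        have hAeq := hNmin A hAn hAbot hAN
        apply hφ
        rintro _ ⟨n, hn, rfl⟩
        have : n ∈ A := hAeq ▸ hn
        exact this.2
    have hdisj : Disjoint (E.ψ.range) (N.map φ.toMonoidHom) := by
      rw [disjoint_iff, inf_comm]; exact hdisj0
    have hcomm : ∀ x ∈ E.ψ.range, ∀ n ∈ N, Commute x (φ n) := by
      intro x hx n hn
      exact Subgroup.commute_of_normal_of_disjoint _ _ hMn hPn hdisj x (φ n) hx ⟨n, hn, rfl⟩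
    have hd : ∀ x ∈ E.ψ.range, ∀ n ∈ N, x = φ n → n = 1 := by
      intro x hx n hn hxn
      have : φ n ∈ N.map φ.toMonoidHom ⊓ E.ψ.range := ⟨⟨n, hn, rfl⟩, hxn ▸ hx⟩
      rw [hdisj0, Subgroup.mem_bot] at this
      exact φ.injective (this.trans (map_one φ).symm)
    exact ⟨E.extend φ hcomm hd hPn⟩
  -- (d) some embedding is onto
  obtain ⟨k, E, hE⟩ : ∃ k, ∃ E : PowEmb N k, E.ψ.range = ⊤ := by
    by_contra hcon
    push Not at hcon
    have hall : ∀ k, Nonempty (PowEmb N (k + 1)) := by
      intro k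
      induction k with
      | zero => exact ⟨PowEmb.one N⟩
      | succ k ih =>
        obtain ⟨E⟩ := ih
        exact hstep _ E (hcon _ E)
    obtain ⟨E⟩ := hall (Nat.card G)
    have h1 : Nat.card (Fin (Nat.card G + 1) → N) ≤ Nat.card G :=
      Nat.card_le_card_of_injective _ E.inj
    rw [Nat.card_fun, Nat.card_fin] at h1
    have h2 : 2 ≤ Nat.card N := by
      have : Nontrivial N := (Subgroup.nontrivial_iff_ne_bot N).mpr hNbot
      exact Finite.one_lt_card
    have h3 : 2 ^ (Nat.card G + 1) ≤ Nat.card N ^ (Nat.card G + 1) := Nat.pow_le_pow_left h2 _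
    have h4 := (Nat.card G + 1).lt_two_pow_self
    omega
  have hk : 1 ≤ k := by
    have := E.i₀.pos
    omega
  have hbij : Function.Bijective E.ψ := ⟨E.inj, MonoidHom.range_eq_top.mp hE⟩
  refine ⟨N, k, ?_, hk, ⟨MulEquiv.ofBijective E.ψ hbij⟩⟩
  -- (e) N is simple
  haveI : Nontrivial N := (Subgroup.nontrivial_iff_ne_bot N).mpr hNbot
  refine ⟨fun A hA => ?_⟩
  have hAn : (A.map N.subtype).Normal := by
    constructor
    rintro _ ⟨a, ha, rfl⟩ g
    obtain ⟨x, rfl⟩ := hbij.2 g
    have hconj : x * Pi.mulSingle E.i₀ a * x⁻¹ = Pi.mulSingle E.i₀ (x E.i₀ * a * (x E.i₀)⁻¹) := by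
      ext j
      by_cases hj : j = E.i₀
      · subst hj; simp
      · simp [Pi.mulSingle_eq_of_ne hj]
    have : E.ψ x * N.subtype a * (E.ψ x)⁻¹ = N.subtype (x E.i₀ * a * (x E.i₀)⁻¹) := by
      have e1 : N.subtype (x E.i₀ * a * (x E.i₀)⁻¹) = E.ψ (Pi.mulSingle E.i₀ (x E.i₀ * a * (x E.i₀)⁻¹)) :=
        (E.spec (x E.i₀ * a * (x E.i₀)⁻¹)).symm
      have e2 : N.subtype a = E.ψ (Pi.mulSingle E.i₀ a) := (E.spec a).symm
      rw [e1, e2, ← hconj, map_mul, map_mul, map_inv]
    rw [this]
    exact ⟨_, hA.conj_mem a ha (x E.i₀), rfl⟩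
  by_cases hAbot : A.map N.subtype = ⊥
  · left
    exact (Subgroup.map_eq_bot_iff_of_injective A N.subtype_injective).mp hAbot
  · right
    have h1 := hNmin _ hAn hAbot (Subgroup.map_subtype_le A)
    apply Subgroup.map_injective N.subtype_injective
    rw [h1, ← MonoidHom.range_eq_map, Subgroup.range_subtype]

end Cfsg.Agent.Helper98
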