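import Mathlib

/-!
Kernel-evaluated enumeration of a subgroup of `GL_4(7)` of order 48 (`Z_3 ⋊ Q_16`) acting
fixed-point-freely on `(Z/7)^4`, with element orders dividing `8` or `12`.
-/

set_option autoImplicit false

namespace Cfsg.Agent.Helper98.Fro7

/-- `4 × 4` matrices over `Z/7`, flat -/
structure M4 where
  /-- entry -/
  m11 : ZMod 7
  /-- entry -/
  m12 : ZMod 7
  /-- entry -/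
  m13 : ZMod 7
  /-- entry -/
  m14 : ZMod 7
  /-- entry -/
  m21 : ZMod 7
  /-- entry -/
  m22 : ZMod 7
  /-- entry -/
  m23 : ZMod 7
  /-- entry -/
  m24 : ZMod 7
  /-- entry -/
  m31 : ZMod 7
  /-- entry -/
  m32 : ZMod 7
  /-- entry -/
  m33 : ZMod 7
  /-- entry -/
  m34 : ZMod 7
  /-- entry -/
  m41 : ZMod 7
  /-- entry -/
  m42 : ZMod 7
  /-- entry -/
  m43 : ZMod 7
  /-- entry -/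
  m44 : ZMod 7
  deriving DecidableEq

namespace M4

/-- product -/
def mul (x y : M4) : M4 :=
  ⟨x.m11 * y.m11 + x.m12 * y.m21 + x.m13 * y.m31 + x.m14 * y.m41,
   x.m11 * y.m12 + x.m12 * y.m22 + x.m13 * y.m32 + x.m14 * y.m42,
   x.m11 * y.m13 + x.m12 * y.m23 + x.m13 * y.m33 + x.m14 * y.m43,
   x.m11 * y.m14 + x.m12 * y.m24 + x.m13 * y.m34 + x.m14 * y.m44,
   x.m21 * y.m11 + x.m22 * y.m21 + x.m23 * y.m31 + x.m24 * y.m41,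
   x.m21 * y.m12 + x.m22 * y.m22 + x.m23 * y.m32 + x.m24 * y.m42,
   x.m21 * y.m13 + x.m22 * y.m23 + x.m23 * y.m33 + x.m24 * y.m43,
   x.m21 * y.m14 + x.m22 * y.m24 + x.m23 * y.m34 + x.m24 * y.m44,
   x.m31 * y.m11 + x.m32 * y.m21 + x.m33 * y.m31 + x.m34 * y.m41,
   x.m31 * y.m12 + x.m32 * y.m22 + x.m33 * y.m32 + x.m34 * y.m42,
   x.m31 * y.m13 + x.m32 * y.m23 + x.m33 * y.m33 + x.m34 * y.m43,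
   x.m31 * y.m14 + x.m32 * y.m24 + x.m33 * y.m34 + x.m34 * y.m44,
   x.m41 * y.m11 + x.m42 * y.m21 + x.m43 * y.m31 + x.m44 * y.m41,
   x.m41 * y.m12 + x.m42 * y.m22 + x.m43 * y.m32 + x.m44 * y.m42,
   x.m41 * y.m13 + x.m42 * y.m23 + x.m43 * y.m33 + x.m44 * y.m43,
   x.m41 * y.m14 + x.m42 * y.m24 + x.m43 * y.m34 + x.m44 * y.m44⟩
/-- difference -/
def sub (x y : M4) : M4 :=
  ⟨x.m11 - y.m11, x.m12 - y.m12, x.m13 - y.m13, x.m14 - y.m14, x.m21 - y.m21, x.m22 - y.m22, x.m23 - y.m23, x.m24 - y.m24, x.m31 - y.m31, x.m32 - y.m32, x.m33 - y.m33, x.m34 - y.m34, x.m41 - y.m41, x.m42 - y.m42, x.m43 - y.m43, x.m44 - y.m44⟩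
/-- identity -/
def one : M4 := ⟨1, 0, 0, 0, 0, 1, 0, 0, 0, 0, 1, 0, 0, 0, 0, 1⟩
/-- first generator (order 8) -/
def g1 : M4 := ⟨0, 0, 6, 3, 0, 0, 4, 1, 1, 0, 0, 0, 0, 1, 0, 0⟩
/-- second generator (order 12) -/
def g2 : M4 := ⟨2, 3, 0, 0, 2, 5, 0, 0, 0, 0, 6, 4, 0, 0, 1, 1⟩
/-- inverse of the first generator -/
def g1i : M4 := ⟨0, 0, 1, 0, 0, 0, 0, 1, 1, 4, 0, 0, 3, 6, 0, 0⟩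
/-- inverse of the second generator -/
def g2i : M4 := ⟨3, 1, 0, 0, 3, 4, 0, 0, 0, 0, 4, 5, 0, 0, 3, 3⟩

/-- eighth power -/
def pow8 (x : M4) : M4 :=
  let x2 := mul x x
  let x4 := mul x2 x2
  mul x4 x4
/-- twelfth power -/
def pow12 (x : M4) : M4 :=
  let x2 := mul x x
  let x4 := mul x2 x2
  mul (mul x4 x4) x4

/-- worklist closure under right multiplication by the two generators -/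
def close : ℕ → List M4 → List M4 → List M4
  | 0, _, seen => seen
  | _ + 1, [], seen => seen
  | fuel + 1, s :: rest, seen =>
    let t1 := mul s g1
    let b1 := seen.contains t1
    let seen1 := if b1 then seen else t1 :: seen
    let rest1 := if b1 then rest else t1 :: rest
    let t2 := mul s g2
    let b2 := seen1.contains t2
    let seen2 := if b2 then seen1 else t2 :: seen1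
    let rest2 := if b2 then rest1 else t2 :: rest1
    close fuel rest2 seen2

/-- inverses of `1 - s` for the non-identity elements -/
def invList : List M4 :=
   [⟨1, 2, 1, 2, 5, 0, 5, 0, 0, 2, 1, 2, 5, 6, 5, 0⟩,
    ⟨4, 0, 4, 5, 0, 4, 3, 3, 2, 6, 4, 0, 5, 5, 0, 4⟩,
    ⟨0, 5, 1, 2, 2, 1, 5, 0, 0, 2, 0, 5, 5, 6, 2, 1⟩,
    ⟨4, 0, 4, 6, 0, 4, 4, 3, 4, 6, 4, 0, 4, 3, 0, 4⟩,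
    ⟨1, 2, 2, 4, 5, 0, 3, 0, 0, 1, 1, 2, 6, 3, 5, 0⟩,
    ⟨0, 5, 2, 4, 2, 1, 3, 0, 0, 1, 0, 5, 6, 3, 2, 1⟩,
    ⟨4, 0, 1, 5, 0, 4, 1, 6, 2, 3, 4, 0, 2, 5, 0, 4⟩,
    ⟨4, 0, 1, 3, 0, 4, 6, 6, 1, 3, 4, 0, 6, 6, 0, 4⟩,
    ⟨1, 2, 3, 6, 5, 0, 1, 0, 0, 3, 1, 2, 4, 2, 5, 0⟩,
    ⟨4, 0, 5, 4, 0, 4, 5, 2, 6, 2, 4, 0, 6, 1, 0, 4⟩,
    ⟨4, 0, 5, 1, 0, 4, 2, 2, 3, 2, 4, 0, 4, 4, 0, 4⟩,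
    ⟨0, 5, 3, 6, 2, 1, 1, 0, 0, 3, 0, 5, 4, 2, 2, 1⟩,
    ⟨1, 2, 4, 1, 5, 0, 6, 0, 0, 4, 1, 2, 3, 5, 5, 0⟩,
    ⟨0, 5, 4, 1, 2, 1, 6, 0, 0, 4, 0, 5, 3, 5, 2, 1⟩,
    ⟨4, 0, 2, 6, 0, 4, 5, 5, 4, 5, 4, 0, 3, 3, 0, 4⟩,
    ⟨4, 0, 2, 3, 0, 4, 2, 5, 1, 5, 4, 0, 1, 6, 0, 4⟩,
    ⟨1, 2, 5, 3, 5, 0, 4, 0, 0, 6, 1, 2, 1, 4, 5, 0⟩,
    ⟨4, 0, 6, 4, 0, 4, 1, 1, 6, 4, 4, 0, 1, 1, 0, 4⟩,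
    ⟨4, 0, 6, 2, 0, 4, 6, 1, 5, 4, 4, 0, 5, 2, 0, 4⟩,
    ⟨0, 5, 5, 3, 2, 1, 4, 0, 0, 6, 0, 5, 1, 4, 2, 1⟩,
    ⟨1, 2, 6, 5, 5, 0, 2, 0, 0, 5, 1, 2, 2, 1, 5, 0⟩,
    ⟨4, 0, 3, 1, 0, 4, 3, 4, 3, 1, 4, 0, 3, 4, 0, 4⟩,
    ⟨0, 5, 6, 5, 2, 1, 2, 0, 0, 5, 0, 5, 2, 1, 2, 1⟩,
    ⟨4, 0, 3, 2, 0, 4, 4, 4, 5, 1, 4, 0, 2, 2, 0, 4⟩,
    ⟨3, 1, 0, 0, 2, 0, 0, 0, 0, 0, 2, 2, 0, 0, 6, 4⟩,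
    ⟨1, 2, 0, 0, 5, 0, 0, 0, 0, 0, 1, 2, 0, 0, 5, 0⟩,
    ⟨1, 6, 0, 0, 4, 0, 0, 0, 0, 0, 3, 4, 0, 0, 1, 5⟩,
    ⟨6, 0, 0, 0, 0, 6, 0, 0, 0, 0, 2, 0, 0, 0, 0, 2⟩,
    ⟨2, 3, 0, 0, 4, 4, 0, 0, 0, 0, 4, 3, 0, 0, 4, 6⟩,
    ⟨2, 2, 0, 0, 6, 4, 0, 0, 0, 0, 0, 6, 0, 0, 5, 3⟩,
    ⟨5, 3, 0, 0, 6, 3, 0, 0, 0, 0, 1, 6, 0, 0, 4, 0⟩,
    ⟨3, 0, 0, 0, 0, 3, 0, 0, 0, 0, 5, 0, 0, 0, 0, 5⟩,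
    ⟨6, 5, 0, 0, 1, 4, 0, 0, 0, 0, 1, 1, 0, 0, 2, 5⟩,
    ⟨5, 6, 0, 0, 5, 1, 0, 0, 0, 0, 6, 5, 0, 0, 1, 4⟩,
    ⟨6, 4, 0, 0, 3, 4, 0, 0, 0, 0, 4, 4, 0, 0, 3, 2⟩,
    ⟨2, 0, 0, 0, 0, 2, 0, 0, 0, 0, 6, 0, 0, 0, 0, 6⟩,
    ⟨4, 3, 0, 0, 4, 6, 0, 0, 0, 0, 2, 3, 0, 0, 4, 4⟩,
    ⟨1, 1, 0, 0, 2, 5, 0, 0, 0, 0, 4, 2, 0, 0, 6, 6⟩,
    ⟨4, 2, 0, 0, 6, 6, 0, 0, 0, 0, 5, 6, 0, 0, 5, 1⟩,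
    ⟨5, 0, 0, 0, 0, 5, 0, 0, 0, 0, 3, 0, 0, 0, 0, 3⟩,
    ⟨3, 4, 0, 0, 1, 5, 0, 0, 0, 0, 0, 1, 0, 0, 3, 1⟩,
    ⟨4, 5, 0, 0, 1, 2, 0, 0, 0, 0, 3, 1, 0, 0, 2, 0⟩,
    ⟨4, 4, 0, 0, 3, 2, 0, 0, 0, 0, 6, 4, 0, 0, 3, 4⟩,
    ⟨4, 0, 0, 0, 0, 4, 0, 0, 0, 0, 4, 0, 0, 0, 0, 4⟩,
    ⟨0, 1, 0, 0, 3, 1, 0, 0, 0, 0, 5, 3, 0, 0, 6, 3⟩,
    ⟨0, 5, 0, 0, 2, 1, 0, 0, 0, 0, 0, 5, 0, 0, 2, 1⟩,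
    ⟨0, 6, 0, 0, 5, 3, 0, 0, 0, 0, 4, 5, 0, 0, 1, 2⟩]

/-- the properties checked by kernel evaluation -/
def Good (L : List M4) : Prop :=
  one ∈ L ∧ (∀ s ∈ L, mul s g1 ∈ L) ∧ (∀ s ∈ L, mul s g2 ∈ L) ∧ (∀ s ∈ L, mul s g1i ∈ L) ∧
    (∀ s ∈ L, mul s g2i ∈ L) ∧ (∀ s ∈ L, pow8 s = one ∨ pow12 s = one) ∧
    (∀ s ∈ L, s = one ∨ ∃ t ∈ invList, mul (sub one s) t = one) ∧ L.length = 48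

instance (L : List M4) : Decidable (Good L) := by unfold Good; infer_instance

/-- the enumerated list -/
def theList : List M4 := close 100 [one] [one]

end M4

set_option maxHeartbeats 0 in
set_option maxRecDepth 100000 in
theorem good_theList : M4.Good M4.theList := by decide +kernel

/-- flat power -/
def fpow (x : M4) : ℕ → M4
  | 0 => M4.one
  | n + 1 => M4.mul (fpow x n) x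

theorem gens_facts : M4.mul M4.g1 M4.g1i = M4.one ∧ M4.mul M4.g2 M4.g2i = M4.one ∧
    fpow M4.g1 8 = M4.one ∧ fpow M4.g1 4 ≠ M4.one ∧
    fpow M4.g2 12 = M4.one ∧ fpow M4.g2 6 ≠ M4.one ∧ fpow M4.g2 4 ≠ M4.one := by decide +kernel

end Cfsg.Agent.Helper98.Fro7
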