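import Mathlib
import Cfsg.Agent.Helper98.Fro7Data
import Cfsg.Agent.Helper98.FrobSpec
import Cfsg.Agent.Helper56.Order120

/-!
A solvable Frobenius group `7^4 : (Z_3 ⋊ Q_16)` whose set of element orders is `{1, 2, 3, 4, 6, 7, 8, 12}`.
-/

set_option autoImplicit false

namespace Cfsg.Agent.Helper98.Fro7

open Matrix

/-- a flat matrix as a matrix -/
def toMat (x : M4) : Matrix (Fin 4) (Fin 4) (ZMod 7) :=
  !![x.m11, x.m12, x.m13, x.m14; x.m21, x.m22, x.m23, x.m24;
     x.m31, x.m32, x.m33, x.m34; x.m41, x.m42, x.m43, x.m44]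

theorem toMat_mul (s t : M4) : toMat (M4.mul s t) = toMat s * toMat t := by
  ext i j
  fin_cases i <;> fin_cases j <;> simp [toMat, M4.mul, Matrix.mul_apply, Fin.sum_univ_four]

theorem toMat_sub (s t : M4) : toMat (M4.sub s t) = toMat s - toMat t := by
  ext i j
  fin_cases i <;> fin_cases j <;> simp [toMat, M4.sub]

theorem toMat_one : toMat M4.one = 1 := by
  ext i j
  fin_cases i <;> fin_cases j <;> simp [toMat, M4.one]

theorem toMat_injective : Function.Injective toMat := by
  intro x y h
  have e := fun i j => congrFun (congrFun h i) j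
  have h11 := e 0 0
  have h12 := e 0 1
  have h13 := e 0 2
  have h14 := e 0 3
  have h21 := e 1 0
  have h22 := e 1 1
  have h23 := e 1 2
  have h24 := e 1 3
  have h31 := e 2 0
  have h32 := e 2 1
  have h33 := e 2 2
  have h34 := e 2 3
  have h41 := e 3 0
  have h42 := e 3 1
  have h43 := e 3 2
  have h44 := e 3 3
  cases x
  cases y
  simp only [toMat, Matrix.of_apply, Matrix.cons_val', Matrix.cons_val_zero, Matrix.cons_val_one,
    Matrix.cons_val] at h11 h12 h13 h14 h21 h22 h23 h24 h31 h32 h33 h34 h41 h42 h43 h44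
  simp only [M4.mk.injEq]
  tauto

theorem toMat_pow8 (s : M4) : toMat (M4.pow8 s) = toMat s ^ 8 := by
  simp only [M4.pow8, toMat_mul]
  noncomm_ring

theorem toMat_pow12 (s : M4) : toMat (M4.pow12 s) = toMat s ^ 12 := by
  simp only [M4.pow12, toMat_mul]
  noncomm_ring

theorem toMat_fpow (x : M4) (n : ℕ) : toMat (fpow x n) = toMat x ^ n := by
  induction n with
  | zero => simp [fpow, toMat_one]
  | succ n ih => rw [fpow, toMat_mul, ih, pow_succ]


/-- `GL_4(7)` -/
abbrev GL4 : Type := Matrix.GeneralLinearGroup (Fin 4) (ZMod 7)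

/-- a flat matrix with a flat inverse, as an element of `GL_4(7)` -/
def toGL (x y : M4) (h : M4.mul x y = M4.one) : GL4 where
  val := toMat x
  inv := toMat y
  val_inv := by rw [← toMat_mul, h, toMat_one]
  inv_val := by
    rw [mul_eq_one_comm, ← toMat_mul, h, toMat_one]

/-- first generator -/
def A : GL4 := toGL M4.g1 M4.g1i gens_facts.1
/-- second generator -/
def B : GL4 := toGL M4.g2 M4.g2i gens_facts.2.1

theorem A_inv_val : (A⁻¹).1 = toMat M4.g1i := rfl
theorem B_inv_val : (B⁻¹).1 = toMat M4.g2i := rfl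

/-- the complement -/
def C : Subgroup GL4 := Subgroup.closure {A, B}

theorem A_mem : A ∈ C := Subgroup.subset_closure (by simp)
theorem B_mem : B ∈ C := Subgroup.subset_closure (by simp)

/-- every element of `C` is represented in the enumerated list -/
theorem exists_mem_theList {c : GL4} (hc : c ∈ C) : ∃ s ∈ M4.theList, toMat s = c.1 := by
  obtain ⟨h1, hg1, hg2, hg1i, hg2i, -, -, -⟩ := good_theList
  induction hc using Subgroup.closure_induction_right with
  | one => exact ⟨M4.one, h1, toMat_one⟩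
  | mul_right x hx y hy ih =>
    obtain ⟨s, hs, hs1⟩ := ih
    rcases hy with rfl | rfl
    · refine ⟨M4.mul s M4.g1, hg1 s hs, ?_⟩
      rw [toMat_mul, hs1]; rfl
    · refine ⟨M4.mul s M4.g2, hg2 s hs, ?_⟩
      rw [toMat_mul, hs1]; rfl
  | mul_inv_cancel x hx y hy ih =>
    obtain ⟨s, hs, hs1⟩ := ih
    rcases hy with rfl | rfl
    · refine ⟨M4.mul s M4.g1i, hg1i s hs, ?_⟩
      rw [toMat_mul, hs1, Units.val_mul, A_inv_val]
    · refine ⟨M4.mul s M4.g2i, hg2i s hs, ?_⟩
      rw [toMat_mul, hs1, Units.val_mul, B_inv_val]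

theorem pow_eq_one_of_mem {c : GL4} (hc : c ∈ C) : c ^ 8 = 1 ∨ c ^ 12 = 1 := by
  obtain ⟨s, hs, hs1⟩ := exists_mem_theList hc
  obtain ⟨-, -, -, -, -, hpow, -, -⟩ := good_theList
  rcases hpow s hs with h | h
  · left
    apply Units.ext
    rw [Units.val_pow_eq_pow_val, ← hs1, ← toMat_pow8, h, toMat_one]; rfl
  · right
    apply Units.ext
    rw [Units.val_pow_eq_pow_val, ← hs1, ← toMat_pow12, h, toMat_one]; rfl

theorem free_of_mem {c : GL4} (hc : c ∈ C) (hne : c ≠ 1) (v : Fin 4 → ZMod 7) :
    ∃ w : Fin 4 → ZMod 7, w - c.1.mulVec w = v := by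
  obtain ⟨s, hs, hs1⟩ := exists_mem_theList hc
  obtain ⟨-, -, -, -, -, -, hfree, -⟩ := good_theList
  rcases hfree s hs with h | ⟨t, -, ht⟩
  · exfalso
    apply hne
    apply Units.ext
    rw [← hs1, h, toMat_one]; rfl
  · have h2 : (1 - c.1) * toMat t = 1 := by
      rw [← hs1, ← toMat_one, ← toMat_sub, ← toMat_mul, ht]
    refine ⟨(toMat t).mulVec v, ?_⟩
    have : (toMat t).mulVec v - c.1.mulVec ((toMat t).mulVec v) = ((1 - c.1) * toMat t).mulVec v := by
      rw [← Matrix.mulVec_mulVec, Matrix.sub_mulVec, Matrix.one_mulVec]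
    rw [this, h2, Matrix.one_mulVec]

theorem card_C_le : Nat.card C ≤ 48 := by
  classical
  obtain ⟨-, -, -, -, -, -, -, hlen⟩ := good_theList
  let T : Finset (Matrix (Fin 4) (Fin 4) (ZMod 7)) := (M4.theList.map toMat).toFinset
  have hT : T.card ≤ 48 := by
    calc T.card ≤ (M4.theList.map toMat).length := List.toFinset_card_le _
      _ = 48 := by rw [List.length_map, hlen]
  let f : C → T := fun c => ⟨c.1.1, by
    obtain ⟨s, hs, hs1⟩ := exists_mem_theList c.2
    rw [List.mem_toFinset, List.mem_map]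
    exact ⟨s, hs, hs1⟩⟩
  have hf : Function.Injective f := by
    intro c d h
    have : c.1.1 = d.1.1 := congrArg Subtype.val h
    exact Subtype.ext (Units.ext this)
  calc Nat.card C ≤ Nat.card T := Nat.card_le_card_of_injective f hf
    _ = T.card := by rw [Nat.card_eq_fintype_card, Fintype.card_coe]
    _ ≤ 48 := hT

instance instSolvableC : Group.IsSolvable C :=
  Cfsg.Agent.Helper56.Order120.solvable_of_card_lt_60 (Nat.card C) C rfl
    (lt_of_le_of_lt card_C_le (by norm_num))


theorem pow_eq_one_iff (x y : M4) (h : M4.mul x y = M4.one) (n : ℕ) :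
    toGL x y h ^ n = 1 ↔ fpow x n = M4.one := by
  constructor
  · intro hn
    apply toMat_injective
    rw [toMat_fpow, toMat_one]
    have h' := congrArg Units.val hn
    rw [Units.val_pow_eq_pow_val] at h'
    exact h'
  · intro hn
    apply Units.ext
    rw [Units.val_pow_eq_pow_val]
    change toMat x ^ n = 1
    rw [← toMat_fpow, hn, toMat_one]

theorem orderOf_A : orderOf A = 8 := by
  obtain ⟨-, -, h8, h4, -, -, -⟩ := gens_facts
  have e : (8 : ℕ) = 2 ^ (2 + 1) := by norm_num
  rw [e]
  apply orderOf_eq_prime_pow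
  · intro h
    apply h4
    have : (2 : ℕ) ^ 2 = 4 := by norm_num
    rw [this] at h
    exact (pow_eq_one_iff _ _ _ 4).1 h
  · have : (2 : ℕ) ^ (2 + 1) = 8 := by norm_num
    rw [this]
    exact (pow_eq_one_iff _ _ _ 8).2 h8

theorem orderOf_B : orderOf B = 12 := by
  obtain ⟨-, -, -, -, h12, h6, h4⟩ := gens_facts
  apply orderOf_eq_of_pow_and_pow_div_prime (by norm_num)
  · exact (pow_eq_one_iff _ _ _ 12).2 h12
  · intro q hq hq12
    have hq' : q = 2 ∨ q = 3 := by
      have h1 : q ∣ 2 * (2 * 3) := hq12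
      rcases (Nat.Prime.dvd_mul hq).1 h1 with h | h
      · left; exact (Nat.prime_dvd_prime_iff_eq hq Nat.prime_two).1 h
      · rcases (Nat.Prime.dvd_mul hq).1 h with h | h
        · left; exact (Nat.prime_dvd_prime_iff_eq hq Nat.prime_two).1 h
        · right; exact (Nat.prime_dvd_prime_iff_eq hq Nat.prime_three).1 h
    rcases hq' with rfl | rfl
    · intro h
      apply h6
      have : (12 : ℕ) / 2 = 6 := by norm_num
      rw [this] at h
      exact (pow_eq_one_iff _ _ _ 6).1 h
    · intro h
      apply h4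
      have : (12 : ℕ) / 3 = 4 := by norm_num
      rw [this] at h
      exact (pow_eq_one_iff _ _ _ 4).1 h

/-- the spectrum of the complement -/
theorem range_orderOf_C : Set.range (orderOf : C → ℕ) = {1, 2, 3, 4, 6, 8, 12} := by
  ext k
  constructor
  · rintro ⟨c, rfl⟩
    have hcoe : orderOf c = orderOf (c : GL4) := (Subgroup.orderOf_coe c).symm
    change orderOf c ∈ _
    rw [hcoe]
    have hd : orderOf c.1 ∣ 8 ∨ orderOf c.1 ∣ 12 := by
      rcases pow_eq_one_of_mem c.2 with h | h
      · left; exact orderOf_dvd_of_pow_eq_one h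
      · right; exact orderOf_dvd_of_pow_eq_one h
    rcases hd with h | h
    · have : orderOf c.1 ∈ Nat.divisors 8 := Nat.mem_divisors.2 ⟨h, by norm_num⟩
      have h8 : Nat.divisors 8 = {1, 2, 4, 8} := by decide
      rw [h8] at this
      simp only [Finset.mem_insert, Finset.mem_singleton] at this
      simp only [Set.mem_insert_iff, Set.mem_singleton_iff]
      omega
    · have : orderOf c.1 ∈ Nat.divisors 12 := Nat.mem_divisors.2 ⟨h, by norm_num⟩
      have h12 : Nat.divisors 12 = {1, 2, 3, 4, 6, 12} := by decide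
      rw [h12] at this
      simp only [Finset.mem_insert, Finset.mem_singleton] at this
      simp only [Set.mem_insert_iff, Set.mem_singleton_iff]
      omega
  · intro hk
    simp only [Set.mem_insert_iff, Set.mem_singleton_iff] at hk
    let a : C := ⟨A, A_mem⟩
    let b : C := ⟨B, B_mem⟩
    have ha : orderOf a = 8 := by rw [← Subgroup.orderOf_coe]; exact orderOf_A
    have hb : orderOf b = 12 := by rw [← Subgroup.orderOf_coe]; exact orderOf_B
    rcases hk with rfl | rfl | rfl | rfl | rfl | rfl | rfl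
    · exact ⟨1, orderOf_one⟩
    · exact ⟨a ^ 4, by rw [orderOf_pow' a (by norm_num), ha]; norm_num⟩
    · exact ⟨b ^ 4, by rw [orderOf_pow' b (by norm_num), hb]; norm_num⟩
    · exact ⟨a ^ 2, by rw [orderOf_pow' a (by norm_num), ha]; norm_num⟩
    · exact ⟨b ^ 2, by rw [orderOf_pow' b (by norm_num), hb]; norm_num⟩
    · exact ⟨a, ha⟩
    · exact ⟨b, hb⟩

/-- the Frobenius group `7^4 : (Z_3 ⋊ Q_16)` -/
abbrev H7 : Type :=
  Multiplicative (Fin 4 → ZMod 7) ⋊[(FrobSpec.glAut 4 7).comp C.subtype] C

instance instFactPrime7 : Fact (Nat.Prime 7) := ⟨by norm_num⟩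

theorem range_orderOf_H7 : Set.range (orderOf : H7 → ℕ) = {1, 2, 3, 4, 6, 7, 8, 12} := by
  rw [FrobSpec.range_orderOf_linear (by norm_num) C.subtype, range_orderOf_C]
  · ext k
    simp only [Set.mem_insert_iff, Set.mem_singleton_iff]
    omega
  · intro c hc v
    apply free_of_mem c.2
    intro h
    exact hc (Subtype.ext h)

theorem isSolvable_H7 : Group.IsSolvable H7 := FrobSpec.isSolvable_linear C.subtype

instance instFiniteH7 : Finite H7 := Finite.of_equiv _ SemidirectProduct.equivProd.symm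

end Cfsg.Agent.Helper98.Fro7
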