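import Cfsg.Agent.Helper98.J1Check1

/-!
# Boolean checks for the Schreier–Sims verification of `J1` (the `Y` part)
-/

set_option autoImplicit false

namespace Cfsg.Agent.Helper98.J1

set_option maxRecDepth 1000000 in
set_option maxHeartbeats 0 in
theorem stepY_0 : stepOK yCode permYBig certYBig 0 1540 = true := by decide +kernel

set_option maxRecDepth 1000000 in
set_option maxHeartbeats 0 in
theorem stepY_1 : stepOK yCode permYBig certYBig 1540 1540 = true := by decide +kernel

end Cfsg.Agent.Helper98.J1
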