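import Cfsg.Agent.Helper98.J1Check1
import Cfsg.Agent.Helper98.J1Data4
import Cfsg.Agent.Helper98.J1Check2

/-!
# Boolean checks for the Schreier–Sims verification of `J1` (trees, points, level 2)
-/

set_option autoImplicit false

namespace Cfsg.Agent.Helper98.J1

/-- the base vector of level 1 (fixed by an element of order 19) -/
def beta1 : List ℕ := [1, 4, 0, 0, 6, 0, 1]

/-- the base vector of level 2 -/
def beta2 : List ℕ := [1, 0, 0, 0, 0, 0, 0]

/-- tree check at level 1: matrix `i` is generator `pgen i` times matrix `par i`, `par i < i` -/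
def tree1OK (lo len : ℕ) : Bool :=
  (List.range' lo len).all fun i =>
    withNat (fld par1Big 12 i) fun p => withNat (fld pgen1Big 4 i) fun g =>
      decide (p < i) && withNat (m1 p) fun A => withNat (m1 i) fun B =>
        eqMul (if g = 0 then xCode else yCode) A B

theorem tree1OK_spec {lo len : ℕ} (h : tree1OK lo len = true) (i : ℕ) (h1 : lo ≤ i)
    (h2 : i < lo + len) :
    fld par1Big 12 i < i ∧
      toMat (if fld pgen1Big 4 i = 0 then xCode else yCode) * toMat (m1 (fld par1Big 12 i)) =
        toMat (m1 i) := by
  simp only [tree1OK, List.all_eq_true, List.mem_range'_1, withNat_eq, Bool.and_eq_true,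
    decide_eq_true_eq] at h
  obtain ⟨h3, h4⟩ := h i ⟨h1, h2⟩
  exact ⟨h3, eqMul_spec h4⟩

/-- packed code of a vector -/
def vcode (v : List ℕ) : ℕ := v.foldr (fun d acc => d + 16 * acc) 0

/-- the code of the `i`-th orbit point -/
def K1 (i : ℕ) : ℕ := fld keys1Big 28 i

/-- the sorting permutation -/
def sg1 (k : ℕ) : ℕ := fld sig1Big 12 k

/-- the orbit points are reduced, are the images of the base vector under the transversal, and
have the codes of the table -/
def ptsOK : List (List ℕ) → ℕ → Bool
  | [], _ => true
  | p :: ps, i => (isRed p && (withNat (m1 i) fun A => eqMulVec A beta1 p) && vcode p == K1 i) &&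
      withNat (i + 1) fun i' => ptsOK ps i'

theorem ptsOK_spec (l : List (List ℕ)) (k : ℕ) (h : ptsOK l k = true) (i : ℕ) (hi : i < l.length) :
    isRed (l.getD i []) = true ∧ eqMulVec (m1 (k + i)) beta1 (l.getD i []) = true ∧
      vcode (l.getD i []) = K1 (k + i) := by
  induction l generalizing k i with
  | nil => simp at hi
  | cons p ps ih =>
    simp only [ptsOK, Bool.and_eq_true, withNat_eq, beq_iff_eq] at h
    cases i with
    | zero => simpa [and_assoc] using h.1
    | succ i =>
      have := ih (k + 1) h.2 i (by simpa using hi)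
      simpa [Nat.add_assoc, Nat.add_comm 1 i] using this

/-- the codes are strictly increasing along the sorting permutation -/
def sortedOK : Bool :=
  (List.range 3079).all fun k =>
    withNat (sg1 k) fun a => withNat (sg1 (k + 1)) fun b =>
      decide (a < 3080) && decide (b < 3080) && decide (K1 a < K1 b)

theorem sortedOK_spec (h : sortedOK = true) (k : ℕ) (hk : k < 3079) :
    sg1 k < 3080 ∧ sg1 (k + 1) < 3080 ∧ K1 (sg1 k) < K1 (sg1 (k + 1)) := by
  simp only [sortedOK, List.all_eq_true, List.mem_range, withNat_eq, Bool.and_eq_true,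
    decide_eq_true_eq] at h
  obtain ⟨⟨h1, h2⟩, h3⟩ := h k hk
  exact ⟨h1, h2, h3⟩

theorem tree1OK_add (lo l1 l2 : ℕ) :
    tree1OK lo (l1 + l2) = (tree1OK lo l1 && tree1OK (lo + l1) l2) := by
  rw [tree1OK, tree1OK, tree1OK, ← List.range'_append_1, List.all_append]

set_option maxRecDepth 1000000 in
set_option maxHeartbeats 0 in
theorem tree1_0a : tree1OK 1 1026 = true := by decide +kernel

set_option maxRecDepth 1000000 in
set_option maxHeartbeats 0 in
theorem tree1_0b : tree1OK 1027 1026 = true := by decide +kernel

set_option maxRecDepth 1000000 in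
set_option maxHeartbeats 0 in
theorem tree1_0c : tree1OK 2053 1027 = true := by decide +kernel

theorem tree1_0 : tree1OK 1 3079 = true := by
  have e : (3079 : ℕ) = 1026 + (1026 + 1027) := by norm_num
  rw [e, tree1OK_add, tree1OK_add, tree1_0a]
  simp only [Nat.reduceAdd, Bool.true_and]
  rw [tree1_0b, tree1_0c]
  rfl

set_option maxRecDepth 1000000 in
set_option maxHeartbeats 0 in
theorem pts1_ok : ptsOK pts1 0 = true := by decide +kernel

set_option maxRecDepth 1000000 in
set_option maxHeartbeats 0 in
theorem pts1_length : pts1.length = 3080 := by decide +kernel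

set_option maxRecDepth 1000000 in
set_option maxHeartbeats 0 in
theorem sorted_ok : sortedOK = true := by decide +kernel

/-- the codes of the orbit points are pairwise distinct -/
theorem K1_inj {i j : ℕ} (hi : i < 3080) (hj : j < 3080) (h : K1 i = K1 j) : i = j := by
  have hs : ∀ k, k < 3080 → sg1 k < 3080 := by
    intro k hk
    rcases Nat.lt_or_ge k 3079 with h1 | h1
    · exact (sortedOK_spec sorted_ok k h1).1
    · have : k = 3078 + 1 := by omega
      rw [this]
      exact (sortedOK_spec sorted_ok 3078 (by norm_num)).2.1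
  let σ : Fin 3080 → Fin 3080 := fun k => ⟨sg1 k.val, hs k.val k.isLt⟩
  have hmono : StrictMono (fun k : Fin 3080 => K1 (σ k).val) := by
    rw [Fin.strictMono_iff_lt_succ]
    intro k
    exact (sortedOK_spec sorted_ok k.val k.isLt).2.2
  have hσinj : Function.Injective σ := by
    intro a b hab
    apply hmono.injective
    show K1 (σ a).val = K1 (σ b).val
    rw [hab]
  have hσsurj : Function.Surjective σ := Finite.injective_iff_surjective.1 hσinj
  obtain ⟨a, ha⟩ := hσsurj ⟨i, hi⟩
  obtain ⟨b, hb⟩ := hσsurj ⟨j, hj⟩
  have hab : a = b := by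
    apply hmono.injective
    show K1 (σ a).val = K1 (σ b).val
    rw [ha, hb]
    exact h
  have := congrArg Fin.val (ha.symm.trans ((congrArg σ hab).trans hb))
  exact this

theorem pts1_inj {i j : ℕ} (hi : i < 3080) (hj : j < 3080)
    (h : pts1.getD i [] = pts1.getD j []) : i = j := by
  apply K1_inj hi hj
  have h1 := (ptsOK_spec pts1 0 pts1_ok i (by rw [pts1_length]; exact hi)).2.2
  have h2 := (ptsOK_spec pts1 0 pts1_ok j (by rw [pts1_length]; exact hj)).2.2
  rw [Nat.zero_add] at h1 h2
  rw [← h1, ← h2, h]

theorem pts1_zero : pts1.getD 0 [] = beta1 := by decide +kernel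

set_option maxRecDepth 1000000 in
theorem m1_zero : m1 0 = idCode := by decide +kernel

/-! ### level 2 -/

/-- all checks at level 2 -/
def lvl2OK : Bool :=
  (List.range 57).all fun i =>
    withNat (mats2.getD i 0) fun A =>
      isRed (pts2.getD i []) && eqMulVec A beta2 (pts2.getD i []) &&
      decide (permA.getD i 0 < 57) && decide (permB.getD i 0 < 57) &&
      eqMul aCode A (mats2.getD (permA.getD i 0) 0) && eqMul bCode A (mats2.getD (permB.getD i 0) 0)

/-- tree check at level 2 -/
def tree2OK : Bool :=
  (List.range' 1 56).all fun i =>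
    decide (par2.getD i 0 < i) &&
      eqMul (if pgen2.getD i 0 = 0 then aCode else bCode) (mats2.getD (par2.getD i 0) 0)
        (mats2.getD i 0)

set_option maxRecDepth 1000000 in
theorem lvl2_ok : lvl2OK = true := by decide +kernel

set_option maxRecDepth 1000000 in
theorem tree2_ok : tree2OK = true := by decide +kernel

theorem mats2_zero : mats2.getD 0 0 = idCode := by decide +kernel

theorem pts2_zero : pts2.getD 0 [] = beta2 := by decide +kernel

theorem pts2_length : pts2.length = 57 := by decide +kernel

set_option maxRecDepth 1000000 in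
theorem pts2_nodup : pts2.Nodup := by decide +kernel

/-- the generators of the stabiliser fix the base vector -/
theorem fix_beta1 : (eqMulVec aCode beta1 beta1 && eqMulVec bCode beta1 beta1) = true := by
  decide +kernel

/-! ### straight line programs -/

/-- check of a straight line program: entry `k ≥ k0` is the product of two earlier entries -/
def slpOK (tab : List ℕ) (prog : List (ℕ × ℕ)) (k0 : ℕ) : Bool :=
  (List.range' k0 (tab.length - k0)).all fun k =>
    decide ((prog.getD k (0, 0)).1 < k) && decide ((prog.getD k (0, 0)).2 < k) &&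
      eqMul (tab.getD (prog.getD k (0, 0)).1 0) (tab.getD (prog.getD k (0, 0)).2 0) (tab.getD k 0)

theorem slpOK_spec {tab : List ℕ} {prog : List (ℕ × ℕ)} {k0 : ℕ} (h : slpOK tab prog k0 = true)
    (k : ℕ) (h1 : k0 ≤ k) (h2 : k < tab.length) :
    (prog.getD k (0, 0)).1 < k ∧ (prog.getD k (0, 0)).2 < k ∧
      toMat (tab.getD (prog.getD k (0, 0)).1 0) * toMat (tab.getD (prog.getD k (0, 0)).2 0) =
        toMat (tab.getD k 0) := by
  simp only [slpOK, List.all_eq_true, List.mem_range'_1, Bool.and_eq_true,
    decide_eq_true_eq] at h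
  obtain ⟨⟨h3, h4⟩, h5⟩ := h k ⟨h1, by omega⟩
  exact ⟨h3, h4, eqMul_spec h5⟩

set_option maxRecDepth 1000000 in
theorem slpAB_ok : slpOK slpAB slpABprog 2 = true := by decide +kernel

theorem slpAB_facts : slpAB.getD 0 0 = xCode ∧ slpAB.getD 1 0 = yCode ∧ slpAB.getD 4 0 = aCode ∧
    slpAB.getD 18 0 = bCode ∧ slpAB.length = 19 := by decide +kernel

end Cfsg.Agent.Helper98.J1
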