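import Cfsg.Agent.Helper98.J1Check2
import Cfsg.Agent.Helper98.J1Check3
import Cfsg.Prelude.Def_Spor_J1

/-!
# The order of `J1`

`Nat.card J1 = 175560` by a two-level Schreier–Sims verification: the orbit of a vector fixed by
an element of order 19 has 3080 points, and its stabiliser (of order 57) is regular on the orbit
of the first basis vector.
-/

set_option autoImplicit false

namespace Cfsg.Agent.Helper98.J1

open Cfsg Cfsg.Spor Matrix

/-- the ambient group -/
abbrev G7 : Type := GL (Fin 7) (ZMod 11)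

theorem smul_eq (g : G7) (v : Fin 7 → ZMod 11) :
    g • v = (g : Matrix (Fin 7) (Fin 7) (ZMod 11)).mulVec v := rfl

/-- `Rep K c`: some element of `K` has matrix `toMat c` -/
def Rep (K : Subgroup G7) (c : ℕ) : Prop :=
  ∃ g ∈ K, (g : Matrix (Fin 7) (Fin 7) (ZMod 11)) = toMat c

theorem Rep.one (K : Subgroup G7) : Rep K idCode :=
  ⟨1, K.one_mem, by rw [toMat_idCode]; rfl⟩

theorem Rep.mul {K : Subgroup G7} {a b c : ℕ} (ha : Rep K a) (hb : Rep K b)
    (h : toMat a * toMat b = toMat c) : Rep K c := by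
  obtain ⟨g, hg, e⟩ := ha
  obtain ⟨g', hg', e'⟩ := hb
  exact ⟨g * g', K.mul_mem hg hg', by rw [Units.val_mul, e, e', h]⟩

theorem Rep.mono {K K' : Subgroup G7} (h : K ≤ K') {c : ℕ} (hc : Rep K c) : Rep K' c := by
  obtain ⟨g, hg, e⟩ := hc
  exact ⟨g, h hg, e⟩

theorem rep_of_slp {K : Subgroup G7} {tab : List ℕ} {prog : List (ℕ × ℕ)} {k0 : ℕ}
    (h : slpOK tab prog k0 = true) (h0 : ∀ k < k0, Rep K (tab.getD k 0)) :
    ∀ k < tab.length, Rep K (tab.getD k 0) := by
  intro k
  induction k using Nat.strong_induction_on with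
  | _ k ih =>
    intro hk
    rcases Nat.lt_or_ge k k0 with h1 | h1
    · exact h0 k h1
    · obtain ⟨h3, h4, h5⟩ := slpOK_spec h k h1 hk
      exact Rep.mul (ih _ h3 (by omega)) (ih _ h4 (by omega)) h5

set_option maxRecDepth 100000 in
theorem jankoX_coe : (jankoX : Matrix (Fin 7) (Fin 7) (ZMod 11)) = toMat xCode := by
  show jankoMatrixX = toMat xCode
  have : ∀ i j : Fin 7, (jankoMatrixX i j == ((ent xCode i j : ℕ) : ZMod 11)) = true := by
    decide +kernel
  ext i j
  exact beq_iff_eq.1 (this i j)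

set_option maxRecDepth 100000 in
theorem jankoY_coe : (jankoY : Matrix (Fin 7) (Fin 7) (ZMod 11)) = toMat yCode := by
  show jankoMatrixY = toMat yCode
  have : ∀ i j : Fin 7, (jankoMatrixY i j == ((ent yCode i j : ℕ) : ZMod 11)) = true := by
    decide +kernel
  ext i j
  exact beq_iff_eq.1 (this i j)

theorem repX : Rep J1 xCode := ⟨jankoX, Subgroup.subset_closure (by simp), jankoX_coe⟩

theorem repY : Rep J1 yCode := ⟨jankoY, Subgroup.subset_closure (by simp), jankoY_coe⟩

theorem repAB : Rep J1 aCode ∧ Rep J1 bCode := by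
  obtain ⟨h0, h1, h4, h18, hl⟩ := slpAB_facts
  have h := rep_of_slp (K := J1) slpAB_ok (by
    intro k hk
    have : k = 0 ∨ k = 1 := by omega
    rcases this with rfl | rfl
    · rw [h0]; exact repX
    · rw [h1]; exact repY)
  exact ⟨h4 ▸ h 4 (by omega), h18 ▸ h 18 (by omega)⟩

theorem getD_inj_of_nodup {α : Type*} {l : List α} (hl : l.Nodup) (d : α) {i j : ℕ}
    (hi : i < l.length) (hj : j < l.length) (h : l.getD i d = l.getD j d) : i = j := by
  rw [List.getD_eq_getElem _ _ hi, List.getD_eq_getElem _ _ hj] at h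
  exact (hl.getElem_inj_iff).1 h

/-! ### level 2 -/

theorem lvl2_spec (i : ℕ) (hi : i < 57) :
    isRed (pts2.getD i []) = true ∧
      (toMat (mats2.getD i 0)).mulVec (toVec beta2) = toVec (pts2.getD i []) ∧
      permA.getD i 0 < 57 ∧ permB.getD i 0 < 57 ∧
      toMat aCode * toMat (mats2.getD i 0) = toMat (mats2.getD (permA.getD i 0) 0) ∧
      toMat bCode * toMat (mats2.getD i 0) = toMat (mats2.getD (permB.getD i 0) 0) := by
  have h := lvl2_ok
  simp only [lvl2OK, List.all_eq_true, List.mem_range, withNat_eq, Bool.and_eq_true,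
    decide_eq_true_eq] at h
  obtain ⟨⟨⟨⟨⟨h1, h2⟩, h3⟩, h4⟩, h5⟩, h6⟩ := h i hi
  exact ⟨h1, eqMulVec_spec h2, h3, h4, eqMul_spec h5, eqMul_spec h6⟩

theorem tree2_spec (i : ℕ) (h1 : 1 ≤ i) (hi : i < 57) :
    par2.getD i 0 < i ∧
      toMat (if pgen2.getD i 0 = 0 then aCode else bCode) * toMat (mats2.getD (par2.getD i 0) 0) =
        toMat (mats2.getD i 0) := by
  have h := tree2_ok
  simp only [tree2OK, List.all_eq_true, List.mem_range'_1, Bool.and_eq_true,
    decide_eq_true_eq] at h
  obtain ⟨h3, h4⟩ := h i ⟨h1, by omega⟩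
  exact ⟨h3, eqMul_spec h4⟩

/-- The group generated by two elements with matrices `toMat aCode`, `toMat bCode` has order 57 and
its elements are the matrices of the table `mats2`. -/
theorem level2 (ga gb : G7) (ha : (ga : Matrix (Fin 7) (Fin 7) (ZMod 11)) = toMat aCode)
    (hb : (gb : Matrix (Fin 7) (Fin 7) (ZMod 11)) = toMat bCode) :
    Nat.card (Subgroup.closure ({ga, gb} : Set G7)) = 57 ∧
      (∀ g ∈ Subgroup.closure ({ga, gb} : Set G7), ∃ c < 57,
        (g : Matrix (Fin 7) (Fin 7) (ZMod 11)) = toMat (mats2.getD c 0)) ∧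
      (∀ c < 57, Rep (Subgroup.closure ({ga, gb} : Set G7)) (mats2.getD c 0)) := by
  set H := Subgroup.closure ({ga, gb} : Set G7) with hH
  have hgaH : ga ∈ H := Subgroup.subset_closure (by simp)
  have hgbH : gb ∈ H := Subgroup.subset_closure (by simp)
  have rep2 : ∀ i < 57, Rep H (mats2.getD i 0) := by
    intro i
    induction i using Nat.strong_induction_on with
    | _ i ih =>
      intro hi
      rcases Nat.eq_zero_or_pos i with rfl | hpos
      · rw [mats2_zero]; exact Rep.one H
      · obtain ⟨h3, h4⟩ := tree2_spec i hpos hi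
        refine Rep.mul ?_ (ih _ h3 (by omega)) h4
        split_ifs
        · exact ⟨ga, hgaH, ha⟩
        · exact ⟨gb, hgbH, hb⟩
  let U : Fin 57 → G7 := fun i => Classical.choose (rep2 i.val i.isLt)
  have hU : ∀ i : Fin 57, U i ∈ H ∧
      ((U i : G7) : Matrix (Fin 7) (Fin 7) (ZMod 11)) = toMat (mats2.getD i.val 0) :=
    fun i => Classical.choose_spec (rep2 i.val i.isLt)
  let pt : Fin 57 → (Fin 7 → ZMod 11) := fun i => toVec (pts2.getD i.val [])
  have hinj : Function.Injective pt := by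
    intro i j hij
    have h1 := toVec_inj (lvl2_spec i.val i.isLt).1 (lvl2_spec j.val j.isLt).1 hij
    exact Fin.ext (getD_inj_of_nodup pts2_nodup [] (by rw [pts2_length]; exact i.isLt)
      (by rw [pts2_length]; exact j.isLt) h1)
  have hU0 : U 0 = 1 := by
    apply Units.ext
    rw [(hU 0).2]
    show toMat (mats2.getD 0 0) = 1
    rw [mats2_zero, toMat_idCode]
  have hpt0 : pt 0 = toVec beta2 := by
    show toVec (pts2.getD 0 []) = _
    rw [pts2_zero]
  have main := level_main (M := G7) ({ga, gb} : Set G7) ⊥ 57 pt hinj U 0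
    (by rw [hU0]; exact Subgroup.one_mem _)
    (by
      intro i
      rw [smul_eq, (hU i).2, hpt0]
      exact (lvl2_spec i.val i.isLt).2.1)
    (fun i => (hU i).1) bot_le
    (by
      intro h hh
      rw [Subgroup.mem_bot] at hh
      rw [hh, one_smul])
    (by
      intro s hs i
      obtain ⟨-, -, h3, h4, h5, h6⟩ := lvl2_spec i.val i.isLt
      rcases hs with rfl | hs
      · refine ⟨⟨permA.getD i.val 0, h3⟩, 1, Subgroup.one_mem _, ?_⟩
        apply Units.ext
        rw [mul_one, Units.val_mul, ha, (hU i).2, (hU _).2]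
        exact h5
      · rw [Set.mem_singleton_iff] at hs
        subst hs
        refine ⟨⟨permB.getD i.val 0, h4⟩, 1, Subgroup.one_mem _, ?_⟩
        apply Units.ext
        rw [mul_one, Units.val_mul, hb, (hU i).2, (hU _).2]
        exact h6)
  obtain ⟨hcard, -, hfact⟩ := main
  refine ⟨?_, ?_, rep2⟩
  · rw [hcard, Subgroup.card_bot]
  · intro g hg
    obtain ⟨i, h, hh, e⟩ := hfact g hg
    rw [Subgroup.mem_bot] at hh
    refine ⟨i.val, i.isLt, ?_⟩
    rw [e, hh, mul_one, (hU i).2]

/-! ### level 1 -/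

theorem stepX_spec (i : ℕ) (hi : i < 3080) :
    fld permXBig 12 i < 3080 ∧ fld certXBig 8 i < 57 ∧
      toMat xCode * toMat (m1 i) =
        toMat (m1 (fld permXBig 12 i)) * toMat (mats2.getD (fld certXBig 8 i) 0) := by
  rcases Nat.lt_or_ge i 1540 with h | h
  · exact stepOK_spec stepX_0 i (Nat.zero_le _) (by omega)
  · exact stepOK_spec stepX_1 i h (by omega)

theorem stepY_spec (i : ℕ) (hi : i < 3080) :
    fld permYBig 12 i < 3080 ∧ fld certYBig 8 i < 57 ∧
      toMat yCode * toMat (m1 i) =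
        toMat (m1 (fld permYBig 12 i)) * toMat (mats2.getD (fld certYBig 8 i) 0) := by
  rcases Nat.lt_or_ge i 1540 with h | h
  · exact stepOK_spec stepY_0 i (Nat.zero_le _) (by omega)
  · exact stepOK_spec stepY_1 i h (by omega)

theorem rep1 : ∀ i < 3080, Rep J1 (m1 i) := by
  intro i
  induction i using Nat.strong_induction_on with
  | _ i ih =>
    intro hi
    rcases Nat.eq_zero_or_pos i with rfl | hpos
    · rw [m1_zero]; exact Rep.one J1
    · obtain ⟨h3, h4⟩ := tree1OK_spec tree1_0 i hpos (by omega)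
      refine Rep.mul ?_ (ih _ h3 (by omega)) h4
      split_ifs
      · exact repX
      · exact repY

theorem pts1_spec (i : ℕ) (hi : i < 3080) :
    isRed (pts1.getD i []) = true ∧
      (toMat (m1 i)).mulVec (toVec beta1) = toVec (pts1.getD i []) := by
  obtain ⟨h1, h2, -⟩ := ptsOK_spec pts1 0 pts1_ok i (by rw [pts1_length]; exact hi)
  rw [Nat.zero_add] at h2
  exact ⟨h1, eqMulVec_spec h2⟩

/-- The structure of `J1` found by the Schreier–Sims verification: there is a subgroup `H` of order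
57 (the stabiliser of the base vector) such that every element of `J1` has a matrix of the form
`toMat (m1 i) * toMat (mats2[c])`. -/
theorem J1_structure :
    Nat.card J1 = 175560 ∧ ∃ H : Subgroup G7, H ≤ J1 ∧ Nat.card H = 57 ∧
      J1 ⊓ MulAction.stabilizer G7 (toVec beta1) = H ∧
      (∀ g ∈ H, ∃ c < 57, (g : Matrix (Fin 7) (Fin 7) (ZMod 11)) = toMat (mats2.getD c 0)) ∧
      (∀ c < 57, Rep H (mats2.getD c 0)) ∧
      (∀ g ∈ J1, ∃ i < 3080, ∃ h ∈ H, ∃ u ∈ J1,
        (u : Matrix (Fin 7) (Fin 7) (ZMod 11)) = toMat (m1 i) ∧ g = u * h) := by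
  obtain ⟨⟨ga, hgaK, ha⟩, ⟨gb, hgbK, hb⟩⟩ := repAB
  obtain ⟨hcardH, hHelts, hHrep⟩ := level2 ga gb ha hb
  set H := Subgroup.closure ({ga, gb} : Set G7) with hH
  have hHK : H ≤ J1 := by
    rw [hH, Subgroup.closure_le]
    rintro g (rfl | hg)
    · exact hgaK
    · rw [Set.mem_singleton_iff] at hg
      rw [hg]; exact hgbK
  let U : Fin 3080 → G7 := fun i => Classical.choose (rep1 i.val i.isLt)
  have hU : ∀ i : Fin 3080, U i ∈ J1 ∧
      ((U i : G7) : Matrix (Fin 7) (Fin 7) (ZMod 11)) = toMat (m1 i.val) :=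
    fun i => Classical.choose_spec (rep1 i.val i.isLt)
  let pt : Fin 3080 → (Fin 7 → ZMod 11) := fun i => toVec (pts1.getD i.val [])
  have hinj : Function.Injective pt := by
    intro i j hij
    have h1 := toVec_inj (pts1_spec i.val i.isLt).1 (pts1_spec j.val j.isLt).1 hij
    exact Fin.ext (pts1_inj i.isLt j.isLt h1)
  have hU0 : U 0 = 1 := by
    apply Units.ext
    rw [(hU 0).2]
    show toMat (m1 0) = 1
    rw [m1_zero, toMat_idCode]
  have hpt0 : pt 0 = toVec beta1 := by
    show toVec (pts1.getD 0 []) = _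
    rw [pts1_zero]
  have hfix : ∀ h ∈ H, h • pt 0 = pt 0 := by
    have hle : H ≤ MulAction.stabilizer G7 (pt 0) := by
      rw [hH, Subgroup.closure_le]
      have hf := fix_beta1
      rw [Bool.and_eq_true] at hf
      rintro g (rfl | hg)
      · show g • pt 0 = pt 0
        rw [smul_eq, ha, hpt0]
        exact eqMulVec_spec hf.1
      · rw [Set.mem_singleton_iff] at hg
        subst hg
        show g • pt 0 = pt 0
        rw [smul_eq, hb, hpt0]
        exact eqMulVec_spec hf.2
    exact fun h hh => hle hh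
  have hJ : J1 = Subgroup.closure ({jankoX, jankoY} : Set G7) := rfl
  have main := level_main (M := G7) ({jankoX, jankoY} : Set G7) H 3080 pt hinj U 0
    (by rw [hU0]; exact Subgroup.one_mem _)
    (by
      intro i
      rw [smul_eq, (hU i).2, hpt0]
      exact (pts1_spec i.val i.isLt).2)
    (fun i => (hU i).1) hHK hfix
    (by
      intro s hs i
      rcases hs with rfl | hs
      · obtain ⟨h1, h2, h3⟩ := stepX_spec i.val i.isLt
        obtain ⟨hh, hhH, hhe⟩ := hHrep _ h2
        refine ⟨⟨_, h1⟩, hh, hhH, ?_⟩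
        apply Units.ext
        rw [Units.val_mul, Units.val_mul, jankoX_coe, (hU i).2, (hU _).2, hhe]
        exact h3
      · rw [Set.mem_singleton_iff] at hs
        subst hs
        obtain ⟨h1, h2, h3⟩ := stepY_spec i.val i.isLt
        obtain ⟨hh, hhH, hhe⟩ := hHrep _ h2
        refine ⟨⟨_, h1⟩, hh, hhH, ?_⟩
        apply Units.ext
        rw [Units.val_mul, Units.val_mul, jankoY_coe, (hU i).2, (hU _).2, hhe]
        exact h3)
  obtain ⟨hcard, hstab, hfact⟩ := main
  rw [← hJ] at hcard hstab hfact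
  refine ⟨by rw [hcard, hcardH], H, hHK, hcardH, ?_, hHelts, hHrep, ?_⟩
  · rw [← hpt0]; exact hstab
  · intro g hg
    obtain ⟨i, h, hh, e⟩ := hfact g hg
    exact ⟨i.val, i.isLt, h, hh, U i, (hU i).1, (hU i).2, e⟩

theorem card_J1 : Nat.card J1 = 175560 := J1_structure.1

end Cfsg.Agent.Helper98.J1
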