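import Cfsg.Agent.Helper98.J1Check4

/-!
# `J1` is simple

For each prime `p` dividing `175560` we exhibit a Sylow `p`-subgroup all of whose nonidentity
elements have normal closure `J1` (certified by explicit products of conjugates).
-/

set_option autoImplicit false

namespace Cfsg.Agent.Helper98.J1

open Cfsg Cfsg.Spor Matrix

/-- A finite group is simple if for every prime `p` some Sylow `p`-subgroup consists of elements
whose normal closure is the whole group. -/
theorem isSimpleGroup_of_sylow_cert {G : Type*} [Group G] [Finite G] [Nontrivial G]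
    (h : ∀ p : ℕ, p.Prime → p ∣ Nat.card G → ∃ P : Subgroup G, IsPGroup p P ∧ ¬ p ∣ P.index ∧
      ∀ z ∈ P, z ≠ 1 → Subgroup.normalClosure {z} = ⊤) : IsSimpleGroup G := by
  refine ⟨fun N hN => ?_⟩
  by_contra hcon
  push Not at hcon
  obtain ⟨hbot, htop⟩ := hcon
  have hcard : Nat.card N ≠ 1 := fun h1 => hbot (Subgroup.card_eq_one.1 h1)
  obtain ⟨p, hp, hpN⟩ := Nat.exists_prime_and_dvd hcard
  have hpG : p ∣ Nat.card G := hpN.trans (Subgroup.card_subgroup_dvd_card N)
  obtain ⟨P, hP1, hP2, hP3⟩ := h p hp hpG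
  have : Fact p.Prime := ⟨hp⟩
  obtain ⟨z, hz⟩ := exists_prime_orderOf_dvd_card' p hpN
  have hzG : orderOf (z : G) = p := by rw [Subgroup.orderOf_coe, hz]
  have hZ : IsPGroup p (Subgroup.zpowers (z : G)) :=
    IsPGroup.of_card (n := 1) (by rw [Nat.card_zpowers, hzG, pow_one])
  obtain ⟨Q, hQ⟩ := hZ.exists_le_sylow
  obtain ⟨g, hg⟩ := MulAction.exists_smul_eq G Q (hP1.toSylow hP2)
  have hzQ : (z : G) ∈ (Q : Subgroup G) := hQ (Subgroup.mem_zpowers _)
  have hw : g * (z : G) * g⁻¹ ∈ P := by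
    have h1 : g * (z : G) * g⁻¹ ∈ ((g • Q : Sylow p G) : Subgroup G) := by
      rw [Sylow.coe_subgroup_smul]
      have := Subgroup.smul_mem_pointwise_smul (z : G) (MulAut.conj g) (Q : Subgroup G) hzQ
      simpa [MulAut.smul_def] using this
    rw [hg] at h1
    exact h1
  have hw1 : g * (z : G) * g⁻¹ ≠ 1 := by
    intro h1
    have : (z : G) = 1 := by
      have := congrArg (fun t => g⁻¹ * t * g) h1
      simpa [mul_assoc] using this
    rw [this, orderOf_one] at hzG
    exact hp.one_lt.ne hzG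
  have hwN : g * (z : G) * g⁻¹ ∈ N := hN.conj_mem _ z.2 g
  have := hP3 _ hw hw1
  apply htop
  rw [eq_top_iff, ← this]
  exact Subgroup.normalClosure_le_normal (Set.singleton_subset_iff.2 hwN)

/-- the generators as elements of `J1` -/
def xJ : ↥J1 := ⟨jankoX, Subgroup.subset_closure (by simp)⟩

/-- the generators as elements of `J1` -/
def yJ : ↥J1 := ⟨jankoY, Subgroup.subset_closure (by simp)⟩

theorem top_of_xy_mem (N : Subgroup ↥J1) (hx : xJ ∈ N) (hy : yJ ∈ N) : N = ⊤ := by
  have h := Subgroup.closure_closure_coe_preimage (k := ({jankoX, jankoY} : Set G7))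
  change Subgroup.closure ((Subtype.val : ↥J1 → G7) ⁻¹' {jankoX, jankoY}) = ⊤ at h
  rw [eq_top_iff, ← h, Subgroup.closure_le]
  rintro ⟨g, hg⟩ hmem
  rcases hmem with hmem | hmem
  · have : (⟨g, hg⟩ : ↥J1) = xJ := Subtype.ext hmem
    rw [this]; exact hx
  · have : (⟨g, hg⟩ : ↥J1) = yJ := Subtype.ext hmem
    rw [this]; exact hy

/-- every entry of a checked certificate is the matrix of an element of the normal closure -/
theorem nslp_mem {T : List ℕ} {P : List (ℕ × ℕ × ℕ)} (hok : nslpOK T P = true) (r : ↥J1)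
    (hr : ((r : G7) : Matrix (Fin 7) (Fin 7) (ZMod 11)) = toMat (T.getD 0 0)) :
    ∀ k < T.length, ∃ g : ↥J1, g ∈ Subgroup.normalClosure ({r} : Set ↥J1) ∧
      ((g : G7) : Matrix (Fin 7) (Fin 7) (ZMod 11)) = toMat (T.getD k 0) := by
  intro k
  induction k using Nat.strong_induction_on with
  | _ k ih =>
    intro hk
    rcases Nat.eq_zero_or_pos k with rfl | hpos
    · exact ⟨r, Subgroup.subset_normalClosure (Set.mem_singleton r), hr⟩
    · obtain ⟨h1, h2⟩ := nslpOK_spec hok k hpos hk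
      obtain ⟨g1, hg1, e1⟩ := ih _ h1 (by omega)
      rcases h2 with ⟨h3, h4⟩ | h4
      · obtain ⟨g2, hg2, e2⟩ := ih _ h3 (by omega)
        refine ⟨g1 * g2, mul_mem hg1 hg2, ?_⟩
        rw [Subgroup.coe_mul, Units.val_mul, e1, e2, h4]
      · have key : ∀ s : ↥J1, ((s : G7) : Matrix (Fin 7) (Fin 7) (ZMod 11)) =
            toMat (if (P.getD k (0, 0, 0)).2.2 = 0 then xCode else yCode) →
            ∃ g : ↥J1, g ∈ Subgroup.normalClosure ({r} : Set ↥J1) ∧
              ((g : G7) : Matrix (Fin 7) (Fin 7) (ZMod 11)) = toMat (T.getD k 0) := by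
          intro s hs
          refine ⟨s * g1 * s⁻¹, Subgroup.normalClosure_normal.conj_mem _ hg1 s, ?_⟩
          have h5 : ((s : G7) : Matrix (Fin 7) (Fin 7) (ZMod 11)) *
              ((g1 : G7) : Matrix (Fin 7) (Fin 7) (ZMod 11)) =
              toMat (T.getD k 0) * ((s : G7) : Matrix (Fin 7) (Fin 7) (ZMod 11)) := by
            rw [hs, e1]; exact h4
          show (((s : G7) * (g1 : G7) * (s : G7)⁻¹ : G7) : Matrix (Fin 7) (Fin 7) (ZMod 11)) = _
          rw [Units.val_mul, Units.val_mul, h5, mul_assoc, ← Units.val_mul, mul_inv_cancel,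
            Units.val_one, mul_one]
        split_ifs at key with h6
        · exact key xJ jankoX_coe
        · exact key yJ jankoY_coe

theorem xJ_mem_of_nslp {T : List ℕ} {P : List (ℕ × ℕ × ℕ)} (hok : nslpOK T P = true) (r : ↥J1)
    (hr : ((r : G7) : Matrix (Fin 7) (Fin 7) (ZMod 11)) = toMat (T.getD 0 0)) (n : ℕ)
    (hlen : T.length = n + 1) (hlast : T.getD n 0 = xCode) :
    xJ ∈ Subgroup.normalClosure ({r} : Set ↥J1) := by
  obtain ⟨g, hg, e⟩ := nslp_mem hok r hr n (by omega)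
  rw [hlast] at e
  have : g = xJ := Subtype.ext (Units.ext (e.trans jankoX_coe.symm))
  rwa [this] at hg

theorem normalClosure_xJ : Subgroup.normalClosure ({xJ} : Set ↥J1) = ⊤ := by
  apply top_of_xy_mem (Subgroup.normalClosure ({xJ} : Set ↥J1))
    (Subgroup.subset_normalClosure (Set.mem_singleton xJ))
  obtain ⟨h0, hl, hlen⟩ := nc_x_facts
  obtain ⟨g, hg, e⟩ := nslp_mem nc_x_ok xJ (by rw [h0]; exact jankoX_coe) _
    (by rw [hlen]; norm_num : 18 < ncT_x.length)
  rw [hl] at e
  have : g = yJ := Subtype.ext (Units.ext (e.trans jankoY_coe.symm))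
  rwa [this] at hg

theorem normalClosure_eq_top_of_xJ_mem {r : ↥J1}
    (h : xJ ∈ Subgroup.normalClosure ({r} : Set ↥J1)) :
    Subgroup.normalClosure ({r} : Set ↥J1) = ⊤ := by
  rw [eq_top_iff, ← normalClosure_xJ]
  exact Subgroup.normalClosure_le_normal (Set.singleton_subset_iff.2 h)

/-- the Sylow subgroup for an odd prime -/
theorem cyclic_sylow {p : ℕ} (hp : p.Prime) (hnd : ¬ p * p ∣ 175560) (r : ↥J1)
    (hord : orderOf r = p) (hr : Subgroup.normalClosure ({r} : Set ↥J1) = ⊤) :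
    ∃ P : Subgroup ↥J1, IsPGroup p P ∧ ¬ p ∣ P.index ∧
      ∀ z ∈ P, z ≠ 1 → Subgroup.normalClosure {z} = ⊤ := by
  have : Fact p.Prime := ⟨hp⟩
  have hcardP : Nat.card (Subgroup.zpowers r) = p := by rw [Nat.card_zpowers, hord]
  refine ⟨Subgroup.zpowers r, IsPGroup.of_card (n := 1) (by rw [hcardP, pow_one]), ?_, ?_⟩
  · intro hdvd
    apply hnd
    have := Subgroup.card_mul_index (Subgroup.zpowers r)
    rw [hcardP, card_J1] at this
    rw [← this]
    exact Nat.mul_dvd_mul_left p hdvd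
  · intro z hz hz1
    have hzp : z ^ p = 1 := by
      obtain ⟨k, rfl⟩ := Subgroup.mem_zpowers_iff.1 hz
      rw [← zpow_natCast, ← _root_.zpow_mul, mul_comm, _root_.zpow_mul, zpow_natCast, ← hord,
        pow_orderOf_eq_one, _root_.one_zpow]
    have hoz : orderOf z = p := by
      rcases (Nat.dvd_prime hp).1 (orderOf_dvd_of_pow_eq_one hzp) with h1 | h1
      · exact absurd (orderOf_eq_one_iff.1 h1) hz1
      · exact h1
    have hle : Subgroup.zpowers z ≤ Subgroup.zpowers r := by
      rw [Subgroup.zpowers_le]; exact hz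
    have heq : Subgroup.zpowers z = Subgroup.zpowers r :=
      Subgroup.eq_of_le_of_card_ge hle (by rw [Nat.card_zpowers, Nat.card_zpowers, hoz, hord])
    have hrz : r ∈ Subgroup.normalClosure ({z} : Set ↥J1) := by
      have h1 : Subgroup.zpowers z ≤ Subgroup.normalClosure ({z} : Set ↥J1) := by
        rw [Subgroup.zpowers_le]; exact Subgroup.subset_normalClosure (Set.mem_singleton z)
      apply h1
      rw [heq]; exact Subgroup.mem_zpowers r
    rw [eq_top_iff, ← hr]
    exact Subgroup.normalClosure_le_normal (Set.singleton_subset_iff.2 hrz)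

/-- the order of an element whose matrix generates a group with a checked regular orbit -/
theorem orderOf_of_reg {c : ℕ} {pts : List (List ℕ)} {mats : List ℕ} {perms : List (List ℕ)}
    {par pgen : List ℕ} (hok : regOK [c] pts mats perms par pgen = true) (hn : 0 < pts.length)
    (r : ↥J1) (hr : ((r : G7) : Matrix (Fin 7) (Fin 7) (ZMod 11)) = toMat c) :
    orderOf r = pts.length := by
  obtain ⟨h1, -, -⟩ := reg_level hok hn (fun _ => (r : G7)) (by
    intro j hj
    have : j = 0 := by simpa using hj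
    subst this
    exact hr)
  have hset : {g : G7 | ∃ j < [c].length, g = (r : G7)} = {(r : G7)} := by
    ext g
    simp
  rw [hset, ← Subgroup.zpowers_eq_closure, Nat.card_zpowers, Subgroup.orderOf_coe] at h1
  exact h1

theorem repS : Rep J1 rrCode ∧ Rep J1 tCode ∧ Rep J1 uCode ∧ Rep J1 vCode ∧ Rep J1 qqCode := by
  obtain ⟨h0, h1, hr, ht, hu, hv, hq, hl⟩ := slpS_facts
  have h := rep_of_slp (K := J1) slpS_ok (by
    intro k hk
    have : k = 0 ∨ k = 1 := by omega
    rcases this with rfl | rfl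
    · rw [h0]; exact repX
    · rw [h1]; exact repY)
  exact ⟨hr ▸ h _ (by omega), ht ▸ h _ (by omega), hu ▸ h _ (by omega), hv ▸ h _ (by omega),
    hq ▸ h _ (by omega)⟩

theorem sylow_3 : ∃ P : Subgroup ↥J1, IsPGroup 3 P ∧ ¬ 3 ∣ P.index ∧
    ∀ z ∈ P, z ≠ 1 → Subgroup.normalClosure {z} = ⊤ := by
  obtain ⟨g, hg, e⟩ := repAB.2
  have hok : regOK [bCode] regBpts regBmats regBperms regBpar regBpgen = true := by
    rw [← regB_facts.1]; exact regB_ok
  have hord := orderOf_of_reg hok (by rw [regB_facts.2]; norm_num) (⟨g, hg⟩ : ↥J1) e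
  rw [regB_facts.2] at hord
  refine cyclic_sylow (by norm_num) (by norm_num) (⟨g, hg⟩ : ↥J1) hord ?_
  exact normalClosure_eq_top_of_xJ_mem (xJ_mem_of_nslp nc_b_ok (⟨g, hg⟩ : ↥J1)
    (by rw [nc_b_facts.1]; exact e) 21 nc_b_facts.2.2 nc_b_facts.2.1)

theorem sylow_5 : ∃ P : Subgroup ↥J1, IsPGroup 5 P ∧ ¬ 5 ∣ P.index ∧
    ∀ z ∈ P, z ≠ 1 → Subgroup.normalClosure {z} = ⊤ := by
  obtain ⟨g, hg, e⟩ := repY
  have hok : regOK [yCode] regYpts regYmats regYperms regYpar regYpgen = true := by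
    rw [← regY_facts.1]; exact regY_ok
  have hord := orderOf_of_reg hok (by rw [regY_facts.2]; norm_num) (⟨g, hg⟩ : ↥J1) e
  rw [regY_facts.2] at hord
  refine cyclic_sylow (by norm_num) (by norm_num) (⟨g, hg⟩ : ↥J1) hord ?_
  exact normalClosure_eq_top_of_xJ_mem (xJ_mem_of_nslp nc_y_ok (⟨g, hg⟩ : ↥J1)
    (by rw [nc_y_facts.1]; exact e) 14 nc_y_facts.2.2 nc_y_facts.2.1)

theorem sylow_11 : ∃ P : Subgroup ↥J1, IsPGroup 11 P ∧ ¬ 11 ∣ P.index ∧
    ∀ z ∈ P, z ≠ 1 → Subgroup.normalClosure {z} = ⊤ := by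
  obtain ⟨g, hg, e⟩ := repS.1
  have hok : regOK [rrCode] regRpts regRmats regRperms regRpar regRpgen = true := by
    rw [← regR_facts.1]; exact regR_ok
  have hord := orderOf_of_reg hok (by rw [regR_facts.2]; norm_num) (⟨g, hg⟩ : ↥J1) e
  rw [regR_facts.2] at hord
  refine cyclic_sylow (by norm_num) (by norm_num) (⟨g, hg⟩ : ↥J1) hord ?_
  exact normalClosure_eq_top_of_xJ_mem (xJ_mem_of_nslp nc_r_ok (⟨g, hg⟩ : ↥J1)
    (by rw [nc_r_facts.1]; exact e) 18 nc_r_facts.2.2 nc_r_facts.2.1)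

theorem sylow_19 : ∃ P : Subgroup ↥J1, IsPGroup 19 P ∧ ¬ 19 ∣ P.index ∧
    ∀ z ∈ P, z ≠ 1 → Subgroup.normalClosure {z} = ⊤ := by
  obtain ⟨g, hg, e⟩ := repAB.1
  have hok : regOK [aCode] regApts regAmats regAperms regApar regApgen = true := by
    rw [← regA_facts.1]; exact regA_ok
  have hord := orderOf_of_reg hok (by rw [regA_facts.2]; norm_num) (⟨g, hg⟩ : ↥J1) e
  rw [regA_facts.2] at hord
  refine cyclic_sylow (by norm_num) (by norm_num) (⟨g, hg⟩ : ↥J1) hord ?_
  exact normalClosure_eq_top_of_xJ_mem (xJ_mem_of_nslp nc_a_ok (⟨g, hg⟩ : ↥J1)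
    (by rw [nc_a_facts.1]; exact e) 16 nc_a_facts.2.2 nc_a_facts.2.1)

theorem sylow_7 : ∃ P : Subgroup ↥J1, IsPGroup 7 P ∧ ¬ 7 ∣ P.index ∧
    ∀ z ∈ P, z ≠ 1 → Subgroup.normalClosure {z} = ⊤ := by
  have hok : regOK [xCode] regXpts regXmats regXperms regXpar regXpgen = true := by
    rw [← regX_facts.1]; exact regX_ok
  have hord := orderOf_of_reg hok (by rw [regX_facts.2]; norm_num) xJ jankoX_coe
  rw [regX_facts.2] at hord
  exact cyclic_sylow (by norm_num) (by norm_num) xJ hord normalClosure_xJ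

theorem sylow_2 : ∃ P : Subgroup ↥J1, IsPGroup 2 P ∧ ¬ 2 ∣ P.index ∧
    ∀ z ∈ P, z ≠ 1 → Subgroup.normalClosure {z} = ⊤ := by
  obtain ⟨-, ⟨gt, hgt, et⟩, ⟨gu, hgu, eu⟩, ⟨gv, hgv, ev⟩, -⟩ := repS
  have hok : regOK [tCode, uCode, vCode] regSpts regSmats regSperms regSpar regSpgen = true := by
    rw [← regS_facts.1]; exact regS_ok
  let gs : ℕ → G7 := fun j => if j = 0 then gt else if j = 1 then gu else gv
  have hgsK : ∀ j, gs j ∈ J1 := by
    intro j
    simp only [gs]
    split_ifs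
    · exact hgt
    · exact hgu
    · exact hgv
  obtain ⟨hcard, helts, -⟩ := reg_level hok (by rw [regS_facts.2]; norm_num) gs (by
    intro j hj
    have : j = 0 ∨ j = 1 ∨ j = 2 := by
      simp only [List.length_cons, List.length_nil] at hj
      omega
    rcases this with rfl | rfl | rfl
    · exact et
    · exact eu
    · exact ev)
  set S := Subgroup.closure {g : G7 | ∃ j < [tCode, uCode, vCode].length, g = gs j} with hS
  have hSK : S ≤ J1 := by
    rw [hS, Subgroup.closure_le]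
    rintro g ⟨j, -, rfl⟩
    exact hgsK j
  have hm0 : regSmats.getD 0 0 = idCode := (regOK_spec hok).1
  have hcardP : Nat.card (S.subgroupOf J1) = 8 := by
    rw [Nat.card_congr (Subgroup.subgroupOfEquivOfLe hSK).toEquiv, hcard, regS_facts.2]
  refine ⟨S.subgroupOf J1, IsPGroup.of_card (n := 3) (by rw [hcardP]; norm_num), ?_, ?_⟩
  · intro hdvd
    have := Subgroup.card_mul_index (S.subgroupOf J1)
    rw [hcardP, card_J1] at this
    omega
  · intro z hz hz1
    rw [Subgroup.mem_subgroupOf] at hz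
    obtain ⟨c, hc, e⟩ := helts _ hz
    rw [regS_facts.2] at hc
    have hc0 : c ≠ 0 := by
      rintro rfl
      apply hz1
      apply Subtype.ext
      apply Units.ext
      rw [e, hm0, toMat_idCode]
      rfl
    interval_cases c
    · exact absurd rfl hc0
    · exact normalClosure_eq_top_of_xJ_mem (xJ_mem_of_nslp nc_z1_ok z
        (by rw [nc_z1_facts.1]; exact e) 22 nc_z1_facts.2.2 nc_z1_facts.2.1)
    · exact normalClosure_eq_top_of_xJ_mem (xJ_mem_of_nslp nc_z2_ok z
        (by rw [nc_z2_facts.1]; exact e) 19 nc_z2_facts.2.2 nc_z2_facts.2.1)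
    · exact normalClosure_eq_top_of_xJ_mem (xJ_mem_of_nslp nc_z3_ok z
        (by rw [nc_z3_facts.1]; exact e) 22 nc_z3_facts.2.2 nc_z3_facts.2.1)
    · exact normalClosure_eq_top_of_xJ_mem (xJ_mem_of_nslp nc_z4_ok z
        (by rw [nc_z4_facts.1]; exact e) 10 nc_z4_facts.2.2 nc_z4_facts.2.1)
    · exact normalClosure_eq_top_of_xJ_mem (xJ_mem_of_nslp nc_z5_ok z
        (by rw [nc_z5_facts.1]; exact e) 18 nc_z5_facts.2.2 nc_z5_facts.2.1)
    · exact normalClosure_eq_top_of_xJ_mem (xJ_mem_of_nslp nc_z6_ok z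
        (by rw [nc_z6_facts.1]; exact e) 20 nc_z6_facts.2.2 nc_z6_facts.2.1)
    · exact normalClosure_eq_top_of_xJ_mem (xJ_mem_of_nslp nc_z7_ok z
        (by rw [nc_z7_facts.1]; exact e) 17 nc_z7_facts.2.2 nc_z7_facts.2.1)

/-- The Janko group `J1` is simple. -/
theorem J1_simple : IsSimpleGroup ↥J1 := by
  have : Nontrivial ↥J1 := by
    rw [← Finite.one_lt_card_iff_nontrivial, card_J1]; norm_num
  apply isSimpleGroup_of_sylow_cert
  intro p hp hdvd
  rw [card_J1] at hdvd
  have hp6 : p = 2 ∨ p = 3 ∨ p = 5 ∨ p = 7 ∨ p = 11 ∨ p = 19 := by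
    have h175 : 175560 = 2 ^ 3 * 3 * 5 * 7 * 11 * 19 := by norm_num
    rw [h175] at hdvd
    rcases (Nat.Prime.dvd_mul hp).1 hdvd with h | h
    · rcases (Nat.Prime.dvd_mul hp).1 h with h | h
      · rcases (Nat.Prime.dvd_mul hp).1 h with h | h
        · rcases (Nat.Prime.dvd_mul hp).1 h with h | h
          · rcases (Nat.Prime.dvd_mul hp).1 h with h | h
            · left
              exact (Nat.prime_dvd_prime_iff_eq hp (by norm_num)).1 (hp.dvd_of_dvd_pow h)
            · right; left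
              exact (Nat.prime_dvd_prime_iff_eq hp (by norm_num)).1 h
          · right; right; left
            exact (Nat.prime_dvd_prime_iff_eq hp (by norm_num)).1 h
        · right; right; right; left
          exact (Nat.prime_dvd_prime_iff_eq hp (by norm_num)).1 h
      · right; right; right; right; left
        exact (Nat.prime_dvd_prime_iff_eq hp (by norm_num)).1 h
    · right; right; right; right; right
      exact (Nat.prime_dvd_prime_iff_eq hp (by norm_num)).1 h
  rcases hp6 with rfl | rfl | rfl | rfl | rfl | rfl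
  · exact sylow_2
  · exact sylow_3
  · exact sylow_5
  · exact sylow_7
  · exact sylow_11
  · exact sylow_19

end Cfsg.Agent.Helper98.J1
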