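import Cfsg.Agent.Helper98.J1Check5
import Cfsg.Agent.Helper98.J1Simple
import Cfsg.Agent.Helper56.SL25Pres

/-!
# The centralizer of an involution of `J1` is `2 × A₅`
-/

set_option autoImplicit false

namespace Cfsg.Agent.Helper98.J1

open Cfsg Cfsg.Spor Matrix

section generic

variable {M : Type*} [Group M] [Finite M]

/-- If the cosets `U i * H` are permuted by left multiplication with the generators, they cover
the generated group. -/
theorem coset_cover (S : Set M) (H : Subgroup M) {n : ℕ} (U : Fin n → M) (z : Fin n)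
    (hUz : U z ∈ H) (hstep : ∀ s ∈ S, ∀ i, ∃ j, ∃ h ∈ H, s * U i = U j * h) :
    ∀ g ∈ Subgroup.closure S, ∃ i, ∃ h ∈ H, g = U i * h := by
  have hfin : ∀ s ∈ S, IsOfFinOrder s := fun s _ => isOfFinOrder_of_finite s
  have key : ∀ g ∈ Submonoid.closure S, ∃ i, ∃ h ∈ H, g = U i * h := by
    intro g hg
    induction hg using Submonoid.closure_induction_left with
    | one => exact ⟨z, (U z)⁻¹, H.inv_mem hUz, by group⟩
    | mul_left s hs y _ ih =>
      obtain ⟨i, h, hh, rfl⟩ := ih
      obtain ⟨j, h', hh', e⟩ := hstep s hs i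
      exact ⟨j, h' * h, H.mul_mem hh' hh, by rw [← mul_assoc, e, mul_assoc]⟩
  intro g hg
  apply key
  rw [← Subgroup.closure_toSubmonoid_of_isOfFinOrder hfin]
  exact hg

/-- The centralizer of `t` in the generated group is contained in `H`, if `H` centralizes `t` and
no other coset representative does. -/
theorem mem_of_commute (S : Set M) (H : Subgroup M) {n : ℕ} (U : Fin n → M) (z : Fin n)
    (hUz : U z ∈ H) (hstep : ∀ s ∈ S, ∀ i, ∃ j, ∃ h ∈ H, s * U i = U j * h) (t : M)
    (hH : ∀ h ∈ H, h * t = t * h) (hne : ∀ i, U i * t = t * U i → i = z) :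
    ∀ g ∈ Subgroup.closure S, g * t = t * g → g ∈ H := by
  intro g hg hgt
  obtain ⟨i, h, hh, rfl⟩ := coset_cover S H U z hUz hstep g hg
  have h1 := hH h hh
  have h2 : U i * t = t * U i := by
    calc U i * t = (U i * (t * h)) * h⁻¹ := by group
      _ = (U i * (h * t)) * h⁻¹ := by rw [h1]
      _ = (U i * h * t) * h⁻¹ := by rw [← mul_assoc (U i) h t]
      _ = (t * (U i * h)) * h⁻¹ := by rw [hgt]
      _ = t * U i := by group
  rw [hne i h2]
  exact H.mul_mem hUz hh

/-- the homomorphism from the group of order two determined by an element of square one -/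
def zmod2Hom {G : Type*} [Group G] (g : G) (hg : g * g = 1) : Multiplicative (ZMod 2) →* G where
  toFun z := g ^ (Multiplicative.toAdd z).val
  map_one' := by simp
  map_mul' := by
    have key : ∀ u v : ZMod 2, g ^ (u + v).val = g ^ u.val * g ^ v.val := by
      intro u v
      fin_cases u <;> fin_cases v
      · show g ^ 0 = g ^ 0 * g ^ 0
        simp
      · show g ^ 1 = g ^ 0 * g ^ 1
        simp
      · show g ^ 1 = g ^ 1 * g ^ 0
        simp
      · show g ^ 0 = g ^ 1 * g ^ 1
        simp [hg]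
    intro a b
    exact key _ _

theorem zmod2Hom_gen {G : Type*} [Group G] (g : G) (hg : g * g = 1) :
    zmod2Hom g hg (Multiplicative.ofAdd 1) = g := by
  show g ^ (1 : ZMod 2).val = g
  rw [ZMod.val_one, pow_one]

end generic

/-- the 1463 transversal matrices are represented in `J1` -/
theorem rep_cm : ∀ i < 1463, Rep J1 (cm i) := by
  intro i
  induction i using Nat.strong_induction_on with
  | _ i ih =>
    intro hi
    rcases Nat.eq_zero_or_pos i with rfl | hpos
    · rw [cm_zero]; exact Rep.one J1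
    · obtain ⟨h3, h4, -⟩ := centTreeOK_spec centTree_ok i (by omega) (by omega)
      refine Rep.mul ?_ (ih _ h3 (by omega)) h4
      split_ifs
      · exact repX
      · exact repY

theorem mul_eq_of_eqMul {a b c : G7} {ca cb cc : ℕ}
    (ha : (a : Matrix (Fin 7) (Fin 7) (ZMod 11)) = toMat ca)
    (hb : (b : Matrix (Fin 7) (Fin 7) (ZMod 11)) = toMat cb)
    (hc : (c : Matrix (Fin 7) (Fin 7) (ZMod 11)) = toMat cc) (h : eqMul ca cb cc = true) :
    a * b = c := by
  apply Units.ext
  rw [Units.val_mul, ha, hb, hc]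
  exact eqMul_spec h

theorem one_coe_idCode : ((1 : G7) : Matrix (Fin 7) (Fin 7) (ZMod 11)) = toMat idCode := by
  rw [toMat_idCode]; rfl

/-- The centralizer in `J1` of the involution `t` is a subgroup `H` isomorphic to the direct
product of a group of order two and the group presented by `x³ = y⁵ = (xy)² = 1`. -/
theorem centralizer_structure : ∃ t : G7, t ∈ J1 ∧ orderOf t = 2 ∧ ∃ H : Subgroup G7, H ≤ J1 ∧
    (∀ g ∈ J1, g * t = t * g → g ∈ H) ∧ (∀ h ∈ H, h * t = t * h) ∧
    Nonempty (Multiplicative (ZMod 2) × Cfsg.Agent.Helper56.SL25Pres.P5 ≃* ↥H) := by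
  obtain ⟨-, ⟨gt, hgt, et⟩, ⟨gu, hgu, eu⟩, -, ⟨gq, hgq, eq⟩⟩ := repS
  have hrel := rel_checks
  simp only [Bool.and_eq_true, Bool.not_eq_true'] at hrel
  obtain ⟨⟨⟨⟨⟨⟨⟨⟨⟨⟨⟨⟨⟨⟨r1, r2⟩, r3⟩, r4⟩, r5⟩, r6⟩, r7⟩, r8⟩, r9⟩, r10⟩, r11⟩, r12⟩, r13⟩, r14⟩, r15⟩ :=
    hrel
  have repu : Rep J1 uCode := ⟨gu, hgu, eu⟩
  have repq : Rep J1 qqCode := ⟨gq, hgq, eq⟩
  have repx : Rep J1 xxCode :=
    Rep.mul (Rep.mul repu (Rep.mul repq repq (eqMul_spec r11)) (eqMul_spec r12)) repu
      (eqMul_spec r13)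
  have repy : Rep J1 yyCode := Rep.mul repu repq (eqMul_spec r14)
  obtain ⟨gx, hgx, ex⟩ := repx
  obtain ⟨gy, hgy, ey⟩ := repy
  -- relations
  have htt : gt * gt = 1 := mul_eq_of_eqMul et et one_coe_idCode r1
  have hxxx : gx ^ 3 = 1 := by
    apply Units.ext
    rw [pow_succ, pow_two, Units.val_mul, Units.val_mul, ex, eqMul_spec r2, eqMul_spec r3,
      toMat_idCode]
    rfl
  have hy5 : gy ^ 5 = 1 := by
    have : gy ^ 5 = (gy * gy) * (gy * gy) * gy := by
      simp only [pow_succ, pow_zero, one_mul, mul_assoc]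
    rw [this]
    apply Units.ext
    rw [Units.val_mul, Units.val_mul, Units.val_mul, ey, eqMul_spec r4, eqMul_spec r5,
      eqMul_spec r6, toMat_idCode]
    rfl
  have hxy2 : (gx * gy) ^ 2 = 1 := by
    apply Units.ext
    rw [pow_two, Units.val_mul, Units.val_mul, ex, ey, eqMul_spec r7, eqMul_spec r8, toMat_idCode]
    rfl
  have hxt : gx * gt = gt * gx := by
    apply Units.ext
    rw [Units.val_mul, Units.val_mul, ex, et]
    exact eqProd_spec r9
  have hyt : gy * gt = gt * gy := by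
    apply Units.ext
    rw [Units.val_mul, Units.val_mul, ey, et]
    exact eqProd_spec r10
  have ht1 : gt ≠ 1 := by
    intro h
    apply eqProd_spec_false r15
    rw [← et, h, toMat_idCode]
    rfl
  have hord : orderOf gt = 2 := orderOf_eq_prime (by rw [pow_two]; exact htt) ht1
  -- the subgroup `H`
  have hok : regOK [tCode, xxCode, yyCode] regCpts regCmats regCperms regCpar regCpgen = true := by
    rw [← regC_facts.1]; exact regC_ok
  let gs : ℕ → G7 := fun j => if j = 0 then gt else if j = 1 then gx else gy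
  have hgsK : ∀ j, gs j ∈ J1 := by
    intro j
    simp only [gs]
    split_ifs
    · exact hgt
    · exact hgx
    · exact hgy
  have hgst : ∀ j, gs j * gt = gt * gs j := by
    intro j
    simp only [gs]
    split_ifs
    · rfl
    · exact hxt
    · exact hyt
  obtain ⟨hcard, -, hrep⟩ := reg_level hok (by rw [regC_facts.2]; norm_num) gs (by
    intro j hj
    have : j = 0 ∨ j = 1 ∨ j = 2 := by
      simp only [List.length_cons, List.length_nil] at hj
      omega
    rcases this with rfl | rfl | rfl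
    · exact et
    · exact ex
    · exact ey)
  rw [regC_facts.2] at hcard hrep
  set H := Subgroup.closure {g : G7 | ∃ j < [tCode, xxCode, yyCode].length, g = gs j} with hH
  have hgsH : ∀ j < 3, gs j ∈ H := fun j hj => Subgroup.subset_closure ⟨j, hj, rfl⟩
  have hHK : H ≤ J1 := by
    rw [hH, Subgroup.closure_le]
    rintro g ⟨j, -, rfl⟩
    exact hgsK j
  have hHt : ∀ h ∈ H, h * gt = gt * h := by
    have hle : H ≤ Subgroup.centralizer {gt} := by
      rw [hH, Subgroup.closure_le]
      rintro g ⟨j, -, rfl⟩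
      rw [SetLike.mem_coe, Subgroup.mem_centralizer_iff]
      intro k hk
      rw [Set.mem_singleton_iff] at hk
      subst hk
      exact (hgst j).symm
    intro h hh
    have := Subgroup.mem_centralizer_iff.1 (hle hh) gt rfl
    exact this.symm
  -- the transversal
  let U : Fin 1463 → G7 := fun i => Classical.choose (rep_cm i.val i.isLt)
  have hU : ∀ i : Fin 1463, U i ∈ J1 ∧
      ((U i : G7) : Matrix (Fin 7) (Fin 7) (ZMod 11)) = toMat (cm i.val) :=
    fun i => Classical.choose_spec (rep_cm i.val i.isLt)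
  have hU0 : U ⟨0, by norm_num⟩ = 1 := by
    apply Units.ext
    rw [(hU _).2]
    show toMat (cm 0) = 1
    rw [cm_zero, toMat_idCode]
  have hstep : ∀ s ∈ ({jankoX, jankoY} : Set G7), ∀ i, ∃ j, ∃ h ∈ H, s * U i = U j * h := by
    intro s hs i
    rw [Set.mem_insert_iff, Set.mem_singleton_iff] at hs
    rcases hs with rfl | rfl
    · obtain ⟨h1, h2, h3⟩ := centStepOK_spec centX_ok i.val (Nat.zero_le _) (by
        rw [Nat.zero_add]; exact i.isLt)
      obtain ⟨hh, hhH, hhe⟩ := hrep _ h2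
      refine ⟨⟨_, h1⟩, hh, hhH, ?_⟩
      apply Units.ext
      rw [Units.val_mul, Units.val_mul, jankoX_coe, (hU i).2, (hU _).2, hhe]
      exact h3
    · obtain ⟨h1, h2, h3⟩ := centStepOK_spec centY_ok i.val (Nat.zero_le _) (by
        rw [Nat.zero_add]; exact i.isLt)
      obtain ⟨hh, hhH, hhe⟩ := hrep _ h2
      refine ⟨⟨_, h1⟩, hh, hhH, ?_⟩
      apply Units.ext
      rw [Units.val_mul, Units.val_mul, jankoY_coe, (hU i).2, (hU _).2, hhe]
      exact h3
  have hne : ∀ i, U i * gt = gt * U i → i = ⟨0, by norm_num⟩ := by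
    intro i hi
    by_contra hi0
    have hiv : i.val ≠ 0 := fun h => hi0 (Fin.ext h)
    obtain ⟨-, -, h5⟩ := centTreeOK_spec centTree_ok i.val (by omega) (by have := i.isLt; omega)
    apply h5
    have := congrArg Units.val hi
    rw [Units.val_mul, Units.val_mul, (hU i).2, et] at this
    exact this
  have hcent : ∀ g ∈ J1, g * gt = gt * g → g ∈ H :=
    mem_of_commute {jankoX, jankoY} H U ⟨0, by norm_num⟩ (by rw [hU0]; exact H.one_mem) hstep gt
      hHt hne
  refine ⟨gt, hgt, hord, H, hHK, hcent, hHt, ?_⟩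
  -- the isomorphism
  let t' : ↥H := ⟨gt, hgsH 0 (by norm_num)⟩
  let x' : ↥H := ⟨gx, hgsH 1 (by norm_num)⟩
  let y' : ↥H := ⟨gy, hgsH 2 (by norm_num)⟩
  have ht' : t' * t' = 1 := Subtype.ext htt
  have hx' : x' ^ 3 = 1 := Subtype.ext hxxx
  have hy' : y' ^ 5 = 1 := Subtype.ext hy5
  have hxy' : (x' * y') ^ 2 = 1 := Subtype.ext hxy2
  let f1 : Multiplicative (ZMod 2) →* ↥H := zmod2Hom t' ht'
  let φ : Cfsg.Agent.Helper56.SL25Pres.P5 →* ↥H :=
    Cfsg.Agent.Helper56.SL25Pres.hom5 x' y' hx' hy' hxy'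
  have hcomm : ∀ m n, Commute (f1 m) (φ n) := by
    intro m n
    have h1 : Commute t' (φ n) := by
      apply Subtype.ext
      exact (hHt (φ n).1 (φ n).2).symm
    exact h1.pow_left _
  let ψ : Multiplicative (ZMod 2) × Cfsg.Agent.Helper56.SL25Pres.P5 →* ↥H :=
    MonoidHom.noncommCoprod f1 φ hcomm
  have hψt : ψ (Multiplicative.ofAdd 1, 1) = t' := by
    show f1 (Multiplicative.ofAdd 1) * φ 1 = t'
    rw [map_one φ, mul_one]
    exact zmod2Hom_gen t' ht'
  have hψx : ψ (1, PresentedGroup.of 0) = x' := by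
    show f1 1 * φ (PresentedGroup.of 0) = x'
    rw [map_one f1, one_mul]
    exact Cfsg.Agent.Helper56.SL25Pres.hom5_a x' y' hx' hy' hxy'
  have hψy : ψ (1, PresentedGroup.of 1) = y' := by
    show f1 1 * φ (PresentedGroup.of 1) = y'
    rw [map_one f1, one_mul]
    exact Cfsg.Agent.Helper56.SL25Pres.hom5_b x' y' hx' hy' hxy'
  have hle : H ≤ (ψ.range).map H.subtype := by
    refine (Subgroup.closure_le _).2 ?_
    rintro g ⟨j, hj, rfl⟩
    have : j = 0 ∨ j = 1 ∨ j = 2 := by
      simp only [List.length_cons, List.length_nil] at hj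
      omega
    rcases this with rfl | rfl | rfl
    · exact ⟨t', ⟨_, hψt⟩, rfl⟩
    · exact ⟨x', ⟨_, hψx⟩, rfl⟩
    · exact ⟨y', ⟨_, hψy⟩, rfl⟩
  have hsurj : Function.Surjective ψ := by
    intro h
    obtain ⟨y, ⟨z, hz⟩, hy⟩ := hle h.2
    refine ⟨z, ?_⟩
    rw [hz]
    exact Subtype.ext hy
  have := Cfsg.Agent.Helper56.SL25Pres.finite_P5
  have hcard2 : Nat.card (Multiplicative (ZMod 2) × Cfsg.Agent.Helper56.SL25Pres.P5) = 120 := by
    rw [Nat.card_prod, Cfsg.Agent.Helper56.SL25Pres.card_P5, Nat.card_eq_fintype_card,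
      Fintype.card_multiplicative, ZMod.card]
  have hbij : Function.Bijective ψ :=
    hsurj.bijective_of_nat_card_le (by rw [hcard2, hcard])
  exact ⟨MulEquiv.ofBijective ψ hbij⟩

end Cfsg.Agent.Helper98.J1
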