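/-! Generated data for the Schreier-Sims verification of `J1`. -/

set_option autoImplicit false
set_option maxRecDepth 10000000

namespace Cfsg.Agent.Helper98.J1

/-- the orbit of the base vector under `J1` (3080 vectors) -/
def pts1 : List (List Nat) := [[1, 4, 0, 0, 6, 0, 1],
  [4, 0, 0, 6, 0, 1, 1],
  [6, 0, 1, 1, 4, 0, 0],
  [0, 0, 6, 0, 1, 1, 4],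
  [0, 5, 0, 1, 1, 7, 0],
  [0, 1, 1, 4, 0, 0, 6],
  [1, 7, 0, 0, 6, 0, 10],
  [0, 6, 0, 1, 1, 4, 0],
  [0, 0, 6, 0, 1, 10, 7],
  [5, 0, 1, 1, 7, 0, 0],
  [10, 8, 3, 4, 9, 10, 5],
  [1, 1, 4, 0, 0, 6, 0],
  [1, 10, 4, 0, 0, 5, 0],
  [7, 0, 0, 6, 0, 10, 1],
  [7, 8, 5, 5, 3, 3, 7],
  [4, 0, 0, 6, 0, 10, 10],
  [0, 6, 0, 1, 10, 7, 0],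
  [4, 3, 7, 4, 0, 6, 4],
  [0, 1, 1, 7, 0, 0, 5],
  [6, 1, 3, 3, 4, 2, 10],
  [8, 3, 4, 9, 10, 5, 10],
  [4, 2, 10, 5, 10, 3, 8],
  [0, 10, 1, 4, 0, 0, 5],
  [10, 4, 0, 0, 5, 0, 1],
  [8, 5, 6, 8, 3, 4, 7],
  [0, 0, 6, 0, 10, 1, 7],
  [4, 4, 3, 5, 5, 8, 3],
  [8, 5, 5, 3, 3, 7, 7],
  [7, 3, 5, 5, 3, 8, 4],
  [0, 0, 6, 0, 10, 10, 4],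
  [8, 4, 2, 10, 5, 10, 3],
  [6, 0, 1, 10, 7, 0, 0],
  [7, 7, 8, 7, 4, 0, 6],
  [3, 7, 4, 0, 6, 4, 4],
  [9, 0, 2, 9, 8, 0, 0],
  [1, 1, 7, 0, 0, 5, 0],
  [1, 5, 10, 3, 3, 7, 2],
  [1, 3, 3, 4, 2, 10, 6],
  [0, 8, 5, 5, 3, 4, 5],
  [3, 4, 9, 10, 5, 10, 8],
  [3, 7, 9, 10, 5, 1, 3],
  [2, 10, 5, 10, 3, 8, 4],
  [8, 7, 2, 10, 5, 1, 8],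
  [10, 1, 4, 0, 0, 5, 0],
  [0, 5, 4, 7, 3, 7, 4],
  [4, 0, 0, 5, 0, 1, 10],
  [4, 3, 6, 6, 8, 8, 4],
  [5, 6, 8, 3, 4, 7, 8],
  [4, 0, 9, 5, 1, 9, 2],
  [0, 6, 0, 10, 1, 7, 0],
  [8, 7, 7, 3, 5, 6, 8],
  [4, 3, 5, 5, 8, 3, 4],
  [0, 8, 0, 8, 3, 4, 0],
  [5, 5, 3, 3, 7, 7, 8],
  [7, 4, 8, 5, 5, 8, 8],
  [3, 5, 5, 3, 8, 4, 7],
  [0, 6, 0, 10, 10, 4, 0],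
  [8, 3, 7, 2, 10, 6, 10],
  [4, 9, 10, 5, 10, 8, 3],
  [0, 1, 10, 7, 0, 0, 6],
  [5, 4, 4, 8, 7, 7, 0],
  [7, 8, 7, 4, 0, 6, 7],
  [3, 0, 10, 2, 6, 5, 10],
  [7, 4, 0, 6, 4, 4, 3],
  [0, 2, 0, 2, 9, 3, 0],
  [0, 2, 9, 8, 0, 0, 9],
  [4, 8, 7, 4, 0, 5, 7],
  [1, 7, 0, 0, 5, 0, 1],
  [9, 10, 6, 10, 3, 8, 7],
  [5, 10, 3, 3, 7, 2, 1],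
  [5, 8, 1, 1, 5, 1, 5],
  [3, 3, 4, 2, 10, 6, 1],
  [6, 0, 3, 5, 5, 8, 4],
  [8, 5, 5, 3, 4, 5, 0],
  [0, 3, 5, 5, 3, 7, 6],
  [8, 8, 4, 9, 10, 6, 1],
  [7, 9, 10, 5, 1, 3, 3],
  [5, 2, 7, 9, 10, 2, 0],
  [10, 5, 10, 3, 8, 4, 2],
  [7, 2, 10, 5, 1, 8, 8],
  [1, 4, 0, 0, 5, 0, 10],
  [7, 0, 6, 4, 7, 8, 7],
  [5, 4, 7, 3, 7, 4, 0],
  [4, 0, 9, 5, 1, 2, 9],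
  [0, 0, 5, 0, 1, 10, 4],
  [7, 7, 8, 6, 6, 3, 8],
  [3, 6, 6, 8, 8, 4, 4],
  [4, 8, 6, 6, 8, 3, 7],
  [6, 8, 3, 4, 7, 8, 5],
  [9, 7, 0, 9, 5, 10, 9],
  [0, 9, 5, 1, 9, 2, 4],
  [0, 6, 4, 7, 3, 4, 7],
  [6, 0, 10, 1, 7, 0, 0],
  [3, 3, 4, 7, 3, 6, 6],
  [7, 7, 3, 5, 6, 8, 8],
  [1, 10, 10, 10, 1, 2, 10],
  [3, 5, 5, 8, 3, 4, 4],
  [0, 0, 3, 0, 8, 8, 4],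
  [8, 0, 8, 3, 4, 0, 0],
  [6, 3, 7, 6, 3, 4, 3],
  [5, 3, 3, 7, 7, 8, 5],
  [3, 4, 7, 8, 5, 6, 8],
  [4, 8, 5, 5, 8, 8, 7],
  [4, 0, 3, 6, 7, 4, 4],
  [5, 5, 3, 8, 4, 7, 3],
  [10, 10, 7, 0, 0, 5, 0],
  [6, 0, 10, 10, 4, 0, 0],
  [1, 3, 8, 7, 2, 1, 6],
  [3, 7, 2, 10, 6, 10, 8],
  [6, 3, 4, 8, 5, 3, 4],
  [9, 10, 5, 10, 8, 3, 4],
  [10, 3, 3, 4, 9, 1, 6],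
  [1, 10, 7, 0, 0, 6, 0],
  [0, 6, 7, 4, 8, 4, 7],
  [4, 4, 8, 7, 7, 0, 5],
  [8, 6, 6, 3, 7, 5, 0],
  [8, 7, 4, 0, 6, 7, 7],
  [1, 8, 0, 10, 2, 5, 5],
  [0, 10, 2, 6, 5, 10, 3],
  [3, 6, 7, 7, 7, 4, 0],
  [4, 0, 6, 4, 4, 3, 7],
  [0, 0, 9, 0, 2, 2, 3],
  [2, 0, 2, 9, 3, 0, 0],
  [5, 4, 4, 0, 7, 3, 4],
  [2, 9, 8, 0, 0, 9, 0],
  [4, 7, 3, 7, 4, 0, 5],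
  [8, 7, 4, 0, 5, 7, 4],
  [7, 0, 0, 5, 0, 1, 1],
  [4, 2, 1, 6, 10, 8, 8],
  [10, 6, 10, 3, 8, 7, 9],
  [5, 10, 0, 2, 5, 3, 1],
  [10, 3, 3, 7, 2, 1, 5],
  [6, 6, 3, 1, 1, 6, 1],
  [8, 1, 1, 5, 1, 5, 5],
  [1, 3, 8, 4, 8, 7, 7],
  [3, 4, 2, 10, 6, 1, 3],
  [7, 5, 0, 3, 5, 6, 8],
  [0, 3, 5, 5, 8, 4, 6],
  [5, 3, 4, 6, 0, 8, 6],
  [5, 5, 3, 4, 5, 0, 8],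
  [5, 0, 8, 5, 5, 8, 7],
  [3, 5, 5, 3, 7, 6, 0],
  [6, 10, 3, 3, 4, 9, 1],
  [8, 4, 9, 10, 6, 1, 8],
  [6, 10, 5, 6, 8, 1, 1],
  [9, 10, 5, 1, 3, 3, 7],
  [0, 6, 9, 7, 9, 1, 2],
  [2, 7, 9, 10, 2, 0, 5],
  [7, 9, 4, 6, 8, 4, 10],
  [5, 10, 3, 8, 4, 2, 10],
  [10, 8, 8, 4, 2, 1, 6],
  [2, 10, 5, 1, 8, 8, 7],
  [10, 7, 0, 0, 6, 0, 1],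
  [4, 0, 0, 5, 0, 10, 1],
  [4, 4, 0, 6, 4, 4, 8],
  [0, 6, 4, 7, 8, 7, 7],
  [7, 1, 6, 7, 3, 9, 7],
  [2, 7, 0, 9, 5, 10, 2],
  [0, 9, 5, 1, 2, 9, 4],
  [8, 6, 6, 8, 3, 7, 4],
  [0, 5, 0, 1, 10, 4, 0],
  [3, 4, 4, 8, 6, 5, 3],
  [7, 8, 6, 6, 3, 8, 7],
  [0, 3, 0, 3, 8, 7, 0],
  [6, 6, 8, 8, 4, 4, 3],
  [4, 7, 3, 6, 6, 3, 3],
  [10, 7, 0, 0, 5, 0, 10],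
  [8, 3, 4, 7, 8, 5, 6],
  [2, 2, 4, 0, 9, 6, 10],
  [7, 0, 9, 5, 10, 9, 9],
  [3, 1, 3, 5, 7, 10, 2],
  [9, 5, 1, 9, 2, 4, 0],
  [4, 0, 5, 4, 7, 8, 4],
  [6, 4, 7, 3, 4, 7, 0],
  [0, 10, 1, 7, 0, 0, 6],
  [5, 8, 8, 4, 7, 8, 6],
  [3, 4, 7, 3, 6, 6, 3],
  [8, 6, 4, 4, 4, 4, 0],
  [7, 3, 5, 6, 8, 8, 7],
  [1, 10, 1, 10, 10, 10, 2],
  [10, 10, 10, 1, 2, 10, 1],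
  [6, 8, 4, 8, 5, 8, 7],
  [5, 5, 8, 3, 4, 4, 3],
  [7, 0, 0, 3, 0, 3, 8],
  [0, 3, 0, 8, 8, 4, 0],
  [8, 3, 6, 7, 6, 4, 8],
  [0, 8, 3, 4, 0, 0, 8],
  [8, 5, 8, 7, 6, 8, 4],
  [3, 7, 6, 3, 4, 3, 6],
  [3, 3, 7, 7, 8, 5, 5],
  [3, 8, 7, 7, 8, 6, 6],
  [4, 7, 8, 5, 6, 8, 3],
  [5, 10, 2, 9, 4, 0, 2],
  [8, 5, 5, 8, 8, 7, 4],
  [7, 7, 0, 3, 6, 4, 4],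
  [0, 3, 6, 7, 4, 4, 4],
  [8, 0, 0, 2, 0, 2, 2],
  [5, 3, 8, 4, 7, 3, 5],
  [0, 10, 10, 4, 0, 0, 6],
  [5, 10, 8, 8, 7, 9, 1],
  [3, 8, 7, 2, 1, 6, 1],
  [7, 9, 1, 6, 1, 8, 3],
  [7, 2, 10, 6, 10, 8, 3],
  [7, 5, 8, 4, 8, 6, 3],
  [3, 4, 8, 5, 3, 4, 6],
  [1, 1, 10, 10, 1, 9, 1],
  [10, 5, 10, 8, 3, 4, 9],
  [5, 1, 8, 3, 4, 2, 1],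
  [3, 3, 4, 9, 1, 6, 10],
  [4, 0, 5, 7, 4, 3, 4],
  [6, 7, 4, 8, 4, 7, 0],
  [7, 0, 2, 6, 10, 9, 2],
  [4, 8, 7, 7, 0, 5, 4],
  [0, 3, 5, 6, 3, 4, 5],
  [6, 6, 3, 7, 5, 0, 8],
  [8, 5, 6, 3, 7, 6, 0],
  [7, 4, 0, 6, 7, 7, 8],
  [6, 10, 3, 0, 10, 9, 5],
  [8, 0, 10, 2, 5, 5, 1],
  [10, 2, 3, 10, 8, 5, 4],
  [10, 2, 6, 5, 10, 3, 0],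
  [0, 8, 5, 7, 7, 4, 4],
  [6, 7, 7, 7, 4, 0, 3],
  [8, 3, 7, 4, 8, 6, 6],
  [0, 6, 4, 4, 3, 7, 4],
  [8, 0, 0, 9, 0, 9, 2],
  [0, 9, 0, 2, 2, 3, 0],
  [7, 4, 0, 8, 5, 7, 4],
  [0, 2, 9, 3, 0, 0, 2],
  [7, 6, 7, 4, 0, 4, 3],
  [4, 4, 0, 7, 3, 4, 5],
  [8, 4, 1, 4, 9, 7, 6],
  [9, 8, 0, 0, 9, 0, 2],
  [6, 7, 4, 3, 7, 7, 0],
  [7, 3, 7, 4, 0, 5, 4],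
  [9, 9, 4, 0, 9, 6, 10],
  [7, 4, 0, 5, 7, 4, 8],
  [0, 0, 5, 0, 1, 1, 7],
  [3, 7, 9, 1, 6, 1, 8],
  [2, 1, 6, 10, 8, 8, 4],
  [0, 5, 2, 4, 2, 10, 9],
  [6, 10, 3, 8, 7, 9, 10],
  [10, 6, 1, 0, 2, 6, 3],
  [10, 0, 2, 5, 3, 1, 5],
  [4, 1, 5, 4, 8, 9, 7],
  [3, 3, 7, 2, 1, 5, 10],
  [10, 5, 5, 3, 1, 10, 6],
  [6, 3, 1, 1, 6, 1, 6],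
  [0, 0, 3, 0, 3, 8, 7],
  [1, 1, 5, 1, 5, 5, 8],
  [4, 10, 8, 8, 4, 3, 7],
  [3, 8, 4, 8, 7, 7, 1],
  [4, 2, 10, 6, 1, 3, 3],
  [3, 4, 6, 0, 3, 6, 6],
  [5, 0, 3, 5, 6, 8, 7],
  [7, 3, 1, 2, 5, 7, 4],
  [3, 5, 5, 8, 4, 6, 0],
  [5, 6, 8, 4, 6, 0, 8],
  [3, 4, 6, 0, 8, 6, 5],
  [10, 2, 6, 7, 4, 7, 8],
  [5, 3, 4, 5, 0, 8, 5],
  [4, 6, 0, 8, 5, 6, 8],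
  [0, 8, 5, 5, 8, 7, 5],
  [5, 8, 7, 10, 7, 9, 7],
  [5, 5, 3, 7, 6, 0, 3],
  [10, 5, 1, 3, 3, 7, 9],
  [4, 9, 10, 6, 1, 8, 8],
  [10, 5, 1, 5, 6, 3, 1],
  [10, 5, 6, 8, 1, 1, 6],
  [7, 2, 4, 6, 8, 7, 1],
  [9, 0, 5, 9, 7, 2, 1],
  [6, 9, 7, 9, 1, 2, 0],
  [6, 10, 0, 2, 5, 3, 10],
  [7, 9, 10, 2, 0, 5, 2],
  [1, 4, 2, 4, 6, 3, 4],
  [9, 4, 6, 8, 4, 10, 7],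
  [6, 1, 5, 6, 8, 10, 10],
  [10, 3, 8, 4, 2, 10, 5],
  [5, 1, 3, 8, 4, 9, 1],
  [8, 8, 4, 2, 1, 6, 10],
  [4, 9, 1, 2, 0, 5, 9],
  [10, 5, 1, 8, 8, 7, 2],
  [7, 0, 0, 6, 0, 1, 10],
  [7, 7, 0, 5, 7, 7, 3],
  [0, 0, 5, 0, 10, 1, 4],
  [3, 7, 7, 0, 6, 7, 4],
  [4, 0, 6, 4, 4, 8, 4],
  [5, 10, 0, 9, 6, 3, 10],
  [6, 4, 7, 8, 7, 7, 0],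
  [4, 4, 10, 6, 7, 8, 9],
  [1, 6, 7, 3, 9, 7, 7],
  [6, 10, 0, 9, 6, 3, 1],
  [7, 0, 9, 5, 10, 2, 2],
  [1, 5, 7, 8, 2, 4, 7],
  [9, 5, 1, 2, 9, 4, 0],
  [6, 6, 8, 3, 7, 4, 8],
  [5, 0, 1, 10, 4, 0, 0],
  [8, 8, 7, 4, 8, 5, 5],
  [4, 4, 8, 6, 5, 3, 3],
  [10, 1, 1, 1, 10, 9, 1],
  [8, 6, 6, 3, 8, 7, 7],
  [0, 0, 8, 0, 3, 3, 7],
  [3, 0, 3, 8, 7, 0, 0],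
  [5, 8, 4, 5, 8, 7, 8],
  [6, 8, 8, 4, 4, 3, 6],
  [8, 7, 4, 3, 6, 5, 3],
  [7, 3, 6, 6, 3, 3, 4],
  [7, 0, 8, 5, 4, 7, 7],
  [7, 0, 0, 5, 0, 10, 10],
  [5, 0, 10, 10, 7, 0, 0],
  [1, 9, 9, 4, 0, 2, 6],
  [2, 4, 0, 9, 6, 10, 2],
  [8, 4, 3, 7, 4, 10, 8],
  [0, 9, 5, 10, 9, 9, 7],
  [9, 8, 10, 3, 5, 4, 10],
  [1, 3, 5, 7, 10, 2, 3],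
  [3, 1, 1, 6, 1, 6, 6],
  [5, 1, 9, 2, 4, 0, 9],
  [7, 7, 0, 5, 4, 4, 8],
  [0, 5, 4, 7, 8, 4, 4],
  [4, 8, 6, 3, 7, 5, 8],
  [4, 7, 3, 4, 7, 0, 6],
  [5, 0, 10, 1, 4, 0, 0],
  [10, 1, 7, 0, 0, 6, 0],
  [5, 6, 3, 8, 4, 4, 8],
  [8, 8, 4, 7, 8, 6, 5],
  [8, 1, 3, 6, 7, 1, 9],
  [0, 3, 5, 4, 4, 7, 4],
  [6, 4, 4, 4, 4, 0, 8],
  [8, 0, 1, 9, 5, 5, 10],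
  [3, 5, 6, 8, 8, 7, 7],
  [9, 10, 1, 1, 10, 1, 10],
  [10, 1, 10, 10, 10, 2, 1],
  [4, 8, 8, 3, 6, 7, 6],
  [10, 10, 1, 2, 10, 1, 10],
  [4, 5, 3, 4, 8, 6, 8],
  [8, 4, 8, 5, 8, 7, 6],
  [8, 8, 7, 2, 10, 5, 1],
  [5, 8, 3, 4, 4, 3, 5],
  [3, 4, 0, 0, 3, 0, 3],
  [4, 6, 8, 4, 3, 6, 8],
  [3, 0, 8, 8, 4, 0, 0],
  [3, 3, 8, 6, 7, 5, 4],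
  [3, 6, 7, 6, 4, 8, 8],
  [0, 1, 5, 4, 0, 0, 10],
  [8, 3, 4, 0, 0, 8, 0],
  [7, 3, 6, 8, 7, 5, 8],
  [5, 8, 7, 6, 8, 4, 8],
  [7, 6, 3, 4, 3, 6, 3],
  [7, 3, 4, 4, 0, 6, 7],
  [3, 7, 7, 8, 5, 5, 3],
  [5, 8, 3, 7, 7, 3, 6],
  [8, 7, 7, 8, 6, 6, 3],
  [0, 8, 8, 4, 0, 0, 3],
  [7, 8, 5, 6, 8, 3, 4],
  [9, 6, 1, 2, 9, 7, 0],
  [10, 2, 9, 4, 0, 2, 5],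
  [9, 6, 6, 10, 3, 0, 1],
  [5, 5, 8, 8, 7, 4, 8],
  [7, 4, 4, 0, 3, 5, 4],
  [7, 0, 3, 6, 4, 4, 7],
  [0, 10, 5, 4, 0, 0, 1],
  [3, 6, 7, 4, 4, 4, 0],
  [9, 3, 0, 0, 2, 0, 2],
  [0, 0, 2, 0, 2, 2, 8],
  [10, 2, 10, 10, 10, 1, 1],
  [3, 8, 4, 7, 3, 5, 5],
  [10, 10, 4, 0, 0, 6, 0],
  [10, 6, 1, 8, 8, 4, 9],
  [10, 8, 8, 7, 9, 1, 5],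
  [0, 3, 6, 6, 8, 7, 6],
  [8, 7, 2, 1, 6, 1, 3],
  [8, 4, 2, 1, 6, 10, 8],
  [9, 1, 6, 1, 8, 3, 7],
  [3, 4, 9, 1, 6, 10, 3],
  [2, 10, 6, 10, 8, 3, 7],
  [8, 4, 6, 8, 4, 3, 6],
  [5, 8, 4, 8, 6, 3, 7],
  [4, 2, 1, 9, 0, 6, 9],
  [4, 8, 5, 3, 4, 6, 3],
  [10, 10, 10, 10, 10, 10, 9],
  [1, 10, 10, 1, 9, 1, 1],
  [8, 4, 7, 3, 5, 5, 3],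
  [5, 10, 8, 3, 4, 9, 10],
  [10, 6, 10, 8, 3, 7, 2],
  [1, 8, 3, 4, 2, 1, 5],
  [3, 10, 6, 10, 0, 2, 5],
  [0, 5, 7, 4, 3, 4, 4],
  [4, 10, 5, 4, 8, 2, 4],
  [7, 4, 8, 4, 7, 0, 6],
  [9, 4, 0, 2, 6, 1, 9],
  [0, 2, 6, 10, 9, 2, 7],
  [8, 7, 7, 0, 5, 4, 4],
  [6, 0, 8, 5, 6, 8, 4],
  [3, 5, 6, 3, 4, 5, 0],
  [0, 1, 9, 6, 5, 1, 3],
  [6, 3, 7, 5, 0, 8, 6],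
  [0, 3, 6, 6, 3, 4, 6],
  [5, 6, 3, 7, 6, 0, 8],
  [5, 7, 4, 8, 7, 4, 0],
  [4, 0, 6, 7, 7, 8, 7],
  [6, 5, 1, 3, 0, 1, 9],
  [10, 3, 0, 10, 9, 5, 6],
  [0, 9, 5, 10, 2, 2, 7],
  [0, 10, 2, 5, 5, 1, 8],
  [7, 1, 9, 3, 10, 3, 5],
  [2, 3, 10, 8, 5, 4, 10],
  [8, 6, 4, 10, 2, 8, 1],
  [2, 6, 5, 10, 3, 0, 10],
  [7, 0, 3, 5, 7, 4, 4],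
  [8, 5, 7, 7, 4, 4, 0],
  [0, 10, 0, 10, 6, 4, 0],
  [7, 7, 7, 4, 0, 3, 6],
  [5, 3, 8, 7, 4, 3, 6],
  [3, 7, 4, 8, 6, 6, 8],
  [6, 4, 4, 3, 7, 4, 0],
  [9, 3, 0, 0, 9, 0, 9],
  [0, 0, 9, 0, 9, 2, 8],
  [7, 0, 4, 3, 4, 5, 7],
  [9, 0, 2, 2, 3, 0, 0],
  [7, 4, 7, 0, 8, 6, 7],
  [4, 0, 8, 5, 7, 4, 7],
  [0, 8, 8, 7, 5, 5, 5],
  [2, 9, 3, 0, 0, 2, 0],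
  [8, 4, 5, 7, 4, 0, 4],
  [6, 7, 4, 0, 4, 3, 7],
  [0, 10, 0, 5, 10, 7, 0],
  [4, 0, 7, 3, 4, 5, 4],
  [5, 3, 7, 1, 4, 2, 7],
  [4, 1, 4, 9, 7, 6, 8],
  [4, 5, 0, 3, 6, 5, 8],
  [8, 0, 0, 9, 0, 2, 9],
  [0, 5, 4, 4, 3, 4, 7],
  [7, 4, 3, 7, 7, 0, 6],
  [5, 3, 7, 8, 5, 3, 7],
  [3, 7, 4, 0, 5, 4, 7],
  [1, 2, 2, 4, 0, 2, 6],
  [9, 4, 0, 9, 6, 10, 9],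
  [1, 8, 0, 1, 9, 5, 6],
  [4, 0, 5, 7, 4, 8, 7],
  [10, 4, 0, 0, 6, 0, 10],
  [3, 8, 4, 9, 1, 5, 1],
  [7, 2, 1, 6, 1, 3, 8],
  [1, 6, 10, 8, 8, 4, 2],
  [2, 0, 6, 2, 4, 9, 10],
  [5, 2, 4, 2, 10, 9, 0],
  [5, 1, 0, 9, 6, 8, 1],
  [10, 3, 8, 7, 9, 10, 6],
  [8, 1, 5, 1, 0, 9, 6],
  [6, 1, 0, 2, 6, 3, 10],
  [4, 5, 7, 7, 0, 4, 3],
  [0, 2, 5, 3, 1, 5, 10],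
  [4, 7, 10, 5, 4, 3, 9],
  [1, 5, 4, 8, 9, 7, 4],
  [3, 7, 2, 1, 5, 10, 3],
  [5, 1, 6, 5, 3, 10, 10],
  [5, 5, 3, 1, 10, 6, 10],
  [7, 4, 1, 5, 4, 8, 9],
  [4, 0, 0, 3, 0, 8, 8],
  [3, 7, 5, 8, 4, 8, 6],
  [1, 5, 1, 5, 5, 8, 1],
  [4, 7, 1, 8, 8, 7, 3],
  [10, 8, 8, 4, 3, 7, 4],
  [0, 2, 2, 9, 5, 4, 10],
  [8, 4, 8, 7, 7, 1, 3],
  [2, 10, 6, 1, 3, 3, 4],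
  [5, 8, 7, 6, 0, 8, 6],
  [4, 6, 0, 3, 6, 6, 3],
  [4, 10, 4, 9, 7, 5, 3],
  [0, 3, 5, 6, 8, 7, 5],
  [7, 4, 8, 1, 2, 6, 7],
  [3, 1, 2, 5, 7, 4, 7],
  [3, 1, 1, 5, 10, 6, 5],
  [5, 5, 8, 4, 6, 0, 3],
  [3, 6, 5, 8, 4, 5, 0],
  [6, 8, 4, 6, 0, 8, 5],
  [9, 2, 3, 8, 2, 3, 2],
  [4, 6, 0, 8, 6, 5, 3],
  [3, 1, 9, 6, 7, 7, 7],
  [2, 6, 7, 4, 7, 8, 10],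
  [6, 3, 1, 6, 10, 0, 9],
  [3, 4, 5, 0, 8, 5, 5],
  [3, 7, 5, 0, 8, 6, 6],
  [2, 3, 9, 9, 9, 8, 3],
  [8, 5, 5, 8, 7, 5, 0],
  [4, 6, 3, 7, 10, 4, 9],
  [8, 7, 10, 7, 9, 7, 5],
  [10, 2, 10, 1, 1, 1, 10],
  [5, 3, 7, 6, 0, 3, 5],
  [2, 1, 6, 1, 3, 8, 7],
  [5, 1, 3, 3, 7, 9, 10],
  [10, 2, 0, 5, 9, 4, 2],
  [9, 10, 6, 1, 8, 8, 4],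
  [10, 1, 6, 1, 5, 5, 3],
  [5, 1, 5, 6, 3, 1, 10],
  [5, 8, 7, 1, 10, 8, 9],
  [5, 6, 8, 1, 1, 6, 10],
  [10, 4, 9, 4, 6, 3, 7],
  [2, 4, 6, 8, 7, 1, 7],
  [5, 9, 7, 9, 10, 9, 0],
  [0, 5, 9, 7, 2, 1, 9],
  [10, 8, 8, 7, 8, 7, 7],
  [9, 7, 9, 1, 2, 0, 6],
  [1, 5, 1, 0, 2, 6, 3],
  [10, 0, 2, 5, 3, 10, 6],
  [9, 10, 2, 0, 5, 2, 7],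
  [7, 10, 7, 2, 4, 5, 3],
  [4, 2, 4, 6, 3, 4, 1],
  [4, 6, 8, 4, 10, 7, 9],
  [1, 5, 10, 5, 6, 3, 10],
  [1, 5, 6, 8, 10, 10, 6],
  [3, 8, 4, 2, 10, 5, 10],
  [1, 3, 8, 4, 9, 1, 5],
  [7, 8, 6, 3, 4, 6, 8],
  [2, 7, 2, 1, 2, 0, 5],
  [9, 1, 2, 0, 5, 9, 4],
  [4, 6, 7, 7, 0, 7, 8],
  [5, 1, 8, 8, 7, 2, 10],
  [0, 1, 10, 4, 0, 0, 5],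
  [8, 4, 4, 0, 5, 4, 7],
  [7, 0, 5, 7, 7, 3, 7],
  [6, 1, 0, 2, 5, 8, 1],
  [0, 5, 0, 10, 1, 4, 0],
  [7, 8, 4, 7, 0, 5, 7],
  [7, 7, 0, 6, 7, 4, 3],
  [5, 3, 4, 5, 8, 4, 3],
  [0, 6, 4, 4, 8, 4, 4],
  [1, 6, 1, 0, 9, 5, 3],
  [10, 0, 9, 6, 3, 10, 5],
  [0, 6, 2, 4, 2, 1, 2],
  [4, 7, 8, 7, 7, 0, 6],
  [2, 7, 7, 10, 6, 4, 8],
  [4, 10, 6, 7, 8, 9, 4],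
  [6, 7, 3, 9, 7, 7, 1],
  [10, 5, 1, 0, 9, 5, 3],
  [10, 0, 9, 6, 3, 1, 6],
  [5, 7, 8, 2, 4, 7, 1],
  [5, 3, 5, 3, 6, 4, 0],
  [5, 1, 2, 9, 4, 0, 9],
  [4, 4, 8, 5, 6, 3, 8],
  [6, 8, 3, 7, 4, 8, 6],
  [6, 3, 3, 7, 4, 3, 5],
  [8, 7, 4, 8, 5, 5, 8],
  [3, 5, 7, 7, 7, 7, 0],
  [4, 8, 6, 5, 3, 3, 4],
  [10, 1, 10, 1, 1, 1, 9],
  [1, 1, 1, 10, 9, 1, 10],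
  [5, 3, 7, 3, 6, 3, 4],
  [6, 6, 3, 8, 7, 7, 8],
  [4, 0, 0, 8, 0, 8, 3],
  [0, 8, 0, 3, 3, 7, 0],
  [3, 8, 5, 4, 5, 7, 3],
  [0, 3, 8, 7, 0, 0, 3],
  [3, 6, 3, 4, 5, 3, 7],
  [8, 4, 5, 8, 7, 8, 5],
  [3, 4, 7, 0, 6, 4, 7],
  [8, 8, 4, 4, 3, 6, 6],
  [8, 3, 4, 4, 3, 5, 5],
  [7, 4, 3, 6, 5, 3, 8],
  [6, 1, 9, 2, 7, 0, 9],
  [3, 6, 6, 3, 3, 4, 7],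
  [4, 4, 0, 8, 5, 7, 7],
  [0, 8, 5, 4, 7, 7, 7],
  [3, 0, 0, 9, 0, 9, 9],
  [0, 0, 5, 0, 10, 10, 7],
  [0, 10, 10, 7, 0, 0, 5],
  [9, 9, 4, 0, 2, 6, 1],
  [4, 8, 9, 4, 7, 1, 6],
  [4, 0, 9, 6, 10, 2, 2],
  [3, 3, 7, 3, 7, 7, 10],
  [4, 3, 7, 4, 10, 8, 8],
  [5, 4, 1, 0, 9, 9, 2],
  [9, 5, 10, 9, 9, 7, 0],
  [1, 2, 3, 10, 3, 6, 4],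
  [8, 10, 3, 5, 4, 10, 9],
  [4, 1, 9, 8, 10, 8, 6],
  [3, 5, 7, 10, 2, 3, 1],
  [5, 8, 10, 1, 6, 10, 6],
  [1, 1, 6, 1, 6, 6, 3],
  [3, 7, 0, 0, 3, 0, 8],
  [1, 9, 2, 4, 0, 9, 5],
  [3, 4, 4, 0, 5, 7, 4],
  [7, 0, 5, 4, 4, 8, 7],
  [5, 4, 7, 8, 4, 4, 0],
  [3, 7, 3, 6, 3, 4, 5],
  [8, 6, 3, 7, 5, 8, 4],
  [0, 6, 2, 4, 9, 10, 2],
  [7, 3, 4, 7, 0, 6, 4],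
  [6, 7, 7, 3, 4, 4, 0],
  [3, 6, 5, 3, 8, 7, 4],
  [6, 3, 8, 4, 4, 8, 5],
  [1, 8, 8, 4, 8, 4, 4],
  [8, 4, 7, 8, 6, 5, 8],
  [2, 3, 10, 3, 6, 4, 1],
  [1, 3, 6, 7, 1, 9, 8],
  [8, 10, 3, 6, 7, 10, 2],
  [3, 5, 4, 4, 7, 4, 0],
  [10, 2, 8, 5, 0, 6, 10],
  [4, 4, 4, 4, 0, 8, 6],
  [1, 3, 0, 1, 9, 6, 5],
  [0, 1, 9, 5, 5, 10, 8],
  [5, 6, 8, 8, 7, 7, 3],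
  [1, 2, 1, 1, 1, 1, 1],
  [10, 1, 1, 10, 1, 10, 9],
  [7, 6, 8, 7, 10, 4, 2],
  [1, 10, 10, 10, 2, 1, 10],
  [5, 7, 3, 8, 3, 5, 7],
  [8, 8, 3, 6, 7, 6, 4],
  [5, 7, 0, 0, 1, 0, 1],
  [10, 1, 2, 10, 1, 10, 10],
  [5, 3, 4, 8, 6, 8, 4],
  [3, 7, 7, 1, 8, 3, 4],
  [4, 8, 5, 8, 7, 6, 8],
  [8, 8, 7, 0, 0, 8, 0],
  [4, 0, 0, 3, 0, 3, 3],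
  [3, 10, 1, 6, 1, 5, 5],
  [6, 8, 4, 3, 6, 8, 4],
  [4, 8, 6, 8, 4, 5, 3],
  [7, 8, 8, 8, 6, 4, 5],
  [3, 8, 6, 7, 5, 4, 3],
  [0, 2, 2, 2, 6, 4, 1],
  [6, 7, 6, 4, 8, 8, 3],
  [1, 0, 10, 5, 4, 0, 0],
  [1, 5, 4, 0, 0, 10, 0],
  [7, 4, 0, 3, 6, 7, 7],
  [3, 4, 0, 0, 8, 0, 8],
  [3, 4, 8, 6, 8, 4, 5],
  [3, 6, 8, 7, 5, 8, 7],
  [9, 10, 10, 1, 1, 10, 1],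
  [8, 7, 6, 8, 4, 8, 5],
  [6, 3, 4, 3, 6, 3, 7],
  [4, 4, 8, 4, 4, 0, 6],
  [3, 4, 4, 0, 6, 7, 7],
  [5, 0, 3, 6, 5, 3, 7],
  [7, 7, 8, 5, 5, 3, 3],
  [5, 6, 3, 3, 7, 4, 3],
  [8, 3, 7, 7, 3, 6, 5],
  [4, 1, 8, 3, 7, 8, 7],
  [8, 0, 3, 8, 4, 0, 0],
  [8, 8, 4, 0, 0, 3, 0],
  [6, 4, 3, 8, 8, 5, 4],
  [0, 2, 5, 1, 2, 2, 7],
  [6, 1, 2, 9, 7, 0, 9],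
  [3, 3, 9, 8, 2, 9, 9],
  [2, 9, 4, 0, 2, 5, 10],
  [10, 2, 5, 6, 10, 8, 0],
  [6, 6, 10, 3, 0, 1, 9],
  [1, 8, 5, 4, 1, 9, 3],
  [5, 8, 8, 7, 4, 8, 5],
  [7, 4, 7, 4, 0, 8, 5],
  [4, 4, 0, 3, 5, 4, 7],
  [1, 2, 5, 7, 4, 7, 3],
  [0, 3, 6, 4, 4, 7, 7],
  [10, 0, 1, 5, 4, 0, 0],
  [10, 5, 4, 0, 0, 1, 0],
  [8, 8, 6, 7, 6, 7, 3],
  [6, 7, 4, 4, 4, 0, 3],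
  [9, 2, 8, 0, 0, 9, 0],
  [3, 0, 0, 2, 0, 2, 9],
  [0, 4, 8, 7, 5, 4, 7],
  [0, 2, 0, 2, 2, 8, 0],
  [10, 1, 9, 10, 10, 1, 1],
  [2, 10, 10, 10, 1, 1, 10],
  [2, 1, 5, 1, 8, 3, 4],
  [6, 1, 8, 8, 4, 9, 10],
  [6, 3, 10, 10, 6, 10, 6],
  [8, 8, 7, 9, 1, 5, 10],
  [5, 0, 8, 6, 6, 3, 7],
  [3, 6, 6, 8, 7, 6, 0],
  [0, 8, 6, 6, 8, 4, 5],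
  [6, 9, 4, 2, 1, 9, 0],
  [1, 6, 1, 8, 3, 7, 9],
  [4, 9, 1, 6, 10, 3, 3],
  [5, 3, 7, 6, 8, 7, 3],
  [3, 5, 8, 4, 6, 3, 7],
  [8, 4, 8, 6, 3, 7, 5],
  [2, 7, 9, 1, 9, 0, 6],
  [2, 1, 9, 0, 6, 9, 4],
  [8, 5, 3, 4, 6, 3, 4],
  [2, 1, 1, 10, 10, 1, 10],
  [10, 10, 10, 10, 10, 9, 10],
  [10, 10, 1, 9, 1, 1, 1],
  [4, 7, 3, 5, 5, 3, 8],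
  [9, 1, 5, 10, 8, 8, 7],
  [6, 10, 8, 3, 7, 2, 10],
  [8, 6, 8, 7, 6, 3, 7],
  [8, 3, 4, 2, 1, 5, 1],
  [6, 8, 1, 6, 10, 0, 2],
  [10, 6, 10, 0, 2, 5, 3],
  [0, 6, 7, 7, 3, 4, 4],
  [5, 7, 4, 3, 4, 4, 0],
  [7, 7, 1, 5, 4, 3, 2],
  [10, 5, 4, 8, 2, 4, 4],
  [5, 1, 0, 2, 5, 8, 10],
  [4, 8, 4, 7, 0, 6, 7],
  [2, 2, 7, 0, 2, 5, 1],
  [4, 0, 2, 6, 1, 9, 9],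
  [10, 6, 4, 3, 9, 7, 4],
  [2, 6, 10, 9, 2, 7, 0],
  [7, 5, 0, 8, 5, 5, 8],
  [0, 8, 5, 6, 8, 4, 6],
  [8, 9, 8, 9, 9, 2, 8],
  [5, 6, 3, 4, 5, 0, 3],
  [8, 0, 10, 9, 6, 6, 1],
  [1, 9, 6, 5, 1, 3, 0],
  [6, 1, 9, 9, 4, 0, 2],
  [5, 0, 8, 6, 6, 8, 4],
  [3, 6, 6, 3, 4, 6, 0],
  [7, 5, 8, 4, 1, 7, 2],
  [6, 3, 7, 6, 0, 8, 5],
  [7, 4, 8, 7, 4, 0, 5],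
  [0, 6, 7, 7, 8, 7, 4],
  [2, 5, 6, 1, 3, 0, 1],
  [5, 1, 3, 0, 1, 9, 6],
  [3, 0, 10, 9, 5, 6, 10],
  [4, 0, 2, 5, 10, 9, 2],
  [9, 5, 10, 2, 2, 7, 0],
  [7, 7, 1, 6, 7, 3, 9],
  [10, 2, 5, 5, 1, 8, 0],
  [6, 4, 10, 9, 3, 1, 3],
  [1, 9, 3, 10, 3, 5, 7],
  [9, 6, 10, 9, 9, 4, 0],
  [3, 10, 8, 5, 4, 10, 2],
  [10, 3, 5, 4, 10, 9, 8],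
  [6, 4, 10, 2, 8, 1, 8],
  [6, 5, 10, 3, 0, 10, 2],
  [7, 4, 0, 3, 5, 4, 4],
  [0, 3, 5, 7, 4, 4, 7],
  [0, 2, 9, 2, 5, 7, 10],
  [5, 7, 7, 4, 4, 0, 8],
  [0, 0, 1, 0, 10, 5, 4],
  [10, 0, 10, 6, 4, 0, 0],
  [10, 3, 5, 7, 1, 9, 3],
  [7, 7, 4, 0, 3, 6, 7],
  [3, 8, 7, 4, 3, 6, 5],
  [9, 9, 7, 0, 2, 5, 1],
  [7, 4, 8, 6, 6, 8, 3],
  [4, 4, 3, 7, 4, 0, 6],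
  [2, 2, 8, 0, 0, 2, 0],
  [2, 10, 1, 1, 1, 10, 10],
  [0, 9, 0, 9, 2, 8, 0],
  [4, 4, 0, 4, 3, 7, 5],
  [0, 4, 3, 4, 5, 7, 7],
  [0, 6, 9, 4, 9, 10, 9],
  [0, 2, 2, 3, 0, 0, 9],
  [4, 4, 7, 7, 0, 3, 6],
  [4, 7, 0, 8, 6, 7, 7],
  [6, 0, 6, 10, 1, 9, 8],
  [0, 8, 5, 7, 4, 7, 4],
  [6, 0, 3, 8, 7, 6, 5],
  [8, 8, 7, 5, 5, 5, 0],
  [10, 6, 7, 3, 2, 4, 7],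
  [7, 3, 7, 5, 7, 7, 0],
  [4, 5, 7, 4, 0, 4, 8],
  [3, 8, 6, 4, 6, 4, 8],
  [7, 4, 0, 4, 3, 7, 6],
  [0, 0, 1, 0, 5, 1, 7],
  [10, 0, 5, 10, 7, 0, 0],
  [0, 1, 0, 5, 10, 4, 0],
  [0, 7, 3, 4, 5, 4, 4],
  [4, 6, 8, 7, 1, 7, 2],
  [3, 7, 1, 4, 2, 7, 5],
  [3, 1, 10, 5, 1, 5, 6],
  [1, 4, 9, 7, 6, 8, 4],
  [3, 7, 6, 0, 3, 5, 5],
  [5, 0, 3, 6, 5, 8, 4],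
  [0, 0, 9, 0, 2, 9, 8],
  [5, 4, 4, 3, 4, 7, 0],
  [1, 2, 5, 5, 10, 3, 0],
  [4, 3, 7, 7, 0, 6, 7],
  [4, 6, 8, 7, 8, 6, 3],
  [3, 7, 8, 5, 3, 7, 5],
  [7, 4, 0, 5, 4, 7, 3],
  [5, 10, 9, 2, 4, 0, 2],
  [2, 2, 4, 0, 2, 6, 1],
  [8, 5, 4, 10, 2, 3, 10],
  [4, 0, 9, 6, 10, 9, 9],
  [5, 10, 3, 0, 1, 2, 5],
  [8, 0, 1, 9, 5, 6, 1],
  [0, 5, 7, 4, 8, 7, 4],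
  [8, 4, 9, 1, 5, 1, 3],
  [5, 8, 7, 3, 6, 8, 7],
  [1, 8, 8, 7, 2, 10, 5],
  [6, 10, 8, 8, 4, 2, 1],
  [1, 9, 0, 6, 2, 7, 9],
  [1, 3, 3, 4, 3, 4, 4],
  [2, 4, 2, 10, 9, 0, 5],
  [10, 6, 10, 0, 9, 5, 8],
  [1, 0, 9, 6, 8, 1, 5],
  [4, 7, 0, 6, 4, 7, 3],
  [3, 8, 7, 9, 10, 6, 10],
  [5, 3, 10, 5, 1, 0, 9],
  [1, 5, 1, 0, 9, 6, 8],
  [0, 5, 4, 4, 8, 7, 7],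
  [1, 0, 2, 6, 3, 10, 6],
  [8, 7, 6, 7, 7, 0, 4],
  [5, 7, 7, 0, 4, 3, 4],
  [4, 2, 1, 2, 0, 6, 2],
  [2, 5, 3, 1, 5, 10, 0],
  [2, 7, 4, 10, 5, 7, 3],
  [7, 10, 5, 4, 3, 9, 4],
  [0, 9, 6, 1, 9, 2, 7],
  [5, 4, 8, 9, 7, 4, 1],
  [4, 7, 0, 5, 7, 7, 8],
  [7, 2, 1, 5, 10, 3, 3],
  [1, 6, 10, 6, 5, 8, 10],
  [1, 6, 5, 3, 10, 10, 5],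
  [4, 9, 7, 5, 3, 4, 10],
  [5, 3, 1, 10, 6, 10, 5],
  [2, 4, 7, 1, 5, 7, 8],
  [0, 6, 7, 4, 3, 7, 7],
  [8, 5, 7, 6, 7, 8, 3],
  [9, 10, 9, 0, 5, 9, 7],
  [5, 1, 5, 5, 8, 1, 1],
  [8, 7, 4, 1, 8, 3, 7],
  [7, 1, 8, 8, 7, 3, 4],
  [8, 7, 5, 3, 4, 3, 5],
  [8, 8, 4, 3, 7, 4, 10],
  [1, 0, 9, 2, 9, 6, 4],
  [2, 2, 9, 5, 4, 10, 0],
  [10, 1, 9, 3, 5, 0, 5],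
  [4, 8, 7, 7, 1, 3, 8],
  [4, 3, 5, 6, 3, 3, 7],
  [10, 6, 1, 3, 3, 4, 2],
  [8, 7, 6, 0, 8, 6, 5],
  [6, 10, 3, 0, 1, 9, 6],
  [6, 0, 3, 6, 6, 3, 4],
  [8, 7, 1, 4, 9, 4, 5],
  [10, 4, 9, 7, 5, 3, 4],
  [4, 9, 1, 9, 0, 5, 2],
  [3, 5, 6, 8, 7, 5, 0],
  [4, 4, 7, 8, 1, 9, 6],
  [4, 8, 1, 2, 6, 7, 7],
  [0, 9, 9, 2, 5, 4, 1],
  [6, 8, 10, 1, 5, 1, 6],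
  [1, 1, 5, 10, 6, 5, 3],
  [5, 8, 4, 6, 0, 3, 5],
  [6, 5, 8, 4, 5, 0, 3],
  [8, 4, 6, 0, 8, 5, 6],
  [9, 2, 9, 3, 8, 9, 3],
  [2, 3, 8, 2, 3, 2, 9],
  [6, 6, 5, 0, 3, 8, 4],
  [6, 0, 8, 6, 5, 3, 4],
  [4, 8, 10, 9, 6, 4, 7],
  [1, 9, 6, 7, 7, 7, 3],
  [6, 5, 1, 8, 0, 1, 2],
  [6, 7, 4, 7, 8, 10, 2],
  [2, 5, 8, 1, 6, 1, 0],
  [3, 1, 6, 10, 0, 9, 6],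
  [4, 5, 0, 8, 5, 5, 3],
  [5, 8, 4, 5, 0, 3, 6],
  [7, 5, 0, 8, 6, 6, 3],
  [7, 6, 0, 8, 6, 5, 8],
  [3, 9, 9, 9, 8, 3, 2],
  [4, 0, 2, 5, 10, 2, 9],
  [5, 5, 8, 7, 5, 0, 8],
  [2, 7, 5, 3, 7, 1, 4],
  [6, 3, 7, 10, 4, 9, 4],
  [6, 5, 5, 0, 3, 3, 7],
  [7, 10, 7, 9, 7, 5, 8],
  [1, 1, 9, 10, 1, 10, 1],
  [6, 7, 4, 4, 3, 10, 9],
  [1, 6, 1, 3, 8, 7, 2],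
  [1, 3, 3, 7, 9, 10, 5],
  [9, 1, 9, 0, 5, 2, 4],
  [2, 0, 5, 9, 4, 2, 10],
  [9, 2, 3, 3, 9, 3, 9],
  [8, 1, 10, 6, 1, 6, 5],
  [1, 6, 1, 5, 5, 3, 10],
  [2, 8, 1, 3, 5, 4, 1],
  [1, 5, 6, 3, 1, 10, 5],
  [2, 6, 3, 7, 1, 1, 8],
  [8, 7, 1, 10, 8, 9, 5],
  [5, 3, 6, 4, 0, 5, 3],
  [6, 8, 1, 1, 6, 10, 5],
  [4, 1, 7, 9, 4, 5, 3],
  [4, 9, 4, 6, 3, 7, 10],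
  [0, 8, 8, 4, 6, 5, 6],
  [0, 6, 2, 7, 9, 1, 9],
  [9, 7, 9, 10, 9, 0, 5],
  [5, 9, 7, 2, 1, 9, 0],
  [4, 1, 3, 8, 7, 3, 7],
  [8, 8, 7, 8, 7, 7, 10],
  [7, 9, 1, 2, 0, 6, 9],
  [8, 10, 6, 1, 0, 9, 6],
  [5, 1, 0, 2, 6, 3, 1],
  [7, 0, 6, 8, 6, 3, 6],
  [0, 2, 5, 3, 10, 6, 10],
  [3, 4, 7, 0, 5, 4, 4],
  [10, 2, 0, 5, 2, 7, 9],
  [8, 4, 1, 7, 2, 7, 5],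
  [10, 7, 2, 4, 5, 3, 7],
  [8, 4, 5, 0, 8, 6, 6],
  [2, 4, 6, 3, 4, 1, 4],
  [10, 1, 1, 10, 1, 9, 10],
  [6, 8, 4, 10, 7, 9, 4],
  [1, 10, 6, 10, 5, 5, 3],
  [5, 10, 5, 6, 3, 10, 1],
  [7, 7, 7, 3, 1, 9, 6],
  [5, 6, 8, 10, 10, 6, 1],
  [2, 1, 5, 10, 3, 3, 7],
  [3, 4, 3, 6, 3, 7, 6],
  [8, 6, 3, 4, 6, 8, 7],
  [10, 0, 5, 1, 4, 0, 0],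
  [7, 2, 1, 2, 0, 5, 2],
  [6, 3, 10, 5, 10, 0, 9],
  [1, 2, 0, 5, 9, 4, 9],
  [3, 7, 5, 7, 7, 0, 7],
  [6, 7, 7, 0, 7, 8, 4],
  [10, 5, 1, 0, 2, 5, 8],
  [6, 5, 8, 3, 7, 7, 3],
  [4, 4, 0, 5, 4, 7, 8],
  [6, 8, 7, 6, 3, 7, 8],
  [0, 5, 7, 7, 3, 7, 7],
  [10, 5, 10, 0, 2, 6, 8],
  [1, 0, 2, 5, 8, 1, 6],
  [0, 5, 9, 7, 9, 10, 9],
  [4, 4, 3, 4, 7, 0, 5],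
  [8, 4, 7, 0, 5, 7, 7],
  [2, 0, 9, 2, 3, 0, 0],
  [7, 0, 6, 7, 4, 3, 7],
  [8, 6, 8, 4, 5, 3, 4],
  [3, 4, 5, 8, 4, 3, 5],
  [0, 8, 0, 3, 8, 4, 0],
  [6, 4, 4, 8, 4, 4, 0],
  [8, 10, 5, 1, 0, 2, 5],
  [6, 1, 0, 9, 5, 3, 1],
  [0, 5, 9, 4, 9, 1, 2],
  [0, 9, 6, 3, 10, 5, 10],
  [9, 0, 5, 2, 4, 9, 1],
  [6, 2, 4, 2, 1, 2, 0],
  [7, 8, 7, 7, 0, 6, 4],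
  [3, 9, 4, 7, 10, 5, 4],
  [7, 7, 10, 6, 4, 8, 2],
  [0, 5, 1, 10, 2, 3, 5],
  [10, 6, 7, 8, 9, 4, 4],
  [5, 10, 6, 6, 8, 1, 10],
  [7, 3, 9, 7, 7, 1, 6],
  [8, 1, 6, 1, 0, 2, 5],
  [5, 1, 0, 9, 5, 3, 10],
  [4, 8, 1, 9, 5, 7, 4],
  [0, 9, 6, 3, 1, 6, 10],
  [4, 9, 1, 5, 1, 3, 8],
  [7, 8, 2, 4, 7, 1, 5],
  [0, 6, 8, 5, 3, 5, 4],
  [3, 5, 3, 6, 4, 0, 5],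
  [5, 3, 10, 6, 10, 0, 2],
  [1, 2, 9, 4, 0, 9, 5],
  [4, 8, 5, 6, 3, 8, 4],
  [4, 3, 7, 7, 1, 8, 3],
  [3, 3, 7, 4, 3, 5, 6],
  [0, 8, 6, 7, 7, 4, 7],
  [5, 7, 7, 7, 7, 0, 3],
  [3, 0, 10, 2, 6, 6, 1],
  [8, 6, 5, 3, 3, 4, 4],
  [2, 1, 10, 10, 1, 10, 1],
  [1, 10, 1, 1, 1, 9, 10],
  [7, 3, 3, 8, 5, 4, 5],
  [1, 1, 10, 9, 1, 10, 1],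
  [7, 6, 8, 7, 3, 5, 3],
  [6, 3, 8, 7, 7, 8, 6],
  [8, 7, 0, 0, 8, 0, 8],
  [0, 0, 8, 0, 8, 3, 4],
  [7, 5, 3, 7, 8, 5, 3],
  [8, 0, 3, 3, 7, 0, 0],
  [8, 8, 3, 5, 4, 6, 7],
  [8, 5, 4, 5, 7, 3, 3],
  [0, 10, 6, 7, 0, 0, 1],
  [3, 8, 7, 0, 0, 3, 0],
  [6, 3, 4, 5, 3, 7, 3],
  [4, 5, 8, 7, 8, 5, 8],
  [8, 4, 4, 3, 6, 6, 8],
  [3, 4, 4, 3, 5, 5, 8],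
  [0, 3, 3, 7, 0, 0, 8],
  [4, 3, 6, 5, 3, 8, 7],
  [2, 5, 10, 9, 2, 4, 0],
  [1, 9, 2, 7, 0, 9, 6],
  [2, 5, 5, 1, 8, 0, 10],
  [6, 6, 3, 3, 4, 7, 3],
  [4, 7, 7, 0, 8, 6, 7],
  [4, 0, 8, 5, 7, 7, 4],
  [0, 1, 6, 7, 0, 0, 10],
  [8, 5, 4, 7, 7, 7, 0],
  [2, 8, 0, 0, 9, 0, 9],
  [0, 0, 9, 0, 9, 9, 3],
  [1, 9, 1, 1, 1, 10, 10],
  [0, 5, 0, 10, 10, 7, 0],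
  [5, 7, 3, 9, 4, 4, 1],
  [8, 9, 4, 7, 1, 6, 4],
  [6, 5, 0, 3, 3, 7, 5],
  [0, 9, 6, 10, 2, 2, 4],
  [1, 8, 8, 7, 3, 4, 7],
  [3, 7, 3, 7, 7, 10, 3],
  [6, 5, 3, 10, 10, 5, 1],
  [3, 7, 4, 10, 8, 8, 4],
  [9, 6, 7, 1, 0, 2, 9],
  [4, 1, 0, 9, 9, 2, 5],
  [5, 4, 4, 4, 7, 0, 8],
  [5, 10, 9, 9, 7, 0, 9],
  [7, 10, 9, 3, 10, 8, 6],
  [5, 0, 3, 3, 7, 6, 5],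
  [5, 7, 10, 9, 8, 1, 8],
  [1, 9, 8, 10, 8, 6, 4],
  [5, 1, 6, 6, 8, 10, 1],
  [5, 7, 10, 2, 3, 1, 3],
  [5, 6, 3, 10, 1, 5, 10],
  [8, 10, 1, 6, 10, 6, 5],
  [10, 10, 8, 9, 6, 3, 7],
  [1, 6, 1, 6, 6, 3, 1],
  [3, 8, 4, 0, 0, 8, 0],
  [7, 0, 0, 3, 0, 8, 3],
  [9, 2, 4, 0, 9, 5, 1],
  [4, 4, 0, 5, 7, 4, 3],
  [5, 7, 8, 9, 7, 7, 10],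
  [6, 8, 7, 6, 0, 3, 6],
  [4, 7, 8, 4, 4, 0, 5],
  [7, 3, 6, 3, 4, 5, 3],
  [1, 8, 8, 4, 9, 10, 6],
  [6, 3, 7, 5, 8, 4, 8],
  [9, 0, 5, 2, 4, 2, 10],
  [6, 2, 4, 9, 10, 2, 0],
  [7, 10, 8, 3, 4, 8, 4],
  [7, 7, 3, 4, 4, 0, 6],
  [6, 5, 3, 8, 7, 4, 3],
  [7, 0, 2, 6, 10, 2, 9],
  [3, 8, 4, 4, 8, 5, 6],
  [7, 10, 3, 8, 4, 3, 4],
  [8, 8, 4, 8, 4, 4, 1],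
  [5, 3, 1, 1, 5, 10, 6],
  [4, 7, 8, 6, 5, 8, 8],
  [10, 9, 8, 10, 3, 5, 4],
  [3, 10, 3, 6, 4, 1, 2],
  [6, 6, 0, 3, 3, 4, 6],
  [3, 6, 7, 1, 9, 8, 1],
  [9, 3, 1, 3, 6, 4, 10],
  [10, 3, 6, 7, 10, 2, 8],
  [5, 4, 4, 7, 4, 0, 3],
  [1, 1, 9, 8, 5, 0, 6],
  [2, 8, 5, 0, 6, 10, 10],
  [2, 9, 5, 7, 1, 0, 9],
  [4, 4, 4, 0, 8, 6, 4],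
  [6, 10, 8, 0, 1, 2, 6],
  [3, 0, 1, 9, 6, 5, 1],
  [1, 9, 5, 5, 10, 8, 0],
  [6, 8, 8, 7, 7, 3, 5],
  [10, 10, 9, 1, 1, 10, 1],
  [2, 1, 1, 1, 1, 1, 1],
  [3, 0, 0, 9, 0, 2, 2],
  [1, 1, 10, 1, 10, 9, 10],
  [9, 4, 5, 8, 7, 1, 4],
  [6, 8, 7, 10, 4, 2, 7],
  [2, 5, 6, 10, 8, 0, 10],
  [10, 10, 10, 2, 1, 10, 1],
  [4, 6, 4, 3, 8, 8, 5],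
  [7, 3, 8, 3, 5, 7, 5],
  [8, 8, 5, 7, 5, 4, 8],
  [10, 6, 4, 0, 0, 10, 0],
  [7, 0, 0, 1, 0, 1, 5],
  [4, 1, 9, 3, 1, 8, 5],
  [1, 2, 10, 1, 10, 10, 10],
  [5, 8, 4, 6, 3, 7, 3],
  [7, 8, 4, 7, 1, 3, 3],
  [7, 7, 1, 8, 3, 4, 3],
  [6, 1, 8, 3, 7, 9, 1],
  [10, 1, 5, 10, 5, 6, 3],
  [0, 0, 3, 0, 3, 3, 4],
  [3, 10, 3, 5, 7, 1, 9],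
  [8, 4, 3, 6, 8, 4, 6],
  [8, 7, 3, 6, 8, 7, 5],
  [8, 3, 7, 3, 4, 4, 10],
  [8, 8, 8, 6, 4, 5, 7],
  [8, 4, 10, 10, 3, 9, 5],
  [8, 6, 7, 5, 4, 3, 3],
  [10, 0, 9, 2, 2, 5, 4],
  [2, 2, 2, 6, 4, 1, 0],
  [8, 9, 6, 8, 4, 10, 1],
  [7, 6, 4, 8, 8, 3, 6],
  [0, 10, 0, 10, 5, 7, 0],
  [3, 5, 7, 6, 4, 3, 3],
  [5, 4, 0, 0, 10, 0, 1],
  [4, 4, 7, 0, 3, 5, 7],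
  [4, 0, 3, 6, 7, 7, 7],
  [6, 8, 7, 8, 6, 3, 4],
  [8, 4, 3, 4, 7, 10, 3],
  [6, 8, 7, 5, 8, 7, 3],
  [10, 2, 1, 10, 1, 10, 10],
  [10, 10, 1, 1, 10, 1, 9],
  [7, 6, 8, 4, 8, 5, 8],
  [7, 9, 10, 6, 10, 3, 8],
  [5, 7, 7, 8, 4, 7, 0],
  [4, 8, 4, 4, 0, 6, 4],
  [9, 5, 8, 1, 5, 10, 0],
  [4, 4, 0, 6, 7, 7, 3],
  [0, 3, 6, 5, 3, 7, 5],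
  [3, 2, 3, 2, 2, 9, 3],
  [1, 3, 5, 4, 1, 2, 8],
  [3, 7, 7, 3, 6, 5, 8],
  [4, 7, 10, 8, 3, 4, 8],
  [1, 8, 3, 7, 8, 7, 4],
  [6, 7, 3, 8, 8, 6, 7],
  [0, 3, 8, 4, 0, 0, 8],
  [8, 4, 0, 0, 3, 0, 8],
  [7, 5, 7, 3, 8, 3, 5],
  [4, 3, 8, 8, 5, 4, 6],
  [4, 10, 8, 3, 7, 3, 4],
  [2, 5, 1, 2, 2, 7, 0],
  [2, 6, 6, 10, 8, 0, 1],
  [1, 2, 9, 7, 0, 9, 6],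
  [2, 8, 8, 9, 8, 9, 9],
  [3, 9, 8, 2, 9, 9, 3],
  [4, 9, 10, 2, 0, 6, 2],
  [9, 4, 0, 2, 5, 10, 2],
  [0, 1, 9, 5, 6, 1, 8],
  [2, 6, 1, 2, 2, 4, 0],
  [8, 5, 4, 1, 9, 3, 1],
  [6, 4, 7, 7, 4, 0, 8],
  [4, 7, 4, 0, 8, 5, 7],
  [8, 4, 5, 6, 6, 0, 8],
  [4, 0, 3, 5, 4, 7, 4],
  [8, 10, 9, 5, 7, 7, 7],
  [2, 5, 7, 4, 7, 3, 1],
  [5, 5, 3, 10, 1, 6, 1],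
  [3, 6, 4, 4, 7, 7, 0],
  [0, 1, 0, 1, 5, 7, 0],
  [7, 0, 3, 6, 4, 7, 4],
  [5, 4, 0, 0, 1, 0, 10],
  [8, 3, 3, 6, 7, 5, 7],
  [8, 6, 7, 6, 7, 3, 8],
  [0, 0, 3, 0, 8, 3, 7],
  [7, 4, 4, 4, 0, 3, 6],
  [4, 8, 4, 6, 4, 4, 0],
  [0, 0, 2, 0, 2, 9, 3],
  [4, 0, 7, 8, 7, 6, 4],
  [4, 8, 7, 5, 4, 7, 0],
  [8, 5, 7, 0, 5, 8, 5],
  [2, 0, 2, 2, 8, 0, 0],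
  [10, 1, 10, 9, 10, 1, 1],
  [1, 9, 10, 10, 1, 1, 10],
  [10, 10, 10, 1, 1, 10, 2],
  [1, 5, 1, 8, 3, 4, 2],
  [6, 1, 0, 9, 6, 8, 10],
  [5, 5, 8, 10, 10, 5, 10],
  [3, 10, 10, 6, 10, 6, 6],
  [10, 8, 3, 7, 3, 4, 4],
  [8, 7, 9, 1, 5, 10, 8],
  [0, 8, 6, 6, 3, 7, 5],
  [6, 8, 7, 5, 0, 3, 5],
  [6, 6, 8, 7, 6, 0, 3],
  [8, 6, 6, 8, 4, 5, 0],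
  [9, 4, 2, 1, 9, 0, 6],
  [4, 2, 7, 5, 3, 7, 1],
  [9, 1, 6, 10, 3, 3, 4],
  [3, 7, 6, 8, 7, 3, 5],
  [4, 1, 3, 3, 4, 3, 4],
  [2, 0, 6, 9, 7, 9, 1],
  [5, 9, 4, 9, 1, 2, 0],
  [7, 9, 1, 9, 0, 6, 2],
  [8, 9, 3, 9, 2, 9, 3],
  [1, 9, 0, 6, 9, 4, 2],
  [3, 7, 10, 4, 9, 4, 6],
  [5, 3, 4, 6, 3, 4, 8],
  [1, 9, 10, 1, 10, 1, 1],
  [1, 1, 10, 10, 1, 10, 2],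
  [1, 5, 4, 3, 2, 7, 7],
  [10, 10, 10, 10, 9, 10, 10],
  [0, 9, 2, 8, 0, 0, 9],
  [10, 1, 9, 1, 1, 1, 10],
  [1, 5, 10, 8, 8, 7, 9],
  [10, 8, 3, 7, 2, 10, 6],
  [4, 3, 5, 8, 7, 5, 3],
  [3, 4, 2, 1, 5, 1, 8],
  [9, 5, 3, 1, 6, 1, 0],
  [8, 1, 6, 10, 0, 2, 6],
  [10, 9, 6, 7, 4, 4, 3],
  [7, 0, 5, 7, 7, 8, 4],
  [6, 6, 8, 4, 5, 0, 8],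
  [7, 4, 3, 4, 4, 0, 5],
  [9, 4, 4, 1, 5, 7, 3],
  [7, 1, 5, 4, 3, 2, 7],
  [10, 6, 5, 3, 1, 1, 5],
  [5, 4, 8, 2, 4, 4, 10],
  [1, 6, 10, 0, 2, 6, 8],
  [1, 0, 2, 5, 8, 10, 5],
  [8, 4, 7, 0, 6, 7, 4],
  [10, 9, 9, 7, 0, 9, 5],
  [2, 7, 0, 2, 5, 1, 2],
  [10, 3, 0, 10, 2, 6, 5],
  [0, 2, 6, 1, 9, 9, 4],
  [6, 4, 3, 9, 7, 4, 10],
  [6, 8, 6, 8, 5, 7, 0],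
  [6, 10, 9, 2, 7, 0, 2],
  [7, 7, 3, 6, 5, 8, 3],
  [3, 4, 10, 7, 2, 7, 6],
  [8, 5, 6, 8, 4, 6, 0],
  [3, 3, 2, 8, 9, 2, 2],
  [9, 8, 9, 9, 2, 8, 8],
  [6, 3, 4, 5, 0, 3, 5],
  [0, 10, 9, 6, 6, 1, 8],
  [7, 4, 7, 3, 1, 2, 5],
  [9, 6, 5, 1, 3, 0, 1],
  [3, 2, 4, 7, 10, 6, 7],
  [6, 6, 3, 4, 6, 0, 3],
  [5, 8, 4, 1, 7, 2, 7],
  [5, 6, 6, 0, 8, 8, 4],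
  [3, 7, 6, 0, 8, 5, 6],
  [7, 0, 5, 4, 4, 3, 4],
  [6, 7, 7, 8, 7, 4, 0],
  [10, 9, 6, 6, 1, 8, 0],
  [5, 6, 1, 3, 0, 1, 2],
  [9, 7, 0, 9, 6, 1, 2],
  [0, 10, 9, 5, 6, 10, 3],
  [9, 7, 0, 2, 5, 1, 9],
  [0, 2, 5, 10, 9, 2, 4],
  [2, 8, 9, 9, 9, 3, 8],
  [5, 10, 2, 2, 7, 0, 9],
  [2, 4, 4, 1, 6, 4, 3],
  [8, 5, 7, 10, 9, 8, 1],
  [4, 10, 9, 3, 1, 3, 6],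
  [7, 0, 0, 1, 0, 10, 6],
  [9, 3, 10, 3, 5, 7, 1],
  [6, 10, 9, 9, 4, 0, 9],
  [1, 2, 6, 5, 1, 8, 0],
  [10, 8, 5, 4, 10, 2, 3],
  [3, 1, 8, 5, 4, 1, 9],
  [3, 5, 4, 10, 9, 8, 10],
  [3, 6, 4, 10, 9, 3, 1],
  [4, 10, 2, 8, 1, 8, 6],
  [6, 10, 2, 2, 4, 0, 9],
  [5, 10, 3, 0, 10, 2, 6],
  [7, 4, 7, 0, 3, 6, 4],
  [4, 0, 3, 5, 4, 4, 7],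
  [8, 6, 0, 5, 1, 1, 2],
  [3, 5, 7, 4, 4, 7, 0],
  [1, 0, 9, 9, 2, 6, 7],
  [2, 9, 2, 5, 7, 10, 0],
  [7, 7, 8, 1, 2, 5, 4],
  [7, 7, 4, 4, 0, 8, 5],
  [0, 1, 0, 10, 5, 4, 0],
  [7, 5, 4, 8, 8, 8, 5],
  [0, 10, 6, 4, 0, 0, 10],
  [8, 1, 8, 5, 7, 10, 9],
  [3, 5, 7, 1, 9, 3, 10],
  [9, 2, 7, 0, 9, 6, 1],
  [8, 6, 5, 8, 8, 4, 7],
  [10, 2, 2, 7, 0, 9, 5],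
  [3, 7, 8, 4, 7, 1, 3],
  [0, 9, 9, 8, 0, 0, 2],
  [2, 8, 0, 0, 2, 0, 2],
  [10, 1, 10, 10, 10, 1, 2],
  [10, 1, 1, 1, 10, 10, 2],
  [2, 5, 4, 4, 4, 8, 10],
  [9, 0, 9, 2, 8, 0, 0],
  [6, 7, 7, 0, 4, 8, 7],
  [4, 0, 4, 3, 7, 5, 4],
  [5, 3, 1, 5, 10, 0, 2],
  [4, 3, 4, 5, 7, 7, 0],
  [6, 9, 4, 9, 10, 9, 0],
  [2, 2, 3, 0, 0, 9, 0],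
  [4, 7, 7, 0, 3, 6, 4],
  [5, 7, 0, 0, 10, 0, 10],
  [7, 0, 8, 6, 7, 7, 4],
  [3, 5, 0, 6, 10, 10, 9],
  [0, 6, 10, 1, 9, 8, 6],
  [8, 5, 7, 4, 7, 4, 0],
  [6, 5, 0, 3, 8, 4, 6],
  [0, 3, 8, 7, 6, 5, 6],
  [6, 0, 3, 8, 7, 5, 6],
  [8, 7, 5, 5, 5, 0, 8],
  [4, 1, 5, 7, 3, 9, 4],
  [6, 7, 3, 2, 4, 7, 10],
  [0, 6, 10, 10, 2, 8, 5],
  [5, 7, 4, 0, 4, 8, 4],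
  [3, 8, 3, 6, 4, 5, 4],
  [8, 6, 4, 6, 4, 8, 3],
  [6, 7, 8, 3, 8, 5, 7],
  [4, 0, 4, 3, 7, 6, 7],
  [4, 0, 0, 1, 0, 6, 1],
  [0, 1, 0, 5, 1, 7, 0],
  [6, 8, 4, 1, 10, 8, 2],
  [0, 5, 10, 7, 0, 0, 10],
  [0, 0, 10, 0, 5, 1, 4],
  [1, 0, 5, 10, 4, 0, 0],
  [7, 5, 7, 4, 0, 7, 8],
  [7, 3, 4, 5, 4, 4, 0],
  [9, 7, 5, 8, 7, 10, 7],
  [6, 8, 7, 1, 7, 2, 4],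
  [2, 0, 5, 2, 7, 2, 1],
  [7, 1, 4, 2, 7, 5, 3],
  [5, 8, 10, 10, 5, 10, 5],
  [1, 10, 5, 1, 5, 6, 3],
  [7, 10, 10, 3, 2, 6, 8],
  [4, 9, 7, 6, 8, 4, 1],
  [7, 6, 0, 3, 5, 5, 3],
  [0, 3, 6, 5, 8, 4, 5],
  [7, 8, 4, 4, 0, 5, 4],
  [0, 9, 0, 2, 9, 8, 0],
  [7, 7, 0, 6, 4, 7, 8],
  [0, 10, 9, 5, 5, 1, 3],
  [2, 5, 5, 10, 3, 0, 1],
  [2, 6, 4, 4, 4, 3, 1],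
  [8, 7, 5, 8, 7, 3, 6],
  [1, 7, 0, 0, 10, 0, 6],
  [7, 8, 5, 3, 7, 5, 3],
  [5, 8, 7, 8, 5, 8, 4],
  [4, 0, 5, 4, 7, 3, 7],
  [9, 6, 1, 9, 2, 7, 0],
  [10, 9, 2, 4, 0, 2, 5],
  [9, 3, 3, 2, 3, 2, 2],
  [2, 4, 0, 2, 6, 1, 2],
  [1, 3, 6, 4, 10, 9, 3],
  [5, 4, 10, 2, 3, 10, 8],
  [10, 9, 3, 10, 8, 6, 7],
  [0, 9, 6, 10, 9, 9, 4],
  [6, 6, 1, 3, 0, 10, 2],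
  [10, 3, 0, 1, 2, 5, 5],
  [4, 3, 10, 2, 5, 7, 7],
  [8, 5, 4, 4, 4, 7, 0],
  [4, 6, 3, 7, 3, 5, 8],
  [10, 10, 1, 1, 10, 2, 10],
  [2, 10, 2, 0, 6, 9, 7],
  [9, 0, 6, 2, 7, 9, 1],
  [2, 9, 8, 8, 2, 8, 2],
  [3, 3, 4, 3, 4, 4, 1],
  [4, 10, 3, 3, 4, 8, 7],
  [4, 2, 10, 9, 0, 5, 2],
  [3, 1, 5, 10, 0, 2, 5],
  [6, 10, 0, 9, 5, 8, 10],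
  [4, 0, 5, 3, 5, 8, 5],
  [0, 9, 6, 8, 1, 5, 1],
  [7, 0, 6, 4, 7, 3, 4],
  [8, 7, 9, 10, 6, 10, 3],
  [2, 6, 8, 10, 5, 10, 0],
  [3, 10, 5, 1, 0, 9, 5],
  [1, 2, 5, 4, 7, 7, 8],
  [0, 2, 6, 3, 10, 6, 1],
  [7, 3, 4, 6, 7, 4, 0],
  [7, 6, 7, 7, 0, 4, 8],
  [10, 4, 2, 7, 6, 8, 7],
  [7, 7, 0, 4, 3, 4, 5],
  [2, 1, 2, 0, 6, 2, 4],
  [8, 9, 4, 4, 10, 6, 7],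
  [7, 4, 10, 5, 7, 3, 2],
  [7, 6, 5, 5, 0, 3, 3],
  [10, 5, 4, 3, 9, 4, 7],
  [4, 0, 2, 6, 1, 2, 2],
  [5, 10, 8, 0, 1, 9, 5],
  [4, 8, 9, 7, 4, 1, 5],
  [0, 0, 2, 0, 9, 9, 8],
  [1, 10, 5, 10, 6, 6, 8],
  [6, 10, 6, 5, 8, 10, 1],
  [6, 3, 4, 10, 1, 3, 2],
  [1, 7, 2, 7, 5, 8, 4],
  [9, 7, 5, 3, 4, 10, 4],
  [3, 1, 10, 6, 10, 5, 5],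
  [3, 9, 7, 7, 1, 6, 7],
  [4, 7, 1, 5, 7, 8, 2],
  [3, 5, 7, 0, 5, 3, 6],
  [5, 7, 6, 7, 8, 3, 8],
  [1, 10, 9, 10, 1, 1, 10],
  [10, 9, 0, 5, 9, 7, 9],
  [1, 5, 5, 8, 1, 1, 5],
  [4, 3, 4, 4, 1, 3, 3],
  [7, 4, 1, 8, 3, 7, 8],
  [3, 3, 8, 5, 4, 5, 7],
  [7, 5, 3, 4, 3, 5, 8],
  [7, 0, 0, 1, 0, 5, 1],
  [7, 10, 0, 9, 2, 2, 6],
  [0, 9, 2, 9, 6, 4, 1],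
  [7, 8, 10, 9, 5, 7, 7],
  [2, 9, 5, 4, 10, 0, 2],
  [6, 1, 10, 9, 3, 6, 0],
  [1, 9, 3, 5, 0, 5, 10],
  [7, 8, 9, 4, 4, 10, 6],
  [8, 7, 7, 1, 3, 8, 4],
  [3, 5, 6, 3, 3, 7, 4],
  [5, 7, 1, 9, 3, 10, 3],
  [3, 6, 5, 3, 7, 5, 0],
  [5, 5, 1, 3, 0, 10, 9],
  [10, 3, 0, 1, 9, 6, 6],
  [2, 3, 1, 3, 5, 7, 10],
  [6, 3, 4, 1, 4, 2, 4],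
  [7, 1, 4, 9, 4, 5, 8],
  [5, 7, 4, 0, 7, 8, 7],
  [9, 7, 2, 1, 9, 0, 5],
  [5, 6, 8, 7, 5, 0, 3],
  [5, 7, 7, 7, 8, 10, 9],
  [4, 7, 8, 1, 9, 6, 4],
  [6, 7, 0, 6, 3, 5, 8],
  [8, 1, 2, 6, 7, 7, 4],
  [10, 0, 2, 9, 2, 6, 4],
  [9, 9, 2, 5, 4, 1, 0],
  [7, 0, 3, 5, 7, 7, 7],
  [8, 10, 1, 5, 1, 6, 6],
  [8, 2, 4, 4, 10, 5, 4],
  [1, 5, 10, 6, 5, 3, 1],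
  [7, 9, 1, 5, 10, 8, 8],
  [8, 4, 6, 0, 3, 5, 5],
  [6, 0, 3, 5, 5, 3, 7],
  [8, 2, 9, 9, 3, 3, 9],
  [2, 9, 3, 8, 9, 3, 9],
  [0, 2, 2, 2, 5, 7, 1],
  [3, 8, 2, 3, 2, 9, 2],
  [7, 5, 5, 5, 0, 8, 8],
  [4, 5, 3, 7, 10, 7, 2],
  [0, 8, 6, 5, 3, 4, 6],
  [4, 7, 3, 10, 9, 5, 4],
  [8, 10, 9, 6, 4, 7, 4],
  [8, 10, 10, 6, 1, 5, 6],
  [9, 6, 7, 7, 7, 3, 1],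
  [9, 5, 6, 1, 8, 0, 1],
  [5, 1, 8, 0, 1, 2, 6],
  [7, 4, 7, 8, 10, 2, 6],
  [5, 8, 1, 6, 1, 0, 2],
  [9, 10, 2, 0, 6, 2, 4],
  [1, 6, 10, 0, 9, 6, 3],
  [5, 0, 8, 5, 5, 3, 4],
  [8, 4, 5, 0, 3, 6, 5],
  [6, 0, 8, 6, 5, 8, 7],
  [2, 6, 6, 1, 3, 0, 10],
  [9, 9, 9, 8, 3, 2, 3],
  [0, 2, 5, 10, 2, 9, 4],
  [10, 8, 0, 10, 9, 6, 5],
  [5, 8, 7, 5, 0, 8, 5],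
  [7, 9, 4, 5, 3, 4, 1],
  [7, 5, 3, 7, 1, 4, 2],
  [10, 6, 1, 6, 5, 8, 1],
  [4, 5, 6, 5, 0, 8, 3],
  [5, 5, 0, 3, 3, 7, 6],
  [9, 9, 3, 8, 2, 8, 9],
  [10, 7, 9, 7, 5, 8, 7],
  [10, 10, 10, 9, 10, 10, 10],
  [7, 4, 4, 3, 10, 9, 6],
  [6, 1, 3, 8, 7, 2, 1],
  [1, 5, 1, 3, 8, 4, 9],
  [3, 3, 7, 9, 10, 5, 1],
  [7, 2, 10, 9, 0, 6, 2],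
  [1, 9, 0, 5, 2, 4, 9],
  [0, 5, 9, 4, 2, 10, 2],
  [2, 2, 9, 3, 3, 2, 3],
  [2, 3, 3, 9, 3, 9, 9],
  [2, 8, 3, 9, 3, 2, 2],
  [1, 10, 6, 1, 6, 5, 8],
  [4, 3, 10, 9, 6, 7, 4],
  [6, 1, 5, 5, 3, 10, 1],
  [10, 9, 3, 1, 3, 6, 4],
  [8, 1, 3, 5, 4, 1, 2],
  [6, 1, 3, 0, 1, 2, 5],
  [5, 6, 3, 1, 10, 5, 1],
  [3, 9, 5, 3, 7, 10, 1],
  [6, 3, 7, 1, 1, 8, 2],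
  [1, 10, 8, 2, 6, 8, 4],
  [7, 1, 10, 8, 9, 5, 8],
  [8, 6, 8, 6, 4, 0, 5],
  [3, 6, 4, 0, 5, 3, 5],
  [0, 2, 5, 8, 10, 5, 1],
  [8, 1, 1, 6, 10, 5, 6],
  [1, 7, 9, 4, 5, 3, 4],
  [9, 4, 6, 3, 7, 10, 4],
  [5, 0, 3, 8, 4, 5, 5],
  [8, 8, 4, 6, 5, 6, 0],
  [7, 1, 9, 8, 1, 3, 6],
  [6, 2, 7, 9, 1, 9, 0],
  [3, 2, 2, 2, 8, 3, 9],
  [7, 9, 10, 9, 0, 5, 9],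
  [4, 7, 10, 3, 8, 4, 3],
  [1, 3, 8, 7, 3, 7, 4],
  [0, 2, 6, 10, 2, 9, 7],
  [8, 7, 8, 7, 7, 10, 8],
  [7, 4, 10, 8, 8, 4, 3],
  [9, 1, 2, 0, 6, 9, 7],
  [5, 3, 1, 6, 1, 0, 9],
  [10, 6, 1, 0, 9, 6, 8],
  [1, 0, 2, 6, 3, 1, 5],
  [5, 4, 0, 6, 8, 5, 3],
  [0, 6, 8, 6, 3, 6, 7],
  [3, 5, 7, 0, 6, 3, 5],
  [2, 5, 3, 10, 6, 10, 0],
  [4, 7, 0, 5, 4, 4, 3],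
  [2, 0, 5, 2, 7, 9, 10],
  [6, 3, 7, 1, 7, 9, 7],
  [4, 1, 7, 2, 7, 5, 8],
  [3, 4, 5, 5, 6, 0, 3],
  [7, 2, 4, 5, 3, 7, 10],
  [5, 3, 7, 5, 0, 3, 6],
  [4, 5, 0, 8, 6, 6, 8],
  [4, 6, 3, 4, 1, 4, 2],
  [1, 1, 10, 1, 10, 10, 9],
  [1, 1, 10, 1, 9, 10, 10],
  [8, 4, 10, 7, 9, 4, 6],
  [10, 6, 10, 5, 5, 3, 1],
  [5, 7, 3, 2, 7, 4, 10],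
  [10, 5, 6, 3, 10, 1, 5],
  [5, 4, 4, 7, 3, 10, 9],
  [7, 7, 3, 1, 9, 6, 7],
  [8, 0, 10, 9, 6, 5, 10],
  [6, 8, 10, 10, 6, 1, 5],
  [3, 10, 1, 5, 10, 5, 6],
  [4, 3, 6, 3, 7, 6, 3],
  [6, 3, 4, 6, 8, 7, 8],
  [0, 5, 1, 4, 0, 0, 10],
  [2, 1, 2, 0, 5, 2, 7],
  [2, 5, 8, 10, 5, 1, 0],
  [3, 10, 5, 10, 0, 9, 6],
  [4, 9, 10, 9, 0, 6, 9],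
  [2, 0, 5, 9, 4, 9, 1],
  [4, 8, 4, 5, 7, 4, 0],
  [7, 5, 7, 7, 0, 7, 3],
  [6, 0, 5, 10, 10, 9, 8],
  [7, 7, 0, 7, 8, 4, 6],
  [3, 1, 6, 1, 0, 9, 5],
  [10, 3, 3, 7, 3, 7, 7],
  [3, 5, 3, 7, 6, 8, 7],
  [8, 7, 6, 3, 7, 8, 6],
  [0, 3, 0, 8, 3, 7, 0],
  [5, 7, 7, 3, 7, 7, 0],
  [5, 10, 0, 2, 6, 8, 10],
  [0, 6, 2, 7, 2, 10, 9],
  [0, 2, 5, 8, 1, 6, 1],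
  [2, 0, 6, 9, 7, 2, 10],
  [4, 3, 4, 7, 0, 5, 4],
  [0, 9, 2, 3, 0, 0, 2],
  [7, 3, 5, 8, 4, 6, 3],
  [6, 8, 4, 5, 3, 4, 8],
  [4, 5, 8, 4, 3, 5, 3],
  [6, 3, 1, 5, 1, 0, 2],
  [1, 0, 9, 5, 3, 1, 6],
  [9, 0, 6, 9, 4, 2, 1],
  [7, 0, 4, 3, 4, 6, 4],
  [9, 6, 3, 10, 5, 10, 0],
  [0, 5, 2, 4, 9, 1, 9],
  [8, 5, 3, 7, 5, 3, 7],
  [2, 4, 2, 1, 2, 0, 6],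
  [8, 7, 7, 0, 6, 4, 7],
  [9, 4, 7, 10, 5, 4, 3],
  [7, 10, 6, 4, 8, 2, 7],
  [6, 0, 6, 1, 10, 9, 3],
  [5, 1, 10, 2, 3, 5, 0],
  [8, 7, 10, 4, 2, 7, 6],
  [6, 7, 8, 9, 4, 4, 10],
  [10, 6, 6, 8, 1, 10, 5],
  [4, 10, 9, 8, 10, 3, 5],
  [6, 3, 10, 6, 1, 0, 2],
  [1, 6, 1, 0, 2, 5, 8],
  [9, 4, 9, 1, 2, 0, 5],
  [1, 0, 9, 5, 3, 10, 5],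
  [8, 1, 9, 5, 7, 4, 4],
  [9, 6, 3, 1, 6, 10, 0],
  [9, 1, 5, 1, 3, 8, 4],
  [3, 7, 5, 3, 7, 8, 5],
  [8, 2, 4, 7, 1, 5, 7],
  [7, 0, 5, 8, 5, 8, 5],
  [6, 8, 5, 3, 5, 4, 0],
  [6, 4, 4, 0, 7, 8, 7],
  [9, 6, 8, 10, 6, 1, 0],
  [2, 9, 4, 0, 9, 5, 1],
  [8, 5, 6, 3, 8, 4, 4],
  [4, 2, 10, 2, 0, 5, 9],
  [3, 7, 4, 3, 5, 6, 3],
  [9, 8, 1, 8, 5, 7, 10],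
  [8, 6, 7, 7, 4, 7, 0],
  [1, 9, 3, 6, 0, 5, 1],
  [7, 7, 7, 7, 0, 3, 5],
  [10, 8, 0, 10, 2, 5, 6],
  [0, 10, 2, 6, 6, 1, 3],
  [6, 5, 3, 3, 4, 4, 8],
  [10, 9, 10, 10, 10, 10, 10],
  [1, 10, 10, 1, 10, 1, 2],
  [4, 5, 3, 4, 1, 7, 9],
  [10, 1, 1, 1, 9, 10, 1],
  [6, 4, 8, 3, 8, 6, 4],
  [6, 4, 0, 0, 10, 0, 10],
  [1, 10, 9, 1, 10, 1, 1],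
  [6, 8, 7, 3, 5, 3, 7],
  [8, 4, 4, 10, 3, 8, 7],
  [3, 3, 4, 0, 0, 3, 0],
  [7, 0, 0, 8, 0, 8, 8],
  [8, 1, 10, 5, 10, 6, 6],
  [8, 4, 6, 3, 7, 3, 5],
  [7, 3, 5, 3, 7, 6, 8],
  [4, 3, 3, 3, 5, 7, 6],
  [8, 3, 5, 4, 6, 7, 8],
  [0, 9, 9, 9, 5, 7, 10],
  [5, 4, 5, 7, 3, 3, 8],
  [10, 0, 1, 6, 7, 0, 0],
  [10, 6, 7, 0, 0, 1, 0],
  [4, 7, 0, 8, 5, 4, 4],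
  [8, 7, 0, 0, 3, 0, 3],
  [8, 7, 3, 5, 3, 7, 6],
  [3, 4, 5, 3, 7, 3, 6],
  [7, 7, 3, 7, 7, 0, 5],
  [4, 4, 3, 6, 6, 8, 8],
  [6, 5, 8, 8, 4, 7, 8],
  [3, 0, 8, 3, 7, 0, 0],
  [3, 3, 7, 0, 0, 8, 0],
  [5, 7, 8, 3, 3, 6, 7],
  [8, 8, 2, 3, 9, 2, 2],
  [5, 5, 1, 8, 0, 10, 2],
  [6, 3, 3, 4, 7, 3, 6],
  [4, 7, 4, 7, 0, 3, 6],
  [7, 7, 0, 8, 6, 7, 4],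
  [10, 9, 6, 4, 7, 4, 8],
  [1, 0, 10, 6, 7, 0, 0],
  [1, 6, 7, 0, 0, 10, 0],
  [3, 3, 5, 4, 5, 4, 8],
  [5, 4, 7, 7, 7, 0, 8],
  [0, 7, 3, 4, 6, 7, 4],
  [0, 9, 0, 9, 9, 3, 0],
  [1, 10, 2, 1, 1, 10, 10],
  [9, 1, 1, 1, 10, 10, 1],
  [7, 3, 9, 4, 4, 1, 5],
  [1, 2, 3, 5, 0, 6, 1],
  [9, 4, 7, 1, 6, 4, 8],
  [6, 5, 6, 0, 3, 8, 7],
  [5, 0, 3, 3, 7, 5, 6],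
  [2, 8, 10, 3, 6, 7, 10],
  [9, 6, 10, 2, 2, 4, 0],
  [4, 10, 3, 8, 7, 8, 4],
  [8, 8, 7, 3, 4, 7, 1],
  [8, 5, 8, 4, 5, 8, 7],
  [7, 3, 7, 7, 10, 3, 3],
  [5, 3, 10, 10, 5, 1, 6],
  [7, 10, 4, 2, 7, 6, 8],
  [2, 2, 5, 7, 1, 0, 2],
  [6, 7, 1, 0, 2, 9, 9],
  [1, 0, 9, 9, 2, 5, 4],
  [4, 4, 4, 7, 0, 8, 5],
  [5, 4, 1, 9, 3, 1, 8],
  [8, 0, 10, 2, 5, 6, 10],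
  [0, 3, 3, 7, 6, 5, 5],
  [3, 9, 9, 2, 3, 3, 9],
  [7, 10, 9, 8, 1, 8, 5],
  [8, 3, 4, 6, 5, 5, 0],
  [9, 8, 10, 8, 6, 4, 1],
  [10, 6, 10, 6, 6, 3, 10],
  [1, 6, 6, 8, 10, 1, 5],
  [4, 1, 6, 7, 8, 2, 7],
  [7, 10, 2, 3, 1, 3, 5],
  [6, 3, 10, 1, 5, 10, 5],
  [1, 9, 5, 7, 4, 4, 8],
  [10, 1, 6, 10, 6, 5, 8],
  [4, 1, 1, 8, 9, 5, 3],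
  [10, 8, 9, 6, 3, 7, 10],
  [8, 6, 0, 5, 10, 10, 9],
  [6, 1, 6, 6, 3, 1, 1],
  [8, 4, 0, 0, 8, 0, 3],
  [3, 6, 5, 8, 3, 7, 7],
  [2, 4, 0, 9, 5, 1, 9],
  [1, 6, 4, 8, 9, 4, 7],
  [7, 8, 9, 7, 7, 10, 5],
  [1, 2, 10, 10, 1, 10, 1],
  [8, 7, 6, 0, 3, 6, 6],
  [1, 2, 0, 5, 2, 7, 2],
  [2, 4, 9, 10, 2, 0, 6],
  [10, 8, 3, 4, 8, 4, 7],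
  [0, 8, 6, 5, 8, 7, 6],
  [8, 4, 4, 8, 5, 6, 3],
  [7, 4, 1, 3, 8, 7, 3],
  [10, 3, 8, 4, 3, 4, 7],
  [5, 4, 8, 3, 3, 5, 4],
  [8, 4, 8, 4, 4, 1, 8],
  [1, 6, 10, 3, 3, 4, 9],
  [7, 8, 6, 5, 8, 8, 4],
  [7, 1, 2, 8, 10, 8, 5],
  [10, 2, 8, 10, 3, 6, 7],
  [10, 3, 6, 4, 1, 2, 3],
  [5, 5, 5, 0, 3, 8, 4],
  [6, 0, 3, 3, 4, 6, 6],
  [4, 3, 9, 4, 7, 10, 5],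
  [6, 7, 1, 9, 8, 1, 3],
  [1, 2, 8, 1, 3, 5, 4],
  [3, 1, 3, 6, 4, 10, 9],
  [0, 10, 5, 7, 0, 0, 10],
  [3, 6, 7, 10, 2, 8, 10],
  [4, 4, 7, 4, 0, 3, 5],
  [5, 10, 10, 9, 8, 6, 0],
  [1, 9, 8, 5, 0, 6, 1],
  [4, 0, 4, 8, 4, 5, 7],
  [8, 5, 0, 6, 10, 10, 2],
  [9, 5, 7, 1, 0, 9, 2],
  [3, 4, 4, 10, 8, 3, 7],
  [4, 4, 0, 8, 6, 4, 4],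
  [10, 8, 0, 1, 2, 6, 6],
  [9, 5, 5, 10, 8, 0, 1],
  [8, 8, 7, 7, 3, 5, 6],
  [10, 1, 1, 9, 1, 10, 10],
  [10, 9, 1, 1, 10, 1, 10],
  [8, 3, 9, 8, 9, 2, 9],
  [1, 1, 1, 1, 1, 1, 2],
  [7, 0, 8, 5, 4, 4, 4],
  [1, 10, 1, 10, 9, 10, 1],
  [7, 2, 7, 5, 8, 4, 1],
  [4, 5, 8, 7, 1, 4, 9],
  [1, 9, 6, 6, 10, 3, 0],
  [5, 6, 10, 8, 0, 10, 2],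
  [10, 10, 2, 1, 10, 1, 10],
  [6, 7, 5, 4, 3, 3, 8],
  [1, 3, 3, 7, 8, 4, 7],
  [3, 8, 3, 5, 7, 5, 7],
  [3, 3, 3, 5, 7, 6, 4],
  [8, 5, 7, 5, 4, 8, 8],
  [3, 4, 6, 4, 7, 0, 4],
  [0, 0, 1, 0, 1, 5, 7],
  [6, 7, 10, 9, 3, 10, 8],
  [1, 9, 3, 1, 8, 5, 4],
  [2, 10, 1, 10, 10, 10, 1],
  [10, 9, 0, 6, 9, 4, 9],
  [8, 4, 7, 1, 3, 3, 7],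
  [2, 5, 4, 10, 0, 9, 2],
  [7, 1, 8, 3, 4, 3, 7],
  [1, 8, 3, 7, 9, 1, 6],
  [4, 4, 3, 1, 2, 6, 4],
  [0, 3, 0, 3, 3, 4, 0],
  [6, 5, 3, 1, 1, 5, 10],
  [9, 4, 0, 9, 5, 1, 2],
  [4, 3, 6, 8, 4, 6, 8],
  [3, 7, 3, 4, 4, 10, 8],
  [8, 8, 6, 4, 5, 7, 8],
  [6, 3, 7, 10, 10, 8, 9],
  [4, 10, 10, 3, 9, 5, 8],
  [8, 7, 10, 10, 3, 2, 6],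
  [7, 1, 0, 9, 2, 9, 5],
  [0, 9, 2, 2, 5, 4, 10],
  [2, 2, 3, 8, 9, 8, 2],
  [2, 2, 6, 4, 1, 0, 2],
  [10, 3, 2, 6, 8, 7, 10],
  [9, 6, 8, 4, 10, 1, 8],
  [10, 5, 5, 8, 10, 10, 5],
  [6, 4, 8, 8, 3, 6, 7],
  [0, 0, 1, 0, 10, 6, 7],
  [10, 0, 10, 5, 7, 0, 0],
  [5, 7, 6, 4, 3, 3, 3],
  [8, 2, 5, 3, 4, 10, 10],
  [4, 0, 0, 10, 0, 1, 5],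
  [4, 7, 7, 7, 0, 8, 5],
  [4, 7, 0, 3, 5, 7, 4],
  [9, 9, 5, 4, 1, 0, 2],
  [0, 3, 6, 7, 7, 7, 4],
  [8, 7, 8, 6, 3, 4, 6],
  [5, 10, 4, 0, 0, 1, 0],
  [4, 3, 4, 7, 10, 3, 8],
  [3, 5, 7, 5, 7, 3, 8],
  [1, 1, 9, 1, 10, 10, 10],
  [2, 1, 10, 1, 10, 10, 10],
  [7, 1, 5, 7, 8, 2, 4],
  [7, 7, 8, 4, 7, 0, 5],
  [9, 9, 3, 0, 0, 9, 0],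
  [8, 4, 4, 0, 6, 4, 4],
  [0, 2, 6, 8, 1, 6, 10],
  [5, 8, 1, 5, 10, 0, 9],
  [4, 0, 6, 7, 7, 3, 4],
  [8, 7, 5, 0, 3, 5, 6],
  [8, 8, 9, 3, 2, 9, 9],
  [2, 3, 2, 2, 9, 3, 3],
  [3, 5, 4, 1, 2, 8, 1],
  [9, 5, 6, 10, 3, 0, 10],
  [2, 6, 1, 9, 9, 4, 0],
  [8, 3, 7, 8, 7, 4, 1],
  [4, 5, 4, 3, 8, 3, 6],
  [7, 3, 8, 8, 6, 7, 6],
  [6, 4, 6, 7, 3, 3, 3],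
  [3, 6, 7, 5, 7, 8, 3],
  [3, 8, 8, 5, 4, 6, 4],
  [5, 1, 2, 2, 7, 0, 2],
  [10, 9, 5, 6, 10, 3, 0],
  [6, 6, 10, 8, 0, 1, 2],
  [7, 5, 8, 7, 10, 7, 9],
  [2, 9, 7, 0, 9, 6, 1],
  [8, 8, 9, 8, 9, 9, 2],
  [10, 2, 1, 1, 10, 10, 1],
  [9, 8, 2, 9, 9, 3, 3],
  [9, 7, 2, 10, 2, 0, 6],
  [3, 0, 10, 9, 5, 5, 1],
  [1, 9, 5, 6, 1, 8, 0],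
  [6, 1, 2, 2, 4, 0, 2],
  [4, 1, 2, 8, 1, 3, 5],
  [4, 7, 7, 4, 0, 8, 6],
  [6, 4, 10, 0, 2, 9, 2],
  [3, 3, 7, 5, 6, 5, 0],
  [4, 5, 6, 6, 0, 8, 8],
  [0, 3, 5, 4, 7, 4, 4],
  [4, 3, 1, 9, 5, 4, 7],
  [10, 9, 5, 7, 7, 7, 8],
  [10, 1, 10, 1, 1, 2, 10],
  [5, 7, 4, 7, 3, 1, 2],
  [10, 6, 6, 3, 10, 10, 6],
  [5, 3, 10, 1, 6, 1, 5],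
  [6, 4, 4, 7, 7, 0, 3],
  [0, 0, 10, 0, 1, 6, 7],
  [1, 0, 1, 5, 7, 0, 0],
  [1, 8, 6, 4, 10, 2, 8],
  [0, 3, 6, 4, 7, 4, 7],
  [5, 0, 8, 3, 4, 5, 6],
  [4, 0, 0, 1, 0, 10, 5],
  [4, 3, 8, 3, 6, 4, 5],
  [3, 3, 6, 7, 5, 7, 8],
  [3, 7, 7, 10, 3, 3, 7],
  [6, 7, 6, 7, 3, 8, 8],
  [4, 4, 4, 0, 3, 6, 7],
  [2, 0, 9, 9, 8, 0, 0],
  [8, 4, 6, 4, 4, 0, 4],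
  [0, 5, 1, 1, 9, 3, 6],
  [0, 7, 8, 7, 6, 4, 4],
  [0, 5, 2, 7, 2, 1, 2],
  [8, 7, 5, 4, 7, 0, 4],
  [6, 3, 6, 7, 0, 6, 8],
  [5, 7, 0, 5, 8, 5, 8],
  [7, 7, 3, 10, 2, 6, 4],
  [0, 2, 2, 8, 0, 0, 2],
  [10, 1, 10, 10, 9, 1, 1],
  [7, 1, 7, 9, 7, 6, 3],
  [1, 5, 10, 0, 9, 5, 8],
  [1, 0, 9, 6, 8, 10, 6],
  [7, 10, 6, 7, 3, 2, 4],
  [10, 10, 6, 10, 6, 6, 3],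
  [7, 1, 3, 3, 7, 8, 4],
  [8, 7, 5, 0, 8, 5, 5],
  [6, 5, 3, 7, 5, 0, 3],
  [1, 9, 5, 4, 7, 4, 3],
  [7, 5, 0, 3, 6, 5, 3],
  [5, 10, 6, 5, 3, 1, 1],
  [7, 7, 10, 3, 3, 7, 3],
  [1, 8, 3, 4, 3, 7, 7],
  [9, 1, 9, 0, 6, 2, 7],
  [8, 3, 2, 3, 9, 9, 9],
  [9, 3, 9, 2, 9, 3, 8],
  [2, 6, 4, 10, 0, 2, 9],
  [5, 8, 4, 10, 4, 2, 4],
  [7, 10, 4, 9, 4, 6, 3],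
  [8, 7, 6, 6, 5, 0, 8],
  [3, 4, 6, 3, 4, 8, 5],
  [10, 10, 2, 10, 1, 1, 1],
  [9, 10, 1, 10, 1, 1, 1],
  [3, 3, 5, 7, 6, 4, 3],
  [1, 10, 10, 1, 10, 2, 1],
  [4, 10, 6, 4, 3, 9, 7],
  [5, 4, 3, 2, 7, 7, 1],
  [10, 5, 10, 5, 5, 8, 10],
  [3, 7, 6, 4, 7, 0, 7],
  [8, 7, 8, 5, 8, 4, 5],
  [3, 5, 8, 7, 5, 3, 4],
  [1, 0, 6, 10, 7, 0, 0],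
  [4, 2, 1, 5, 1, 8, 3],
  [0, 2, 6, 3, 1, 5, 1],
  [9, 6, 7, 4, 4, 3, 10],
  [0, 5, 7, 7, 8, 4, 7],
  [6, 8, 4, 5, 0, 8, 6],
  [4, 3, 4, 4, 0, 5, 7],
  [8, 2, 7, 4, 1, 6, 7],
  [4, 4, 1, 5, 7, 3, 9],
  [4, 8, 2, 4, 4, 10, 5],
  [6, 10, 0, 2, 6, 8, 1],
  [7, 3, 10, 2, 6, 4, 7],
  [4, 7, 0, 6, 7, 4, 8],
  [9, 9, 7, 0, 9, 5, 10],
  [7, 0, 2, 5, 1, 2, 2],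
  [6, 1, 8, 0, 10, 9, 6],
  [4, 4, 10, 5, 4, 8, 2],
  [4, 3, 9, 7, 4, 10, 6],
  [0, 5, 3, 6, 8, 6, 7],
  [8, 6, 8, 5, 7, 0, 6],
  [6, 8, 1, 5, 1, 0, 9],
  [10, 9, 2, 7, 0, 2, 6],
  [7, 3, 6, 5, 8, 3, 7],
  [7, 8, 4, 4, 10, 3, 8],
  [4, 10, 7, 2, 7, 6, 3],
  [6, 4, 7, 0, 4, 3, 4],
  [9, 8, 8, 2, 8, 2, 2],
  [3, 2, 8, 9, 2, 2, 3],
  [7, 0, 6, 3, 5, 8, 6],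
  [8, 9, 9, 2, 8, 8, 9],
  [3, 4, 5, 0, 3, 5, 6],
  [5, 1, 8, 0, 10, 2, 5],
  [6, 4, 7, 7, 3, 10, 2],
  [4, 7, 3, 1, 2, 5, 7],
  [1, 6, 10, 5, 6, 8, 1],
  [2, 4, 7, 10, 6, 7, 3],
  [6, 3, 4, 6, 0, 3, 6],
  [4, 2, 7, 6, 8, 7, 10],
  [7, 6, 5, 6, 0, 3, 8],
  [6, 6, 0, 8, 8, 4, 5],
  [2, 2, 8, 3, 9, 3, 2],
  [7, 6, 0, 8, 5, 6, 3],
  [9, 6, 5, 10, 8, 0, 10],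
  [0, 1, 2, 6, 6, 10, 8],
  [9, 6, 6, 1, 8, 0, 10],
  [9, 5, 7, 7, 7, 8, 10],
  [7, 0, 9, 6, 1, 2, 9],
  [8, 9, 2, 2, 3, 3, 2],
  [7, 0, 2, 5, 1, 9, 9],
  [3, 9, 3, 9, 9, 2, 3],
  [8, 9, 9, 9, 3, 8, 2],
  [8, 9, 7, 4, 1, 5, 4],
  [4, 4, 1, 6, 4, 3, 2],
  [10, 1, 1, 10, 2, 10, 10],
  [8, 7, 6, 5, 6, 0, 3],
  [5, 4, 7, 4, 4, 0, 3],
  [10, 9, 9, 4, 0, 9, 6],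
  [0, 10, 9, 6, 5, 10, 8],
  [2, 6, 5, 1, 8, 0, 1],
  [1, 2, 2, 7, 0, 2, 5],
  [2, 8, 10, 8, 5, 7, 1],
  [5, 4, 10, 9, 8, 10, 3],
  [0, 0, 1, 0, 1, 6, 4],
  [10, 2, 8, 1, 8, 6, 4],
  [10, 2, 2, 4, 0, 9, 6],
  [3, 4, 4, 1, 3, 3, 4],
  [7, 4, 7, 7, 0, 8, 6],
  [4, 7, 0, 3, 6, 4, 7],
  [9, 3, 5, 0, 5, 10, 1],
  [6, 0, 5, 1, 1, 2, 8],
  [6, 4, 1, 0, 9, 2, 9],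
  [5, 7, 4, 4, 7, 0, 3],
  [4, 10, 0, 9, 9, 9, 6],
  [0, 9, 9, 2, 6, 7, 1],
  [1, 9, 8, 6, 0, 6, 10],
  [9, 2, 5, 7, 10, 0, 2],
  [7, 4, 4, 8, 1, 9, 5],
  [7, 8, 1, 2, 5, 4, 7],
  [5, 0, 3, 5, 6, 3, 4],
  [7, 4, 4, 0, 8, 5, 7],
  [6, 4, 0, 0, 1, 0, 1],
  [6, 4, 6, 4, 8, 3, 8],
  [5, 4, 8, 8, 8, 5, 7],
  [7, 0, 7, 3, 7, 5, 7],
  [1, 8, 5, 7, 10, 9, 8],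
  [6, 6, 6, 0, 8, 3, 7],
  [10, 2, 9, 7, 0, 2, 6],
  [2, 7, 0, 9, 6, 1, 9],
  [2, 2, 7, 0, 9, 5, 10],
  [7, 3, 2, 7, 4, 10, 5],
  [6, 7, 10, 0, 2, 2, 9],
  [9, 9, 8, 0, 0, 2, 0],
  [9, 1, 10, 10, 10, 1, 1],
  [1, 1, 1, 10, 10, 2, 10],
  [1, 9, 6, 4, 4, 7, 8],
  [5, 4, 4, 4, 8, 10, 2],
  [4, 5, 4, 7, 0, 7, 8],
  [7, 7, 0, 4, 8, 7, 6],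
  [3, 7, 10, 7, 2, 4, 5],
  [0, 4, 3, 7, 5, 4, 4],
  [9, 6, 8, 1, 5, 1, 0],
  [4, 3, 2, 4, 4, 1, 6],
  [3, 4, 5, 7, 7, 0, 4],
  [1, 9, 0, 5, 9, 7, 2],
  [9, 4, 9, 10, 9, 0, 6],
  [3, 10, 6, 1, 0, 2, 6],
  [2, 3, 0, 0, 9, 0, 2],
  [8, 6, 4, 7, 7, 4, 0],
  [1, 6, 4, 0, 0, 1, 0],
  [7, 0, 0, 10, 0, 10, 5],
  [2, 8, 6, 0, 6, 1, 10],
  [5, 0, 6, 10, 10, 9, 3],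
  [5, 7, 10, 0, 2, 9, 2],
  [6, 10, 1, 9, 8, 6, 0],
  [3, 4, 1, 7, 9, 4, 5],
  [5, 7, 4, 7, 4, 0, 8],
  [5, 5, 6, 0, 3, 3, 4],
  [5, 0, 3, 8, 4, 6, 6],
  [9, 7, 6, 3, 7, 1, 7],
  [3, 8, 7, 6, 5, 6, 0],
  [5, 5, 0, 3, 8, 4, 5],
  [0, 3, 8, 7, 5, 6, 6],
  [7, 7, 10, 5, 7, 8, 9],
  [1, 5, 7, 3, 9, 4, 4],
  [3, 6, 0, 5, 10, 10, 2],
  [7, 3, 2, 4, 7, 10, 6],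
  [6, 10, 10, 2, 8, 5, 0],
  [7, 10, 0, 2, 2, 9, 6],
  [7, 4, 0, 4, 8, 4, 5],
  [7, 8, 3, 3, 6, 7, 5],
  [8, 3, 6, 4, 5, 4, 3],
  [2, 10, 10, 1, 10, 1, 1],
  [4, 5, 4, 8, 3, 3, 5],
  [7, 8, 3, 8, 5, 7, 6],
  [1, 1, 1, 1, 1, 2, 1],
  [0, 4, 3, 7, 6, 7, 4],
  [10, 7, 0, 0, 1, 0, 6],
  [0, 0, 1, 0, 6, 1, 4],
  [1, 0, 5, 1, 7, 0, 0],
  [9, 5, 3, 4, 1, 1, 8],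
  [8, 4, 1, 10, 8, 2, 6],
  [4, 10, 0, 2, 2, 9, 5],
  [5, 10, 7, 0, 0, 10, 0],
  [7, 0, 0, 10, 0, 6, 1],
  [0, 10, 0, 5, 1, 4, 0],
  [6, 8, 4, 6, 8, 4, 3],
  [0, 5, 10, 4, 0, 0, 1],
  [3, 4, 6, 7, 4, 0, 7],
  [3, 4, 5, 4, 4, 0, 7],
  [4, 2, 4, 5, 8, 4, 10],
  [10, 10, 1, 10, 1, 1, 2],
  [8, 7, 1, 7, 2, 4, 6],
  [10, 9, 0, 5, 2, 4, 2],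
  [1, 4, 2, 7, 5, 3, 7],
  [6, 6, 3, 10, 10, 6, 10],
  [8, 10, 10, 5, 10, 5, 5],
  [7, 0, 0, 8, 0, 3, 3],
  [3, 4, 1, 10, 3, 9, 6],
  [10, 10, 3, 2, 6, 8, 7],
  [9, 7, 6, 8, 4, 1, 4],
  [6, 5, 3, 4, 6, 0, 8],
  [10, 5, 7, 3, 2, 7, 4],
  [10, 9, 5, 5, 1, 3, 0],
  [3, 7, 1, 7, 9, 7, 6],
  [5, 5, 10, 3, 0, 1, 2],
  [10, 9, 5, 4, 4, 7, 3],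
  [6, 4, 4, 4, 3, 1, 2],
  [7, 5, 8, 7, 3, 6, 8],
  [1, 10, 10, 9, 1, 1, 10],
  [7, 0, 7, 8, 4, 6, 7],
  [7, 6, 3, 7, 8, 6, 8],
  [0, 2, 5, 1, 9, 9, 7],
  [6, 6, 1, 8, 0, 10, 9],
  [9, 2, 4, 0, 2, 5, 10],
  [9, 2, 8, 3, 2, 8, 2],
  [3, 3, 2, 3, 2, 2, 9],
  [8, 10, 8, 6, 4, 1, 9],
  [0, 10, 0, 1, 5, 4, 0],
  [4, 10, 2, 3, 10, 8, 5],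
  [4, 1, 2, 3, 10, 3, 6],
  [9, 3, 10, 8, 6, 7, 10],
  [1, 3, 0, 10, 2, 6, 6],
  [9, 5, 5, 1, 3, 0, 10],
  [6, 1, 3, 0, 10, 2, 6],
  [3, 0, 1, 2, 5, 5, 10],
  [4, 7, 8, 10, 2, 6, 7],
  [3, 10, 2, 5, 7, 7, 4],
  [5, 3, 5, 7, 0, 6, 3],
  [6, 3, 7, 3, 5, 8, 4],
  [10, 2, 0, 6, 9, 7, 2],
  [9, 9, 2, 8, 8, 9, 8],
  [9, 3, 8, 2, 8, 9, 9],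
  [3, 4, 3, 4, 4, 1, 3],
  [4, 7, 1, 3, 3, 7, 8],
  [10, 3, 3, 4, 8, 7, 4],
  [2, 10, 9, 0, 5, 2, 4],
  [6, 8, 10, 5, 10, 0, 2],
  [1, 5, 10, 0, 2, 5, 3],
  [10, 0, 9, 5, 8, 10, 6],
  [6, 7, 0, 5, 3, 6, 8],
  [0, 5, 3, 5, 8, 5, 4],
  [8, 6, 4, 0, 5, 8, 6],
  [0, 9, 5, 8, 10, 6, 10],
  [3, 10, 9, 5, 4, 4, 7],
  [2, 5, 4, 7, 7, 8, 1],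
  [2, 6, 3, 10, 6, 1, 0],
  [0, 4, 8, 4, 6, 4, 4],
  [5, 8, 5, 4, 0, 5, 3],
  [5, 2, 4, 9, 1, 9, 0],
  [1, 2, 0, 6, 2, 4, 2],
  [9, 4, 4, 10, 6, 7, 8],
  [4, 10, 5, 7, 3, 2, 7],
  [8, 4, 5, 5, 5, 0, 3],
  [2, 8, 8, 2, 3, 9, 2],
  [5, 4, 3, 9, 4, 7, 10],
  [9, 7, 0, 2, 6, 10, 2],
  [0, 2, 6, 1, 2, 2, 4],
  [2, 3, 1, 8, 6, 7, 1],
  [10, 8, 0, 1, 9, 5, 5],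
  [3, 7, 7, 0, 5, 7, 7],
  [0, 2, 0, 9, 9, 8, 0],
  [10, 5, 10, 6, 6, 8, 1],
  [10, 6, 5, 8, 10, 1, 6],
  [9, 5, 8, 4, 10, 10, 3],
  [3, 4, 10, 1, 3, 2, 6],
  [6, 8, 5, 7, 0, 6, 8],
  [0, 3, 3, 7, 5, 6, 5],
  [7, 5, 3, 4, 10, 4, 9],
  [4, 8, 2, 7, 7, 10, 6],
  [9, 7, 7, 1, 6, 7, 3],
  [9, 5, 8, 10, 6, 10, 0],
  [5, 8, 6, 7, 0, 6, 3],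
  [5, 7, 0, 5, 3, 6, 3],
  [2, 5, 3, 4, 10, 10, 8],
  [7, 6, 7, 8, 3, 8, 5],
  [1, 10, 1, 9, 10, 10, 1],
  [10, 9, 10, 1, 1, 10, 1],
  [9, 0, 5, 9, 7, 9, 10],
  [5, 5, 8, 1, 1, 5, 1],
  [8, 7, 8, 4, 4, 10, 3],
  [4, 8, 4, 4, 1, 8, 8],
  [4, 8, 8, 8, 5, 7, 5],
  [1, 5, 7, 0, 0, 1, 0],
  [5, 3, 4, 3, 5, 8, 7],
  [10, 4, 0, 0, 1, 0, 5],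
  [3, 7, 1, 10, 3, 2, 5],
  [10, 0, 9, 2, 2, 6, 7],
  [9, 2, 9, 6, 4, 1, 0],
  [4, 4, 3, 10, 9, 6, 7],
  [9, 5, 4, 10, 0, 2, 2],
  [0, 5, 10, 10, 9, 8, 6],
  [1, 10, 9, 3, 6, 0, 6],
  [5, 3, 4, 1, 1, 8, 9],
  [7, 7, 1, 3, 8, 4, 8],
  [8, 6, 4, 1, 9, 8, 10],
  [5, 1, 9, 9, 7, 0, 2],
  [5, 1, 3, 0, 10, 9, 5],
  [3, 0, 1, 9, 6, 6, 10],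
  [1, 9, 8, 1, 3, 6, 7],
  [10, 10, 6, 1, 5, 6, 8],
  [3, 4, 1, 4, 2, 4, 6],
  [1, 9, 1, 10, 10, 10, 1],
  [1, 4, 9, 4, 5, 8, 7],
  [4, 6, 4, 4, 0, 4, 8],
  [7, 4, 0, 7, 8, 7, 5],
  [7, 2, 1, 9, 0, 5, 9],
  [8, 7, 4, 10, 3, 3, 4],
  [2, 6, 4, 7, 7, 3, 10],
  [7, 7, 7, 8, 10, 9, 5],
  [1, 2, 1, 10, 10, 1, 10],
  [7, 8, 1, 9, 6, 4, 4],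
  [3, 5, 4, 0, 6, 8, 5],
  [7, 0, 6, 3, 5, 3, 5],
  [1, 2, 6, 7, 7, 4, 8],
  [7, 1, 0, 2, 9, 9, 6],
  [0, 2, 9, 2, 6, 4, 10],
  [9, 2, 5, 4, 1, 0, 9],
  [0, 3, 5, 7, 7, 7, 7],
  [10, 9, 6, 5, 10, 8, 0],
  [10, 1, 5, 1, 6, 6, 8],
  [2, 4, 4, 10, 5, 4, 8],
  [2, 6, 3, 1, 5, 1, 0],
  [4, 6, 0, 3, 5, 5, 8],
  [4, 5, 0, 3, 5, 6, 3],
  [2, 9, 9, 3, 3, 9, 8],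
  [0, 6, 9, 4, 2, 1, 9],
  [9, 3, 8, 9, 3, 9, 2],
  [2, 2, 2, 5, 7, 1, 0],
  [8, 6, 0, 6, 10, 1, 9],
  [8, 2, 3, 2, 9, 2, 3],
  [3, 4, 6, 5, 5, 0, 8],
  [5, 5, 5, 0, 8, 8, 7],
  [5, 3, 7, 10, 7, 2, 4],
  [8, 6, 5, 3, 4, 6, 0],
  [7, 7, 4, 3, 10, 2, 5],
  [7, 3, 10, 9, 5, 4, 4],
  [0, 2, 2, 9, 6, 7, 10],
  [6, 7, 7, 7, 3, 1, 9],
  [10, 2, 6, 6, 1, 3, 0],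
  [5, 6, 1, 8, 0, 1, 9],
  [1, 8, 0, 1, 2, 6, 5],
  [10, 0, 2, 6, 8, 10, 5],
  [10, 2, 0, 6, 2, 4, 9],
  [9, 9, 8, 3, 2, 3, 9],
  [2, 5, 10, 2, 9, 4, 0],
  [10, 4, 2, 4, 5, 8, 4],
  [9, 4, 5, 3, 4, 1, 7],
  [6, 1, 6, 5, 8, 1, 10],
  [4, 4, 4, 8, 10, 2, 5],
  [5, 6, 5, 0, 8, 3, 4],
  [3, 7, 5, 6, 5, 0, 3],
  [2, 2, 2, 3, 8, 9, 8],
  [7, 9, 7, 5, 8, 7, 10],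
  [10, 10, 9, 10, 10, 10, 10],
  [3, 5, 3, 4, 5, 8, 4],
  [2, 10, 9, 0, 6, 2, 7],
  [7, 5, 4, 4, 0, 4, 3],
  [5, 9, 4, 2, 10, 2, 0],
  [2, 9, 3, 3, 2, 3, 2],
  [3, 3, 9, 3, 9, 9, 2],
  [9, 9, 3, 3, 9, 8, 2],
  [8, 3, 9, 3, 2, 2, 2],
  [7, 7, 8, 10, 9, 5, 7],
  [3, 10, 9, 6, 7, 4, 4],
  [1, 5, 5, 3, 10, 1, 6],
  [7, 1, 2, 3, 1, 8, 6],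
  [1, 3, 0, 1, 2, 5, 6],
  [6, 3, 1, 10, 5, 1, 5],
  [10, 8, 2, 5, 3, 4, 10],
  [9, 5, 3, 7, 10, 1, 3],
  [0, 2, 9, 9, 5, 4, 1],
  [3, 7, 1, 1, 8, 2, 6],
  [7, 10, 1, 8, 2, 5, 8],
  [10, 8, 2, 6, 8, 4, 1],
  [2, 9, 6, 4, 1, 0, 9],
  [1, 10, 8, 9, 5, 8, 7],
  [6, 3, 5, 8, 6, 7, 0],
  [6, 8, 6, 4, 0, 5, 8],
  [2, 2, 9, 8, 8, 2, 8],
  [6, 4, 0, 5, 3, 5, 3],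
  [10, 0, 9, 5, 8, 1, 5],
  [1, 1, 6, 10, 5, 6, 8],
  [6, 3, 4, 10, 7, 2, 7],
  [1, 8, 0, 10, 9, 6, 6],
  [6, 6, 0, 3, 8, 7, 5],
  [0, 3, 8, 4, 5, 5, 5],
  [8, 4, 6, 5, 6, 0, 8],
  [6, 4, 1, 9, 8, 10, 8],
  [2, 8, 9, 2, 2, 3, 3],
  [2, 2, 2, 8, 3, 9, 3],
  [7, 3, 3, 3, 6, 4, 6],
  [3, 8, 7, 3, 7, 4, 1],
  [2, 6, 10, 2, 9, 7, 0],
  [7, 8, 7, 7, 10, 8, 8],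
  [8, 4, 7, 10, 8, 3, 4],
  [9, 9, 9, 5, 7, 10, 0],
  [1, 2, 0, 6, 9, 7, 9],
  [2, 6, 8, 1, 6, 10, 0],
  [8, 6, 7, 0, 6, 3, 5],
  [4, 0, 6, 8, 5, 3, 5],
  [6, 8, 6, 3, 6, 7, 0],
  [6, 8, 6, 7, 0, 5, 3],
  [5, 7, 0, 6, 3, 5, 3],
  [2, 3, 9, 2, 2, 8, 8],
  [0, 5, 2, 7, 9, 10, 2],
  [6, 1, 1, 9, 8, 5, 0],
  [4, 5, 5, 6, 0, 3, 3],
  [6, 0, 5, 10, 10, 2, 3],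
  [2, 4, 5, 3, 7, 10, 7],
  [3, 7, 5, 0, 3, 6, 5],
  [2, 9, 2, 8, 3, 2, 8],
  [8, 3, 7, 9, 1, 6, 1],
  [1, 10, 1, 10, 10, 9, 1],
  [9, 2, 2, 8, 8, 2, 3],
  [4, 10, 7, 9, 4, 6, 8],
  [6, 10, 5, 5, 3, 1, 10],
  [1, 6, 4, 3, 2, 4, 4],
  [5, 0, 8, 8, 7, 6, 6],
  [4, 4, 7, 3, 10, 9, 5],
  [7, 3, 1, 9, 6, 7, 7],
  [1, 3, 0, 10, 9, 5, 5],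
  [3, 6, 3, 7, 6, 3, 4],
  [3, 4, 6, 8, 7, 8, 6],
  [0, 0, 10, 0, 5, 10, 7],
  [5, 1, 4, 0, 0, 10, 0],
  [0, 9, 6, 8, 10, 6, 1],
  [5, 8, 10, 5, 1, 0, 2],
  [10, 5, 10, 0, 9, 6, 3],
  [2, 7, 2, 10, 9, 0, 6],
  [9, 10, 9, 0, 6, 9, 4],
  [3, 5, 4, 6, 7, 8, 8],
  [5, 7, 7, 0, 7, 3, 7],
  [3, 5, 0, 5, 10, 1, 9],
  [3, 7, 5, 5, 6, 0, 8],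
  [6, 8, 10, 6, 1, 0, 9],
  [0, 0, 8, 0, 8, 8, 7],
  [5, 8, 10, 6, 10, 0, 9],
  [6, 2, 7, 2, 10, 9, 0],
  [4, 0, 7, 8, 7, 5, 7],
  [0, 6, 9, 7, 2, 10, 2],
  [3, 6, 8, 4, 6, 8, 4],
  [9, 2, 3, 0, 0, 2, 0],
  [8, 4, 5, 3, 4, 8, 6],
  [7, 10, 8, 8, 7, 8, 7],
  [5, 8, 4, 3, 5, 3, 4],
  [3, 1, 5, 1, 0, 2, 6],
  [6, 3, 6, 8, 5, 4, 0],
  [0, 9, 5, 3, 1, 6, 1],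
  [7, 6, 3, 4, 10, 7, 2],
  [0, 4, 3, 4, 6, 4, 7],
  [2, 1, 9, 0, 5, 9, 7],
  [5, 3, 7, 5, 3, 7, 8],
  [6, 4, 3, 2, 4, 4, 1],
  [2, 5, 1, 9, 9, 7, 0],
  [10, 6, 4, 8, 2, 7, 7],
  [8, 5, 0, 6, 1, 1, 9],
  [0, 6, 1, 10, 9, 3, 6],
  [4, 10, 1, 3, 2, 6, 3],
  [1, 10, 2, 3, 5, 0, 5],
  [5, 3, 4, 10, 4, 9, 7],
  [10, 10, 5, 1, 6, 5, 3],
  [6, 6, 8, 1, 10, 5, 10],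
  [5, 4, 7, 0, 4, 8, 7],
  [0, 9, 5, 3, 10, 5, 1],
  [4, 4, 4, 3, 1, 2, 6],
  [6, 4, 0, 5, 8, 6, 8],
  [0, 5, 8, 5, 8, 5, 7],
  [5, 4, 7, 4, 3, 1, 9],
  [8, 5, 3, 5, 4, 0, 6],
  [4, 4, 0, 7, 8, 7, 6],
  [3, 2, 7, 7, 1, 5, 4],
  [3, 3, 4, 8, 7, 4, 10],
  [2, 10, 2, 0, 5, 9, 4],
  [3, 8, 9, 8, 2, 2, 2],
  [7, 4, 3, 5, 6, 3, 3],
  [1, 2, 3, 1, 8, 6, 7],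
  [5, 5, 0, 8, 8, 7, 5],
  [6, 7, 7, 4, 7, 0, 8],
  [10, 10, 2, 3, 6, 0, 5],
  [9, 3, 6, 0, 5, 1, 1],
  [9, 2, 6, 4, 10, 0, 2],
  [7, 7, 7, 0, 3, 5, 7],
  [2, 9, 7, 0, 2, 6, 10],
  [5, 3, 3, 4, 4, 8, 6],
  [1, 1, 2, 10, 10, 1, 10],
  [9, 10, 10, 10, 10, 10, 10],
  [8, 0, 0, 2, 0, 9, 9],
  [10, 10, 1, 10, 1, 2, 1],
  [2, 7, 6, 3, 4, 10, 7],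
  [5, 3, 4, 1, 7, 9, 4],
  [1, 1, 1, 9, 10, 1, 10],
  [7, 5, 7, 8, 3, 3, 6],
  [4, 8, 3, 8, 6, 4, 6],
  [3, 3, 6, 4, 6, 7, 3],
  [4, 0, 0, 10, 0, 10, 6],
  [7, 10, 2, 8, 10, 3, 6],
  [10, 9, 1, 10, 1, 1, 1],
  [4, 4, 10, 3, 8, 7, 8],
  [8, 1, 8, 6, 4, 10, 2],
  [1, 0, 2, 9, 9, 6, 7],
  [3, 2, 5, 3, 7, 1, 10],
  [4, 5, 7, 3, 3, 8, 5],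
  [0, 1, 0, 1, 6, 4, 0],
  [8, 6, 4, 5, 7, 8, 8],
  [6, 7, 0, 0, 1, 0, 10],
  [7, 7, 4, 0, 8, 6, 4],
  [3, 7, 8, 7, 4, 1, 8],
  [4, 5, 3, 7, 3, 6, 3],
  [7, 3, 7, 7, 0, 5, 7],
  [10, 8, 6, 7, 10, 9, 3],
  [0, 8, 3, 7, 0, 0, 3],
  [3, 7, 0, 0, 8, 0, 3],
  [4, 6, 4, 8, 3, 8, 6],
  [7, 1, 3, 8, 4, 8, 7],
  [8, 2, 3, 9, 2, 2, 8],
  [3, 1, 8, 6, 7, 1, 2],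
  [3, 7, 6, 5, 5, 0, 3],
  [7, 0, 8, 6, 7, 4, 7],
  [3, 1, 2, 6, 4, 4, 4],
  [9, 6, 4, 7, 4, 8, 10],
  [6, 7, 0, 0, 10, 0, 1],
  [3, 5, 4, 5, 4, 8, 3],
  [0, 0, 8, 0, 3, 8, 4],
  [3, 6, 4, 0, 6, 3, 6],
  [9, 0, 9, 9, 3, 0, 0],
  [1, 10, 1, 2, 1, 10, 10],
  [1, 1, 1, 10, 10, 1, 9],
  [3, 9, 4, 4, 1, 5, 7],
  [10, 10, 9, 3, 5, 0, 6],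
  [2, 3, 5, 0, 6, 1, 1],
  [4, 7, 1, 6, 4, 8, 9],
  [5, 6, 0, 3, 8, 7, 6],
  [3, 3, 7, 6, 5, 5, 0],
  [10, 3, 8, 7, 8, 4, 4],
  [8, 7, 3, 4, 7, 1, 8],
  [3, 10, 10, 5, 1, 6, 5],
  [8, 0, 1, 2, 6, 5, 1],
  [2, 5, 7, 1, 0, 2, 2],
  [10, 9, 8, 5, 0, 5, 1],
  [8, 8, 2, 8, 2, 2, 9],
  [4, 4, 7, 0, 8, 5, 4],
  [0, 10, 2, 5, 6, 10, 8],
  [2, 8, 2, 9, 2, 8, 3],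
  [9, 9, 2, 3, 3, 9, 3],
  [3, 2, 3, 9, 9, 9, 8],
  [10, 9, 8, 1, 8, 5, 7],
  [0, 3, 8, 4, 6, 6, 5],
  [6, 10, 6, 6, 3, 10, 10],
  [3, 4, 7, 10, 3, 8, 4],
  [6, 6, 8, 10, 1, 5, 1],
  [4, 7, 10, 6, 7, 3, 2],
  [1, 6, 7, 8, 2, 7, 4],
  [10, 2, 3, 1, 3, 5, 7],
  [9, 5, 7, 4, 4, 8, 1],
  [8, 7, 10, 1, 8, 2, 5],
  [1, 1, 8, 9, 5, 3, 4],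
  [6, 7, 3, 3, 3, 6, 4],
  [8, 9, 6, 3, 7, 10, 10],
  [2, 3, 5, 0, 5, 1, 10],
  [4, 6, 5, 6, 0, 8, 8],
  [1, 6, 6, 3, 1, 1, 6],
  [3, 0, 3, 3, 4, 0, 0],
  [4, 0, 0, 8, 0, 3, 8],
  [6, 4, 8, 9, 4, 7, 1],
  [0, 8, 3, 4, 6, 5, 5],
  [8, 9, 7, 7, 10, 5, 7],
  [9, 8, 3, 2, 3, 9, 9],
  [7, 6, 0, 3, 6, 6, 8],
  [10, 0, 2, 6, 8, 1, 6],
  [3, 4, 7, 1, 8, 8, 7],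
  [8, 3, 4, 8, 4, 7, 10],
  [8, 6, 5, 8, 7, 6, 0],
  [3, 8, 4, 3, 4, 7, 10],
  [4, 8, 3, 3, 5, 4, 5],
  [1, 6, 5, 8, 1, 10, 6],
  [1, 2, 8, 10, 8, 5, 7],
  [3, 6, 4, 1, 2, 3, 10],
  [7, 6, 6, 5, 0, 8, 8],
  [5, 6, 5, 0, 3, 3, 7],
  [0, 3, 3, 4, 6, 6, 6],
  [10, 5, 7, 0, 0, 10, 0],
  [0, 0, 10, 0, 10, 6, 4],
  [6, 7, 10, 2, 8, 10, 3],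
  [4, 7, 4, 0, 3, 5, 4],
  [10, 10, 9, 8, 6, 0, 5],
  [0, 8, 3, 4, 5, 6, 5],
  [9, 8, 5, 0, 6, 1, 1],
  [4, 7, 0, 4, 8, 7, 5],
  [0, 4, 8, 4, 5, 7, 4],
  [5, 0, 6, 10, 10, 2, 8],
  [5, 7, 1, 0, 9, 2, 9],
  [4, 8, 7, 4, 10, 3, 3],
  [4, 4, 10, 8, 3, 7, 3],
  [4, 0, 8, 6, 4, 4, 4],
  [8, 0, 1, 2, 6, 6, 10],
  [10, 7, 2, 7, 6, 3, 4],
  [5, 5, 10, 8, 0, 1, 9],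
  [7, 4, 8, 10, 9, 6, 4],
  [9, 1, 1, 10, 1, 10, 10],
  [2, 3, 8, 9, 8, 2, 2],
  [3, 9, 8, 9, 2, 9, 8],
  [8, 7, 5, 6, 6, 0, 3],
  [0, 8, 5, 4, 4, 4, 7],
  [2, 7, 5, 8, 4, 1, 7],
  [6, 0, 8, 3, 7, 6, 6],
  [5, 8, 7, 1, 4, 9, 4],
  [4, 0, 7, 3, 4, 6, 7],
  [6, 10, 8, 0, 10, 2, 5],
  [7, 5, 4, 3, 3, 8, 6],
  [6, 4, 10, 0, 9, 9, 9],
  [3, 3, 7, 8, 4, 7, 1],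
  [10, 0, 2, 9, 2, 5, 7],
  [8, 3, 5, 7, 5, 7, 3],
  [7, 8, 8, 3, 5, 4, 6],
  [5, 8, 4, 1, 1, 3, 2],
  [5, 7, 5, 4, 8, 8, 8],
  [7, 8, 7, 6, 4, 4, 0],
  [4, 6, 4, 7, 0, 4, 3],
  [0, 1, 2, 5, 5, 10, 3],
  [9, 3, 1, 8, 5, 4, 1],
  [4, 3, 5, 3, 4, 5, 8],
  [9, 0, 6, 9, 4, 9, 10],
  [9, 9, 6, 4, 10, 0, 9],
  [5, 4, 10, 0, 9, 2, 2],
  [4, 3, 1, 2, 6, 4, 4],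
  [1, 1, 10, 2, 10, 10, 10],
  [7, 3, 4, 4, 10, 8, 3],
  [2, 5, 8, 7, 10, 1, 8],
  [3, 7, 10, 10, 8, 9, 6],
  [5, 1, 1, 2, 8, 6, 0],
  [10, 10, 3, 9, 5, 8, 4],
  [5, 3, 4, 10, 10, 8, 2],
  [1, 0, 9, 2, 9, 5, 7],
  [8, 3, 4, 3, 7, 7, 1],
  [9, 2, 2, 5, 4, 10, 0],
  [9, 9, 9, 3, 8, 2, 8],
  [1, 9, 9, 7, 0, 2, 5],
  [2, 6, 4, 1, 0, 2, 2],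
  [1, 1, 8, 2, 6, 3, 7],
  [3, 2, 6, 8, 7, 10, 10],
  [6, 7, 5, 7, 8, 3, 3],
  [6, 8, 4, 10, 1, 8, 9],
  [4, 0, 0, 1, 0, 1, 6],
  [0, 1, 0, 10, 6, 7, 0],
  [7, 6, 4, 3, 3, 3, 5],
  [1, 3, 9, 5, 3, 7, 10],
  [8, 9, 5, 3, 4, 1, 1],
  [0, 0, 10, 0, 1, 5, 4],
  [6, 7, 4, 7, 7, 0, 8],
  [7, 7, 7, 0, 8, 5, 4],
  [9, 5, 4, 1, 0, 2, 9],
  [0, 6, 1, 4, 0, 0, 1],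
  [0, 7, 3, 7, 6, 4, 7],
  [5, 7, 5, 7, 3, 8, 3],
  [7, 6, 7, 3, 8, 8, 6],
  [3, 3, 3, 6, 4, 6, 7],
  [8, 6, 3, 6, 7, 0, 6],
  [1, 10, 1, 1, 1, 10, 9],
  [6, 4, 4, 7, 8, 1, 9],
  [8, 1, 5, 10, 0, 9, 5],
  [4, 7, 0, 4, 3, 4, 6],
  [8, 10, 2, 5, 4, 4, 4],
  [8, 9, 3, 2, 9, 9, 8],
  [4, 0, 5, 8, 6, 3, 5],
  [3, 2, 2, 9, 3, 3, 2],
  [1, 1, 1, 1, 2, 1, 1],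
  [5, 4, 1, 2, 8, 1, 3],
  [1, 2, 6, 6, 10, 8, 0],
  [5, 6, 10, 3, 0, 10, 9],
  [9, 7, 7, 10, 5, 7, 8],
  [5, 4, 3, 8, 3, 6, 4],
  [1, 1, 10, 10, 2, 10, 1],
  [3, 8, 8, 6, 7, 6, 7],
  [4, 6, 7, 3, 3, 3, 6],
  [0, 7, 8, 4, 5, 4, 7],
  [8, 8, 5, 4, 6, 4, 3],
  [8, 4, 4, 1, 8, 8, 4],
  [0, 1, 2, 5, 6, 1, 3],
  [2, 9, 2, 3, 8, 2, 3],
  [7, 2, 10, 2, 0, 6, 9],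
  [4, 0, 8, 6, 4, 7, 7],
  [9, 5, 7, 10, 0, 9, 9],
  [4, 10, 0, 2, 9, 2, 6],
  [3, 4, 8, 4, 7, 10, 8],
  [6, 7, 1, 2, 3, 1, 8],
  [9, 3, 3, 9, 8, 2, 9],
  [3, 5, 4, 7, 4, 4, 0],
  [3, 1, 9, 5, 4, 7, 4],
  [1, 10, 1, 1, 2, 10, 10],
  [3, 9, 2, 9, 3, 8, 9],
  [3, 4, 3, 7, 7, 1, 8],
  [0, 10, 0, 1, 6, 7, 0],
  [0, 1, 5, 7, 0, 0, 1],
  [3, 6, 4, 7, 4, 7, 0],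
  [5, 6, 0, 8, 3, 7, 5],
  [5, 0, 8, 3, 4, 6, 5],
  [6, 7, 8, 8, 3, 5, 4],
  [4, 8, 4, 7, 10, 8, 3],
  [4, 4, 0, 3, 6, 7, 4],
  [5, 0, 6, 1, 1, 2, 3],
  [5, 1, 1, 9, 3, 6, 0],
  [5, 2, 7, 2, 1, 2, 0],
  [7, 5, 4, 7, 0, 4, 8],
  [3, 5, 8, 6, 7, 0, 6],
  [3, 6, 7, 0, 6, 8, 6],
  [0, 5, 8, 6, 3, 5, 4],
  [9, 3, 9, 9, 2, 3, 3],
  [1, 7, 9, 7, 6, 3, 7],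
  [6, 0, 6, 10, 1, 2, 3],
  [5, 10, 0, 9, 5, 8, 1],
  [7, 6, 4, 4, 0, 7, 8],
  [7, 4, 1, 6, 7, 8, 2],
  [7, 4, 10, 3, 3, 4, 8],
  [7, 1, 7, 2, 4, 6, 8],
  [2, 9, 8, 3, 9, 8, 9],
  [9, 5, 4, 7, 4, 3, 1],
  [9, 8, 2, 2, 2, 3, 8],
  [7, 10, 3, 3, 7, 3, 7],
  [2, 0, 6, 2, 4, 2, 1],
  [7, 3, 4, 7, 1, 8, 8],
  [8, 4, 10, 4, 2, 4, 5],
  [5, 10, 10, 2, 3, 6, 0],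
  [3, 3, 4, 6, 6, 6, 0],
  [5, 0, 6, 1, 1, 9, 8],
  [4, 6, 3, 4, 8, 5, 3],
  [10, 1, 1, 2, 10, 10, 1],
  [4, 7, 4, 3, 1, 9, 5],
  [8, 8, 8, 5, 7, 5, 4],
  [9, 6, 3, 4, 1, 10, 3],
  [10, 10, 1, 10, 2, 1, 1],
  [3, 5, 8, 5, 4, 0, 5],
  [4, 3, 2, 7, 7, 1, 5],
  [5, 10, 5, 5, 8, 10, 10],
  [7, 6, 4, 7, 0, 7, 3],
  [7, 8, 5, 8, 4, 5, 8],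
  [5, 8, 7, 5, 3, 4, 3],
  [0, 10, 0, 6, 10, 4, 0],
  [0, 6, 10, 7, 0, 0, 1],
  [6, 3, 5, 7, 0, 5, 3],
  [2, 7, 4, 1, 6, 7, 8],
  [5, 0, 5, 10, 1, 2, 8],
  [4, 4, 8, 10, 2, 5, 4],
  [3, 10, 2, 6, 4, 7, 7],
  [7, 0, 6, 7, 4, 8, 4],
  [10, 8, 5, 7, 1, 2, 8],
  [3, 9, 7, 4, 10, 6, 4],
  [4, 0, 6, 3, 6, 3, 6],
  [5, 3, 6, 8, 6, 7, 0],
  [9, 2, 7, 0, 2, 6, 10],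
  [0, 2, 0, 9, 2, 3, 0],
  [2, 2, 8, 8, 2, 3, 9],
  [5, 4, 0, 6, 3, 6, 8],
  [0, 6, 3, 5, 8, 6, 7],
  [6, 4, 0, 6, 3, 6, 3],
  [4, 7, 7, 3, 10, 2, 6],
  [10, 10, 5, 10, 5, 5, 8],
  [2, 7, 6, 8, 7, 10, 4],
  [6, 1, 8, 0, 1, 9, 5],
  [6, 0, 8, 8, 4, 5, 6],
  [6, 0, 8, 5, 6, 3, 7],
  [6, 5, 10, 8, 0, 10, 9],
  [0, 9, 6, 1, 2, 9, 7],
  [9, 3, 2, 2, 2, 8, 3],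
  [9, 2, 2, 3, 3, 2, 8],
  [5, 8, 5, 7, 0, 5, 8],
  [3, 2, 9, 2, 3, 8, 2],
  [9, 7, 4, 1, 5, 4, 8],
  [4, 1, 6, 4, 3, 2, 4],
  [7, 5, 5, 6, 0, 8, 3],
  [4, 7, 4, 4, 0, 3, 5],
  [0, 8, 5, 6, 3, 7, 6],
  [8, 10, 8, 5, 7, 1, 2],
  [0, 1, 6, 4, 0, 0, 1],
  [2, 8, 1, 8, 6, 4, 10],
  [7, 8, 7, 4, 1, 8, 3],
  [4, 4, 1, 3, 3, 4, 3],
  [0, 5, 1, 1, 2, 8, 6],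
  [4, 1, 0, 9, 2, 9, 6],
  [10, 2, 5, 4, 4, 4, 8],
  [7, 4, 4, 7, 0, 3, 5],
  [10, 0, 9, 9, 9, 6, 4],
  [0, 6, 1, 1, 9, 8, 5],
  [9, 9, 2, 6, 7, 1, 0],
  [1, 10, 2, 8, 6, 0, 6],
  [9, 8, 6, 0, 6, 10, 1],
  [2, 5, 7, 10, 0, 2, 9],
  [6, 4, 7, 4, 8, 10, 9],
  [4, 4, 8, 1, 9, 5, 7],
  [8, 1, 2, 5, 4, 7, 7],
  [0, 7, 3, 7, 5, 7, 7],
  [10, 1, 2, 3, 6, 0, 6],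
  [6, 6, 0, 8, 3, 7, 6],
  [6, 5, 6, 0, 8, 8, 4],
  [7, 0, 9, 6, 1, 9, 2],
  [6, 4, 8, 2, 7, 7, 10],
  [3, 2, 7, 4, 10, 5, 7],
  [5, 6, 0, 8, 8, 4, 6],
  [9, 8, 0, 0, 2, 0, 9],
  [1, 10, 10, 10, 1, 1, 9],
  [9, 6, 4, 4, 7, 8, 1],
  [5, 4, 7, 0, 7, 8, 4],
  [0, 1, 0, 6, 1, 4, 0],
  [7, 0, 4, 8, 7, 6, 7],
  [4, 3, 7, 5, 4, 4, 0],
  [3, 2, 4, 4, 1, 6, 4],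
  [1, 1, 2, 1, 1, 1, 1],
  [6, 4, 7, 0, 7, 3, 7],
  [7, 1, 0, 2, 2, 2, 5],
  [0, 0, 10, 0, 10, 5, 7],
  [8, 6, 0, 6, 1, 10, 2],
  [0, 6, 10, 10, 9, 3, 5],
  [9, 6, 4, 10, 0, 9, 9],
  [7, 10, 0, 2, 9, 2, 5],
  [10, 1, 9, 8, 6, 0, 6],
  [7, 6, 6, 6, 0, 8, 3],
  [5, 6, 0, 3, 3, 4, 5],
  [7, 6, 3, 7, 1, 7, 9],
  [1, 2, 8, 6, 0, 5, 1],
  [6, 6, 6, 0, 3, 3, 4],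
  [4, 6, 5, 5, 0, 8, 3],
  [3, 8, 7, 5, 6, 6, 0],
  [7, 7, 0, 8, 5, 4, 7],
  [7, 10, 5, 7, 8, 9, 7],
  [9, 8, 5, 0, 5, 1, 10],
  [10, 10, 2, 8, 5, 0, 6],
  [5, 4, 1, 0, 2, 9, 9],
  [10, 0, 2, 2, 9, 6, 7],
  [6, 4, 3, 3, 3, 5, 7],
  [3, 6, 4, 5, 4, 3, 8],
  [2, 2, 3, 3, 2, 8, 9],
  [8, 3, 8, 5, 7, 6, 7],
  [4, 3, 7, 6, 7, 4, 0],
  [7, 0, 0, 1, 0, 6, 10],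
  [1, 0, 6, 1, 4, 0, 0],
  [0, 5, 1, 7, 0, 0, 1],
  [3, 2, 6, 3, 4, 10, 1],
  [3, 8, 5, 7, 6, 7, 8],
  [4, 1, 10, 8, 2, 6, 8],
  [10, 0, 2, 2, 9, 5, 4],
  [10, 7, 0, 0, 10, 0, 5],
  [10, 4, 0, 0, 10, 0, 6],
  [0, 0, 10, 0, 6, 1, 7],
  [4, 8, 7, 6, 7, 7, 0],
  [4, 6, 7, 4, 0, 7, 3],
  [8, 6, 3, 5, 4, 0, 5],
  [4, 5, 4, 4, 0, 7, 3],
  [2, 4, 5, 8, 4, 10, 4],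
  [2, 8, 5, 0, 5, 10, 1],
  [4, 1, 10, 3, 9, 6, 3],
  [4, 6, 7, 8, 8, 3, 5],
  [7, 6, 8, 4, 1, 4, 9],
  [0, 5, 10, 1, 9, 3, 5],
  [9, 5, 4, 4, 7, 3, 10],
  [6, 7, 1, 0, 9, 9, 2],
  [8, 2, 8, 9, 9, 9, 3],
  [0, 7, 8, 4, 6, 7, 7],
  [6, 3, 7, 8, 6, 8, 7],
  [2, 4, 0, 2, 5, 10, 9],
  [9, 2, 9, 8, 3, 9, 8],
  [2, 8, 3, 2, 8, 2, 9],
  [1, 0, 2, 9, 9, 5, 4],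
  [1, 10, 2, 10, 10, 10, 1],
  [10, 8, 6, 4, 1, 9, 8],
  [0, 8, 6, 4, 4, 4, 4],
  [0, 8, 3, 7, 5, 5, 6],
  [3, 10, 8, 6, 7, 10, 9],
  [5, 10, 8, 0, 10, 9, 6],
  [4, 7, 4, 8, 10, 9, 6],
  [7, 8, 10, 2, 6, 7, 4],
  [10, 2, 5, 7, 7, 4, 3],
  [8, 2, 2, 2, 3, 8, 9],
  [3, 7, 3, 5, 8, 4, 6],
  [9, 4, 2, 10, 2, 0, 5],
  [9, 2, 8, 8, 9, 8, 9],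
  [3, 8, 2, 8, 9, 9, 9],
  [3, 7, 4, 1, 3, 8, 7],
  [9, 5, 3, 10, 5, 1, 0],
  [8, 10, 5, 10, 0, 2, 6],
  [3, 5, 4, 0, 5, 8, 6],
  [7, 0, 5, 3, 6, 8, 6],
  [5, 3, 5, 8, 5, 4, 0],
  [5, 3, 5, 4, 0, 6, 8],
  [5, 8, 6, 4, 0, 6, 8],
  [4, 10, 0, 9, 2, 2, 5],
  [5, 4, 7, 7, 8, 1, 2],
  [7, 0, 7, 8, 4, 5, 4],
  [8, 5, 4, 0, 5, 3, 5],
  [2, 4, 9, 1, 9, 0, 5],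
  [6, 5, 8, 10, 1, 6, 10],
  [8, 3, 7, 5, 5, 6, 0],
  [4, 5, 5, 5, 0, 3, 8],
  [8, 2, 6, 8, 4, 1, 10],
  [5, 8, 4, 10, 10, 3, 9],
  [10, 1, 3, 9, 5, 3, 7],
  [3, 5, 3, 5, 7, 0, 6],
  [8, 5, 7, 0, 6, 8, 6],
  [8, 2, 7, 7, 10, 6, 4],
  [1, 1, 2, 8, 6, 0, 5],
  [0, 2, 6, 8, 10, 5, 10],
  [3, 6, 3, 6, 4, 0, 6],
  [6, 8, 5, 8, 6, 4, 0],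
  [7, 0, 5, 3, 6, 3, 5],
  [3, 9, 6, 3, 4, 1, 10],
  [10, 3, 2, 5, 3, 7, 1],
  [10, 10, 1, 1, 9, 1, 10],
  [3, 4, 3, 5, 8, 7, 5],
  [6, 1, 7, 0, 0, 10, 0],
  [4, 0, 0, 1, 0, 5, 10],
  [7, 1, 10, 3, 2, 5, 3],
  [0, 9, 2, 2, 6, 7, 10],
  [5, 4, 10, 0, 2, 2, 9],
  [3, 8, 4, 5, 5, 5, 0],
  [10, 9, 3, 6, 0, 6, 1],
  [2, 6, 8, 4, 1, 10, 8],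
  [3, 4, 1, 1, 8, 9, 5],
  [3, 3, 4, 4, 8, 6, 5],
  [6, 5, 8, 1, 10, 6, 1],
  [8, 7, 7, 10, 8, 8, 7],
  [0, 1, 9, 6, 6, 10, 3],
  [9, 8, 1, 3, 6, 7, 1],
  [10, 6, 1, 5, 6, 8, 10],
  [4, 1, 4, 2, 4, 6, 3],
  [4, 9, 4, 5, 8, 7, 1],
  [3, 7, 5, 4, 4, 0, 4],
  [6, 4, 4, 0, 4, 8, 4],
  [6, 8, 4, 1, 4, 9, 7],
  [8, 1, 9, 6, 4, 4, 7],
  [0, 6, 3, 5, 3, 5, 7],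
  [2, 6, 7, 7, 4, 8, 1],
  [2, 3, 3, 2, 8, 9, 2],
  [2, 9, 2, 6, 4, 10, 0],
  [2, 5, 4, 1, 0, 9, 9],
  [0, 1, 2, 6, 5, 1, 8],
  [1, 5, 1, 6, 6, 8, 10],
  [8, 5, 8, 5, 7, 0, 5],
  [3, 8, 9, 3, 9, 2, 9],
  [2, 3, 2, 9, 2, 3, 8],
  [7, 4, 3, 10, 2, 5, 7],
  [5, 4, 0, 5, 8, 6, 3],
  [2, 2, 9, 6, 7, 10, 0],
  [3, 6, 0, 5, 1, 1, 9],
  [6, 7, 7, 4, 8, 1, 2],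
  [3, 0, 1, 2, 5, 6, 1],
  [6, 5, 0, 8, 3, 4, 5],
  [8, 8, 4, 5, 6, 6, 0],
  [7, 5, 6, 5, 0, 3, 3],
  [10, 9, 0, 6, 2, 7, 2],
  [5, 4, 4, 0, 4, 3, 7],
  [9, 3, 2, 9, 9, 8, 8],
  [3, 9, 3, 2, 2, 2, 8],
  [1, 1, 3, 2, 5, 8, 4],
  [2, 6, 3, 4, 10, 1, 3],
  [5, 3, 7, 10, 1, 3, 9],
  [2, 9, 9, 5, 4, 1, 0],
  [8, 3, 3, 5, 4, 5, 4],
  [7, 1, 1, 8, 2, 6, 3],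
  [10, 1, 8, 2, 5, 8, 7],
  [9, 6, 4, 1, 0, 9, 2],
  [10, 8, 9, 5, 8, 7, 1],
  [5, 3, 6, 7, 0, 5, 8],
  [8, 3, 2, 8, 2, 9, 2],
  [4, 0, 5, 3, 5, 3, 6],
  [0, 9, 5, 8, 1, 5, 10],
  [4, 5, 8, 4, 10, 4, 2],
  [7, 4, 3, 1, 9, 5, 4],
  [3, 3, 4, 5, 5, 6, 0],
  [8, 6, 7, 10, 9, 3, 10],
  [8, 7, 3, 7, 4, 1, 3],
  [6, 10, 2, 9, 7, 0, 2],
  [9, 9, 5, 7, 10, 0, 9],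
  [1, 8, 9, 5, 3, 4, 1],
  [7, 7, 0, 7, 3, 7, 5],
  [8, 5, 3, 6, 7, 0, 5],
  [8, 6, 7, 0, 5, 3, 6],
  [3, 9, 2, 2, 8, 8, 2],
  [8, 5, 0, 5, 10, 1, 2],
  [0, 5, 10, 10, 2, 3, 6],
  [0, 9, 9, 9, 6, 4, 10],
  [8, 2, 9, 2, 8, 3, 2],
  [9, 0, 6, 2, 7, 2, 10],
  [10, 7, 9, 4, 6, 8, 4],
  [0, 8, 8, 7, 6, 6, 5],
  [9, 9, 9, 6, 4, 10, 0],
  [4, 0, 0, 10, 0, 6, 10],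
  [1, 4, 0, 0, 10, 0, 5],
  [6, 7, 4, 0, 7, 3, 4],
  [5, 4, 6, 7, 8, 8, 3],
  [2, 8, 6, 0, 5, 1, 1],
  [5, 0, 5, 10, 1, 9, 3],
  [0, 8, 0, 8, 8, 7, 0],
  [8, 10, 6, 10, 0, 9, 5],
  [5, 8, 5, 3, 6, 7, 0],
  [4, 7, 0, 7, 8, 4, 5],
  [0, 7, 8, 7, 5, 7, 4],
  [3, 0, 0, 2, 0, 9, 2],
  [6, 9, 7, 2, 10, 2, 0],
  [2, 3, 0, 0, 2, 0, 9],
  [4, 4, 1, 8, 8, 4, 8],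
  [8, 4, 3, 5, 3, 4, 5],
  [0, 5, 8, 6, 8, 6, 4],
  [3, 6, 8, 5, 4, 0, 6],
  [7, 0, 4, 8, 7, 5, 4],
  [4, 3, 4, 6, 4, 7, 0],
  [2, 3, 6, 0, 6, 10, 1],
  [8, 7, 1, 1, 3, 9, 6],
  [10, 1, 3, 2, 6, 3, 4],
  [5, 8, 6, 3, 5, 4, 0],
  [10, 2, 3, 5, 0, 5, 1],
  [3, 4, 10, 4, 9, 7, 5],
  [10, 5, 1, 6, 5, 3, 10],
  [6, 8, 1, 10, 5, 10, 6],
  [0, 6, 3, 6, 8, 5, 4],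
  [5, 7, 7, 4, 3, 10, 2],
  [4, 0, 5, 8, 6, 8, 6],
  [5, 8, 5, 8, 5, 7, 0],
  [3, 7, 6, 7, 4, 0, 4],
  [2, 7, 7, 1, 5, 4, 3],
  [5, 8, 1, 10, 6, 1, 6],
  [3, 4, 8, 7, 4, 10, 3],
  [9, 8, 3, 9, 8, 9, 2],
  [8, 9, 8, 2, 2, 2, 3],
  [5, 0, 8, 8, 7, 5, 5],
  [7, 8, 2, 7, 4, 1, 6],
  [7, 7, 4, 7, 0, 8, 6],
  [6, 1, 1, 2, 3, 5, 0],
  [10, 2, 3, 6, 0, 5, 10],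
  [7, 0, 7, 3, 7, 6, 4],
  [7, 7, 0, 3, 5, 7, 7],
  [1, 10, 10, 2, 10, 1, 1],
  [10, 1, 10, 1, 2, 1, 10],
  [8, 3, 8, 6, 4, 6, 4],
  [3, 6, 4, 6, 7, 3, 3],
  [8, 7, 5, 7, 4, 0, 7],
  [9, 1, 10, 1, 1, 1, 10],
  [2, 7, 0, 2, 6, 10, 9],
  [0, 2, 9, 9, 6, 7, 1],
  [2, 5, 3, 7, 1, 10, 3],
  [5, 7, 3, 3, 8, 5, 4],
  [1, 0, 1, 6, 4, 0, 0],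
  [6, 4, 5, 7, 8, 8, 8],
  [3, 9, 6, 8, 7, 1, 1],
  [7, 4, 0, 8, 6, 4, 7],
  [2, 2, 6, 7, 10, 0, 9],
  [8, 3, 7, 0, 0, 3, 0],
  [8, 5, 4, 6, 4, 3, 8],
  [1, 8, 6, 7, 1, 2, 3],
  [6, 4, 1, 2, 3, 10, 3],
  [0, 8, 6, 7, 4, 7, 7],
  [1, 2, 6, 4, 4, 4, 3],
  [7, 0, 0, 10, 0, 1, 6],
  [5, 4, 5, 4, 8, 3, 3],
  [0, 9, 9, 3, 0, 0, 9],
  [10, 1, 2, 1, 10, 10, 1],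
  [4, 10, 4, 2, 4, 5, 8],
  [10, 9, 3, 5, 0, 6, 10],
  [0, 9, 2, 9, 5, 7, 1],
  [3, 5, 0, 6, 1, 1, 2],
  [6, 5, 5, 0, 8, 3, 4],
  [7, 1, 6, 4, 8, 9, 4],
  [3, 7, 6, 6, 6, 0, 8],
  [3, 8, 7, 8, 4, 4, 10],
  [3, 7, 8, 6, 8, 7, 6],
  [5, 7, 1, 0, 2, 2, 2],
  [10, 1, 2, 8, 5, 0, 5],
  [8, 2, 8, 2, 2, 9, 8],
  [2, 9, 9, 8, 8, 9, 3],
  [9, 2, 6, 7, 1, 0, 9],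
  [3, 8, 4, 6, 6, 5, 0],
  [9, 7, 4, 10, 6, 4, 3],
  [6, 7, 8, 2, 7, 4, 1],
  [5, 7, 4, 4, 8, 1, 9],
  [4, 0, 0, 10, 0, 5, 1],
  [9, 6, 3, 7, 10, 10, 8],
  [3, 5, 0, 5, 1, 10, 2],
  [0, 3, 3, 4, 0, 0, 3],
  [6, 0, 3, 3, 4, 5, 5],
  [6, 0, 3, 6, 6, 8, 7],
  [6, 5, 8, 7, 6, 0, 8],
  [3, 4, 5, 6, 5, 0, 8],
  [6, 6, 5, 0, 8, 8, 7],
  [3, 6, 0, 6, 1, 10, 9],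
  [8, 6, 7, 1, 2, 3, 1],
  [5, 0, 5, 1, 10, 2, 3],
  [10, 9, 8, 6, 0, 5, 10],
  [8, 3, 4, 5, 6, 5, 0],
  [1, 0, 2, 2, 2, 6, 4],
  [1, 2, 5, 6, 1, 3, 0],
  [7, 2, 7, 6, 3, 4, 10],
  [8, 4, 6, 7, 7, 0, 7],
  [9, 9, 8, 8, 9, 3, 2],
  [9, 8, 9, 2, 9, 8, 3],
  [7, 5, 6, 6, 0, 3, 8],
  [5, 5, 0, 8, 3, 4, 6],
  [0, 8, 3, 7, 6, 6, 6],
  [3, 4, 6, 6, 6, 0, 3],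
  [4, 7, 0, 7, 3, 7, 6],
  [5, 7, 0, 6, 8, 6, 8],
  [5, 4, 3, 3, 8, 6, 7],
  [5, 10, 1, 9, 3, 5, 0],
  [4, 1, 0, 2, 9, 9, 5],
  [8, 4, 1, 1, 3, 2, 5],
  [6, 10, 10, 9, 3, 5, 0],
  [8, 7, 6, 4, 4, 0, 7],
  [0, 8, 8, 7, 0, 0, 8],
  [1, 2, 3, 6, 0, 6, 10],
  [5, 8, 7, 10, 1, 8, 2],
  [0, 1, 0, 6, 10, 7, 0],
  [7, 10, 10, 8, 9, 6, 3],
  [0, 6, 10, 1, 2, 3, 6],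
  [9, 2, 2, 6, 7, 10, 0],
  [10, 3, 9, 5, 8, 4, 10],
  [3, 4, 10, 10, 8, 2, 5],
  [2, 2, 5, 4, 10, 0, 9],
  [6, 4, 1, 0, 2, 2, 2],
  [4, 10, 10, 8, 2, 5, 3],
  [1, 8, 2, 6, 3, 7, 1],
  [2, 6, 8, 7, 10, 10, 3],
  [8, 4, 10, 1, 8, 9, 6],
  [9, 2, 9, 5, 7, 1, 0],
  [4, 5, 7, 8, 8, 8, 6],
  [6, 1, 4, 0, 0, 1, 0],
  [7, 3, 7, 6, 4, 7, 0],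
  [6, 3, 6, 3, 6, 4, 0],
  [4, 0, 6, 3, 6, 8, 5],
  [6, 7, 0, 5, 8, 5, 3],
  [10, 10, 10, 1, 1, 9, 1],
  [1, 1, 1, 2, 1, 1, 1],
  [4, 0, 4, 8, 4, 6, 4],
  [7, 8, 4, 5, 4, 7, 0],
  [6, 10, 7, 0, 0, 1, 0],
  [7, 3, 7, 4, 1, 3, 8],
  [0, 8, 6, 4, 7, 7, 4],
  [5, 7, 10, 0, 9, 9, 9],
  [7, 1, 1, 3, 9, 6, 8],
  [7, 7, 4, 8, 1, 2, 6],
  [2, 8, 2, 2, 9, 8, 8],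
  [6, 4, 7, 4, 7, 0, 3],
  [6, 0, 8, 3, 7, 5, 5],
  [0, 0, 2, 0, 9, 2, 3],
  [0, 6, 1, 1, 2, 3, 5],
  [8, 4, 6, 6, 5, 0, 3],
  [1, 1, 9, 3, 6, 0, 5],
  [6, 7, 10, 0, 9, 2, 2],
  [5, 8, 6, 8, 6, 4, 0],
  [3, 6, 8, 6, 7, 0, 5],
  [6, 7, 0, 6, 8, 6, 3],
  [7, 0, 6, 8, 6, 8, 5],
  [7, 9, 7, 6, 3, 7, 1],
  [1, 7, 2, 4, 6, 8, 7],
  [5, 5, 6, 0, 8, 3, 7],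
  [0, 6, 1, 10, 2, 8, 6],
  [6, 3, 4, 1, 10, 3, 9],
  [10, 1, 10, 2, 1, 1, 10],
  [8, 0, 8, 8, 7, 0, 0],
  [10, 0, 6, 10, 4, 0, 0],
  [0, 5, 10, 1, 2, 8, 5],
  [4, 8, 10, 2, 5, 4, 4],
  [10, 2, 6, 4, 7, 7, 3],
  [8, 5, 7, 1, 2, 8, 10],
  [0, 6, 3, 6, 3, 6, 4],
  [4, 7, 7, 8, 1, 2, 5],
  [0, 8, 8, 4, 5, 6, 6],
  [8, 2, 2, 9, 8, 8, 2],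
  [3, 6, 3, 5, 7, 0, 5],
  [9, 9, 6, 7, 1, 0, 2],
  [5, 10, 1, 2, 8, 5, 0],
  [10, 2, 8, 6, 0, 6, 1],
  [2, 5, 7, 7, 4, 3, 10],
  [6, 0, 8, 8, 4, 6, 5],
  [0, 5, 3, 6, 3, 5, 7],
  [0, 0, 10, 0, 6, 10, 4],
  [0, 10, 0, 6, 1, 7, 0],
  [0, 4, 8, 7, 6, 7, 7],
  [1, 0, 2, 2, 2, 5, 7],
  [6, 0, 6, 1, 10, 2, 8],
  [8, 10, 2, 6, 7, 4, 7],
  [10, 5, 7, 8, 9, 7, 7],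
  [8, 5, 0, 5, 1, 10, 9],
  [2, 6, 7, 1, 0, 9, 9],
  [4, 10, 1, 8, 9, 6, 8],
  [6, 4, 5, 4, 3, 8, 3],
  [0, 6, 10, 4, 0, 0, 10],
  [0, 0, 1, 0, 6, 10, 7],
  [5, 1, 7, 0, 0, 1, 0],
  [5, 4, 0, 5, 3, 5, 8],
  [7, 0, 0, 10, 0, 5, 10],
  [6, 3, 5, 3, 5, 7, 0],
  [6, 3, 5, 4, 0, 5, 8],
  [10, 3, 9, 6, 3, 4, 1],
  [1, 10, 3, 9, 6, 3, 4],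
  [1, 4, 0, 0, 1, 0, 6],
  [7, 1, 0, 9, 9, 2, 6],
  [7, 8, 4, 6, 7, 7, 0],
  [3, 2, 9, 9, 8, 8, 9],
  [6, 5, 0, 8, 8, 7, 6],
  [3, 2, 8, 2, 9, 2, 8],
  [4, 4, 0, 4, 8, 4, 6],
  [8, 6, 4, 0, 6, 8, 5],
  [5, 3, 7, 1, 10, 3, 2],
  [9, 8, 8, 9, 3, 2, 9],
  [1, 3, 9, 6, 8, 7, 1],
  [6, 3, 6, 4, 0, 6, 3],
  [8, 5, 8, 6, 4, 0, 6],
  [0, 0, 1, 0, 5, 10, 4],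
  [1, 10, 3, 2, 5, 3, 7],
  [3, 6, 0, 6, 10, 1, 2],
  [9, 3, 6, 0, 6, 1, 10],
  [3, 9, 5, 8, 4, 10, 10],
  [7, 7, 10, 8, 8, 7, 8],
  [5, 7, 1, 2, 8, 10, 8],
  [9, 3, 5, 0, 6, 10, 10],
  [2, 6, 7, 10, 0, 9, 2],
  [0, 5, 3, 5, 3, 6, 4],
  [2, 9, 6, 7, 10, 0, 2],
  [6, 0, 5, 1, 1, 9, 3],
  [0, 3, 3, 4, 5, 5, 6],
  [1, 3, 2, 5, 8, 4, 1],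
  [3, 6, 7, 0, 5, 8, 5],
  [3, 7, 10, 1, 3, 9, 5],
  [6, 8, 7, 1, 1, 3, 9],
  [1, 8, 2, 5, 8, 7, 10],
  [8, 9, 5, 8, 7, 1, 10],
  [1, 1, 2, 3, 5, 0, 6],
  [5, 4, 6, 4, 3, 8, 8],
  [10, 1, 8, 9, 6, 8, 4],
  [7, 8, 7, 5, 7, 4, 0],
  [8, 8, 7, 6, 6, 5, 0],
  [6, 10, 1, 2, 3, 6, 0],
  [9, 8, 6, 0, 5, 10, 10],
  [7, 4, 0, 7, 3, 4, 6],
  [0, 5, 8, 5, 3, 6, 7],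
  [7, 10, 0, 9, 9, 9, 5],
  [4, 1, 8, 8, 4, 8, 4],
  [6, 8, 5, 4, 0, 6, 3],
  [7, 10, 1, 3, 9, 5, 3],
  [1, 3, 2, 6, 3, 4, 10],
  [7, 0, 5, 8, 5, 3, 6],
  [4, 6, 6, 6, 0, 3, 3],
  [2, 3, 6, 0, 5, 10, 10],
  [4, 3, 3, 8, 6, 7, 5],
  [7, 8, 6, 8, 7, 6, 3],
  [2, 9, 9, 6, 7, 1, 0],
  [9, 6, 8, 7, 1, 1, 3],
  [8, 6, 7, 4, 7, 7, 0],
  [5, 0, 5, 1, 10, 9, 8],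
  [6, 1, 10, 2, 8, 6, 0],
  [1, 2, 8, 5, 0, 5, 10],
  [8, 9, 2, 9, 8, 3, 9],
  [7, 4, 10, 6, 4, 3, 9],
  [4, 6, 6, 5, 0, 3, 8],
  [2, 5, 8, 4, 1, 1, 3],
  [5, 6, 6, 0, 3, 8, 7],
  [8, 3, 7, 6, 6, 6, 0],
  [5, 7, 8, 8, 8, 6, 4],
  [4, 1, 1, 3, 2, 5, 8],
  [0, 5, 1, 10, 9, 8, 5],
  [3, 2, 5, 8, 4, 1, 1],
  [4, 1, 0, 2, 2, 2, 6],
  [10, 10, 8, 2, 5, 3, 4],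
  [8, 2, 6, 3, 7, 1, 1],
  [6, 8, 7, 10, 10, 3, 2],
  [1, 7, 0, 0, 1, 0, 5],
  [1, 10, 9, 8, 5, 0, 5],
  [8, 4, 5, 4, 7, 0, 7],
  [1, 1, 3, 9, 6, 8, 7],
  [6, 4, 0, 6, 8, 5, 8],
  [0, 6, 8, 6, 8, 5, 7],
  [0, 6, 8, 5, 8, 6, 4],
  [5, 3, 6, 3, 5, 7, 0],
  [10, 0, 6, 1, 7, 0, 0],
  [6, 10, 4, 0, 0, 10, 0],
  [0, 6, 1, 7, 0, 0, 10],
  [9, 5, 8, 7, 1, 10, 8],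
  [9, 6, 7, 10, 0, 2, 2],
  [10, 0, 9, 9, 9, 5, 7],
  [5, 1, 10, 9, 8, 5, 0],
  [8, 2, 5, 8, 7, 10, 1],
  [1, 8, 9, 6, 8, 4, 10],
  [4, 0, 6, 8, 5, 8, 6],
  [8, 5, 4, 0, 6, 3, 6]]

end Cfsg.Agent.Helper98.J1
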