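import Cfsg.Agent.Helper98.J1Enc
import Cfsg.Agent.Helper98.J1Data1
import Cfsg.Agent.Helper98.J1Data2
import Cfsg.Agent.Helper98.J1Data3

/-!
# Boolean checks for the Schreier–Sims verification of `J1` (definitions and the `X` part)
-/

set_option autoImplicit false

namespace Cfsg.Agent.Helper98.J1

/-- evaluate a natural number first (forces the kernel to compute `v` once) -/
def withNat (v : ℕ) (f : ℕ → Bool) : Bool :=
  match v + 1 with
  | 0 => false
  | n + 1 => f n

theorem withNat_eq (v : ℕ) (f : ℕ → Bool) : withNat v f = f v := rfl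

/-- field `i` of width `w` of a packed table -/
def fld (T w i : ℕ) : ℕ := (T >>> (w * i)) &&& (1 <<< w - 1)

/-- code of the `i`-th transversal matrix of level 1 -/
def m1 (i : ℕ) : ℕ := fld mats1Big 196 i

/-- Schreier generator check at level 1 for the generator with code `s`, indices `lo ≤ i < lo + len` -/
def stepOK (s permT certT lo len : ℕ) : Bool :=
  (List.range' lo len).all fun i =>
    withNat (fld permT 12 i) fun j => withNat (fld certT 8 i) fun c =>
      decide (j < 3080) && decide (c < 57) &&
        withNat (m1 i) fun A => withNat (m1 j) fun B => withNat (mats2.getD c 0) fun h =>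
          eqProd s A B h

theorem stepOK_spec {s permT certT lo len : ℕ} (h : stepOK s permT certT lo len = true) (i : ℕ)
    (h1 : lo ≤ i) (h2 : i < lo + len) :
    fld permT 12 i < 3080 ∧ fld certT 8 i < 57 ∧
      toMat s * toMat (m1 i) = toMat (m1 (fld permT 12 i)) * toMat (mats2.getD (fld certT 8 i) 0) := by
  simp only [stepOK, List.all_eq_true, List.mem_range'_1, withNat_eq, Bool.and_eq_true,
    decide_eq_true_eq] at h
  obtain ⟨⟨h3, h4⟩, h5⟩ := h i ⟨h1, h2⟩
  exact ⟨h3, h4, eqProd_spec h5⟩

set_option maxRecDepth 1000000 in
set_option maxHeartbeats 0 in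
theorem stepX_0 : stepOK xCode permXBig certXBig 0 1540 = true := by decide +kernel

set_option maxRecDepth 1000000 in
set_option maxHeartbeats 0 in
theorem stepX_1 : stepOK xCode permXBig certXBig 1540 1540 = true := by decide +kernel

end Cfsg.Agent.Helper98.J1
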