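import Cfsg.Agent.Helper98.J1Reg
import Cfsg.Agent.Helper98.J1Data5

/-!
# Boolean checks for the simplicity of `J1`
-/

set_option autoImplicit false

namespace Cfsg.Agent.Helper98.J1

/-- check of a normal closure certificate: entry `k ≥ 1` is the product of two earlier entries
(tag `0`) or the conjugate of an earlier entry by `X` or `Y` (other tags) -/
def nslpOK (T : List ℕ) (P : List (ℕ × ℕ × ℕ)) : Bool :=
  (List.range' 1 (T.length - 1)).all fun k =>
    let ins := P.getD k (0, 0, 0)
    decide (ins.2.1 < k) &&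
      if ins.1 = 0 then
        decide (ins.2.2 < k) && eqMul (T.getD ins.2.1 0) (T.getD ins.2.2 0) (T.getD k 0)
      else
        eqProd (if ins.2.2 = 0 then xCode else yCode) (T.getD ins.2.1 0) (T.getD k 0)
          (if ins.2.2 = 0 then xCode else yCode)

theorem nslpOK_spec {T : List ℕ} {P : List (ℕ × ℕ × ℕ)} (h : nslpOK T P = true) (k : ℕ)
    (h1 : 1 ≤ k) (h2 : k < T.length) :
    (P.getD k (0, 0, 0)).2.1 < k ∧
      (((P.getD k (0, 0, 0)).2.2 < k ∧
          toMat (T.getD (P.getD k (0, 0, 0)).2.1 0) * toMat (T.getD (P.getD k (0, 0, 0)).2.2 0) =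
            toMat (T.getD k 0)) ∨
        toMat (if (P.getD k (0, 0, 0)).2.2 = 0 then xCode else yCode) *
            toMat (T.getD (P.getD k (0, 0, 0)).2.1 0) =
          toMat (T.getD k 0) * toMat (if (P.getD k (0, 0, 0)).2.2 = 0 then xCode else yCode)) := by
  simp only [nslpOK, List.all_eq_true, List.mem_range'_1, Bool.and_eq_true,
    decide_eq_true_eq] at h
  obtain ⟨h3, h4⟩ := h k ⟨h1, by omega⟩
  refine ⟨h3, ?_⟩
  by_cases h5 : (P.getD k (0, 0, 0)).1 = 0
  · rw [if_pos h5] at h4
    left
    simp only [Bool.and_eq_true, decide_eq_true_eq] at h4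
    exact ⟨h4.1, eqMul_spec h4.2⟩
  · rw [if_neg h5] at h4
    right
    exact eqProd_spec h4

set_option maxRecDepth 1000000 in
theorem slpS_ok : slpOK slpS slpSprog 2 = true := by decide +kernel

theorem slpS_facts : slpS.getD 0 0 = xCode ∧ slpS.getD 1 0 = yCode ∧ slpS.getD 3 0 = rrCode ∧
    slpS.getD 12 0 = tCode ∧ slpS.getD 22 0 = uCode ∧ slpS.getD 40 0 = vCode ∧
    slpS.getD 58 0 = qqCode ∧ slpS.length = 59 := by decide +kernel

set_option maxRecDepth 1000000 in
theorem regA_ok : regOK regAgens regApts regAmats regAperms regApar regApgen = true := by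
  decide +kernel

theorem regA_facts : regAgens = [aCode] ∧ regApts.length = 19 := by decide +kernel

set_option maxRecDepth 1000000 in
theorem regB_ok : regOK regBgens regBpts regBmats regBperms regBpar regBpgen = true := by
  decide +kernel

theorem regB_facts : regBgens = [bCode] ∧ regBpts.length = 3 := by decide +kernel

set_option maxRecDepth 1000000 in
theorem regY_ok : regOK regYgens regYpts regYmats regYperms regYpar regYpgen = true := by
  decide +kernel

theorem regY_facts : regYgens = [yCode] ∧ regYpts.length = 5 := by decide +kernel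

set_option maxRecDepth 1000000 in
theorem regX_ok : regOK regXgens regXpts regXmats regXperms regXpar regXpgen = true := by
  decide +kernel

theorem regX_facts : regXgens = [xCode] ∧ regXpts.length = 7 := by decide +kernel

set_option maxRecDepth 1000000 in
theorem regR_ok : regOK regRgens regRpts regRmats regRperms regRpar regRpgen = true := by
  decide +kernel

theorem regR_facts : regRgens = [rrCode] ∧ regRpts.length = 11 := by decide +kernel

set_option maxRecDepth 1000000 in
theorem regS_ok : regOK regSgens regSpts regSmats regSperms regSpar regSpgen = true := by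
  decide +kernel

theorem regS_facts : regSgens = [tCode, uCode, vCode] ∧ regSpts.length = 8 := by decide +kernel

set_option maxRecDepth 1000000 in
theorem nc_a_ok : nslpOK ncT_a ncP_a = true := by decide +kernel

theorem nc_a_facts : ncT_a.getD 0 0 = aCode ∧ ncT_a.getD 16 0 = xCode ∧ ncT_a.length = 17 := by
  decide +kernel

set_option maxRecDepth 1000000 in
theorem nc_b_ok : nslpOK ncT_b ncP_b = true := by decide +kernel

theorem nc_b_facts : ncT_b.getD 0 0 = bCode ∧ ncT_b.getD 21 0 = xCode ∧ ncT_b.length = 22 := by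
  decide +kernel

set_option maxRecDepth 1000000 in
theorem nc_y_ok : nslpOK ncT_y ncP_y = true := by decide +kernel

theorem nc_y_facts : ncT_y.getD 0 0 = yCode ∧ ncT_y.getD 14 0 = xCode ∧ ncT_y.length = 15 := by
  decide +kernel

set_option maxRecDepth 1000000 in
theorem nc_r_ok : nslpOK ncT_r ncP_r = true := by decide +kernel

theorem nc_r_facts : ncT_r.getD 0 0 = rrCode ∧ ncT_r.getD 18 0 = xCode ∧ ncT_r.length = 19 := by
  decide +kernel

set_option maxRecDepth 1000000 in
theorem nc_x_ok : nslpOK ncT_x ncP_x = true := by decide +kernel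

theorem nc_x_facts : ncT_x.getD 0 0 = xCode ∧ ncT_x.getD 18 0 = yCode ∧ ncT_x.length = 19 := by
  decide +kernel

set_option maxRecDepth 1000000 in
theorem nc_z1_ok : nslpOK ncT_z1 ncP_z1 = true := by decide +kernel

theorem nc_z1_facts : ncT_z1.getD 0 0 = regSmats.getD 1 0 ∧ ncT_z1.getD 22 0 = xCode ∧ ncT_z1.length = 23 := by
  decide +kernel

set_option maxRecDepth 1000000 in
theorem nc_z2_ok : nslpOK ncT_z2 ncP_z2 = true := by decide +kernel

theorem nc_z2_facts : ncT_z2.getD 0 0 = regSmats.getD 2 0 ∧ ncT_z2.getD 19 0 = xCode ∧ ncT_z2.length = 20 := by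
  decide +kernel

set_option maxRecDepth 1000000 in
theorem nc_z3_ok : nslpOK ncT_z3 ncP_z3 = true := by decide +kernel

theorem nc_z3_facts : ncT_z3.getD 0 0 = regSmats.getD 3 0 ∧ ncT_z3.getD 22 0 = xCode ∧ ncT_z3.length = 23 := by
  decide +kernel

set_option maxRecDepth 1000000 in
theorem nc_z4_ok : nslpOK ncT_z4 ncP_z4 = true := by decide +kernel

theorem nc_z4_facts : ncT_z4.getD 0 0 = regSmats.getD 4 0 ∧ ncT_z4.getD 10 0 = xCode ∧ ncT_z4.length = 11 := by
  decide +kernel

set_option maxRecDepth 1000000 in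
theorem nc_z5_ok : nslpOK ncT_z5 ncP_z5 = true := by decide +kernel

theorem nc_z5_facts : ncT_z5.getD 0 0 = regSmats.getD 5 0 ∧ ncT_z5.getD 18 0 = xCode ∧ ncT_z5.length = 19 := by
  decide +kernel

set_option maxRecDepth 1000000 in
theorem nc_z6_ok : nslpOK ncT_z6 ncP_z6 = true := by decide +kernel

theorem nc_z6_facts : ncT_z6.getD 0 0 = regSmats.getD 6 0 ∧ ncT_z6.getD 20 0 = xCode ∧ ncT_z6.length = 21 := by
  decide +kernel

set_option maxRecDepth 1000000 in
theorem nc_z7_ok : nslpOK ncT_z7 ncP_z7 = true := by decide +kernel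

theorem nc_z7_facts : ncT_z7.getD 0 0 = regSmats.getD 7 0 ∧ ncT_z7.getD 17 0 = xCode ∧ ncT_z7.length = 18 := by
  decide +kernel

end Cfsg.Agent.Helper98.J1
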