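import Cfsg.Agent.Helper98.J1Check4
import Cfsg.Agent.Helper98.J1Data6

/-!
# Boolean checks for the centralizer of an involution of `J1`
-/

set_option autoImplicit false

namespace Cfsg.Agent.Helper98.J1

theorem pe_lt (A B i j : ℕ) : pe A B i j < 11 := Nat.mod_lt _ (by norm_num)

theorem eqProd_spec_false {A B C D : ℕ} (h : eqProd A B C D = false) :
    toMat A * toMat B ≠ toMat C * toMat D := by
  intro e
  have h2 : eqProd A B C D = true := by
    simp only [eqProd, List.all_eq_true, List.mem_range, beq_iff_eq]
    intro i hi j hj
    have h3 := congrFun (congrFun e ⟨i, hi⟩) ⟨j, hj⟩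
    rw [toMat_mul_apply, toMat_mul_apply] at h3
    have h4 := (ZMod.natCast_eq_natCast_iff' _ _ _).1 h3
    rwa [Nat.mod_eq_of_lt (pe_lt _ _ _ _), Nat.mod_eq_of_lt (pe_lt _ _ _ _)] at h4
  rw [h] at h2
  exact Bool.false_ne_true h2

/-- code of the `i`-th transversal matrix for the class of `t` -/
def cm (i : ℕ) : ℕ := fld ccMatsBig 196 i

/-- coset step check for the generator with code `s`, indices `lo ≤ i < lo + len` -/
def centStepOK (s permT certT lo len : ℕ) : Bool :=
  (List.range' lo len).all fun i =>
    withNat (fld permT 12 i) fun j => withNat (fld certT 8 i) fun c =>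
      decide (j < 1463) && decide (c < 120) &&
        withNat (cm i) fun A => withNat (cm j) fun B => withNat (regCmats.getD c 0) fun h =>
          eqProd s A B h

theorem centStepOK_spec {s permT certT lo len : ℕ} (h : centStepOK s permT certT lo len = true)
    (i : ℕ) (h1 : lo ≤ i) (h2 : i < lo + len) :
    fld permT 12 i < 1463 ∧ fld certT 8 i < 120 ∧
      toMat s * toMat (cm i) =
        toMat (cm (fld permT 12 i)) * toMat (regCmats.getD (fld certT 8 i) 0) := by
  simp only [centStepOK, List.all_eq_true, List.mem_range'_1, withNat_eq, Bool.and_eq_true,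
    decide_eq_true_eq] at h
  obtain ⟨⟨h3, h4⟩, h5⟩ := h i ⟨h1, h2⟩
  exact ⟨h3, h4, eqProd_spec h5⟩

/-- tree check: matrix `i` is generator `pgen i` times matrix `par i`, `par i < i`; and matrix `i`
does not commute with `t` -/
def centTreeOK (lo len : ℕ) : Bool :=
  (List.range' lo len).all fun i =>
    withNat (fld ccParBig 12 i) fun p => withNat (fld ccPgenBig 4 i) fun g =>
      decide (p < i) && withNat (cm p) fun A => withNat (cm i) fun B =>
        eqMul (if g = 0 then xCode else yCode) A B && !(eqProd B tCode tCode B)

theorem centTreeOK_spec {lo len : ℕ} (h : centTreeOK lo len = true) (i : ℕ) (h1 : lo ≤ i)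
    (h2 : i < lo + len) :
    fld ccParBig 12 i < i ∧
      toMat (if fld ccPgenBig 4 i = 0 then xCode else yCode) * toMat (cm (fld ccParBig 12 i)) =
        toMat (cm i) ∧ toMat (cm i) * toMat tCode ≠ toMat tCode * toMat (cm i) := by
  simp only [centTreeOK, List.all_eq_true, List.mem_range'_1, withNat_eq, Bool.and_eq_true,
    decide_eq_true_eq, Bool.not_eq_true'] at h
  obtain ⟨h3, h4, h5⟩ := h i ⟨h1, h2⟩
  exact ⟨h3, eqMul_spec h4, eqProd_spec_false h5⟩

set_option maxRecDepth 1000000 in
set_option maxHeartbeats 0 in
theorem centX_ok : centStepOK xCode ccPermXBig ccCertXBig 0 1463 = true := by decide +kernel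

set_option maxRecDepth 1000000 in
set_option maxHeartbeats 0 in
theorem centY_ok : centStepOK yCode ccPermYBig ccCertYBig 0 1463 = true := by decide +kernel

set_option maxRecDepth 1000000 in
set_option maxHeartbeats 0 in
theorem centTree_ok : centTreeOK 1 1462 = true := by decide +kernel

set_option maxRecDepth 1000000 in
theorem cm_zero : cm 0 = idCode := by decide +kernel

set_option maxRecDepth 1000000 in
theorem regC_ok : regOK regCgens regCpts regCmats regCperms regCpar regCpgen = true := by
  decide +kernel

theorem regC_facts : regCgens = [tCode, xxCode, yyCode] ∧ regCpts.length = 120 := by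
  decide +kernel

/-- relations among `t`, `x`, `y` and their expression in terms of `u`, `q` -/
theorem rel_checks : (eqMul tCode tCode idCode && eqMul xxCode xxCode x2Code &&
    eqMul x2Code xxCode idCode && eqMul yyCode yyCode y2Code && eqMul y2Code y2Code y4Code &&
    eqMul y4Code yyCode idCode && eqMul xxCode yyCode xyCode && eqMul xyCode xyCode idCode &&
    eqProd xxCode tCode tCode xxCode && eqProd yyCode tCode tCode yyCode &&
    eqMul qqCode qqCode q2Code && eqMul uCode q2Code pq2Code && eqMul pq2Code uCode xxCode &&
    eqMul uCode qqCode yyCode && !(eqProd tCode idCode idCode idCode)) = true := by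
  decide +kernel

end Cfsg.Agent.Helper98.J1
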