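import Cfsg.Agent.Helper98.J1Check5
import Cfsg.Agent.Helper98.J1Data7

/-!
# Boolean checks for the automorphisms of `J1`
-/

set_option autoImplicit false

namespace Cfsg.Agent.Helper98.J1

open Matrix

/-- matrix-vector product as a list -/
def mvc (A : ℕ) (v : List ℕ) : List ℕ := (List.range 7).map (mve A v)

theorem mvc_length (A : ℕ) (v : List ℕ) : (mvc A v).length = 7 := by simp [mvc]

theorem mvc_getD (A : ℕ) (v : List ℕ) (i : ℕ) (hi : i < 7) : (mvc A v).getD i 0 = mve A v i := by
  rw [List.getD_eq_getElem _ _ (by rw [mvc_length]; exact hi)]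
  simp [mvc]

theorem mve_lt (A : ℕ) (v : List ℕ) (i : ℕ) : mve A v i < 11 := Nat.mod_lt _ (by norm_num)

theorem isRed_mvc (A : ℕ) (v : List ℕ) : isRed (mvc A v) = true := by
  simp only [isRed, Bool.and_eq_true, beq_iff_eq, List.all_eq_true, decide_eq_true_eq]
  refine ⟨mvc_length A v, ?_⟩
  intro x hx
  simp only [mvc, List.mem_map, List.mem_range] at hx
  obtain ⟨i, -, rfl⟩ := hx
  exact mve_lt A v i

theorem mvc_spec (A : ℕ) (v : List ℕ) : toVec (mvc A v) = (toMat A).mulVec (toVec v) := by
  have h : eqMulVec A v (mvc A v) = true := by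
    simp only [eqMulVec, List.all_eq_true, List.mem_range, beq_iff_eq]
    intro i hi
    rw [mvc_getD A v i hi, Nat.mod_eq_of_lt (mve_lt A v i)]
  exact (eqMulVec_spec h).symm

/-- evaluate a word in two matrices on a vector (`false` is the first matrix) -/
def evV (A B : ℕ) (w : List Bool) (v : List ℕ) : List ℕ :=
  w.foldr (fun l acc => mvc (if l then B else A) acc) v

theorem isRed_evV (A B : ℕ) (w : List Bool) (v : List ℕ) (hv : isRed v = true) :
    isRed (evV A B w v) = true := by
  cases w with
  | nil => exact hv
  | cons l w => exact isRed_mvc _ _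

/-- the `i`-th candidate image of `b` -/
def ob (i : ℕ) : ℕ := fld obBig 196 i

/-- the `k`-th basis vector -/
def eList (k : ℕ) : List ℕ := (List.range 7).map fun j => if j = k then 1 else 0

/-- candidate check -/
def candOK (lo len : ℕ) : Bool :=
  (List.range' lo len).all fun i =>
    withNat (cm i) fun Ui => withNat (ob i) fun Bi => withNat (fld okindBig 4 i) fun k =>
      eqProd Ui Bi obCode Ui &&
      (if k = 0 then withNat (fld oconjBig 8 i) fun c => decide (c < 120) &&
          withNat (regCmats.getD c 0) fun h => eqProd h obCode Bi h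
        else if k = 1 then evV tCode Bi orel1 ov0 != ov0
        else evV tCode Bi orel2 ov0 != ov0)

theorem candOK_spec {lo len : ℕ} (h : candOK lo len = true) (i : ℕ) (h1 : lo ≤ i)
    (h2 : i < lo + len) :
    toMat (cm i) * toMat (ob i) = toMat obCode * toMat (cm i) ∧
      ((fld oconjBig 8 i < 120 ∧ toMat (regCmats.getD (fld oconjBig 8 i) 0) * toMat obCode =
          toMat (ob i) * toMat (regCmats.getD (fld oconjBig 8 i) 0)) ∨
        evV tCode (ob i) orel1 ov0 ≠ ov0 ∨ evV tCode (ob i) orel2 ov0 ≠ ov0) := by
  simp only [candOK, List.all_eq_true, List.mem_range'_1, withNat_eq, Bool.and_eq_true] at h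
  obtain ⟨h3, h4⟩ := h i ⟨h1, h2⟩
  refine ⟨eqProd_spec h3, ?_⟩
  split_ifs at h4 with hk0 hk1
  · left
    simp only [Bool.and_eq_true, decide_eq_true_eq] at h4
    exact ⟨h4.1, eqProd_spec h4.2⟩
  · right; left
    simpa using h4
  · right; right
    simpa using h4

theorem candOK_add (lo l1 l2 : ℕ) :
    candOK lo (l1 + l2) = (candOK lo l1 && candOK (lo + l1) l2) := by
  rw [candOK, candOK, candOK, ← List.range'_append_1, List.all_append]

set_option maxRecDepth 1000000 in
set_option maxHeartbeats 0 in
theorem cand_ok_0 : candOK 0 244 = true := by decide +kernel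

set_option maxRecDepth 1000000 in
set_option maxHeartbeats 0 in
theorem cand_ok_1 : candOK 244 244 = true := by decide +kernel

set_option maxRecDepth 1000000 in
set_option maxHeartbeats 0 in
theorem cand_ok_2 : candOK 488 244 = true := by decide +kernel

set_option maxRecDepth 1000000 in
set_option maxHeartbeats 0 in
theorem cand_ok_3 : candOK 732 244 = true := by decide +kernel

set_option maxRecDepth 1000000 in
set_option maxHeartbeats 0 in
theorem cand_ok_4 : candOK 976 244 = true := by decide +kernel

set_option maxRecDepth 1000000 in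
set_option maxHeartbeats 0 in
theorem cand_ok_5 : candOK 1220 243 = true := by decide +kernel

theorem cand_ok : candOK 0 1463 = true := by
  have e : (1463 : ℕ) = 244 + (244 + (244 + (244 + (244 + 243)))) := by norm_num
  rw [e, candOK_add, candOK_add, candOK_add, candOK_add, candOK_add, cand_ok_0]
  simp only [Nat.zero_add, Nat.reduceAdd, Bool.true_and]
  rw [cand_ok_1, cand_ok_2, cand_ok_3, cand_ok_4, cand_ok_5]
  rfl

/-- the relators hold for `t`, `b` -/
def relOK : Bool :=
  (List.range 7).all fun k =>
    evV tCode obCode orel1 (eList k) == eList k && evV tCode obCode orel2 (eList k) == eList k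

set_option maxRecDepth 1000000 in
theorem rel_ok : relOK = true := by decide +kernel

/-- the involutions of the Sylow 2-subgroup are conjugate to `t` -/
def sylOK : Bool :=
  (List.range' 1 7).all fun c =>
    withNat (osyl.getD c 0) fun j => decide (j < 1463) &&
      eqProd (cm j) tCode (regSmats.getD c 0) (cm j)

theorem sylOK_spec (h : sylOK = true) (c : ℕ) (h1 : 1 ≤ c) (h2 : c < 8) :
    osyl.getD c 0 < 1463 ∧ toMat (cm (osyl.getD c 0)) * toMat tCode =
      toMat (regSmats.getD c 0) * toMat (cm (osyl.getD c 0)) := by
  simp only [sylOK, List.all_eq_true, List.mem_range'_1, withNat_eq, Bool.and_eq_true,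
    decide_eq_true_eq] at h
  obtain ⟨h3, h4⟩ := h c ⟨h1, by omega⟩
  exact ⟨h3, eqProd_spec h4⟩

set_option maxRecDepth 1000000 in
theorem syl_ok : sylOK = true := by decide +kernel

set_option maxRecDepth 1000000 in
theorem slpO_ok : slpOK slpO slpOprog 2 = true := by decide +kernel

set_option maxRecDepth 1000000 in
theorem slpO_facts : slpO.getD 0 0 = tCode ∧ slpO.getD 1 0 = obCode ∧ slpO.getD slpOx 0 = xCode ∧
    slpO.getD slpOy 0 = yCode ∧ slpOx < slpO.length ∧ slpOy < slpO.length := by decide +kernel

set_option maxRecDepth 1000000 in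
/-- facts about `b` and the element `n` inverting it -/
theorem ob_checks : (decide (obJ < 1463) && decide (obC < 120) && decide (onJ < 1463) &&
    decide (onC < 120) && eqMul (cm obJ) (regCmats.getD obC 0) obCode &&
    eqMul (cm onJ) (regCmats.getD onC 0) onCode && eqProd onCode obCode ob2Code onCode &&
    eqMul obCode obCode ob2Code && eqMul ob2Code obCode idCode &&
    !(eqProd obCode idCode idCode idCode) && isRed ov0) = true := by decide +kernel

end Cfsg.Agent.Helper98.J1
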