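import Cfsg.Agent.Helper98.J1Cent

/-!
# `J1` is covered by 1463 cosets of the centralizer of an involution (global version)
-/

set_option autoImplicit false

namespace Cfsg.Agent.Helper98.J1

open Cfsg Cfsg.Spor Matrix

/-- the involution `t` as an element of `GL(7, 11)` -/
noncomputable def tG : G7 := Classical.choose repS.2.1

theorem tG_mem : tG ∈ J1 := (Classical.choose_spec repS.2.1).1

theorem tG_coe : ((tG : G7) : Matrix (Fin 7) (Fin 7) (ZMod 11)) = toMat tCode :=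
  (Classical.choose_spec repS.2.1).2

/-- the centralizer of `t` in `J1`, as a subgroup of `GL(7, 11)` -/
noncomputable def CtG : Subgroup G7 := J1 ⊓ Subgroup.centralizer {tG}

theorem mem_CtG {g : G7} : g ∈ CtG ↔ g ∈ J1 ∧ g * tG = tG * g := by
  rw [CtG, Subgroup.mem_inf, Subgroup.mem_centralizer_iff]
  constructor
  · rintro ⟨h1, h2⟩
    exact ⟨h1, (h2 tG rfl).symm⟩
  · rintro ⟨h1, h2⟩
    refine ⟨h1, fun k hk => ?_⟩
    rw [Set.mem_singleton_iff] at hk
    subst hk
    exact h2.symm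

theorem CtG_le : CtG ≤ J1 := inf_le_left

theorem eq_of_coe_eq {g h : G7}
    (e : (g : Matrix (Fin 7) (Fin 7) (ZMod 11)) = (h : Matrix (Fin 7) (Fin 7) (ZMod 11))) :
    g = h := Units.ext e

/-- the 120 matrices of the table `regCmats` are represented in the centralizer of `t` -/
theorem rep_CtG : ∀ c < 120, Rep CtG (regCmats.getD c 0) := by
  obtain ⟨-, -, ⟨gu, hgu, eu⟩, -, ⟨gq, hgq, eq⟩⟩ := repS
  have hrel := rel_checks
  simp only [Bool.and_eq_true, Bool.not_eq_true'] at hrel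
  obtain ⟨⟨⟨⟨⟨⟨⟨⟨⟨⟨⟨⟨⟨⟨r1, r2⟩, r3⟩, r4⟩, r5⟩, r6⟩, r7⟩, r8⟩, r9⟩, r10⟩, r11⟩, r12⟩, r13⟩, r14⟩, r15⟩ :=
    hrel
  have repu : Rep J1 uCode := ⟨gu, hgu, eu⟩
  have repq : Rep J1 qqCode := ⟨gq, hgq, eq⟩
  have repx : Rep J1 xxCode :=
    Rep.mul (Rep.mul repu (Rep.mul repq repq (eqMul_spec r11)) (eqMul_spec r12)) repu
      (eqMul_spec r13)
  have repy : Rep J1 yyCode := Rep.mul repu repq (eqMul_spec r14)
  obtain ⟨gx, hgx, ex⟩ := repx
  obtain ⟨gy, hgy, ey⟩ := repy
  have hxt : gx * tG = tG * gx := by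
    apply Units.ext
    rw [Units.val_mul, Units.val_mul, ex, tG_coe]
    exact eqProd_spec r9
  have hyt : gy * tG = tG * gy := by
    apply Units.ext
    rw [Units.val_mul, Units.val_mul, ey, tG_coe]
    exact eqProd_spec r10
  have hok : regOK [tCode, xxCode, yyCode] regCpts regCmats regCperms regCpar regCpgen = true := by
    rw [← regC_facts.1]; exact regC_ok
  let gs : ℕ → G7 := fun j => if j = 0 then tG else if j = 1 then gx else gy
  have hgsC : ∀ j, gs j ∈ CtG := by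
    intro j
    simp only [gs]
    split_ifs
    · exact mem_CtG.2 ⟨tG_mem, rfl⟩
    · exact mem_CtG.2 ⟨hgx, hxt⟩
    · exact mem_CtG.2 ⟨hgy, hyt⟩
  obtain ⟨-, -, hrep⟩ := reg_level hok (by rw [regC_facts.2]; norm_num) gs (by
    intro j hj
    have : j = 0 ∨ j = 1 ∨ j = 2 := by
      simp only [List.length_cons, List.length_nil] at hj
      omega
    rcases this with rfl | rfl | rfl
    · exact tG_coe
    · exact ex
    · exact ey)
  rw [regC_facts.2] at hrep
  have hle : Subgroup.closure {g : G7 | ∃ j < [tCode, xxCode, yyCode].length, g = gs j} ≤ CtG := by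
    rw [Subgroup.closure_le]
    rintro g ⟨j, -, rfl⟩
    exact hgsC j
  intro c hc
  exact Rep.mono hle (hrep c hc)

/-- the transversal of the centralizer of `t` -/
noncomputable def Ucm (i : Fin 1463) : G7 := Classical.choose (rep_cm i.val i.isLt)

theorem Ucm_mem (i : Fin 1463) : Ucm i ∈ J1 := (Classical.choose_spec (rep_cm i.val i.isLt)).1

theorem Ucm_coe (i : Fin 1463) :
    ((Ucm i : G7) : Matrix (Fin 7) (Fin 7) (ZMod 11)) = toMat (cm i.val) :=
  (Classical.choose_spec (rep_cm i.val i.isLt)).2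

theorem Ucm_zero : Ucm ⟨0, by norm_num⟩ = 1 := by
  apply Units.ext
  rw [Ucm_coe]
  show toMat (cm 0) = 1
  rw [cm_zero, toMat_idCode]

/-- every element of `J1` is `U_i * h` with `h` in the centralizer of `t` -/
theorem cover_CtG : ∀ g ∈ J1, ∃ i : Fin 1463, ∃ h ∈ CtG, g = Ucm i * h := by
  have hstep : ∀ s ∈ ({jankoX, jankoY} : Set G7), ∀ i, ∃ j, ∃ h ∈ CtG, s * Ucm i = Ucm j * h := by
    intro s hs i
    rw [Set.mem_insert_iff, Set.mem_singleton_iff] at hs
    rcases hs with rfl | rfl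
    · obtain ⟨h1, h2, h3⟩ := centStepOK_spec centX_ok i.val (Nat.zero_le _) (by
        rw [Nat.zero_add]; exact i.isLt)
      obtain ⟨hh, hhH, hhe⟩ := rep_CtG _ h2
      refine ⟨⟨_, h1⟩, hh, hhH, ?_⟩
      apply Units.ext
      rw [Units.val_mul, Units.val_mul, jankoX_coe, Ucm_coe, Ucm_coe, hhe]
      exact h3
    · obtain ⟨h1, h2, h3⟩ := centStepOK_spec centY_ok i.val (Nat.zero_le _) (by
        rw [Nat.zero_add]; exact i.isLt)
      obtain ⟨hh, hhH, hhe⟩ := rep_CtG _ h2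
      refine ⟨⟨_, h1⟩, hh, hhH, ?_⟩
      apply Units.ext
      rw [Units.val_mul, Units.val_mul, jankoY_coe, Ucm_coe, Ucm_coe, hhe]
      exact h3
  exact coset_cover {jankoX, jankoY} CtG Ucm ⟨0, by norm_num⟩ (by rw [Ucm_zero]; exact CtG.one_mem)
    hstep

end Cfsg.Agent.Helper98.J1
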