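import Mathlib
import Cfsg.Agent.Helper56.Schreier

/-!
# Packed `7 × 7` matrices over `ZMod 11` and a Schreier level in index form

Matrices are packed into one natural number (base 16 digits, entry `(i, j)` at digit `7 i + j`),
vectors are lists of naturals.  All checks are Boolean functions meant for kernel evaluation.
-/

set_option autoImplicit false

namespace Cfsg.Agent.Helper98.J1

open Matrix

/-- entry `(i, j)` of a packed matrix -/
def ent (A i j : ℕ) : ℕ := (A >>> (28 * i + 4 * j)) &&& 15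

/-- the matrix of a code -/
def toMat (A : ℕ) : Matrix (Fin 7) (Fin 7) (ZMod 11) := fun i j => ((ent A i j : ℕ) : ZMod 11)

/-- the vector of a list -/
def toVec (v : List ℕ) : Fin 7 → ZMod 11 := fun k => ((v.getD k 0 : ℕ) : ZMod 11)

/-- entry `(i, j)` of a product, reduced mod 11 -/
def pe (A B i j : ℕ) : ℕ :=
  (ent A i 0 * ent B 0 j + ent A i 1 * ent B 1 j + ent A i 2 * ent B 2 j + ent A i 3 * ent B 3 j
    + ent A i 4 * ent B 4 j + ent A i 5 * ent B 5 j + ent A i 6 * ent B 6 j) % 11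

/-- `A * B = C * D` as a Boolean check -/
def eqProd (A B C D : ℕ) : Bool :=
  (List.range 7).all fun i => (List.range 7).all fun j => pe A B i j == pe C D i j

theorem toMat_mul_apply (A B : ℕ) (i j : Fin 7) :
    (toMat A * toMat B) i j = ((pe A B i j : ℕ) : ZMod 11) := by
  simp only [Matrix.mul_apply, Fin.sum_univ_seven, toMat, pe, ZMod.natCast_mod]
  push_cast
  rfl

theorem eqProd_spec {A B C D : ℕ} (h : eqProd A B C D = true) :
    toMat A * toMat B = toMat C * toMat D := by
  ext i j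
  rw [toMat_mul_apply, toMat_mul_apply]
  simp only [eqProd, List.all_eq_true, List.mem_range, beq_iff_eq] at h
  rw [h i.val i.isLt j.val j.isLt]

/-- code of the identity matrix -/
def idCode : ℕ := 1 + 1 <<< 32 + 1 <<< 64 + 1 <<< 96 + 1 <<< 128 + 1 <<< 160 + 1 <<< 192

theorem toMat_idCode : toMat idCode = 1 := by
  ext i j
  have h : ∀ i j : Fin 7, ent idCode i j = if i = j then 1 else 0 := by decide
  simp only [toMat, h, Matrix.one_apply]
  split <;> simp

/-- `A * B = C` as a Boolean check -/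
def eqMul (A B C : ℕ) : Bool := eqProd A B C idCode

theorem eqMul_spec {A B C : ℕ} (h : eqMul A B C = true) : toMat A * toMat B = toMat C := by
  have := eqProd_spec h
  rwa [toMat_idCode, mul_one] at this

/-- entry `i` of a matrix-vector product, reduced mod 11 -/
def mve (A : ℕ) (v : List ℕ) (i : ℕ) : ℕ :=
  (ent A i 0 * v.getD 0 0 + ent A i 1 * v.getD 1 0 + ent A i 2 * v.getD 2 0 + ent A i 3 * v.getD 3 0
    + ent A i 4 * v.getD 4 0 + ent A i 5 * v.getD 5 0 + ent A i 6 * v.getD 6 0) % 11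

/-- `A *ᵥ v = w` as a Boolean check -/
def eqMulVec (A : ℕ) (v w : List ℕ) : Bool :=
  (List.range 7).all fun i => mve A v i == w.getD i 0 % 11

theorem eqMulVec_spec {A : ℕ} {v w : List ℕ} (h : eqMulVec A v w = true) :
    (toMat A).mulVec (toVec v) = toVec w := by
  ext i
  simp only [eqMulVec, List.all_eq_true, List.mem_range, beq_iff_eq] at h
  have hi := h i.val i.isLt
  have h2 : ((w.getD i.val 0 : ℕ) : ZMod 11) = ((w.getD i.val 0 % 11 : ℕ) : ZMod 11) := by
    rw [ZMod.natCast_mod]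
  simp only [Matrix.mulVec, dotProduct, Fin.sum_univ_seven, toMat, toVec]
  rw [h2, ← hi, mve, ZMod.natCast_mod]
  push_cast
  rfl

/-- reduced vectors -/
def isRed (v : List ℕ) : Bool := v.length == 7 && v.all fun x => x < 11

theorem toVec_inj {v w : List ℕ} (hv : isRed v = true) (hw : isRed w = true)
    (h : toVec v = toVec w) : v = w := by
  simp only [isRed, Bool.and_eq_true, beq_iff_eq, List.all_eq_true, decide_eq_true_eq] at hv hw
  apply List.ext_getElem (by rw [hv.1, hw.1])
  intro k hk1 hk2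
  have hk : k < 7 := by rw [← hv.1]; exact hk1
  have := congrFun h ⟨k, hk⟩
  simp only [toVec] at this
  rw [List.getD_eq_getElem _ _ hk1, List.getD_eq_getElem _ _ hk2] at this
  have h1 : v[k] < 11 := hv.2 _ (List.getElem_mem _)
  have h2 : w[k] < 11 := hw.2 _ (List.getElem_mem _)
  have := (ZMod.natCast_eq_natCast_iff' _ _ _).1 this
  rwa [Nat.mod_eq_of_lt h1, Nat.mod_eq_of_lt h2] at this

section Level

variable {M Ω : Type*} [Group M] [MulAction M Ω] [Finite M]

/-- One Schreier level in index form. -/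
theorem level_main (S : Set M) (H : Subgroup M) (n : ℕ) (pt : Fin n → Ω)
    (hinj : Function.Injective pt) (U : Fin n → M) (z : Fin n)
    (hUz : U z ∈ H) (hUpt : ∀ i, U i • pt z = pt i)
    (hUK : ∀ i, U i ∈ Subgroup.closure S) (hHK : H ≤ Subgroup.closure S)
    (hHfix : ∀ h ∈ H, h • pt z = pt z)
    (hstep : ∀ s ∈ S, ∀ i, ∃ j, ∃ h ∈ H, s * U i = U j * h) :
    Nat.card (Subgroup.closure S) = n * Nat.card H ∧
      Subgroup.closure S ⊓ MulAction.stabilizer M (pt z) = H ∧
      (∀ g ∈ Subgroup.closure S, ∃ i, ∃ h ∈ H, g = U i * h) := by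
  classical
  let u : Ω → M := fun δ => if h : ∃ i, pt i = δ then U (Classical.choose h) else 1
  have hu : ∀ i, u (pt i) = U i := by
    intro i
    have h : ∃ i', pt i' = pt i := ⟨i, rfl⟩
    simp only [u, dif_pos h]
    rw [hinj (Classical.choose_spec h)]
  have hfin : ∀ s ∈ S, IsOfFinOrder s := fun s _ => isOfFinOrder_of_finite s
  have hβ : pt z ∈ Set.range pt := ⟨z, rfl⟩
  have hu1 : u (pt z) ∈ H := by rw [hu]; exact hUz
  have hstep' : ∀ s ∈ S, ∀ δ ∈ Set.range pt, s • δ ∈ Set.range pt ∧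
      (u (s • δ))⁻¹ * s * u δ ∈ H := by
    rintro s hs _ ⟨i, rfl⟩
    obtain ⟨j, h, hh, e⟩ := hstep s hs i
    have e1 : s • pt i = pt j := by
      rw [← hUpt i, ← mul_smul, e, mul_smul, hHfix h hh, hUpt j]
    refine ⟨⟨j, e1.symm⟩, ?_⟩
    rw [e1, hu, hu, mul_assoc, e, ← mul_assoc, inv_mul_cancel, one_mul]
    exact hh
  have huK : ∀ δ ∈ Set.range pt, u δ ∈ Subgroup.closure S := by
    rintro _ ⟨i, rfl⟩
    rw [hu]; exact hUK i
  have huβ : ∀ δ ∈ Set.range pt, u δ • pt z = δ := by
    rintro _ ⟨i, rfl⟩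
    rw [hu]; exact hUpt i
  refine ⟨?_, ?_, ?_⟩
  · rw [Cfsg.Agent.Helper56.schreier_card S hfin H (pt z) (Set.range pt) u hβ hu1 hstep' hHfix hHK
      huK huβ]
    congr 1
    rw [Nat.card_range_of_injective hinj, Nat.card_eq_fintype_card, Fintype.card_fin]
  · exact Cfsg.Agent.Helper56.schreier_inf_stabilizer S hfin H (pt z) (Set.range pt) u hβ hu1 hstep'
      hHfix hHK
  · intro g hg
    obtain ⟨⟨i, hi⟩, h2⟩ :=
      Cfsg.Agent.Helper56.schreier_level S hfin H (pt z) (Set.range pt) u hβ hu1 hstep' hHfix g hg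
    refine ⟨i, (u (g • pt z))⁻¹ * g, h2, ?_⟩
    rw [← hi, hu]
    group

end Level

end Cfsg.Agent.Helper98.J1
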