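import Cfsg.Agent.Helper98.J1Cover
import Cfsg.Agent.Helper98.J1Check6

/-!
# Every automorphism of `J1` is inner
-/

set_option autoImplicit false

namespace Cfsg.Agent.Helper98.J1

open Cfsg Cfsg.Spor Matrix

/-- a `p`-element is conjugate into any `p`-subgroup of index prime to `p` -/
theorem exists_conj_mem_of_isPGroup {G : Type*} [Group G] [Finite G] {p : ℕ} [Fact p.Prime]
    (P : Subgroup G) (hP1 : IsPGroup p P) (hP2 : ¬ p ∣ P.index) (z : G) (k : ℕ)
    (hz : orderOf z = p ^ k) : ∃ g : G, g * z * g⁻¹ ∈ P := by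
  have hZ : IsPGroup p (Subgroup.zpowers z) :=
    IsPGroup.of_card (n := k) (by rw [Nat.card_zpowers, hz])
  obtain ⟨Q, hQ⟩ := hZ.exists_le_sylow
  obtain ⟨g, hg⟩ := MulAction.exists_smul_eq G Q (hP1.toSylow hP2)
  refine ⟨g, ?_⟩
  have hzQ : z ∈ Q := hQ (Subgroup.mem_zpowers z)
  have h1 : g * z * g⁻¹ ∈ ((g • Q : Sylow p G) : Subgroup G) := by
    rw [Sylow.coe_subgroup_smul]
    have := Subgroup.smul_mem_pointwise_smul z (MulAut.conj g) (Q : Subgroup G) hzQ
    rwa [MulAut.smul_def, MulAut.conj_apply] at this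
  rw [hg] at h1
  exact (IsPGroup.mem_toSylow hP1 hP2).1 h1

/-! ### words -/

/-- evaluate a word in two elements of a monoid (`false` is the first element) -/
def ev {M : Type*} [Monoid M] (x y : M) (w : List Bool) : M :=
  (w.map fun l => if l then y else x).prod

theorem ev_nil {M : Type*} [Monoid M] (x y : M) : ev x y [] = 1 := rfl

theorem ev_cons {M : Type*} [Monoid M] (x y : M) (l : Bool) (w : List Bool) :
    ev x y (l :: w) = (if l then y else x) * ev x y w := by
  simp [ev]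

theorem map_ev {M N : Type*} [Monoid M] [Monoid N] (f : M →* N) (x y : M) (w : List Bool) :
    f (ev x y w) = ev (f x) (f y) w := by
  induction w with
  | nil => simp [ev]
  | cons l w ih =>
    rw [ev_cons, ev_cons, map_mul, ih]
    cases l <;> rfl

theorem evV_spec {A B : ℕ} {gA gB : G7}
    (hA : (gA : Matrix (Fin 7) (Fin 7) (ZMod 11)) = toMat A)
    (hB : (gB : Matrix (Fin 7) (Fin 7) (ZMod 11)) = toMat B) (w : List Bool) (v : List ℕ) :
    toVec (evV A B w v) = (ev gA gB w) • toVec v := by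
  induction w with
  | nil => simp [evV, ev]
  | cons l w ih =>
    rw [ev_cons, mul_smul, ← ih]
    show toVec (mvc (if l then B else A) (evV A B w v)) = _
    rw [mvc_spec, smul_eq]
    cases l
    · simp [hA]
    · simp [hB]

theorem toVec_eList : ∀ k j : Fin 7, toVec (eList k.val) j = if j = k then 1 else 0 := by
  decide +kernel

theorem mulVec_basis (M : Matrix (Fin 7) (Fin 7) (ZMod 11)) (k i : Fin 7) :
    M.mulVec (toVec (eList k.val)) i = M i k := by
  simp only [Matrix.mulVec, dotProduct, toVec_eList, mul_ite, mul_one, mul_zero,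
    Finset.sum_ite_eq', Finset.mem_univ, if_true]

theorem eq_one_of_fix_basis (g : G7)
    (h : ∀ k : Fin 7, g • toVec (eList k.val) = toVec (eList k.val)) : g = 1 := by
  apply Units.ext
  ext i k
  have h1 := congrFun (h k) i
  rw [smul_eq, mulVec_basis, toVec_eList] at h1
  rw [h1]
  show _ = (1 : Matrix (Fin 7) (Fin 7) (ZMod 11)) i k
  rw [Matrix.one_apply]

/-! ### the generators `t` and `b` -/

theorem ob_facts : obJ < 1463 ∧ obC < 120 ∧ onJ < 1463 ∧ onC < 120 ∧
    toMat (cm obJ) * toMat (regCmats.getD obC 0) = toMat obCode ∧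
    toMat (cm onJ) * toMat (regCmats.getD onC 0) = toMat onCode ∧
    toMat onCode * toMat obCode = toMat ob2Code * toMat onCode ∧
    toMat obCode * toMat obCode = toMat ob2Code ∧ toMat ob2Code * toMat obCode = toMat idCode ∧
    toMat obCode * toMat idCode ≠ toMat idCode * toMat idCode ∧ isRed ov0 = true := by
  have h := ob_checks
  simp only [Bool.and_eq_true, Bool.not_eq_true', decide_eq_true_eq] at h
  obtain ⟨⟨⟨⟨⟨⟨⟨⟨⟨⟨h1, h2⟩, h3⟩, h4⟩, h5⟩, h6⟩, h7⟩, h8⟩, h9⟩, h10⟩, h11⟩ := h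
  exact ⟨h1, h2, h3, h4, eqMul_spec h5, eqMul_spec h6, eqProd_spec h7, eqMul_spec h8,
    eqMul_spec h9, eqProd_spec_false h10, h11⟩

theorem rep_ob : Rep J1 obCode := by
  obtain ⟨h1, h2, -, -, h5, -⟩ := ob_facts
  exact Rep.mul (rep_cm obJ h1) (Rep.mono CtG_le (rep_CtG obC h2)) h5

theorem rep_on : Rep J1 onCode := by
  obtain ⟨-, -, h3, h4, -, h6, -⟩ := ob_facts
  exact Rep.mul (rep_cm onJ h3) (Rep.mono CtG_le (rep_CtG onC h4)) h6

/-- the element `b` of order 3 -/
noncomputable def bG : G7 := Classical.choose rep_ob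

theorem bG_mem : bG ∈ J1 := (Classical.choose_spec rep_ob).1

theorem bG_coe : ((bG : G7) : Matrix (Fin 7) (Fin 7) (ZMod 11)) = toMat obCode :=
  (Classical.choose_spec rep_ob).2

/-- `t` as an element of `J1` -/
noncomputable def aJ : ↥J1 := ⟨tG, tG_mem⟩

/-- `b` as an element of `J1` -/
noncomputable def bJ : ↥J1 := ⟨bG, bG_mem⟩

theorem orderOf_tG : orderOf tG = 2 := by
  have hrel := rel_checks
  simp only [Bool.and_eq_true, Bool.not_eq_true'] at hrel
  obtain ⟨⟨⟨⟨⟨⟨⟨⟨⟨⟨⟨⟨⟨⟨r1, -⟩, -⟩, -⟩, -⟩, -⟩, -⟩, -⟩, -⟩, -⟩, -⟩, -⟩, -⟩, -⟩, r15⟩ := hrel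
  have htt : tG * tG = 1 := mul_eq_of_eqMul tG_coe tG_coe one_coe_idCode r1
  have ht1 : tG ≠ 1 := by
    intro h
    apply eqProd_spec_false r15
    rw [← tG_coe, h, toMat_idCode]
    rfl
  exact orderOf_eq_prime (by rw [pow_two]; exact htt) ht1

theorem orderOf_bG : orderOf bG = 3 := by
  obtain ⟨-, -, -, -, -, -, -, h8, h9, h10, -⟩ := ob_facts
  have hb3 : bG ^ 3 = 1 := by
    apply Units.ext
    rw [pow_succ, pow_two, Units.val_mul, Units.val_mul, bG_coe, h8, h9, toMat_idCode]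
    rfl
  have hb1 : bG ≠ 1 := by
    intro h
    apply h10
    rw [← bG_coe, h, toMat_idCode]
    rfl
  haveI : Fact (Nat.Prime 3) := ⟨Nat.prime_three⟩
  exact orderOf_eq_prime hb3 hb1

theorem orderOf_aJ : orderOf aJ = 2 := by
  rw [aJ, Subgroup.orderOf_mk]; exact orderOf_tG

theorem orderOf_bJ : orderOf bJ = 3 := by
  rw [bJ, Subgroup.orderOf_mk]; exact orderOf_bG

/-- `t` and `b` generate `J1` -/
theorem closure_tb : Subgroup.closure ({tG, bG} : Set G7) = J1 := by
  apply le_antisymm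
  · rw [Subgroup.closure_le]
    intro g hg
    rw [Set.mem_insert_iff, Set.mem_singleton_iff] at hg
    rcases hg with rfl | rfl
    · exact tG_mem
    · exact bG_mem
  · show Subgroup.closure {jankoX, jankoY} ≤ _
    rw [Subgroup.closure_le]
    obtain ⟨f0, f1, fx, fy, lx, ly⟩ := slpO_facts
    have h := rep_of_slp (K := Subgroup.closure ({tG, bG} : Set G7)) slpO_ok (by
      intro k hk
      have : k = 0 ∨ k = 1 := by omega
      rcases this with rfl | rfl
      · rw [f0]; exact ⟨tG, Subgroup.subset_closure (by simp), tG_coe⟩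
      · rw [f1]; exact ⟨bG, Subgroup.subset_closure (by simp), bG_coe⟩)
    intro g hg
    rw [Set.mem_insert_iff, Set.mem_singleton_iff] at hg
    rcases hg with rfl | rfl
    · obtain ⟨g', hg', e⟩ := h slpOx lx
      rw [fx] at e
      have : g' = jankoX := Units.ext (e.trans jankoX_coe.symm)
      rw [← this]; exact hg'
    · obtain ⟨g', hg', e⟩ := h slpOy ly
      rw [fy] at e
      have : g' = jankoY := Units.ext (e.trans jankoY_coe.symm)
      rw [← this]; exact hg'

/-- an automorphism fixing `t` and `b` is trivial -/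
theorem aut_eq_one (α : MulAut ↥J1) (ha : α aJ = aJ) (hb : α bJ = bJ) : α = 1 := by
  have key : ∀ g (hg : g ∈ Subgroup.closure ({tG, bG} : Set G7)),
      α ⟨g, closure_tb.le hg⟩ = ⟨g, closure_tb.le hg⟩ := by
    intro g hg
    induction hg using Subgroup.closure_induction with
    | mem x hx =>
      rw [Set.mem_insert_iff, Set.mem_singleton_iff] at hx
      rcases hx with rfl | rfl
      · exact ha
      · exact hb
    | one => exact map_one α
    | mul x y hx hy ihx ihy =>
      have : (⟨x * y, closure_tb.le (Subgroup.mul_mem _ hx hy)⟩ : ↥J1) =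
          ⟨x, closure_tb.le hx⟩ * ⟨y, closure_tb.le hy⟩ := rfl
      rw [this, map_mul, ihx, ihy]
    | inv x hx ih =>
      have : (⟨x⁻¹, closure_tb.le (Subgroup.inv_mem _ hx)⟩ : ↥J1) = (⟨x, closure_tb.le hx⟩)⁻¹ := rfl
      rw [this, map_inv, ih]
  apply MulEquiv.ext
  rintro ⟨g, hg⟩
  rw [MulAut.one_apply]
  exact key g (closure_tb.ge hg)

/-! ### reduction steps -/

/-- after an inner automorphism, `t` is fixed -/
theorem exists_fix_a (α : MulAut ↥J1) : ∃ g : ↥J1, (MulAut.conj g * α) aJ = aJ := by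
  obtain ⟨-, -, ⟨gu, hgu, eu⟩, ⟨gv, hgv, ev'⟩, -⟩ := repS
  have hok : regOK [tCode, uCode, vCode] regSpts regSmats regSperms regSpar regSpgen = true := by
    rw [← regS_facts.1]; exact regS_ok
  let gs : ℕ → G7 := fun j => if j = 0 then tG else if j = 1 then gu else gv
  have hgsK : ∀ j, gs j ∈ J1 := by
    intro j
    simp only [gs]
    split_ifs
    · exact tG_mem
    · exact hgu
    · exact hgv
  obtain ⟨hcard, helts, -⟩ := reg_level hok (by rw [regS_facts.2]; norm_num) gs (by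
    intro j hj
    have : j = 0 ∨ j = 1 ∨ j = 2 := by
      simp only [List.length_cons, List.length_nil] at hj
      omega
    rcases this with rfl | rfl | rfl
    · exact tG_coe
    · exact eu
    · exact ev')
  set S := Subgroup.closure {g : G7 | ∃ j < [tCode, uCode, vCode].length, g = gs j} with hS
  have hSK : S ≤ J1 := by
    rw [hS, Subgroup.closure_le]
    rintro g ⟨j, -, rfl⟩
    exact hgsK j
  have hm0 : regSmats.getD 0 0 = idCode := (regOK_spec hok).1
  have hcardP : Nat.card (S.subgroupOf J1) = 8 := by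
    rw [Nat.card_congr (Subgroup.subgroupOfEquivOfLe hSK).toEquiv, hcard, regS_facts.2]
  haveI : Fact (Nat.Prime 2) := ⟨Nat.prime_two⟩
  have hP1 : IsPGroup 2 (S.subgroupOf J1) := IsPGroup.of_card (n := 3) (by rw [hcardP]; norm_num)
  have hP2 : ¬ 2 ∣ (S.subgroupOf J1).index := by
    intro hdvd
    have := Subgroup.card_mul_index (S.subgroupOf J1)
    rw [hcardP, card_J1] at this
    omega
  have hz : orderOf (α aJ) = 2 ^ 1 := by rw [MulEquiv.orderOf_eq, orderOf_aJ]; norm_num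
  obtain ⟨g, hg⟩ := exists_conj_mem_of_isPGroup (S.subgroupOf J1) hP1 hP2 (α aJ) 1 hz
  rw [Subgroup.mem_subgroupOf] at hg
  obtain ⟨c, hc, e⟩ := helts _ hg
  rw [regS_facts.2] at hc
  have hc0 : c ≠ 0 := by
    rintro rfl
    have h1 : g * α aJ * g⁻¹ = 1 := by
      apply Subtype.ext
      apply Units.ext
      rw [e, hm0, toMat_idCode]
      rfl
    have h2 : α aJ = 1 := by
      calc α aJ = g⁻¹ * (g * α aJ * g⁻¹) * g := by group
        _ = 1 := by rw [h1]; group
    have h3 : aJ = 1 := by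
      apply α.injective
      rw [h2, map_one]
    have := orderOf_aJ
    rw [h3, orderOf_one] at this
    omega
  obtain ⟨hj, hprod⟩ := sylOK_spec syl_ok c (by omega) hc
  let Uj : ↥J1 := ⟨Ucm ⟨_, hj⟩, Ucm_mem _⟩
  have hU : Uj * aJ = (g * α aJ * g⁻¹) * Uj := by
    apply Subtype.ext
    apply Units.ext
    show ((Ucm ⟨_, hj⟩ * tG : G7) : Matrix (Fin 7) (Fin 7) (ZMod 11)) =
      ((((g * α aJ * g⁻¹ : ↥J1) : G7) * Ucm ⟨_, hj⟩ : G7) : Matrix (Fin 7) (Fin 7) (ZMod 11))
    rw [Units.val_mul, Units.val_mul, Ucm_coe, tG_coe, e]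
    exact hprod
  refine ⟨Uj⁻¹ * g, ?_⟩
  rw [MulAut.mul_apply, MulAut.conj_apply]
  calc Uj⁻¹ * g * α aJ * (Uj⁻¹ * g)⁻¹ = Uj⁻¹ * ((g * α aJ * g⁻¹) * Uj) := by group
    _ = Uj⁻¹ * (Uj * aJ) := by rw [hU]
    _ = aJ := by group

/-- after an inner automorphism by an element of the centralizer of `t`, the image of `b` is one of
the 1463 candidates `U_i⁻¹ b U_i` -/
theorem exists_reduce_b (α : MulAut ↥J1) (ha : α aJ = aJ) :
    ∃ h : ↥J1, ∃ i : Fin 1463, (MulAut.conj h * α) aJ = aJ ∧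
      Ucm i * (((MulAut.conj h * α) bJ : ↥J1) : G7) = bG * Ucm i := by
  haveI : Fact (Nat.Prime 3) := ⟨Nat.prime_three⟩
  have hcardP : Nat.card (Subgroup.zpowers bJ) = 3 := by rw [Nat.card_zpowers, orderOf_bJ]
  have hP1 : IsPGroup 3 (Subgroup.zpowers bJ) :=
    IsPGroup.of_card (n := 1) (by rw [hcardP]; norm_num)
  have hP2 : ¬ 3 ∣ (Subgroup.zpowers bJ).index := by
    intro hdvd
    have := Subgroup.card_mul_index (Subgroup.zpowers bJ)
    rw [hcardP, card_J1] at this
    omega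
  have hz : orderOf (α bJ) = 3 ^ 1 := by rw [MulEquiv.orderOf_eq, orderOf_bJ]; norm_num
  obtain ⟨g, hg⟩ := exists_conj_mem_of_isPGroup _ hP1 hP2 (α bJ) 1 hz
  have hg' : ∃ g' : ↥J1, g' * α bJ * g'⁻¹ = bJ := by
    rw [← mem_powers_iff_mem_zpowers, Submonoid.mem_powers_iff] at hg
    obtain ⟨n, hn⟩ := hg
    rw [← pow_mod_orderOf, orderOf_bJ] at hn
    have h3 : n % 3 < 3 := Nat.mod_lt _ (by norm_num)
    have hcases : n % 3 = 0 ∨ n % 3 = 1 ∨ n % 3 = 2 := by omega
    rcases hcases with hk | hk | hk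
    · exfalso
      rw [hk, pow_zero] at hn
      have h2 : α bJ = 1 := by
        calc α bJ = g⁻¹ * (g * α bJ * g⁻¹) * g := by group
          _ = 1 := by rw [← hn]; group
      have h4 : bJ = 1 := by
        apply α.injective
        rw [h2, map_one]
      have := orderOf_bJ
      rw [h4, orderOf_one] at this
      omega
    · exact ⟨g, by rw [← hn, hk, pow_one]⟩
    · rw [hk] at hn
      obtain ⟨gn, hgn, en⟩ := rep_on
      obtain ⟨-, -, -, -, -, -, h7, h8, -⟩ := ob_facts
      have hnb : gn * bG = bG ^ 2 * gn := by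
        apply Units.ext
        rw [pow_two, Units.val_mul, Units.val_mul, Units.val_mul, en, bG_coe, h8]
        exact h7
      let nJ : ↥J1 := ⟨gn, hgn⟩
      have hnJ : nJ * bJ = bJ ^ 2 * nJ := Subtype.ext hnb
      refine ⟨nJ⁻¹ * g, ?_⟩
      calc nJ⁻¹ * g * α bJ * (nJ⁻¹ * g)⁻¹ = nJ⁻¹ * (g * α bJ * g⁻¹) * nJ := by group
        _ = nJ⁻¹ * (bJ ^ 2 * nJ) := by rw [← hn, mul_assoc]
        _ = nJ⁻¹ * (nJ * bJ) := by rw [hnJ]
        _ = bJ := by group
  obtain ⟨g', hg'⟩ := hg'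
  obtain ⟨i, h, hh, e⟩ := cover_CtG (g' : G7) g'.2
  obtain ⟨hhJ, hcomm⟩ := mem_CtG.1 hh
  refine ⟨⟨h, hhJ⟩, i, ?_, ?_⟩
  · rw [MulAut.mul_apply, ha, MulAut.conj_apply]
    apply Subtype.ext
    show h * tG * h⁻¹ = tG
    rw [hcomm]; group
  · rw [MulAut.mul_apply, MulAut.conj_apply]
    show Ucm i * (h * ((α bJ : ↥J1) : G7) * h⁻¹) = bG * Ucm i
    have h5 : (g' : G7) * ((α bJ : ↥J1) : G7) * (g' : G7)⁻¹ = bG := congrArg Subtype.val hg'
    rw [e] at h5
    calc Ucm i * (h * ((α bJ : ↥J1) : G7) * h⁻¹)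
        = ((Ucm i * h) * ((α bJ : ↥J1) : G7) * (Ucm i * h)⁻¹) * Ucm i := by group
      _ = bG * Ucm i := by rw [h5]

/-- the two relators hold for `t`, `b` -/
theorem rel_holds : ev tG bG orel1 = 1 ∧ ev tG bG orel2 = 1 := by
  have h := rel_ok
  simp only [relOK, List.all_eq_true, List.mem_range, Bool.and_eq_true, beq_iff_eq] at h
  constructor
  · apply eq_one_of_fix_basis
    intro k
    rw [← evV_spec tG_coe bG_coe, (h k.val k.isLt).1]
  · apply eq_one_of_fix_basis
    intro k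
    rw [← evV_spec tG_coe bG_coe, (h k.val k.isLt).2]

/-- each candidate is either conjugate to `b` under the centralizer of `t` or violates a relator -/
theorem exists_fix_b (α : MulAut ↥J1) (ha : α aJ = aJ) (i : Fin 1463)
    (hb : Ucm i * ((α bJ : ↥J1) : G7) = bG * Ucm i) :
    ∃ h : ↥J1, (MulAut.conj h * α) aJ = aJ ∧ (MulAut.conj h * α) bJ = bJ := by
  obtain ⟨E1, hcert⟩ := candOK_spec cand_ok i.val (Nat.zero_le _) (by
    rw [Nat.zero_add]; exact i.isLt)
  set z : G7 := ((α bJ : ↥J1) : G7) with hzdef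
  have hzcoe : (z : Matrix (Fin 7) (Fin 7) (ZMod 11)) = toMat (ob i.val) := by
    have h1 := congrArg Units.val hb
    rw [Units.val_mul, Units.val_mul, bG_coe, Ucm_coe, ← E1, ← Ucm_coe] at h1
    exact (Units.mul_right_inj (Ucm i)).1 h1
  have hfixes : ∀ w : List Bool, ev tG bG w = 1 → evV tCode (ob i.val) w ov0 = ov0 := by
    intro w hw
    have h1 : ev aJ bJ w = 1 := by
      apply Subtype.ext
      have := map_ev J1.subtype aJ bJ w
      exact this.trans hw
    have h2 : ev aJ (α bJ) w = 1 := by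
      have := map_ev α.toMonoidHom aJ bJ w
      rw [h1, map_one] at this
      have ha' : α.toMonoidHom aJ = aJ := ha
      rw [ha'] at this
      exact this.symm
    have h3 : ev tG z w = 1 := by
      have := map_ev J1.subtype aJ (α bJ) w
      rw [h2, map_one] at this
      exact this.symm
    have h4 := evV_spec tG_coe hzcoe w ov0
    rw [h3, one_smul] at h4
    have hred : isRed ov0 = true := ob_facts.2.2.2.2.2.2.2.2.2.2
    exact toVec_inj (isRed_evV _ _ _ _ hred) hred h4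
  rcases hcert with ⟨hc, hconj⟩ | hf | hf
  · obtain ⟨hc', hhC, hhe⟩ := rep_CtG _ hc
    have h3 : hc' * bG = z * hc' := by
      apply Units.ext
      rw [Units.val_mul, Units.val_mul, hhe, bG_coe, hzcoe]
      exact hconj
    obtain ⟨hJ1, hcomm⟩ := mem_CtG.1 hhC
    refine ⟨(⟨hc', hJ1⟩ : ↥J1)⁻¹, ?_, ?_⟩
    · rw [MulAut.mul_apply, ha, MulAut.conj_apply]
      apply Subtype.ext
      show hc'⁻¹ * tG * hc'⁻¹⁻¹ = tG
      rw [inv_inv, mul_assoc, ← hcomm]; group
    · rw [MulAut.mul_apply, MulAut.conj_apply]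
      apply Subtype.ext
      show hc'⁻¹ * z * hc'⁻¹⁻¹ = bG
      rw [inv_inv, mul_assoc, ← h3]; group
  · exact absurd (hfixes orel1 rel_holds.1) hf
  · exact absurd (hfixes orel2 rel_holds.2) hf

/-- every automorphism of `J1` is inner -/
theorem aut_inner (α : MulAut ↥J1) : ∃ g : ↥J1, MulAut.conj g = α := by
  obtain ⟨g1, h1⟩ := exists_fix_a α
  obtain ⟨g2, i, h2, h2'⟩ := exists_reduce_b _ h1
  obtain ⟨g3, h3, h3'⟩ := exists_fix_b _ h2 i h2'
  have h4 := aut_eq_one _ h3 h3'
  refine ⟨(g3 * g2 * g1)⁻¹, ?_⟩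
  rw [map_inv, map_mul, map_mul]
  symm
  apply eq_inv_of_mul_eq_one_right
  rw [mul_assoc, mul_assoc]
  exact h4

/-- the group of inner automorphisms of `J1` is the whole automorphism group -/
theorem conj_range_eq_top : (MulAut.conj : ↥J1 →* MulAut ↥J1).range = ⊤ := by
  rw [eq_top_iff]
  intro α _
  exact aut_inner α

end Cfsg.Agent.Helper98.J1
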