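import Cfsg.Agent.Helper98.J1Card

/-!
# Subgroups of `GL(7, 11)` with a regular orbit on vectors: a generic one-level verification
-/

set_option autoImplicit false

namespace Cfsg.Agent.Helper98.J1

open Matrix

/-- All checks for a group generated by the matrices `gens`, acting regularly on the orbit `pts`
of `pts[0]`, with transversal `mats`, images `perms[g][i]` and Schreier tree `par`, `pgen`. -/
def regOK (gens : List ℕ) (pts : List (List ℕ)) (mats : List ℕ) (perms : List (List ℕ))
    (par pgen : List ℕ) : Bool :=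
  (mats.getD 0 0 == idCode) && decide pts.Nodup &&
  (List.range pts.length).all fun i =>
    withNat (mats.getD i 0) fun A =>
      isRed (pts.getD i []) && eqMulVec A (pts.getD 0 []) (pts.getD i []) &&
      ((List.range gens.length).all fun g =>
        decide ((perms.getD g []).getD i 0 < pts.length) &&
          eqMul (gens.getD g 0) A (mats.getD ((perms.getD g []).getD i 0) 0)) &&
      (i == 0 || (decide (par.getD i 0 < i) && decide (pgen.getD i 0 < gens.length) &&
        eqMul (gens.getD (pgen.getD i 0) 0) (mats.getD (par.getD i 0) 0) A))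

theorem regOK_spec {gens : List ℕ} {pts : List (List ℕ)} {mats : List ℕ} {perms : List (List ℕ)}
    {par pgen : List ℕ} (h : regOK gens pts mats perms par pgen = true) :
    mats.getD 0 0 = idCode ∧ pts.Nodup ∧ ∀ i < pts.length,
      isRed (pts.getD i []) = true ∧
      (toMat (mats.getD i 0)).mulVec (toVec (pts.getD 0 [])) = toVec (pts.getD i []) ∧
      (∀ g < gens.length, (perms.getD g []).getD i 0 < pts.length ∧
        toMat (gens.getD g 0) * toMat (mats.getD i 0) =
          toMat (mats.getD ((perms.getD g []).getD i 0) 0)) ∧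
      (i ≠ 0 → par.getD i 0 < i ∧ pgen.getD i 0 < gens.length ∧
        toMat (gens.getD (pgen.getD i 0) 0) * toMat (mats.getD (par.getD i 0) 0) =
          toMat (mats.getD i 0)) := by
  simp only [regOK, Bool.and_eq_true, beq_iff_eq, decide_eq_true_eq, List.all_eq_true,
    List.mem_range, withNat_eq, Bool.or_eq_true] at h
  obtain ⟨⟨h1, h2⟩, h3⟩ := h
  refine ⟨h1, h2, fun i hi => ?_⟩
  obtain ⟨⟨⟨h4, h5⟩, h6⟩, h7⟩ := h3 i hi
  refine ⟨h4, eqMulVec_spec h5, fun g hg => ⟨(h6 g hg).1, eqMul_spec (h6 g hg).2⟩, fun hi0 => ?_⟩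
  rcases h7 with h7 | h7
  · exact absurd h7 hi0
  · exact ⟨h7.1.1, h7.1.2, eqMul_spec h7.2⟩

/-- The group generated by elements with matrices `toMat gens[j]` has order `pts.length`, and its
elements are the matrices of the table `mats`. -/
theorem reg_level {gens : List ℕ} {pts : List (List ℕ)} {mats : List ℕ} {perms : List (List ℕ)}
    {par pgen : List ℕ} (hok : regOK gens pts mats perms par pgen = true) (hn : 0 < pts.length)
    (gs : ℕ → G7)
    (hgs : ∀ j < gens.length, ((gs j : G7) : Matrix (Fin 7) (Fin 7) (ZMod 11)) =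
      toMat (gens.getD j 0)) :
    Nat.card (Subgroup.closure {g : G7 | ∃ j < gens.length, g = gs j}) = pts.length ∧
      (∀ g ∈ Subgroup.closure {g : G7 | ∃ j < gens.length, g = gs j}, ∃ c < pts.length,
        (g : Matrix (Fin 7) (Fin 7) (ZMod 11)) = toMat (mats.getD c 0)) ∧
      (∀ c < pts.length,
        Rep (Subgroup.closure {g : G7 | ∃ j < gens.length, g = gs j}) (mats.getD c 0)) := by
  obtain ⟨hm0, hnodup, hall⟩ := regOK_spec hok
  set n := pts.length with hndef
  set H := Subgroup.closure {g : G7 | ∃ j < gens.length, g = gs j} with hH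
  have hgsH : ∀ j < gens.length, gs j ∈ H := fun j hj => Subgroup.subset_closure ⟨j, hj, rfl⟩
  have rep2 : ∀ i < n, Rep H (mats.getD i 0) := by
    intro i
    induction i using Nat.strong_induction_on with
    | _ i ih =>
      intro hi
      rcases Nat.eq_zero_or_pos i with rfl | hpos
      · rw [hm0]; exact Rep.one H
      · obtain ⟨h3, h4, h5⟩ := (hall i hi).2.2.2 (by omega)
        exact Rep.mul ⟨gs _, hgsH _ h4, hgs _ h4⟩ (ih _ h3 (by omega)) h5
  let U : Fin n → G7 := fun i => Classical.choose (rep2 i.val i.isLt)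
  have hU : ∀ i : Fin n, U i ∈ H ∧
      ((U i : G7) : Matrix (Fin 7) (Fin 7) (ZMod 11)) = toMat (mats.getD i.val 0) :=
    fun i => Classical.choose_spec (rep2 i.val i.isLt)
  let pt : Fin n → (Fin 7 → ZMod 11) := fun i => toVec (pts.getD i.val [])
  have hinj : Function.Injective pt := by
    intro i j hij
    have h1 := toVec_inj (hall i.val i.isLt).1 (hall j.val j.isLt).1 hij
    exact Fin.ext (getD_inj_of_nodup hnodup [] i.isLt j.isLt h1)
  have hU0 : U ⟨0, hn⟩ = 1 := by
    apply Units.ext
    rw [(hU ⟨0, hn⟩).2]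
    show toMat (mats.getD 0 0) = 1
    rw [hm0, toMat_idCode]
  have main := level_main (M := G7) {g : G7 | ∃ j < gens.length, g = gs j} ⊥ n pt hinj U ⟨0, hn⟩
    (by rw [hU0]; exact Subgroup.one_mem _)
    (by
      intro i
      rw [smul_eq, (hU i).2]
      exact (hall i.val i.isLt).2.1)
    (fun i => (hU i).1) bot_le
    (by
      intro h hh
      rw [Subgroup.mem_bot] at hh
      rw [hh, one_smul])
    (by
      rintro s ⟨j, hj, rfl⟩ i
      obtain ⟨h3, h4⟩ := (hall i.val i.isLt).2.2.1 j hj
      refine ⟨⟨_, h3⟩, 1, Subgroup.one_mem _, ?_⟩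
      apply Units.ext
      rw [mul_one, Units.val_mul, hgs j hj, (hU i).2, (hU _).2]
      exact h4)
  obtain ⟨hcard, -, hfact⟩ := main
  refine ⟨?_, ?_, rep2⟩
  · rw [hcard, Subgroup.card_bot, mul_one]
  · intro g hg
    obtain ⟨i, h, hh, e⟩ := hfact g hg
    rw [Subgroup.mem_bot] at hh
    refine ⟨i.val, i.isLt, ?_⟩
    rw [e, hh, mul_one, (hU i).2]

end Cfsg.Agent.Helper98.J1
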