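import Cfsg.Agent.Helper98.J2Perm
import Cfsg.Agent.Helper98.J2Data1
import Cfsg.Agent.Helper98.J2Data2

/-!
Kernel-checked facts on the base and strong generating set of `J2Data2`.
-/

set_option autoImplicit false
set_option Elab.async false

namespace Cfsg.Agent.Helper98.J2

open Cfsg.Agent.Helper7.J2

theorem sCode_ok : ∀ (k : Fin 4) (j : Fin 315),
    ((g315fun k j : Fin 315) : ℕ) = look (sCode.getD k 0) j := by decide +kernel

theorem slp1_ok : slpOK slp1Tab slp1Prog 4 = true := by decide +kernel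

theorem slp1_head : ∀ k < 4, slp1Tab.getD k 0 = sCode.getD k 0 := by decide +kernel

theorem slp1_idx : ∀ j < 2, slp1Idx.getD j 0 < slp1Tab.length ∧
    slp1Tab.getD (slp1Idx.getD j 0) 0 = g1Code.getD j 0 := by decide +kernel

theorem slp2_ok : slpOK slp2Tab slp2Prog 2 = true := by decide +kernel

theorem slp2_head : ∀ k < 2, slp2Tab.getD k 0 = g1Code.getD k 0 := by decide +kernel

theorem slp2_idx : ∀ j < 2, slp2Idx.getD j 0 < slp2Tab.length ∧
    slp2Tab.getD (slp2Idx.getD j 0) 0 = g2Code.getD j 0 := by decide +kernel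

theorem trav0_ok : travOK sCode trT0 315 trPar0 trGen0 = true := by decide +kernel

theorem trav1_ok : travOK g1Code trT1 160 trPar1 trGen1 = true := by decide +kernel

theorem trav2_ok : travOK g2Code trT2 12 trPar2 trGen2 = true := by decide +kernel

theorem cert0_ok0 : certOK (sCode.getD 0 0) trT0 315 0 ct0a ct0b ct0c trT0 trT1 trT2 = true := by
  decide +kernel

theorem cert0_ok1 : certOK (sCode.getD 1 0) trT0 315 315 ct0a ct0b ct0c trT0 trT1 trT2 = true := by
  decide +kernel

theorem cert0_ok2 : certOK (sCode.getD 2 0) trT0 315 630 ct0a ct0b ct0c trT0 trT1 trT2 = true := by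
  decide +kernel

theorem cert0_ok3 : certOK (sCode.getD 3 0) trT0 315 945 ct0a ct0b ct0c trT0 trT1 trT2 = true := by
  decide +kernel

theorem cert1_ok0 : certOK (g1Code.getD 0 0) trT1 160 0 0 ct1b ct1c trT0 trT1 trT2 = true := by
  decide +kernel

theorem cert1_ok1 : certOK (g1Code.getD 1 0) trT1 160 160 0 ct1b ct1c trT0 trT1 trT2 = true := by
  decide +kernel

theorem cert2_ok0 : certOK (g2Code.getD 0 0) trT2 12 0 0 0 ct2c trT0 trT1 trT2 = true := by
  decide +kernel

theorem cert2_ok1 : certOK (g2Code.getD 1 0) trT2 12 12 0 0 ct2c trT0 trT1 trT2 = true := by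
  decide +kernel

theorem pts0_ok : ptsOK trT0 315 0 [] trPts0 trPos0 = true := by decide +kernel

theorem pts1_ok : ptsOK trT1 160 106 [0] trPts1 trPos1 = true := by decide +kernel

theorem pts2_ok : ptsOK trT2 12 29 [0, 106] trPts2 trPos2 = true := by decide +kernel

theorem gens_fix : (∀ j < 2, look (g1Code.getD j 0) 0 = 0) ∧
    (∀ j < 2, look (g2Code.getD j 0) 0 = 0 ∧ look (g2Code.getD j 0) 106 = 106) := by
  decide +kernel

end Cfsg.Agent.Helper98.J2
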