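import Cfsg.Agent.Helper98.J2Eq
import Cfsg.Agent.Helper98.J2Data3

/-!
Kernel-checked facts for the simplicity of the Hall–Janko group.
-/

set_option autoImplicit false
set_option Elab.async false

namespace Cfsg.Agent.Helper98.J2

theorem s0_fix : look (sCode.getD 0 0) 0 = 0 := by decide +kernel

theorem s0_comm : ∀ j < 2, baseEq [sCode.getD 0 0, g1Code.getD j 0]
    [g1Code.getD j 0, sCode.getD 0 0] = true := by decide +kernel

theorem conj_ok : baseEq [fld trT0 pw 4, sCode.getD 0 0] [sCode.getD 1 0, fld trT0 pw 4] = true ∧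
    baseEq [fld trT0 pw 7, sCode.getD 0 0] [sCode.getD 2 0, fld trT0 pw 7] = true ∧
    baseEq [fld trT0 pw 10, sCode.getD 0 0] [sCode.getD 3 0, fld trT0 pw 10] = true := by
  decide +kernel

theorem comm_ok : baseEq [g1Code.getD 0 0, fld trT2 pw 9]
    [sCode.getD 0 0, fld trT2 pw 9, g1Code.getD 0 0] = true := by decide +kernel

theorem pos0_ok : ∀ a < 315, trPos0.getD a 999 < 315 ∧
    trPts0.getD (trPos0.getD a 999) 999 = a := by decide +kernel

theorem oTree_ok : treeOK g1Code oPar oGen oDep
    (fun x => oRoot.getD (oCls.getD x 0) 315 == x) = true := by decide +kernel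

theorem oInv_ok : invarOK g1Code oCls = true := by decide +kernel

/-- the orbit of a point under the stabiliser of `0` -/
def clsF (x : Fin 315) : Fin 6 := ⟨oCls.getD x 0 % 6, Nat.mod_lt _ (by norm_num)⟩

theorem clsF_zero : ∀ x : Fin 315, clsF x = 0 → x = 0 := by decide +kernel

theorem oCls_lt : ∀ x < 315, oCls.getD x 0 < 6 := by decide +kernel

theorem oRoot_lt : ∀ c < 6, oRoot.getD c 315 < 315 := by decide +kernel

theorem block_arith : ∀ J : Fin 6 → Bool, J 0 = true →
    (Finset.univ.filter fun x : Fin 315 => J (clsF x) = true).card ∣ 315 →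
      (∀ c, c ≠ 0 → J c = false) ∨ (∀ c, J c = true) := by decide +kernel

theorem noncomm_ok : ∃ i < 315, look (sCode.getD 0 0) (look (sCode.getD 1 0) i) ≠
    look (sCode.getD 1 0) (look (sCode.getD 0 0) i) := by decide +kernel

end Cfsg.Agent.Helper98.J2
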