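import Cfsg.Agent.Helper98.J2Tab
import Cfsg.Agent.Helper98.J2Data4

/-!
# Kernel checks for the local analysis of the Hall–Janko group
-/

set_option autoImplicit false
set_option Elab.async false

namespace Cfsg.Agent.Helper98.J2

/-- the first generator is the element with index `aT` -/
def chkA : Bool := baseEq [sCode.getD 0 0] (triC aT) && wEq [aT, aT] [0] && wNe [aT] [0]

theorem chkA_ok : chkA = true := by decide +kernel

/-- the generators of the stabiliser as words in three involutions -/
def chkGc : Bool := (List.range 2).all fun j =>
  baseEq [g1Code.getD j 0] (triC (gcT.getD j 0)) && wEq [gcT.getD j 0] (gcW.getD j [])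

theorem chkGc_ok : chkGc = true := by decide +kernel

/-- the stabiliser centralises the first generator -/
def chkCent1 : Bool := allBelow 1920 fun t => wEq [t, aT] [aT, t]

theorem chkCent1_ok : chkCent1 = true := by decide +kernel

/-- the transversal elements do not commute with the first generator -/
def chkSep : Bool := (List.range 315).all fun i => i == 0 ||
  withNat (fld trT0 pw i) fun c => withNat (sepP.getD i 0) fun p => decide (p < 315) &&
    (look c (look (sCode.getD 0 0) p) != look (sCode.getD 0 0) (look c p))

theorem chkSep_ok : chkSep = true := by decide +kernel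

/-- three involutions of the stabiliser, each a commutator -/
def chkCs : Bool := (csT.length == 3) && (csT.all fun c => decide (c < 1920) && wEq [c, c] [0]) &&
  (List.range 3).all fun j => withNat (commCs.getD j (0, 0)).1 fun u =>
    withNat (commCs.getD j (0, 0)).2 fun v =>
      decide (u < 1920) && decide (v < 1920) && wEq [csT.getD j 0, v, u] [u, v]

theorem chkCs_ok : chkCs = true := by decide +kernel

theorem tblE_ok : tblOK genE tabE permE parE pgenE = true := by decide +kernel

theorem nodupE : tabE.Nodup := by decide +kernel

/-- first facts on the table of `E` -/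
def chkE1 : Bool := tabE.contains aT && (tabE.all fun t => decide (t < 1920)) && (tabE.length == 32) &&
  (genE.length == 5)

theorem chkE1_ok : chkE1 = true := by decide +kernel

/-- the three involutions normalise `E` -/
def chkNormE : Bool := (List.range 3).all fun j => (List.range 32).all fun i =>
  withNat ((normE.getD j []).getD i 0) fun k =>
    decide (k < 32) && wEq [csT.getD j 0, tabE.getD i 0] [tabE.getD k 0, csT.getD j 0]

theorem chkNormE_ok : chkNormE = true := by decide +kernel

/-- squares in `E` -/
def chkSqE : Bool := (List.range 32).all fun i => withNat (tabE.getD i 0) fun t =>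
  wEq [t, t] [0] || wEq [t, t] [aT]

theorem chkSqE_ok : chkSqE = true := by decide +kernel

/-- commutators in `E` -/
def chkCommE : Bool := (List.range 32).all fun i => (List.range 32).all fun j =>
  withNat (tabE.getD i 0) fun s => withNat (tabE.getD j 0) fun t =>
    wEq [s, t] [t, s] || wEq [s, t] [aT, t, s]

theorem chkCommE_ok : chkCommE = true := by decide +kernel

/-- the centre of `E` -/
def chkCenE : Bool := (List.range 32).all fun i => withNat (tabE.getD i 0) fun t =>
  t == 0 || t == aT || (List.range 5).any fun k => wNe [t, genE.getD k 0] [genE.getD k 0, t]

theorem chkCenE_ok : chkCenE = true := by decide +kernel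

theorem tblS_ok : tblOK genS tabS permS parS pgenS = true := by decide +kernel

theorem nodupS : tabS.Nodup := by decide +kernel

/-- first facts on the table of `S` -/
def chkS1 : Bool := (genE.all fun t => tabS.contains t) && (tabS.all fun t => decide (t < 1920)) &&
  (tabS.length == 128) && (genS.getD 0 1 == aT) && (genS.length == 7)

theorem chkS1_ok : chkS1 = true := by decide +kernel

/-- the centre of `S` -/
def chkZS : Bool := (List.range 128).all fun i => withNat (tabS.getD i 0) fun t =>
  t == 0 || t == aT || (List.range 7).any fun k => wNe [t, genS.getD k 0] [genS.getD k 0, t]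

theorem chkZS_ok : chkZS = true := by decide +kernel

/-- the centraliser of `E` in the stabiliser -/
def chkCE : Bool := allBelow 1920 fun t =>
  tabE.contains t || (List.range 5).any fun k => wNe [t, genE.getD k 0] [genE.getD k 0, t]

theorem chkCE_ok : chkCE = true := by decide +kernel

/-- the involutions of `S` -/
def chkInv : Bool := (List.range 128).all fun i => withNat (tabS.getD i 0) fun t =>
  withNat (hinvD.getD i (0, 0, 0, 0)).1 fun k =>
  withNat (hinvD.getD i (0, 0, 0, 0)).2.1 fun xT =>
  withNat (hinvD.getD i (0, 0, 0, 0)).2.2.1 fun yT =>
  withNat (hinvD.getD i (0, 0, 0, 0)).2.2.2 fun gT =>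
    (k == 0 && (t == 0 || wNe [t, t] [0])) || (k == 1 && wEq [gT, t] [aT, gT]) ||
    (k == 2 && tabS.contains xT && wEq [xT, t] [yT, xT] && wEq [gT, t, yT] [aT, gT])

theorem chkInv_ok : chkInv = true := by decide +kernel

/-- the generators of `S` are successively conjugate into the span of the earlier ones -/
def chkSeq : Bool := (List.range 7).all fun j => j == 0 ||
  withNat (seqD.getD j (0, [])).1 fun g =>
    ((seqD.getD j (0, [])).2.all fun i => decide (i < j)) &&
    wEq [genS.getD j 0, g] (g :: (seqD.getD j (0, [])).2.map fun i => genS.getD i 0)

theorem chkSeq_ok : chkSeq = true := by decide +kernel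

/-- two generators of `E` do not commute; the words of `gcW` are in the three involutions -/
def chkNc : Bool := wNe [genE.getD 1 0, genE.getD 3 0] [genE.getD 3 0, genE.getD 1 0] &&
  gcW.all fun w => w.all fun t => csT.contains t

theorem chkNc_ok : chkNc = true := by decide +kernel

end Cfsg.Agent.Helper98.J2
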