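import Cfsg.Agent.Helper98.J2Check4
import Cfsg.Agent.Helper98.J2Data5

/-!
# Kernel checks for the automorphisms of the Hall–Janko group
-/

set_option autoImplicit false
set_option Elab.async false

namespace Cfsg.Agent.Helper98.J2

/-- the `k`-th power of the word with letters `pat` in the elements with indices `v` -/
def flatW (v pat : List ℕ) (k : ℕ) : List ℕ :=
  (List.replicate k (pat.map fun l => v.getD l 0)).flatten

/-- a test `(pat, k, e)`: the `k`-th power of the word is trivial (`e = true`) or not -/
def holdsT (v : List ℕ) (T : List ℕ × ℕ × Bool) : Bool :=
  if T.2.2 then wEq (flatW v T.1 T.2.1) [0] else wNe (flatW v T.1 T.2.1) [0]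

/-- the opposite of the test holds -/
def failsT (v : List ℕ) (T : List ℕ × ℕ × Bool) : Bool :=
  if T.2.2 then wNe (flatW v T.1 T.2.1) [0] else wEq (flatW v T.1 T.2.1) [0]

/-- the generators have the indices `sT` -/
def chkST : Bool := (List.range 4).all fun k => baseEq [sCode.getD k 0] (triC (sT.getD k 0)) &&
  decide (sT.getD k 0 < 604800)

theorem chkST_ok : chkST = true := by decide +kernel

/-- the class of the involution -/
def chkR : Bool := (rT.getD 0 1 == aT) && (rT.getD yI 0 == yT) && (rT.getD z2I 0 == z2T) &&
  (rT.getD z3I 0 == z3T) && decide (yI < 315) && decide (z2I < 315) && decide (z3I < 315) &&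
  wNe [yT] [aT] &&
  (List.range 315).all fun i => wEq [1920 * i, aT] [rT.getD i 0, 1920 * i]

theorem chkR_ok : chkR = true := by decide +kernel

/-- second generator: candidates and certificates -/
def chk2 : Bool := wEq (flatW [aT, yT] [0, 1] 3) [0] &&
  (List.range 315).all fun i => i == 0 || wNe (flatW [aT, rT.getD i 0] [0, 1] 3) [0] ||
    (decide (cert2.getD i 0 < 1920) && wEq [cert2.getD i 0, rT.getD i 0] [yT, cert2.getD i 0])

theorem chk2_ok : chk2 = true := by decide +kernel

/-- the stabiliser of the first two generators -/
def chkD : Bool := (List.range 12).all fun l => wEq [l, aT] [aT, l] && wEq [l, yT] [yT, l]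

theorem chkD_ok : chkD = true := by decide +kernel

/-- third generator: candidates and certificates -/
def chk3 : Bool := (List.range 315).all fun i => withNat (rT.getD i 0) fun r =>
  (tests3.any fun T => failsT [aT, yT, r] T) ||
    withNat (cert3.getD i 0) fun d => decide (d < 12) &&
      (wEq [d, r] [z2T, d] || wEq [d, r] [z2T', d])

theorem chk3_ok : chk3 = true := by decide +kernel

/-- fourth generator -/
def chk4 : Bool := (List.range 315).all fun j => withNat (rT.getD j 0) fun r =>
  (tests4.any fun T => failsT [aT, yT, z2T, r] T) || r == z3T

theorem chk4_ok : chk4 = true := by decide +kernel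

/-- fourth generator, second case -/
def chk4' : Bool := (List.range 315).all fun j => withNat (rT.getD j 0) fun r =>
  (tests4.any fun T => failsT [aT, yT, z2T', r] T) || r == z3T'

theorem chk4'_ok : chk4' = true := by decide +kernel

/-- the tests hold for the generators -/
def chkBase : Bool := (tests3.all fun T => holdsT [aT, yT, z2T] T) &&
  (tests4.all fun T => holdsT [aT, yT, z2T, z3T] T)

theorem chkBase_ok : chkBase = true := by decide +kernel

/-- the four involutions generate -/
def chkGen : Bool := (List.range 4).all fun k =>
  wEq [sT.getD k 0] ((genW.getD k []).map fun l => [aT, yT, z2T, z3T].getD l 0)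

theorem chkGen_ok : chkGen = true := by decide +kernel

/-- the outer involution: its table -/
def chkTau1 : Bool := (tauTab.length == 315) &&
  (List.range 315).all fun i => withNat (tauTab.getD i 0) fun j =>
    decide (j < 315) && (tauTab.getD j 0 == i) && (look tauCode i == j)

theorem chkTau1_ok : chkTau1 = true := by decide +kernel

/-- the outer involution normalises the group -/
def chkTau2 : Bool := (List.range 4).all fun k => decide (tauS.getD k 0 < 604800) &&
  (List.range 315).all fun p =>
    look tauCode (look (sCode.getD k 0) p) == evalL (triC (tauS.getD k 0)) (look tauCode p)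

theorem chkTau2_ok : chkTau2 = true := by decide +kernel

/-- the images of the four involutions under the outer involution -/
def chkTau3 : Bool := (List.range 4).all fun l =>
  withNat ([aT, yT, z2T, z3T].getD l 0) fun z => withNat ([aT, yT, z2T', z3T'].getD l 0) fun z' =>
    decide (z < 604800) && decide (z' < 604800) && (List.range 315).all fun p =>
      look tauCode (evalL (triC z) p) == evalL (triC z') (look tauCode p)

theorem chkTau3_ok : chkTau3 = true := by decide +kernel

/-- base points fixed, another point moved; the stabiliser of `0` fixes no other point; the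
first orbit is everything -/
def chkTau4 : Bool := (look tauCode 0 == 0) && (look tauCode 106 == 106) && (look tauCode 29 == 29) &&
  decide (tauMoved < 315) && (look tauCode tauMoved != tauMoved) &&
  ((List.range 315).all fun p => p == 0 || look (g1Code.getD 0 0) p != p ||
    look (g1Code.getD 1 0) p != p) &&
  ((List.range 315).all fun p => (List.range 315).any fun i => trPts0.getD i 999 == p)

theorem chkTau4_ok : chkTau4 = true := by decide +kernel

end Cfsg.Agent.Helper98.J2
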