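import Cfsg.Agent.Helper98.J2Tab
import Cfsg.Agent.Helper98.J2Data6

/-!
# Kernel checks for the subgroup of index 100 of the Hall–Janko group
-/

set_option autoImplicit false
set_option Elab.async false

namespace Cfsg.Agent.Helper98.J2

/-- the point `p` lies in the `k`-th subset -/
def inD (k p : ℕ) : Bool := (famT.getD k 0).testBit p

/-- the image of the `k`-th subset under the `j`-th generator -/
def actF (j k : ℕ) : ℕ := (actT.getD j []).getD k 0

/-- the relation between two subsets -/
def relF (k k' : ℕ) : ℕ := (relT.getD k 0 >>> (2 * k')) &&& 3

/-- the image of a point under the element with index `t` -/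
def evT (t p : ℕ) : ℕ := evalL (triC t) p

/-- the generators permute the subsets -/
def chkAct : Bool := (List.range 4).all fun j => (List.range 100).all fun k =>
  withNat (actF j k) fun k' => decide (k' < 100) && (actF j k' == k) &&
    (List.range 315).all fun p => !inD k p || inD k' (look (sCode.getD j 0) p)

theorem chkAct_ok : chkAct = true := by decide +kernel

/-- the spanning tree of the subsets -/
def chkTree : Bool := (List.range 100).all fun k => k == 0 ||
  (decide (parT.getD k 0 < k) && decide (pgenT.getD k 0 < 4) &&
    (actF (pgenT.getD k 0) (parT.getD k 0) == k))

theorem chkTree_ok : chkTree = true := by decide +kernel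

/-- no subset is contained in another one -/
def chkNoIncl : Bool := (List.range 100).all fun k => (List.range 100).all fun k' =>
  k == k' || (List.range 315).any fun p => inD k p && !inD k' p

theorem chkNoIncl_ok : chkNoIncl = true := by decide +kernel

/-- the relation is invariant -/
def chkRel : Bool := ((List.range 4).all fun j => (List.range 100).all fun k =>
  (List.range 100).all fun k' => relF (actF j k) (actF j k') == relF k k') &&
  (((List.range 100).filter fun k => relF 0 k == 1).length == 36) &&
  (((List.range 100).filter fun k => relF 0 k == 2).length == 63) &&
  (relF 0 kOne == 1) && (relF 0 kTwo == 2) && decide (kOne < 100) && decide (kTwo < 100)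

theorem chkRel_ok : chkRel = true := by decide +kernel

/-- elements of the stabiliser of the first subset moving the representatives of the two classes
to all other members -/
def chkCert : Bool := (List.range 100).all fun k => relF 0 k == 0 ||
  withNat (certT.getD k 0) fun t => withNat (if relF 0 k == 1 then kOne else kTwo) fun ks =>
    decide (t < 604800) && (List.range 315).all fun p => withNat (evT t p) fun q =>
      (!inD 0 p || inD 0 q) && (!inD ks p || inD k q)

theorem chkCert_ok : chkCert = true := by decide +kernel

end Cfsg.Agent.Helper98.J2
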