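import Mathlib.Data.List.Basic

/-!
# Packed data for the isomorphism `U₃(3) ≅ Stab(D₀)` in the Hall–Janko group (generated)
-/

set_option autoImplicit false

namespace Cfsg.Agent.Helper98.J2

/-- data -/
def ptsP : ℕ := 0x9d4e671369acd2673298cc25f2d954a64d2491c8a43208fc7a3b1c8d46631168ac52271288c421f0e86c32170a84c220f0682c120702803fdfafa7c3d9eaf378bc1dced763add2e873b99cae471b89c2e06fb79badc6db65b0d76b355a8d268b419ece66b3194c963b1584c1602fd7cbc5dae972b85bad96ab459ac962b057ab958ab552a550a652a8d44a15027d3a9c4da6932984ba592a9449a49228f46a31168943a190a8441205007f3f1f4f6793b9d0e671381bcdc6d361acd4693419ccc6532188c2602f970b65a2c960ae562a14ca4512813c9c4d259289248239188a4421908823e1c8dc6c351a0c86230178b85a2c150a45027130944823108803e1e0e87036180b05426120883c1c0d0602c14090401c0c05018080200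

/-- data -/
def pinvP : ℕ := 0x3edf4f9ffbe1eef67abd1e6f278ffde1ffffbbdddffffbb7feec75ba9d2e873b99cae4ffb8dc4e1ffb81bede6eb71b6da6cb61aed66ab51a6d268b419ece66b33fecb657fd93ffffb23fec7ffb198bff627fd86c2ffb0580bf5f7fd7abc5dae972b85bad96ab459ac962b057ffd5cad562ad54a9ffaa14ea652a9146a2ffa8541ff4fffd3dffffa75389b4d267fe984ba592a9449a49229047a391a8c45a2bfe894421d0c85ffa1107ff41205007f3f7fcfa7c3d9e8f2783b9d8ea74399c8e3ff387fcde6e36ffcd9ff359a8d268ff99ccc653218cc5ff30ffcc1ff2fffffe5e2effcb85b2d164b0572b154a85329144a04fff9389a4c25ffffe4a249208e4622913fe4321104803f1f0f479ff1d8e872381b8d86a34198c863ffff8c3ffffffffc5fff170b4582bff8a85228138984a24ff88c44211007c3c1d0e7fc361a0c8602e160affffe14ff84c25ff088401fff07034180b0502410070301409ff018080200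

/-- data -/
def vcP : ℕ := 0x8a06a9194cab02c6c8d03ad59691b33cd355a180774777f09c4055073a2b0a20601a55a752d3244d185a8a94c87368fa910c6753e48a2424dc21e2c167c7428ac76847f8be9c02480b111d9fc4613e0b6713455e00315f739d03750c460db16a5311ac962f1601cd580da088c1414cc4788ea6a40509bc31436a035641189531c6152c8028f8dda6d1866609a364f7453c37227b01498863b2cebf19de68825b8c57b10c8f44e701d8c2991f4588cc1ed19a4909834c72123c0ca145713806e739524b2ec5153a4a345f646a435c4e05f59a7fc702bc012489137c2b4109fa4cec449f3595aa34930908686da26a308b4545f932d0521cc38e19a5e106b43411294232586810a2398c38a164f634306a99b85e53cb86e4120d49b204f02c0b9ad60c94d4b3917c3b5219d9614589a8fd2e401fd48d2600e050a44c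

/-- data -/
def vinvP : ℕ := 0x1fffffffffffffffffe38ffffffffffffffffff647fffec1ffffd9885407fffffffffffffffffffc2bfffffffffffffffffef7ffffc45ffffa81b2d5ffffffe9affffdbec447fffffff19ffffe2e249b7fe9f6b7fd163dfffffffffffffffffffffffffff5fffffffffffffffffff837ffff317fffe764e887fffffffffffffffffffe73ffffffffffffffffff3e7fffe2cffffdc06109fffffff457fffe3930173ffffffbe7ffff2c10531ff04a47fe68417ffffffffffffe24ffffcf6a562fffffff727fffefb430fbfed050ffd067dfffffffffffffc69ffff8992866ffffffe32ffffcd6145e7fd18a6ffb8805ffffffffeb829ffc0ce9fffffffff5b16bfe72237ffffffffffffffffffffffffff9fbfffffffffffffffffdd7fffffffffffffffffeb3ffffd13ffffb95ae36ffffffffffffffffffffb3bfffffffffffffffffc3bffff8ffffff783d561ffffffc63ffff9115edaffffffef1ffffd8e2b65ffda6bbff9511bffffffffffffffffffffffffffe28ffffffffffffffffff58ffffeecffffcaa103d7fffffffffffffffffffcaffffffffffffffffffeedffffc8bffff9c418aaffffffe65ffffde4a85cfffffff4b7fffee60f977fef8097fd0837fffffffffffffd49ffffb484a88fff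fffe64ffffddcba51ffd5c42ff821bdfffffffffffff813ffff02b441dffffffd81ffff964dc8eff82c77ff3b91fffffffffd36d4ff8a8d9ffffffffe4b5a7fdce07fffffffffffffffffffffffffff77ffffe18ffffc1e4879fffffff5affffe111a89ffe5626ffd2087fffffffffffffd33ffff90cb6f4ffffffe70ffffdbad8357fd6eb2ff9d047ffffffffeab2fffc2c1efffffffff40a4ffe1728fffffffffffffffffffffffffffb27ffff257fffee80d02bffffffab3ffff6793c9dff3c0a7fe2d1e7ffffffffffffe69ffffc32c2637ffffff37ffffecd751d7feca54ffd2a52fffffffff56bebfe403ffffffffffa5db7ff1d083ffffffffffffffffffffffffffcbc9e5effdb800fffffffff512fbfe2f3cfffffffffffffffffffffffffffa9c3630ff99d39ffffffffef6267fc02e3fffffffffffffffffffffffffff31ffffffffffffffffff873fffffffffffffffffd87ffffb87ffff01a48a1ff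

end Cfsg.Agent.Helper98.J2
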