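import Cfsg.Agent.Helper98.J2Check6
import Cfsg.Agent.Helper98.J2Data7
import Cfsg.Agent.Helper96.GTwoData

/-!
# Kernel checks for the isomorphism between `SU₃(3)` and the subgroup of index 100 of `J₂`
-/

set_option autoImplicit false
set_option Elab.async false

namespace Cfsg.Agent.Helper98.J2

open Cfsg.Agent.Helper96.GTwo Cfsg.Agent.Helper98

/-- the `i`-th point of the first subset -/
def ptF (i : ℕ) : ℕ := fld ptsP 9 i

/-- the code of the `i`-th unit vector -/
def vcF (i : ℕ) : ℕ := fld vcP 10 i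

/-- explicit product of a matrix and a vector -/
def mv3 (M : Matrix (Fin 3) (Fin 3) GF9) (v : Pt) : Pt :=
  ![M 0 0 * v 0 + M 0 1 * v 1 + M 0 2 * v 2, M 1 0 * v 0 + M 1 1 * v 1 + M 1 2 * v 2,
    M 2 0 * v 0 + M 2 1 * v 1 + M 2 2 * v 2]

/-- the element with index `t` acts on the points like the matrix with number `n` on the vectors -/
def chkTlRow (n t : ℕ) : Bool := decide (t < 604800) && (List.range 252).all fun i =>
  withNat (fld vinvP 9 (pc (mv3 (matOf n) (ptOf (vcF i))))) fun i' =>
    decide (i' < 252) && (evT t (ptF i) == ptF i')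

set_option maxRecDepth 100000 in
theorem chkTl_ok1 : ∀ nt ∈ tlD.take 19, chkTlRow nt.1 nt.2 = true := by decide +kernel

set_option maxRecDepth 100000 in
theorem chkTl_ok2 : ∀ nt ∈ (tlD.drop 19).take 19, chkTlRow nt.1 nt.2 = true := by decide +kernel

set_option maxRecDepth 100000 in
theorem chkTl_ok3 : ∀ nt ∈ (tlD.drop 19).drop 19, chkTlRow nt.1 nt.2 = true := by decide +kernel

theorem chkTl_ok : ∀ nt ∈ tlD, chkTlRow nt.1 nt.2 = true := by
  intro nt hnt
  rw [← List.take_append_drop 19 tlD, List.mem_append] at hnt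
  rcases hnt with h | h
  · exact chkTl_ok1 nt h
  · rw [← List.take_append_drop 19 (tlD.drop 19), List.mem_append] at h
    rcases h with h | h
    · exact chkTl_ok2 nt h
    · exact chkTl_ok3 nt h

theorem tl_cover : tlD.map Prod.fst = tlCodes := by decide +kernel

theorem ptF_spec : ∀ i < 252, ptF i < 315 ∧ inD 0 (ptF i) = true ∧ fld pinvP 9 (ptF i) = i := by
  decide +kernel

theorem pinv_spec : ∀ p < 315, inD 0 p = true → fld pinvP 9 p < 252 ∧ ptF (fld pinvP 9 p) = p := by
  decide +kernel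

theorem vcF_spec : ∀ i < 252, vcF i < 729 ∧ fld vinvP 9 (vcF i) = i := by decide +kernel

theorem vinv_spec : ∀ c < 729, fld vinvP 9 c < 252 → vcF (fld vinvP 9 c) = c := by decide +kernel

theorem pc_ptOf : ∀ c < 729, pc (ptOf c) = c := by decide +kernel

theorem ptOf_pc : ∀ w : Pt, ptOf (pc w) = w := by decide +kernel

theorem pc_lt : ∀ w : Pt, pc w < 729 := by decide +kernel

theorem base_pts : ptF 0 = 0 ∧ ptF 85 = 106 ∧ ptF 23 = 29 := by decide +kernel

theorem unit_vecs : ptOf (vcF 80) = Pi.single 0 1 ∧ ptOf (vcF 195) = Pi.single 1 1 ∧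
    ptOf (vcF 94) = Pi.single 2 1 := by decide +kernel

end Cfsg.Agent.Helper98.J2
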