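import Cfsg.Agent.Helper98.J2Bsgs

/-!
# Equations in the Hall–Janko group checked on base points
-/

set_option autoImplicit false

namespace Cfsg.Agent.Helper98.J2

open Cfsg.Agent.Helper7.J2

/-- the image of a point under a product of packed permutations -/
def evalL (cs : List ℕ) (p : ℕ) : ℕ := cs.foldr (fun c q => look c q) p

theorem evalL_cons (c : ℕ) (cs : List ℕ) (p : ℕ) : evalL (c :: cs) p = look c (evalL cs p) := rfl

theorem evalL_spec {gs : List P315} {cs : List ℕ} (h : List.Forall₂ IsCode gs cs) (i : Fin 315) :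
    ((gs.prod i : Fin 315) : ℕ) = evalL cs i := by
  induction h with
  | nil => rfl
  | cons hg _ ih => rw [List.prod_cons, Equiv.Perm.mul_apply, hg, ih, evalL_cons]

/-- two words agree on the base points -/
def baseEq (cs ds : List ℕ) : Bool := [0, 106, 29].all fun p => evalL cs p == evalL ds p

theorem prod_eq_of_baseEq {gs hs : List P315} {cs ds : List ℕ} (h1 : List.Forall₂ IsCode gs cs)
    (h2 : List.Forall₂ IsCode hs ds) (m1 : ∀ g ∈ gs, g ∈ G315) (m2 : ∀ g ∈ hs, g ∈ G315)
    (h : baseEq cs ds = true) : gs.prod = hs.prod := by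
  simp only [baseEq, List.all_cons, List.all_nil, Bool.and_true, Bool.and_eq_true,
    beq_iff_eq] at h
  obtain ⟨e0, e1, e2⟩ := h
  apply eq_of_base (Subgroup.list_prod_mem _ m1) (Subgroup.list_prod_mem _ m2)
  · apply Fin.ext
    rw [evalL_spec h1 b0, evalL_spec h2 b0]
    exact e0
  · apply Fin.ext
    rw [evalL_spec h1 b1, evalL_spec h2 b1]
    exact e1
  · apply Fin.ext
    rw [evalL_spec h1 b2, evalL_spec h2 b2]
    exact e2

/-- the generators of the stabiliser of `0` -/
noncomputable def gC (j : ℕ) : P315 :=
  if h : j < g1Code.length then Classical.choose (rep_g1 j h) else 1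

theorem gC_mem {j : ℕ} (h : j < 2) : gC j ∈ L1 := by
  have h' : j < g1Code.length := h
  rw [gC, dif_pos h']; exact (Classical.choose_spec (rep_g1 j h')).1

theorem gC_code {j : ℕ} (h : j < 2) : IsCode (gC j) (g1Code.getD j 0) := by
  have h' : j < g1Code.length := h
  rw [gC, dif_pos h']; exact (Classical.choose_spec (rep_g1 j h')).2

theorem L1_eq_closure : L1 = Subgroup.closure {gC 0, gC 1} := by
  apply le_antisymm
  · unfold L1 genSub
    rw [Subgroup.closure_le]
    rintro g ⟨k, hk, hg⟩
    have hk2 : k < 2 := hk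
    apply Subgroup.subset_closure
    interval_cases k
    · left; exact hg.ext (gC_code (by norm_num))
    · right; exact hg.ext (gC_code (by norm_num))
  · rw [Subgroup.closure_le]
    rintro g (rfl | rfl)
    · exact gC_mem (by norm_num)
    · exact gC_mem (by norm_num)

end Cfsg.Agent.Helper98.J2
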