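import Cfsg.Agent.Helper98.J2Local

/-!
# The 2-fusion system of the Hall–Janko group on 315 points is simple
-/

set_option autoImplicit false

namespace Cfsg.Agent.Helper98.J2

open Cfsg Cfsg.Agent.Helper7.J2

/-- a Sylow 2-subgroup -/
noncomputable def SM : Subgroup ↥G315 := tblSub genS

theorem lenS : tabS.length = 128 := by decide +kernel

theorem mem_SM_iff {x : ↥G315} : x ∈ SM ↔ ∃ i < 128, x = elM (tabS.getD i 0) := by
  rw [SM, tbl_mem_iff tblS_ok, lenS]

theorem card_SM : Nat.card SM = 128 := by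
  rw [SM, tbl_card tblS_ok nodupS, lenS]

theorem chkS1_facts : (∀ t ∈ genE, tabS.contains t = true) ∧ (∀ t ∈ tabS, t < 1920) ∧
    genS.getD 0 1 = aT ∧ genS.length = 7 := by
  have h := chkS1_ok
  simp only [chkS1, Bool.and_eq_true, List.all_eq_true, decide_eq_true_eq, beq_iff_eq] at h
  exact ⟨h.1.1.1.1, h.1.1.1.2, h.1.2, h.2⟩

/-- the generators of the Sylow 2-subgroup -/
noncomputable def ssM (j : ℕ) : ↥G315 := elM (genS.getD j 0)

theorem SM_eq : SM = Subgroup.closure {g : ↥G315 | ∃ j < 7, g = ssM j} := by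
  rw [SM, tblSub, chkS1_facts.2.2.2]
  rfl

theorem ssM_mem {j : ℕ} (hj : j < 7) : ssM j ∈ SM := by
  rw [SM_eq]
  exact Subgroup.subset_closure ⟨j, hj, rfl⟩

theorem EM_le_SM : EM ≤ SM := by
  rw [EM, tblSub, Subgroup.closure_le]
  rintro g ⟨k, hk, rfl⟩
  apply tbl_mem_of_contains tblS_ok
  apply chkS1_facts.1
  rw [List.getD_eq_getElem _ _ hk]
  exact List.getElem_mem _

theorem tabS_lt {i : ℕ} (hi : i < 128) : tabS.getD i 0 < 1920 := by
  apply chkS1_facts.2.1
  have hi' : i < tabS.length := by rw [lenS]; exact hi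
  rw [List.getD_eq_getElem _ _ hi']
  exact List.getElem_mem _

theorem SM_le_LM : SM ≤ LM := by
  intro x hx
  obtain ⟨i, hi, rfl⟩ := mem_SM_iff.1 hx
  exact mem_LM_iff.2 ⟨_, tabS_lt hi, rfl⟩

theorem SM_center : ∀ s ∈ SM, (∀ j < 7, s * ssM j = ssM j * s) → s = 1 ∨ s = aM := by
  intro s hs hc
  obtain ⟨i, hi, rfl⟩ := mem_SM_iff.1 hs
  have h := chkZS_ok
  simp only [chkZS, List.all_eq_true, List.mem_range, withNat_eq, Bool.or_eq_true,
    beq_iff_eq, List.any_eq_true] at h
  rcases h i hi with (h | h) | ⟨k, hk, h⟩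
  · left
    rw [h, elM_zero]
  · right
    rw [h]
    rfl
  · exfalso
    have := wNe_spec h
    rw [wordM_two, wordM_two] at this
    exact this (hc k hk)

theorem LM_centE : ∀ k ∈ LM, (∀ x ∈ EM, k * x = x * k) → k ∈ EM := by
  intro k hk hc
  obtain ⟨t, ht, rfl⟩ := mem_LM_iff.1 hk
  have h := chkCE_ok
  rw [chkCE, allBelow_eq_true] at h
  have h' := h t ht
  simp only [Bool.or_eq_true, List.any_eq_true, List.mem_range] at h'
  rcases h' with h' | ⟨k, hk, h'⟩
  · exact tbl_mem_of_contains tblE_ok h'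
  · exfalso
    have := wNe_spec h'
    rw [wordM_two, wordM_two] at this
    exact this (hc _ (genE_mem hk))

theorem SM_inv : ∀ u ∈ SM, u ^ 2 = 1 → u ≠ 1 →
    (∃ g : ↥G315, g * u = aM * g) ∨
      ∃ x ∈ SM, ∃ y : ↥G315, x * u = y * x ∧ ∃ g : ↥G315, g * (u * y) = aM * g := by
  intro u hu hu2 hu1
  obtain ⟨i, hi, rfl⟩ := mem_SM_iff.1 hu
  have h := chkInv_ok
  simp only [chkInv, List.all_eq_true, List.mem_range, withNat_eq] at h
  have h' := h i hi
  simp only [Bool.or_eq_true, Bool.and_eq_true, beq_iff_eq] at h'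
  rcases h' with (⟨-, h0 | h0⟩ | ⟨-, h1⟩) | ⟨⟨⟨-, hx⟩, h2⟩, h3⟩
  · exfalso
    apply hu1
    rw [h0, elM_zero]
  · exfalso
    have := wNe_spec h0
    rw [wordM_two, wordM_one, elM_zero] at this
    apply this
    rw [← pow_two]
    exact hu2
  · left
    have := wEq_spec h1
    rw [wordM_two, wordM_two] at this
    exact ⟨_, this⟩
  · right
    have e2 := wEq_spec h2
    have e3 := wEq_spec h3
    rw [wordM_two, wordM_two] at e2
    rw [wordM_three, wordM_two, mul_assoc] at e3
    exact ⟨_, tbl_mem_of_contains tblS_ok hx, _, e2, _, e3⟩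

theorem ssM_zero : ssM 0 = aM := by
  have h := chkS1_facts.2.2.1
  have hl : 0 < genS.length := by rw [chkS1_facts.2.2.2]; norm_num
  rw [List.getD_eq_getElem _ _ hl] at h
  rw [ssM, List.getD_eq_getElem _ _ hl, h]
  rfl

theorem SM_seq : ∀ j < 7, 0 < j → ∃ g : ↥G315, ∃ l : List ℕ, (∀ i ∈ l, i < j) ∧
    ssM j * g = g * (l.map ssM).prod := by
  intro j hj hpos
  have h := chkSeq_ok
  simp only [chkSeq, List.all_eq_true, List.mem_range, withNat_eq, Bool.or_eq_true, beq_iff_eq,
    Bool.and_eq_true, decide_eq_true_eq] at h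
  rcases h j hj with h0 | ⟨hl, he⟩
  · omega
  · refine ⟨elM (seqD.getD j (0, [])).1, (seqD.getD j (0, [])).2, hl, ?_⟩
    have := wEq_spec he
    rw [wordM_two, wordM_cons] at this
    rw [ssM, this]
    congr 1
    rw [wordM, List.map_map]
    rfl

/-- the 2-fusion system of any group isomorphic to the group on 315 points is simple -/
theorem fusion_of_equiv {G : Type*} [Group G] [Finite G] (e : ↥G315 ≃* G) (T : Sylow 2 G) :
    (groupFusionSystem (T : Subgroup G)).IsSimple 2 := by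
  refine fusion_simple_of_local_equiv e card_G315 aM aM_sq aM_ne SM EM csM ssM 7 card_SM EM_le_SM
    aM_mem_EM SM_eq (by rw [centralizer_aM, LM_eq_closure]) (fun j hj => csM_sq hj)
    (by rw [centralizer_aM]; exact SM_le_LM) (by rw [centralizer_aM]; exact EM_norm) SM_center
    (by rw [centralizer_aM]; exact LM_centE) SM_inv ssM_zero SM_seq T

end Cfsg.Agent.Helper98.J2
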