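import Cfsg.Agent.Helper63.SympTypeA
import Cfsg.Agent.Helper56.Order120
import Cfsg.Agent.Helper53.Heis
import Cfsg.Agent.Helper84.SimpleCrit2
import Cfsg.Prelude.Def_Transfer

/-!
# Local analysis of a group of Hall–Janko type, abstractly

From data on the centraliser `C` of an involution `a` in a finite group `G` (a normal extraspecial
subgroup `E` of order 32, `C` perfect of order 1920, a Sylow 2-subgroup `S` of order 128 with centre
`⟨a⟩`, conjugacy certificates) we get the shape `2^{1+4}.A₅` of `C` and the simplicity of the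
2-fusion system of `G`.
-/

set_option autoImplicit false
set_option linter.unusedSectionVars false

namespace Cfsg.Agent.Helper98.J2

open Cfsg Cfsg.FusionSystem
open scoped commutatorElement

/-- the shape of the centraliser of `t`: a normal extraspecial subgroup of order 32 with quotient
`A₅` -/
def CentShape {G : Type*} [Group G] (t : G) : Prop :=
  ∃ (Q : Subgroup ↥(Subgroup.centralizer ({t} : Set G))) (_ : Q.Normal), Nat.card Q = 32 ∧
    Cfsg.IsExtraspecial 2 Q ∧
    Nonempty (↥(Subgroup.centralizer ({t} : Set G)) ⧸ Q ≃* alternatingGroup (Fin 5))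

/-- a perfect group of order 60 is alternating of degree 5 -/
theorem alt5_of_perfect_card {H : Type*} [Group H] [Finite H] (hcard : Nat.card H = 60)
    (hperf : commutator H = ⊤) : Nonempty (H ≃* ↥(alternatingGroup (Fin 5))) := by
  have hnt : Nontrivial H := by
    rw [← Finite.one_lt_card_iff_nontrivial, hcard]
    norm_num
  have hns : ¬ Group.IsSolvable H := by
    intro hsol
    have := Group.IsSolvable.commutator_lt_top_of_nontrivial H
    rw [hperf] at this
    exact lt_irrefl _ this
  have hsimple := Cfsg.Agent.Helper56.Order120.simple_of_card_60 hcard hns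
  exact Cfsg.Agent.Helper9.nonempty_mulEquiv_alternatingGroup_five hcard

/-- a quotient of a perfect group is perfect -/
theorem commutator_quotient_eq_top {H : Type*} [Group H] (N : Subgroup H) [N.Normal]
    (hperf : commutator H = ⊤) : commutator (H ⧸ N) = ⊤ := by
  rw [commutator_def] at hperf ⊢
  have h1 := Subgroup.map_commutator (⊤ : Subgroup H) ⊤ (QuotientGroup.mk' N)
  rw [hperf, ← MonoidHom.range_eq_map, MonoidHom.range_eq_top.2 (QuotientGroup.mk'_surjective N)]
    at h1
  exact h1.symm

/-- transport of the shape of a centraliser along an isomorphism -/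
theorem centShape_of_mulEquiv {G G' : Type*} [Group G] [Group G'] (e : G ≃* G') (t : G)
    (h : CentShape (e t)) : CentShape t := by
  obtain ⟨Q', hQ'n, hQ'c, hQ'e, ⟨φ⟩⟩ := h
  have hmap : (Subgroup.centralizer ({t} : Set G)).map e.toMonoidHom =
      Subgroup.centralizer ({e t} : Set G') := by
    ext y
    rw [Subgroup.mem_map, Subgroup.mem_centralizer_singleton_iff]
    constructor
    · rintro ⟨x, hx, rfl⟩
      rw [Subgroup.mem_centralizer_singleton_iff] at hx
      show e x * e t = e t * e x
      rw [← map_mul, ← map_mul, hx]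
    · intro hy
      refine ⟨e.symm y, ?_, e.apply_symm_apply y⟩
      rw [Subgroup.mem_centralizer_singleton_iff]
      apply e.injective
      rw [map_mul, map_mul, e.apply_symm_apply]
      exact hy
  let ec : ↥(Subgroup.centralizer ({t} : Set G)) ≃* ↥(Subgroup.centralizer ({e t} : Set G')) :=
    (e.subgroupMap _).trans (MulEquiv.subgroupCongr hmap)
  let Q : Subgroup ↥(Subgroup.centralizer ({t} : Set G)) := Q'.comap ec.toMonoidHom
  have hQn : Q.Normal := hQ'n.comap _
  have hQmap : Q.map ec.toMonoidHom = Q' :=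
    Subgroup.map_comap_eq_self_of_surjective ec.surjective Q'
  have eQ : ↥Q ≃* ↥Q' := (ec.subgroupMap Q).trans (MulEquiv.subgroupCongr hQmap)
  refine ⟨Q, hQn, ?_, ?_, ?_⟩
  · rw [Nat.card_congr eQ.toEquiv, hQ'c]
  · exact Cfsg.Agent.Helper53.isExtraspecial_of_mulEquiv eQ.symm hQ'e
  · exact ⟨(QuotientGroup.congr Q Q' ec hQmap).trans φ⟩

/-- the shape of the centraliser of a conjugate -/
theorem centShape_conj {G : Type*} [Group G] (x t : G) (h : CentShape t) :
    CentShape (x * t * x⁻¹) := by
  apply centShape_of_mulEquiv (MulAut.conj x⁻¹) (x * t * x⁻¹)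
  have : (MulAut.conj x⁻¹) (x * t * x⁻¹) = t := by
    rw [MulAut.conj_apply]
    group
  rw [this]
  exact h

section

variable {G : Type*} [Group G] [Finite G]

/-- the structure of the centraliser of an involution from local data -/
theorem centShape_of_local (a : G) (ha2 : a ^ 2 = 1) (ha1 : a ≠ 1)
    (hCcard : Nat.card (Subgroup.centralizer ({a} : Set G)) = 1920)
    (E : Subgroup G) (hE : Nat.card E = 32) (haE : a ∈ E)
    (hEC : E ≤ Subgroup.centralizer ({a} : Set G))
    (hnorm : ∀ k ∈ Subgroup.centralizer ({a} : Set G), ∀ x ∈ E, k * x * k⁻¹ ∈ E)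
    (hsq : ∀ x ∈ E, x * x = 1 ∨ x * x = a)
    (hcomm : ∀ x ∈ E, ∀ y ∈ E, x * y = y * x ∨ x * y = a * y * x)
    (hcen : ∀ x ∈ E, (∀ y ∈ E, x * y = y * x) → x = 1 ∨ x = a)
    (hnc : ∃ x ∈ E, ∃ y ∈ E, x * y ≠ y * x)
    (cg : ℕ → G) (n : ℕ)
    (hCgen : Subgroup.centralizer ({a} : Set G) = Subgroup.closure {g : G | ∃ j < n, g = cg j})
    (hCcomm : ∀ j < n, ∃ u ∈ Subgroup.centralizer ({a} : Set G),
      ∃ v ∈ Subgroup.centralizer ({a} : Set G), cg j = u * v * u⁻¹ * v⁻¹) :
    CentShape a := by
  have : Fact (Nat.Prime 2) := ⟨Nat.prime_two⟩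
  have hoa : orderOf a = 2 := orderOf_eq_prime ha2 ha1
  have hCmem : ∀ g : G, g ∈ Subgroup.centralizer ({a} : Set G) ↔ g * a = a * g := by
    intro g
    rw [Subgroup.mem_centralizer_singleton_iff]
  obtain ⟨Q, hQdef⟩ : ∃ Q : Subgroup ↥(Subgroup.centralizer ({a} : Set G)),
    Q = E.subgroupOf _ := ⟨_, rfl⟩
  have hQmem : ∀ x : ↥(Subgroup.centralizer ({a} : Set G)), x ∈ Q ↔ (x : G) ∈ E := by
    intro x
    rw [hQdef, Subgroup.mem_subgroupOf]
  have hQnormal : Q.Normal := by
    refine ⟨fun n hn g => ?_⟩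
    rw [hQmem] at hn ⊢
    exact hnorm g g.2 n hn
  have hQcard : Nat.card Q = 32 := by
    rw [hQdef, Nat.card_congr (Subgroup.subgroupOfEquivOfLe hEC).toEquiv, hE]
  have haC : a ∈ Subgroup.centralizer ({a} : Set G) := (hCmem a).2 rfl
  obtain ⟨tC, htC⟩ : ∃ tC : ↥(Subgroup.centralizer ({a} : Set G)), (tC : G) = a :=
    ⟨⟨a, haC⟩, rfl⟩
  have hotC : orderOf tC = 2 := by rw [← Subgroup.orderOf_coe, htC]; exact hoa
  have hZ1mem : ∀ x : ↥(Subgroup.centralizer ({a} : Set G)),
      (x : G) = 1 ∨ (x : G) = a → x ∈ Subgroup.zpowers tC := by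
    intro x hx
    rcases hx with h | h
    · have : x = 1 := Subtype.ext h
      rw [this]
      exact Subgroup.one_mem _
    · have : x = tC := Subtype.ext (h.trans htC.symm)
      rw [this]
      exact Subgroup.mem_zpowers tC
  have hext : Cfsg.IsExtraspecial 2 ↥Q := by
    apply Cfsg.Agent.Helper63.Symp.isExtraspecial_of_data Q (Subgroup.zpowers tC)
    · rw [Subgroup.zpowers_le, hQmem, htC]
      exact haE
    · rw [Nat.card_zpowers, hotC]
    · exact IsPGroup.of_card (n := 5) (by rw [hQcard]; norm_num)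
    · intro x hx hxc
      rw [hQmem] at hx
      apply hZ1mem
      apply hcen _ hx
      intro y hy
      have hyC : y ∈ Subgroup.centralizer ({a} : Set G) := hEC hy
      have h2 := congrArg Subtype.val (hxc ⟨y, hyC⟩ ((hQmem _).2 hy))
      exact h2.symm
    · intro z hz d _
      obtain ⟨n, rfl⟩ := Subgroup.mem_zpowers_iff.1 hz
      have hc : Commute d tC := by
        apply Subtype.ext
        show (d : G) * (tC : G) = (tC : G) * (d : G)
        rw [htC]
        exact (hCmem _).1 d.2
      exact (hc.zpow_right n)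
    · intro x hx y hy
      rw [hQmem] at hx hy
      apply hZ1mem
      have hval : ((x * y * x⁻¹ * y⁻¹ : ↥(Subgroup.centralizer ({a} : Set G))) : G) =
          (x : G) * y * (x : G)⁻¹ * (y : G)⁻¹ := rfl
      rw [hval]
      rcases hcomm _ hx _ hy with h | h
      · left
        rw [h]
        group
      · right
        rw [h]
        group
    · intro x hx
      rw [hQmem] at hx
      apply hZ1mem
      have hval : ((x ^ 2 : ↥(Subgroup.centralizer ({a} : Set G))) : G) = (x : G) * x := by
        rw [pow_two]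
        rfl
      rw [hval]
      exact hsq _ hx
    · obtain ⟨x, hx, y, hy, hxy⟩ := hnc
      refine ⟨⟨x, hEC hx⟩, (hQmem _).2 hx, ⟨y, hEC hy⟩, (hQmem _).2 hy, ?_⟩
      intro h
      exact hxy (congrArg Subtype.val h)
  -- the centraliser is perfect
  have hperf : commutator ↥(Subgroup.centralizer ({a} : Set G)) = ⊤ := by
    have hgen : Subgroup.closure {x : ↥(Subgroup.centralizer ({a} : Set G)) | ∃ j < n, (x : G) = cg j}
        = ⊤ := by
      rw [eq_top_iff]
      rintro ⟨x, hx⟩ -
      have hx' := hx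
      rw [hCgen] at hx'
      have key : ∀ y ∈ Subgroup.closure {g : G | ∃ j < n, g = cg j},
          ∀ hy : y ∈ Subgroup.centralizer ({a} : Set G),
          (⟨y, hy⟩ : ↥(Subgroup.centralizer ({a} : Set G))) ∈
            Subgroup.closure {x : ↥(Subgroup.centralizer ({a} : Set G)) | ∃ j < n, (x : G) = cg j} := by
        intro y hy
        induction hy using Subgroup.closure_induction with
        | mem y hy =>
          intro hyC
          exact Subgroup.subset_closure hy
        | one =>
          intro _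
          exact Subgroup.one_mem _
        | mul y z hy hz ihy ihz =>
          intro hyz
          have hyC : y ∈ Subgroup.centralizer ({a} : Set G) := by rw [hCgen]; exact hy
          have hzC : z ∈ Subgroup.centralizer ({a} : Set G) := by rw [hCgen]; exact hz
          exact Subgroup.mul_mem _ (ihy hyC) (ihz hzC)
        | inv y hy ih =>
          intro hyi
          have hyC : y ∈ Subgroup.centralizer ({a} : Set G) := by rw [hCgen]; exact hy
          exact Subgroup.inv_mem _ (ih hyC)
      exact key x hx' hx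
    rw [eq_top_iff, ← hgen, Subgroup.closure_le]
    rintro x ⟨j, hj, hxj⟩
    obtain ⟨u, hu, v, hv, e⟩ := hCcomm j hj
    have : x = ⁅(⟨u, hu⟩ : ↥(Subgroup.centralizer ({a} : Set G))), ⟨v, hv⟩⁆ := by
      apply Subtype.ext
      rw [commutatorElement_def, hxj]
      exact e
    rw [SetLike.mem_coe, this, commutator_def]
    exact Subgroup.commutator_mem_commutator (Subgroup.mem_top _) (Subgroup.mem_top _)
  have hqcard : Nat.card (↥(Subgroup.centralizer ({a} : Set G)) ⧸ Q) = 60 := by
    have h1 := Subgroup.card_eq_card_quotient_mul_card_subgroup Q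
    rw [hCcard, hQcard] at h1
    omega
  have hiso := alt5_of_perfect_card hqcard
    (@commutator_quotient_eq_top _ _ Q hQnormal hperf)
  exact ⟨Q, hQnormal, hQcard, hext, hiso⟩

theorem factorization_j2 : (604800 : ℕ).factorization 2 = 7 := by
  have h : (604800 : ℕ) = 2 ^ 7 * 4725 := by norm_num
  rw [h, Nat.factorization_mul (by norm_num) (by norm_num), Finsupp.add_apply,
    Nat.Prime.factorization_pow Nat.prime_two, Finsupp.single_eq_same,
    Nat.factorization_eq_zero_of_not_dvd (by norm_num)]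

/-- the simplicity of the 2-fusion system from local data -/
theorem fusion_simple_of_local (hG : Nat.card G = 604800)
    (a : G) (ha2 : a ^ 2 = 1) (ha1 : a ≠ 1)
    (S E : Subgroup G) (cs ss : ℕ → G) (nS : ℕ)
    (hS : Nat.card S = 128) (hES : E ≤ S) (haE : a ∈ E)
    (hSgen : S = Subgroup.closure {g : G | ∃ j < nS, g = ss j})
    (hC : Subgroup.centralizer ({a} : Set G) = Subgroup.closure {g : G | ∃ j < 3, g = cs j})
    (hcs : ∀ j < 3, cs j ^ 2 = 1)
    (hSC : S ≤ Subgroup.centralizer ({a} : Set G))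
    (hnorm : ∀ k ∈ Subgroup.centralizer ({a} : Set G), ∀ x ∈ E, k * x * k⁻¹ ∈ E)
    (hZS : ∀ s ∈ S, (∀ j < nS, s * ss j = ss j * s) → s = 1 ∨ s = a)
    (hCE : ∀ k ∈ Subgroup.centralizer ({a} : Set G), (∀ x ∈ E, k * x = x * k) → k ∈ E)
    (hinv : ∀ u ∈ S, u ^ 2 = 1 → u ≠ 1 →
      (∃ g : G, g * u = a * g) ∨ ∃ x ∈ S, ∃ y : G, x * u = y * x ∧ ∃ g : G, g * (u * y) = a * g)
    (hss0 : ss 0 = a)
    (hseq : ∀ j < nS, 0 < j → ∃ g : G, ∃ l : List ℕ, (∀ i ∈ l, i < j) ∧
      ss j * g = g * (l.map ss).prod)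
    (T : Sylow 2 G) : (groupFusionSystem (T : Subgroup G)).IsSimple 2 := by
  have : Fact (Nat.Prime 2) := ⟨Nat.prime_two⟩
  have haS : a ∈ S := hES haE
  have hCmem : ∀ g : G, g ∈ Subgroup.centralizer ({a} : Set G) ↔ g * a = a * g := by
    intro g
    rw [Subgroup.mem_centralizer_singleton_iff]
  have hcomm_a : ∀ s ∈ S, s * a = a * s := fun s hs => (hCmem s).1 (hSC hs)
  have hssS : ∀ j < nS, ss j ∈ S := by
    intro j hj
    rw [hSgen]
    exact Subgroup.subset_closure ⟨j, hj, rfl⟩
  -- the normaliser of `E`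
  have norm_lift : ∀ k ∈ Subgroup.centralizer ({a} : Set G),
      k ∈ Subgroup.normalizer (E : Set G) := by
    intro k hk
    rw [Subgroup.mem_normalizer_iff]
    intro h
    constructor
    · intro hh
      exact hnorm k hk h hh
    · intro hh
      have := hnorm k⁻¹ (Subgroup.inv_mem _ hk) _ hh
      have e : k⁻¹ * (k * h * k⁻¹) * k⁻¹⁻¹ = h := by group
      rw [e] at this
      exact this
  have hSnorm : S ≤ Subgroup.normalizer (E : Set G) := fun x hx => norm_lift x (hSC hx)
  -- `E` is self-centralising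
  have hCEG : Subgroup.centralizer (E : Set G) ≤ E := by
    intro g hg
    have hk : g ∈ Subgroup.centralizer ({a} : Set G) :=
      (hCmem g).2 (Subgroup.mem_centralizer_iff.1 hg a haE).symm
    exact hCE g hk (fun x hx => (Subgroup.mem_centralizer_iff.1 hg x hx).symm)
  -- the normaliser of `S` centralises `a`
  have hNC : ∀ g ∈ Subgroup.normalizer (S : Set G), g * a = a * g := by
    intro g hg
    have hu : g * a * g⁻¹ ∈ S := (Subgroup.mem_normalizer_iff.1 hg a).1 haS
    have hscomm : ∀ j < nS, g * a * g⁻¹ * ss j = ss j * (g * a * g⁻¹) := by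
      intro j hj
      have hy : g⁻¹ * ss j * g ∈ S := (Subgroup.mem_normalizer_iff''.1 hg (ss j)).1 (hssS j hj)
      have h1 := hcomm_a _ hy
      calc g * a * g⁻¹ * ss j = g * (a * (g⁻¹ * ss j * g)) * g⁻¹ := by group
        _ = g * ((g⁻¹ * ss j * g) * a) * g⁻¹ := by rw [h1]
        _ = ss j * (g * a * g⁻¹) := by group
    rcases hZS _ hu hscomm with h | h
    · exfalso
      apply ha1
      have : a = g⁻¹ * (g * a * g⁻¹) * g := by group
      rw [this, h]
      group
    · have := congrArg (· * g) h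
      simpa using this
  -- the generators of the centraliser
  have hcsmem : ∀ j < 3, cs j ∈ Subgroup.closure
      {x : G | x ∈ Subgroup.normalizer (E : Set G) ∧ ∃ n : ℕ, orderOf x = 2 ^ n} := by
    intro j hj
    apply Subgroup.subset_closure
    refine ⟨norm_lift _ (by rw [hC]; exact Subgroup.subset_closure ⟨j, hj, rfl⟩), ?_⟩
    have h2 := orderOf_dvd_of_pow_eq_one (hcs j hj)
    rcases (Nat.dvd_prime Nat.prime_two).1 h2 with h | h
    · exact ⟨0, by rw [h, pow_zero]⟩
    · exact ⟨1, by rw [h, pow_one]⟩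
  have hCmap : ∀ k ∈ Subgroup.centralizer ({a} : Set G), k ∈ Subgroup.closure
      {x : G | x ∈ Subgroup.normalizer (E : Set G) ∧ ∃ n : ℕ, orderOf x = 2 ^ n} := by
    intro k hk
    rw [hC] at hk
    refine (Subgroup.closure_le _).2 ?_ hk
    rintro x ⟨j, hj, rfl⟩
    exact hcsmem j hj
  -- the Sylow subgroup
  have hcardS : Nat.card S = 2 ^ (Nat.card G).factorization 2 := by
    rw [hS, hG, factorization_j2]
    norm_num
  have hcoe : ((Sylow.ofCard S hcardS : Sylow 2 G) : Subgroup G) = S := Sylow.coe_ofCard S hcardS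
  refine Cfsg.Agent.Helper84.isSimple_of_locGen_conj 2 (Sylow.ofCard S hcardS) ?_ ?_ ?_ T
  · rw [hcoe]
    intro h
    rw [h, Subgroup.card_bot] at hS
    omega
  · rw [hcoe]
    intro g hg
    apply Subgroup.subset_closure
    refine ⟨hg, Or.inr (Or.inr ⟨E, hES, hSnorm, hCEG, ?_⟩)⟩
    exact hCmap g ((hCmem g).2 (hNC _ hg))
  · rw [hcoe]
    intro T' hT' hcl
    by_cases hbot : T' = ⊥
    · exact Or.inl hbot
    right
    apply le_antisymm hT'
    have hP : IsPGroup 2 T' := (IsPGroup.of_card (n := 7) (by rw [hS]; norm_num)).to_le hT'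
    obtain ⟨n, hn⟩ := IsPGroup.iff_card.1 hP
    have hn0 : n ≠ 0 := by
      rintro rfl
      rw [pow_zero] at hn
      exact hbot (Subgroup.card_eq_one.1 hn)
    have h2 : 2 ∣ Nat.card T' := by rw [hn]; exact dvd_pow_self 2 hn0
    obtain ⟨u, hu⟩ := exists_prime_orderOf_dvd_card' 2 h2
    have huG : orderOf (u : G) = 2 := by rw [Subgroup.orderOf_coe, hu]
    have huS : (u : G) ∈ S := hT' u.2
    have hu2 : (u : G) ^ 2 = 1 := by rw [← huG]; exact pow_orderOf_eq_one _
    have hu1 : (u : G) ≠ 1 := by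
      intro h
      rw [h, orderOf_one] at huG
      omega
    -- `a` lies in `T'`
    have haT : a ∈ T' := by
      rcases hinv _ huS hu2 hu1 with ⟨g, hg⟩ | ⟨x, hxS, y, hxy, g, hg⟩
      · have e : a = g * (u : G) * g⁻¹ := by rw [hg]; group
        rw [e]
        apply hcl _ u.2
        rw [← e]
        exact haS
      · have ey : y = x * (u : G) * x⁻¹ := by rw [hxy]; group
        have hyT : y ∈ T' := by
          rw [ey]
          apply hcl _ u.2
          exact S.mul_mem (S.mul_mem hxS huS) (S.inv_mem hxS)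
        have e : a = g * ((u : G) * y) * g⁻¹ := by rw [hg]; group
        rw [e]
        apply hcl _ (T'.mul_mem u.2 hyT)
        rw [← e]
        exact haS
    have hmemT : ∀ j < nS, ss j ∈ T' := by
      intro j
      induction j using Nat.strong_induction_on with
      | _ j ih =>
        intro hj
        rcases Nat.eq_zero_or_pos j with rfl | hpos
        · rw [hss0]; exact haT
        · obtain ⟨g, l, hl, e⟩ := hseq j hj hpos
          have hw : (l.map ss).prod ∈ T' := by
            apply Subgroup.list_prod_mem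
            intro x hx
            rw [List.mem_map] at hx
            obtain ⟨i, hi, rfl⟩ := hx
            exact ih i (hl i hi) (lt_trans (hl i hi) hj)
          have e' : ss j = g * (l.map ss).prod * g⁻¹ := by rw [← e]; group
          rw [e']
          apply hcl _ hw
          rw [← e']
          exact hssS j hj
    rw [hSgen, Subgroup.closure_le]
    rintro x ⟨j, hj, rfl⟩
    exact hmemT j hj

end

/-- the image of the centraliser of an element under an isomorphism -/
theorem map_centralizer_singleton {K G : Type*} [Group K] [Group G] (e : K ≃* G) (t : K) :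
    (Subgroup.centralizer ({t} : Set K)).map e.toMonoidHom =
      Subgroup.centralizer ({e t} : Set G) := by
  ext y
  rw [Subgroup.mem_map, Subgroup.mem_centralizer_singleton_iff]
  constructor
  · rintro ⟨x, hx, rfl⟩
    rw [Subgroup.mem_centralizer_singleton_iff] at hx
    show e x * e t = e t * e x
    rw [← map_mul, ← map_mul, hx]
  · intro hy
    refine ⟨e.symm y, ?_, e.apply_symm_apply y⟩
    rw [Subgroup.mem_centralizer_singleton_iff]
    apply e.injective
    rw [map_mul, map_mul, e.apply_symm_apply]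
    exact hy

theorem map_closure_fun {K G : Type*} [Group K] [Group G] (e : K ≃* G) (f : ℕ → K) (n : ℕ) :
    (Subgroup.closure {g : K | ∃ j < n, g = f j}).map e.toMonoidHom =
      Subgroup.closure {g : G | ∃ j < n, g = e (f j)} := by
  rw [MonoidHom.map_closure]
  congr 1
  ext y
  constructor
  · rintro ⟨x, ⟨j, hj, rfl⟩, rfl⟩
    exact ⟨j, hj, rfl⟩
  · rintro ⟨j, hj, rfl⟩
    exact ⟨f j, ⟨j, hj, rfl⟩, rfl⟩

/-- the same for a group isomorphic to the one carrying the local data -/
theorem fusion_simple_of_local_equiv {K G : Type*} [Group K] [Finite K] [Group G] [Finite G]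
    (e : K ≃* G) (hK : Nat.card K = 604800)
    (a : K) (ha2 : a ^ 2 = 1) (ha1 : a ≠ 1)
    (S E : Subgroup K) (cs ss : ℕ → K) (nS : ℕ)
    (hS : Nat.card S = 128) (hES : E ≤ S) (haE : a ∈ E)
    (hSgen : S = Subgroup.closure {g : K | ∃ j < nS, g = ss j})
    (hC : Subgroup.centralizer ({a} : Set K) = Subgroup.closure {g : K | ∃ j < 3, g = cs j})
    (hcs : ∀ j < 3, cs j ^ 2 = 1)
    (hSC : S ≤ Subgroup.centralizer ({a} : Set K))
    (hnorm : ∀ k ∈ Subgroup.centralizer ({a} : Set K), ∀ x ∈ E, k * x * k⁻¹ ∈ E)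
    (hZS : ∀ s ∈ S, (∀ j < nS, s * ss j = ss j * s) → s = 1 ∨ s = a)
    (hCE : ∀ k ∈ Subgroup.centralizer ({a} : Set K), (∀ x ∈ E, k * x = x * k) → k ∈ E)
    (hinv : ∀ u ∈ S, u ^ 2 = 1 → u ≠ 1 →
      (∃ g : K, g * u = a * g) ∨ ∃ x ∈ S, ∃ y : K, x * u = y * x ∧ ∃ g : K, g * (u * y) = a * g)
    (hss0 : ss 0 = a)
    (hseq : ∀ j < nS, 0 < j → ∃ g : K, ∃ l : List ℕ, (∀ i ∈ l, i < j) ∧
      ss j * g = g * (l.map ss).prod)
    (T : Sylow 2 G) : (groupFusionSystem (T : Subgroup G)).IsSimple 2 := by
  have hmapC := map_centralizer_singleton e a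
  have hCmem : ∀ y ∈ Subgroup.centralizer ({e a} : Set G),
      ∃ x ∈ Subgroup.centralizer ({a} : Set K), e x = y := by
    intro y hy
    rw [← hmapC] at hy
    exact hy
  refine fusion_simple_of_local (G := G) (by rw [← Nat.card_congr e.toEquiv, hK]) (e a)
    (by rw [← map_pow, ha2, map_one]) (fun h => ha1 ((MulEquiv.map_eq_one_iff e).1 h))
    (S.map e.toMonoidHom) (E.map e.toMonoidHom) (fun j => e (cs j)) (fun j => e (ss j)) nS
    ?_ (Subgroup.map_mono hES) (Subgroup.mem_map_of_mem _ haE) ?_ ?_ ?_ ?_ ?_ ?_ ?_ ?_ ?_ ?_ T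
  · rw [Subgroup.card_map_of_injective e.injective, hS]
  · rw [hSgen, map_closure_fun]
  · rw [← hmapC, hC, map_closure_fun]
  · intro j hj
    show e (cs j) ^ 2 = 1
    rw [← map_pow, hcs j hj, map_one]
  · rw [← hmapC]
    exact Subgroup.map_mono hSC
  · intro k hk x hx
    obtain ⟨k0, hk0, rfl⟩ := hCmem k hk
    obtain ⟨x0, hx0, rfl⟩ := hx
    refine ⟨k0 * x0 * k0⁻¹, hnorm k0 hk0 x0 hx0, ?_⟩
    show e (k0 * x0 * k0⁻¹) = e k0 * e x0 * (e k0)⁻¹
    rw [map_mul, map_mul, map_inv]
  · rintro _ ⟨s0, hs0, rfl⟩ hcomm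
    have : s0 = 1 ∨ s0 = a := by
      apply hZS s0 hs0
      intro j hj
      apply e.injective
      rw [map_mul, map_mul]
      exact hcomm j hj
    rcases this with rfl | rfl
    · left; exact map_one e
    · right; rfl
  · intro k hk hcomm
    obtain ⟨k0, hk0, rfl⟩ := hCmem k hk
    refine ⟨k0, hCE k0 hk0 ?_, rfl⟩
    intro x hx
    apply e.injective
    rw [map_mul, map_mul]
    exact hcomm _ (Subgroup.mem_map_of_mem _ hx)
  · rintro _ ⟨u0, hu0, rfl⟩ hu2 hu1
    have hu2' : u0 ^ 2 = 1 := by
      apply e.injective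
      rw [map_pow, map_one]
      exact hu2
    have hu1' : u0 ≠ 1 := by
      rintro rfl
      exact hu1 (map_one e)
    rcases hinv u0 hu0 hu2' hu1' with ⟨g, hg⟩ | ⟨x, hxS, y, hxy, g, hg⟩
    · left
      refine ⟨e g, ?_⟩
      show e g * e u0 = e a * e g
      rw [← map_mul, ← map_mul, hg]
    · right
      refine ⟨e x, Subgroup.mem_map_of_mem _ hxS, e y, ?_, e g, ?_⟩
      · show e x * e u0 = e y * e x
        rw [← map_mul, ← map_mul, hxy]
      · show e g * (e u0 * e y) = e a * e g
        rw [← map_mul, ← map_mul, ← map_mul, hg]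
  · show e (ss 0) = e a
    rw [hss0]
  · intro j hj hpos
    obtain ⟨g, l, hl, h⟩ := hseq j hj hpos
    refine ⟨e g, l, hl, ?_⟩
    show e (ss j) * e g = e g * (l.map (fun j => e (ss j))).prod
    have : (l.map (fun j => e (ss j))).prod = e ((l.map ss).prod) := by
      rw [map_list_prod, List.map_map]
      rfl
    rw [this, ← map_mul, ← map_mul, h]

end Cfsg.Agent.Helper98.J2
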