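import Cfsg.Agent.Helper98.J2Check4
import Cfsg.Agent.Helper98.J2Loc

/-!
# Local analysis of the Hall–Janko group on 315 points
-/

set_option autoImplicit false

namespace Cfsg.Agent.Helper98.J2

open Cfsg Cfsg.Agent.Helper7.J2

/-- the involution -/
noncomputable def aM : ↥G315 := elM aT

theorem aT_lt : aT < 604800 := by decide

theorem g315_mem (k : Fin 4) : g315 k ∈ G315 := Subgroup.subset_closure ⟨k, rfl⟩

theorem aM_coe : ((aM : ↥G315) : P315) = g315 0 := by
  have h := chkA_ok
  simp only [chkA, Bool.and_eq_true] at h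
  obtain ⟨⟨h1, -⟩, -⟩ := h
  rw [aM, elM_coe aT_lt, ← triP_prod]
  have := prod_eq_of_baseEq (gs := [g315 0]) (hs := triP aT) (cs := [sCode.getD 0 0])
    (ds := triC aT) (.cons (isCode_g315 0) .nil) (triP_code aT_lt)
    (by
      intro g hg
      rw [List.mem_singleton] at hg
      rw [hg]
      exact g315_mem 0) (triP_mem aT_lt) h1
  rw [← this, List.prod_singleton]

theorem aM_sq : aM ^ 2 = 1 := by
  have h := chkA_ok
  simp only [chkA, Bool.and_eq_true] at h
  have := wEq_spec h.1.2
  rw [wordM_two, wordM_one, elM_zero] at this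
  rw [pow_two]
  exact this

theorem aM_ne : aM ≠ 1 := by
  have h := chkA_ok
  simp only [chkA, Bool.and_eq_true] at h
  have := wNe_spec h.2
  rw [wordM_one, wordM_one, elM_zero] at this
  exact this

/-! ### the centraliser of the involution -/

theorem LM_comm {x : ↥G315} (hx : x ∈ LM) : x * aM = aM * x := by
  obtain ⟨t, ht, rfl⟩ := mem_LM_iff.1 hx
  have h := chkCent1_ok
  rw [chkCent1, allBelow_eq_true] at h
  have := wEq_spec (h t ht)
  rwa [wordM_two, wordM_two] at this

theorem U0_not_comm {i : ℕ} (hi : i < 315) (h0 : i ≠ 0) : ¬ Commute (U0 i) (g315 0) := by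
  have h := chkSep_ok
  simp only [chkSep, List.all_eq_true, List.mem_range, Bool.or_eq_true, beq_iff_eq, withNat_eq,
    Bool.and_eq_true, decide_eq_true_eq, bne_iff_ne] at h
  rcases h i hi with h | ⟨hp, hne⟩
  · exact absurd h h0
  · intro e
    apply hne
    have hc := U0_code hi
    have ha := isCode_g315 0
    have e1 := congrArg (fun f : P315 => ((f ⟨sepP.getD i 0, hp⟩ : Fin 315) : ℕ)) e.eq
    simp only [Equiv.Perm.mul_apply] at e1
    rw [hc, ha, ha, hc] at e1
    exact e1

theorem centralizer_aM : Subgroup.centralizer ({aM} : Set ↥G315) = LM := by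
  ext x
  rw [Subgroup.mem_centralizer_singleton_iff]
  constructor
  · intro hx
    obtain ⟨t, ht, rfl⟩ := exists_elM x
    rw [mem_LM_iff]
    by_cases h0 : t / 1920 = 0
    · exact ⟨t, by omega, rfl⟩
    · exfalso
      have hi : t / 1920 < 315 := by omega
      have hr : t % 1920 < 1920 := Nat.mod_lt _ (by norm_num)
      have hsplit : elG t = U0 (t / 1920) * elG (t % 1920) := by
        have e0 : t % 1920 / 1920 = 0 := by omega
        have e1 : t % 1920 / 12 % 160 = t / 12 % 160 := by omega
        have e2 : t % 1920 % 12 = t % 12 := by omega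
        rw [elG, elG, e0, e1, e2, U0_zero, one_mul, mul_assoc]
      have hy : elM (t % 1920) ∈ LM := mem_LM_iff.2 ⟨_, hr, rfl⟩
      have hyc := LM_comm hy
      have hx' : Commute (elG t) (g315 0) := by
        have := congrArg Subtype.val hx
        rw [Subgroup.coe_mul, Subgroup.coe_mul, aM_coe, elM_coe ht] at this
        exact this
      have hy' : Commute (elG (t % 1920)) (g315 0) := by
        have := congrArg Subtype.val hyc
        rw [Subgroup.coe_mul, Subgroup.coe_mul, aM_coe, elM_coe (by omega)] at this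
        exact this
      apply U0_not_comm hi h0
      have hU : U0 (t / 1920) = elG t * (elG (t % 1920))⁻¹ := by rw [hsplit]; group
      rw [hU]
      exact hx'.mul_left hy'.inv_left
  · intro hx
    exact LM_comm hx

/-! ### three involutions generating the centraliser -/

/-- three involutions generating the centraliser -/
noncomputable def csM (j : ℕ) : ↥G315 := elM (csT.getD j 0)

theorem csT_facts {j : ℕ} (hj : j < 3) :
    csT.getD j 0 < 1920 ∧ wEq [csT.getD j 0, csT.getD j 0] [0] = true := by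
  have h := chkCs_ok
  simp only [chkCs, Bool.and_eq_true, List.all_eq_true, decide_eq_true_eq, beq_iff_eq] at h
  obtain ⟨⟨hl, h1⟩, -⟩ := h
  exact h1 _ (by
    rw [List.getD_eq_getElem _ _ (by rw [hl]; exact hj)]
    exact List.getElem_mem _)

theorem csM_mem {j : ℕ} (hj : j < 3) : csM j ∈ LM :=
  mem_LM_iff.2 ⟨_, (csT_facts hj).1, rfl⟩

theorem csM_sq {j : ℕ} (hj : j < 3) : csM j ^ 2 = 1 := by
  have := wEq_spec (csT_facts hj).2
  rw [wordM_two, wordM_one, elM_zero] at this
  rw [pow_two]
  exact this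

theorem csM_comm {j : ℕ} (hj : j < 3) :
    ∃ u ∈ LM, ∃ v ∈ LM, csM j = u * v * u⁻¹ * v⁻¹ := by
  have h := chkCs_ok
  simp only [chkCs, Bool.and_eq_true, List.all_eq_true, List.mem_range, withNat_eq,
    decide_eq_true_eq] at h
  obtain ⟨⟨hu, hv⟩, he⟩ := h.2 j hj
  refine ⟨_, mem_LM_iff.2 ⟨_, hu, rfl⟩, _, mem_LM_iff.2 ⟨_, hv, rfl⟩, ?_⟩
  have := wEq_spec he
  rw [wordM_three, wordM_two] at this
  show elM (csT.getD j 0) = _
  rw [← this]
  group

theorem wordM_mem_closure_cs {ws : List ℕ} (h : ∀ t ∈ ws, t ∈ csT) :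
    wordM ws ∈ Subgroup.closure {g : ↥G315 | ∃ j < 3, g = csM j} := by
  induction ws with
  | nil => exact Subgroup.one_mem _
  | cons t ws ih =>
    rw [wordM_cons]
    refine Subgroup.mul_mem _ ?_ (ih fun s hs => h s (by simp [hs]))
    have ht := h t (by simp)
    rw [List.mem_iff_getElem] at ht
    obtain ⟨j, hj, e⟩ := ht
    apply Subgroup.subset_closure
    refine ⟨j, hj, ?_⟩
    rw [csM, List.getD_eq_getElem _ _ hj, e]

theorem gC_eq {j : ℕ} (hj : j < 2) :
    gC j = ((wordM (gcW.getD j []) : ↥G315) : P315) ∧ ∀ t ∈ gcW.getD j [], t ∈ csT := by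
  have h := chkGc_ok
  simp only [chkGc, Bool.and_eq_true, List.all_eq_true, List.mem_range] at h
  obtain ⟨h1, h2⟩ := h j hj
  have hlt : gcT.getD j 0 < 604800 := by
    simp only [wEq, Bool.and_eq_true] at h2
    exact okL_spec h2.1.1 _ (by simp)
  have h3 := wEq_spec h2
  have h4 := chkNc_ok
  simp only [chkNc, Bool.and_eq_true, List.all_eq_true, List.contains_iff_mem] at h4
  refine ⟨?_, ?_⟩
  · rw [← h3, wordM_one, elM_coe hlt, ← triP_prod]
    have := prod_eq_of_baseEq (gs := [gC j]) (hs := triP (gcT.getD j 0))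
      (cs := [g1Code.getD j 0]) (ds := triC (gcT.getD j 0)) (.cons (gC_code hj) .nil)
      (triP_code hlt)
      (by
        intro g hg
        rw [List.mem_singleton] at hg
        rw [hg]
        exact L1_le (gC_mem hj)) (triP_mem hlt) h1
    rw [← this, List.prod_singleton]
  · apply h4.2
    have hj' : j < gcW.length := hj
    rw [List.getD_eq_getElem _ _ hj']
    exact List.getElem_mem _

theorem LM_eq_closure : LM = Subgroup.closure {g : ↥G315 | ∃ j < 3, g = csM j} := by
  apply le_antisymm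
  · intro x hx
    have hx' : (x : P315) ∈ L1 := hx
    have hle : L1 ≤ (Subgroup.closure {g : ↥G315 | ∃ j < 3, g = csM j}).map G315.subtype := by
      rw [L1_eq_closure, Subgroup.closure_le]
      rintro g (rfl | rfl)
      · obtain ⟨e, hw⟩ := gC_eq (j := 0) (by norm_num)
        exact ⟨_, wordM_mem_closure_cs hw, e.symm⟩
      · obtain ⟨e, hw⟩ := gC_eq (j := 1) (by norm_num)
        exact ⟨_, wordM_mem_closure_cs hw, e.symm⟩
    obtain ⟨k, hk, e⟩ := hle hx'
    have : k = x := Subtype.ext e
    rw [← this]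
    exact hk
  · rw [Subgroup.closure_le]
    rintro g ⟨j, hj, rfl⟩
    exact csM_mem hj

/-! ### the extraspecial subgroup -/

/-- the extraspecial subgroup -/
noncomputable def EM : Subgroup ↥G315 := tblSub genE

theorem lenE : tabE.length = 32 := by decide

theorem mem_EM_iff {x : ↥G315} : x ∈ EM ↔ ∃ i < 32, x = elM (tabE.getD i 0) := by
  rw [EM, tbl_mem_iff tblE_ok, lenE]

theorem card_EM : Nat.card EM = 32 := by
  rw [EM, tbl_card tblE_ok nodupE, lenE]

theorem chkE1_facts : tabE.contains aT = true ∧ (∀ t ∈ tabE, t < 1920) ∧ genE.length = 5 := by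
  have h := chkE1_ok
  simp only [chkE1, Bool.and_eq_true, List.all_eq_true, decide_eq_true_eq, beq_iff_eq] at h
  exact ⟨h.1.1.1, h.1.1.2, h.2⟩

theorem tabE_lt {i : ℕ} (hi : i < 32) : tabE.getD i 0 < 1920 := by
  apply chkE1_facts.2.1
  have hi' : i < tabE.length := by rw [lenE]; exact hi
  rw [List.getD_eq_getElem _ _ hi']
  exact List.getElem_mem _

theorem aM_mem_EM : aM ∈ EM := tbl_mem_of_contains tblE_ok chkE1_facts.1

theorem EM_le_LM : EM ≤ LM := by
  intro x hx
  obtain ⟨i, hi, rfl⟩ := mem_EM_iff.1 hx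
  exact mem_LM_iff.2 ⟨_, tabE_lt hi, rfl⟩

theorem genE_mem {k : ℕ} (hk : k < 5) : elM (genE.getD k 0) ∈ EM :=
  Subgroup.subset_closure ⟨k, by rw [chkE1_facts.2.2]; exact hk, rfl⟩

theorem EM_norm : ∀ k ∈ LM, ∀ x ∈ EM, k * x * k⁻¹ ∈ EM := by
  intro k hk
  rw [LM_eq_closure] at hk
  revert k
  apply closure_left_inductionM
  · intro x hx
    simpa using hx
  · rintro s ⟨j, hj, rfl⟩ y ih x hx
    have h1 := ih x hx
    obtain ⟨i, hi, e⟩ := mem_EM_iff.1 h1
    have h := chkNormE_ok
    simp only [chkNormE, List.all_eq_true, List.mem_range, withNat_eq, Bool.and_eq_true,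
      decide_eq_true_eq] at h
    obtain ⟨hk, he⟩ := h j hj i hi
    have := wEq_spec he
    rw [wordM_two, wordM_two] at this
    have e2 : csM j * y * x * (csM j * y)⁻¹ = csM j * (y * x * y⁻¹) * (csM j)⁻¹ := by group
    rw [e2, e]
    have e3 : csM j * elM (tabE.getD i 0) * (csM j)⁻¹ =
        elM (tabE.getD ((normE.getD j []).getD i 0) 0) := by
      rw [csM, this]
      group
    rw [e3]
    exact mem_EM_iff.2 ⟨_, hk, rfl⟩

theorem EM_sq : ∀ x ∈ EM, x * x = 1 ∨ x * x = aM := by
  intro x hx
  obtain ⟨i, hi, rfl⟩ := mem_EM_iff.1 hx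
  have h := chkSqE_ok
  simp only [chkSqE, List.all_eq_true, List.mem_range, withNat_eq, Bool.or_eq_true] at h
  rcases h i hi with h | h
  · left
    have := wEq_spec h
    rwa [wordM_two, wordM_one, elM_zero] at this
  · right
    have := wEq_spec h
    rwa [wordM_two, wordM_one] at this

theorem EM_comm : ∀ x ∈ EM, ∀ y ∈ EM, x * y = y * x ∨ x * y = aM * y * x := by
  intro x hx y hy
  obtain ⟨i, hi, rfl⟩ := mem_EM_iff.1 hx
  obtain ⟨j, hj, rfl⟩ := mem_EM_iff.1 hy
  have h := chkCommE_ok
  simp only [chkCommE, List.all_eq_true, List.mem_range, withNat_eq, Bool.or_eq_true] at h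
  rcases h i hi j hj with h | h
  · left
    have := wEq_spec h
    rwa [wordM_two, wordM_two] at this
  · right
    have := wEq_spec h
    rwa [wordM_two, wordM_three] at this

theorem EM_cen : ∀ x ∈ EM, (∀ y ∈ EM, x * y = y * x) → x = 1 ∨ x = aM := by
  intro x hx hc
  obtain ⟨i, hi, rfl⟩ := mem_EM_iff.1 hx
  have h := chkCenE_ok
  simp only [chkCenE, List.all_eq_true, List.mem_range, withNat_eq, Bool.or_eq_true,
    beq_iff_eq, List.any_eq_true] at h
  rcases h i hi with (h | h) | ⟨k, hk, h⟩
  · left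
    rw [h, elM_zero]
  · right
    rw [h]
    rfl
  · exfalso
    have := wNe_spec h
    rw [wordM_two, wordM_two] at this
    exact this (hc _ (genE_mem hk))

theorem EM_nc : ∃ x ∈ EM, ∃ y ∈ EM, x * y ≠ y * x := by
  have h := chkNc_ok
  simp only [chkNc, Bool.and_eq_true] at h
  have := wNe_spec h.1
  rw [wordM_two, wordM_two] at this
  exact ⟨_, genE_mem (k := 1) (by norm_num), _, genE_mem (k := 3) (by norm_num), this⟩

/-- the centraliser of a 2A-involution has shape `2^{1+4}.A₅` -/
theorem centShape_aM : CentShape aM := by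
  refine centShape_of_local aM aM_sq aM_ne (by rw [centralizer_aM, card_LM]) EM card_EM aM_mem_EM
    (by rw [centralizer_aM]; exact EM_le_LM) (by rw [centralizer_aM]; exact EM_norm)
    EM_sq EM_comm EM_cen EM_nc csM 3 (by rw [centralizer_aM, LM_eq_closure]) ?_
  intro j hj
  rw [centralizer_aM]
  exact csM_comm hj

end Cfsg.Agent.Helper98.J2
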