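import Cfsg.Agent.Helper98.J2Check5
import Cfsg.Agent.Helper98.J2Fus
import Cfsg.Prelude.Def_KGroupFacts

/-!
# The outer automorphism group of the Hall–Janko group on 315 points has order two
-/

set_option autoImplicit false

namespace Cfsg.Agent.Helper98.J2

open Cfsg Cfsg.Agent.Helper7.J2
open scoped Pointwise

/-! ### the class of the involution -/

theorem elG_split (t : ℕ) : elG t = U0 (t / 1920) * elG (t % 1920) := by
  have e0 : t % 1920 / 1920 = 0 := by omega
  have e1 : t % 1920 / 12 % 160 = t / 12 % 160 := by omega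
  have e2 : t % 1920 % 12 = t % 12 := by omega
  rw [elG, elG, e0, e1, e2, U0_zero, one_mul, mul_assoc]

theorem elG_mul1920 (i : ℕ) : elG (1920 * i) = U0 i := by
  have e0 : 1920 * i / 1920 = i := by omega
  have e1 : 1920 * i / 12 % 160 = 0 := by omega
  have e2 : 1920 * i % 12 = 0 := by omega
  rw [elG, e0, e1, e2, U1_zero, U2_zero, mul_one, mul_one]

theorem elM_split {t : ℕ} (ht : t < 604800) :
    elM t = elM (1920 * (t / 1920)) * elM (t % 1920) := by
  apply Subtype.ext
  rw [Subgroup.coe_mul, elM_coe ht, elM_coe (by omega), elM_coe (by omega), elG_mul1920]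
  exact elG_split t

/-- the conjugates of the involution -/
noncomputable def rM (i : ℕ) : ↥G315 := elM (rT.getD i 0)

/-- further involutions of the class -/
noncomputable def yM : ↥G315 := elM yT

/-- further involutions of the class -/
noncomputable def z2M : ↥G315 := elM z2T

/-- further involutions of the class -/
noncomputable def z3M : ↥G315 := elM z3T

/-- further involutions of the class -/
noncomputable def z2M' : ↥G315 := elM z2T'

/-- further involutions of the class -/
noncomputable def z3M' : ↥G315 := elM z3T'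

theorem chkR_facts : rT.getD 0 1 = aT ∧ rT.getD yI 0 = yT ∧ rT.getD z2I 0 = z2T ∧
    rT.getD z3I 0 = z3T ∧ yI < 315 ∧ z2I < 315 ∧ z3I < 315 ∧ yM ≠ aM ∧
    ∀ i < 315, elM (1920 * i) * aM = rM i * elM (1920 * i) := by
  have h := chkR_ok
  simp only [chkR, Bool.and_eq_true, beq_iff_eq, decide_eq_true_eq, List.all_eq_true,
    List.mem_range] at h
  obtain ⟨⟨⟨⟨⟨⟨⟨⟨h0, h1⟩, h2⟩, h3⟩, h4⟩, h5⟩, h6⟩, h7⟩, h8⟩ := h
  refine ⟨h0, h1, h2, h3, h4, h5, h6, ?_, ?_⟩
  · have := wNe_spec h7
    rwa [wordM_one, wordM_one] at this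
  · intro i hi
    have := wEq_spec (h8 i hi)
    rwa [wordM_two, wordM_two] at this

theorem rM_zero : rM 0 = aM := by
  have h := chkR_facts.1
  have hl : 0 < rT.length := by decide +kernel
  rw [List.getD_eq_getElem _ _ hl] at h
  rw [rM, List.getD_eq_getElem _ _ hl, h]
  rfl

theorem rM_conj {i : ℕ} (hi : i < 315) :
    elM (1920 * i) * aM * (elM (1920 * i))⁻¹ = rM i := by
  rw [chkR_facts.2.2.2.2.2.2.2.2 i hi, mul_inv_cancel_right]

theorem conj_aM (g : ↥G315) : ∃ i < 315, g * aM * g⁻¹ = rM i := by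
  obtain ⟨t, ht, rfl⟩ := exists_elM g
  refine ⟨t / 1920, by omega, ?_⟩
  have hc : elM (t % 1920) ∈ LM := mem_LM_iff.2 ⟨_, Nat.mod_lt _ (by norm_num), rfl⟩
  have hcomm := LM_comm hc
  rw [← rM_conj (by omega : t / 1920 < 315), elM_split ht]
  calc elM (1920 * (t / 1920)) * elM (t % 1920) * aM * (elM (1920 * (t / 1920)) * elM (t % 1920))⁻¹
      = elM (1920 * (t / 1920)) * (elM (t % 1920) * aM) * (elM (t % 1920))⁻¹ *
          (elM (1920 * (t / 1920)))⁻¹ := by group
    _ = elM (1920 * (t / 1920)) * aM * (elM (1920 * (t / 1920)))⁻¹ := by rw [hcomm]; group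

theorem yM_eq : yM = rM yI := by rw [rM, chkR_facts.2.1]; rfl

theorem z2M_eq : z2M = rM z2I := by rw [rM, chkR_facts.2.2.1]; rfl

theorem z3M_eq : z3M = rM z3I := by rw [rM, chkR_facts.2.2.2.1]; rfl

/-- the image of a conjugate of the involution under an automorphism fixing it -/
theorem aut_rM (α : MulAut ↥G315) (ha : α aM = aM) {i : ℕ} (hi : i < 315) :
    ∃ j < 315, α (rM i) = rM j := by
  obtain ⟨j, hj, e⟩ := conj_aM (α (elM (1920 * i)))
  refine ⟨j, hj, ?_⟩
  rw [← rM_conj hi, map_mul, map_mul, map_inv, ha, e]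

/-! ### words and tests -/

theorem wordM_flatW (v pat : List ℕ) (k : ℕ) :
    wordM (flatW v pat k) = wordM (pat.map fun l => v.getD l 0) ^ k := by
  induction k with
  | zero => rfl
  | succ k ih =>
    rw [flatW, List.replicate_succ, List.flatten_cons, wordM_append, pow_succ']
    congr 1

theorem map_wordM_pat (α : MulAut ↥G315) (v v' pat : List ℕ)
    (h : ∀ l, α (elM (v.getD l 0)) = elM (v'.getD l 0)) :
    α (wordM (pat.map fun l => v.getD l 0)) = wordM (pat.map fun l => v'.getD l 0) := by
  induction pat with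
  | nil => exact map_one α
  | cons l pat ih => rw [List.map_cons, List.map_cons, wordM_cons, wordM_cons, map_mul, h, ih]

theorem wordM_zero : wordM [0] = 1 := by rw [wordM_one, elM_zero]

theorem test_sound (α : MulAut ↥G315) (v v' : List ℕ) (T : List ℕ × ℕ × Bool)
    (hl : ∀ l, α (elM (v.getD l 0)) = elM (v'.getD l 0)) (hh : holdsT v T = true)
    (hf : failsT v' T = true) : False := by
  have key : α (wordM (flatW v T.1 T.2.1)) = wordM (flatW v' T.1 T.2.1) := by
    rw [wordM_flatW, wordM_flatW, map_pow, map_wordM_pat α v v' T.1 hl]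
  rw [holdsT] at hh
  rw [failsT] at hf
  by_cases hT : T.2.2 = true
  · rw [if_pos hT] at hh hf
    have h1 := wEq_spec hh
    have h2 := wNe_spec hf
    rw [wordM_zero] at h1 h2
    apply h2
    rw [← key, h1, map_one]
  · rw [if_neg hT] at hh hf
    have h1 := wNe_spec hh
    have h2 := wEq_spec hf
    rw [wordM_zero] at h1 h2
    apply h1
    apply α.injective
    rw [key, h2, map_one]

theorem chkBase_facts : (∀ T ∈ tests3, holdsT [aT, yT, z2T] T = true) ∧
    (∀ T ∈ tests4, holdsT [aT, yT, z2T, z3T] T = true) := by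
  have h := chkBase_ok
  simp only [chkBase, Bool.and_eq_true, List.all_eq_true] at h
  exact h

theorem letters3 (α : MulAut ↥G315) (x0 x1 x2 x2' : ℕ) (h0 : α (elM x0) = elM x0)
    (h1 : α (elM x1) = elM x1) (h2 : α (elM x2) = elM x2') :
    ∀ l, α (elM ([x0, x1, x2].getD l 0)) = elM ([x0, x1, x2'].getD l 0) := by
  intro l
  match l with
  | 0 => exact h0
  | 1 => exact h1
  | 2 => exact h2
  | l + 3 =>
    simp only [List.getD_cons_succ, List.getD_nil]
    rw [elM_zero, map_one]

theorem letters4 (α : MulAut ↥G315) (x0 x1 x2 x2' x3 x3' : ℕ) (h0 : α (elM x0) = elM x0)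
    (h1 : α (elM x1) = elM x1) (h2 : α (elM x2) = elM x2') (h3 : α (elM x3) = elM x3') :
    ∀ l, α (elM ([x0, x1, x2, x3].getD l 0)) = elM ([x0, x1, x2', x3'].getD l 0) := by
  intro l
  match l with
  | 0 => exact h0
  | 1 => exact h1
  | 2 => exact h2
  | 3 => exact h3
  | l + 4 =>
    simp only [List.getD_cons_succ, List.getD_nil]
    rw [elM_zero, map_one]

/-! ### reduction of an automorphism -/

/-- after an inner automorphism, the involution is fixed -/
theorem exists_fix_aM (α : MulAut ↥G315) : ∃ g : ↥G315, (MulAut.conj g * α) aM = aM := by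
  haveI : Fact (Nat.Prime 2) := ⟨Nat.prime_two⟩
  have hc : Nat.card SM = 2 ^ (Nat.card ↥G315).factorization 2 := by
    rw [card_SM, card_G315, factorization_j2]
    norm_num
  have hc' : Nat.card (SM.map α.toMonoidHom) = 2 ^ (Nat.card ↥G315).factorization 2 := by
    rw [Subgroup.card_map_of_injective α.injective]
    exact hc
  obtain ⟨g, hg⟩ := MulAction.exists_smul_eq ↥G315 (Sylow.ofCard _ hc') (Sylow.ofCard _ hc)
  have hg' : MulAut.conj g • (SM.map α.toMonoidHom) = SM := by
    have := congrArg (fun P : Sylow 2 ↥G315 => (P : Subgroup ↥G315)) hg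
    simpa only [Sylow.coe_subgroup_smul, Sylow.coe_ofCard] using this
  have hmem : ∀ s ∈ SM, g * α s * g⁻¹ ∈ SM := by
    intro s hs
    rw [← hg']
    have := Subgroup.smul_mem_pointwise_smul (α s) (MulAut.conj g) (SM.map α.toMonoidHom)
      (Subgroup.mem_map_of_mem _ hs)
    rwa [MulAut.smul_def, MulAut.conj_apply] at this
  have hsurj : ∀ x ∈ SM, ∃ s ∈ SM, x = g * α s * g⁻¹ := by
    intro x hx
    rw [← hg', Subgroup.mem_pointwise_smul_iff_inv_smul_mem] at hx
    obtain ⟨s, hs, e⟩ := hx
    refine ⟨s, hs, ?_⟩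
    have e' : α s = g⁻¹ * x * g := by
      rw [MulAut.smul_def, ← map_inv, MulAut.conj_apply, inv_inv] at e
      exact e
    rw [e']
    group
  have haS : aM ∈ SM := EM_le_SM aM_mem_EM
  have hu : g * α aM * g⁻¹ ∈ SM := hmem aM haS
  have hcomm : ∀ j < 7, g * α aM * g⁻¹ * ssM j = ssM j * (g * α aM * g⁻¹) := by
    intro j hj
    obtain ⟨s, hs, e⟩ := hsurj _ (ssM_mem hj)
    have h1 : s * aM = aM * s := LM_comm (SM_le_LM hs)
    rw [e]
    calc g * α aM * g⁻¹ * (g * α s * g⁻¹) = g * α (aM * s) * g⁻¹ := by rw [map_mul]; group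
      _ = g * α (s * aM) * g⁻¹ := by rw [h1]
      _ = g * α s * g⁻¹ * (g * α aM * g⁻¹) := by rw [map_mul]; group
  refine ⟨g, ?_⟩
  rw [MulAut.mul_apply, MulAut.conj_apply]
  rcases SM_center _ hu hcomm with h | h
  · exfalso
    apply aM_ne
    apply α.injective
    rw [map_one]
    calc α aM = g⁻¹ * (g * α aM * g⁻¹) * g := by group
      _ = 1 := by rw [h]; group
  · exact h

/-- after an inner automorphism, the first two involutions are fixed -/
theorem exists_fix_y (α : MulAut ↥G315) (ha : α aM = aM) :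
    ∃ c : ↥G315, (MulAut.conj c * α) aM = aM ∧ (MulAut.conj c * α) yM = yM := by
  obtain ⟨i, hi, e⟩ := aut_rM α ha chkR_facts.2.2.2.2.1
  rw [← yM_eq] at e
  have h := chk2_ok
  simp only [chk2, Bool.and_eq_true, List.all_eq_true, List.mem_range, Bool.or_eq_true,
    beq_iff_eq, decide_eq_true_eq] at h
  obtain ⟨h3, hall⟩ := h
  have hy3 : (aM * yM) ^ 3 = 1 := by
    have := wEq_spec h3
    rw [wordM_flatW, wordM_zero] at this
    rw [← this]
    congr 1
  rcases hall i hi with (h0 | hne) | ⟨hc, he⟩
  · exfalso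
    rw [h0, rM_zero] at e
    apply chkR_facts.2.2.2.2.2.2.2.1
    apply α.injective
    rw [e, ha]
  · exfalso
    have := wNe_spec hne
    rw [wordM_flatW, wordM_zero] at this
    apply this
    have h4 : α ((aM * yM) ^ 3) = 1 := by rw [hy3, map_one]
    rw [map_pow, map_mul, ha, e] at h4
    rw [← h4]
    congr 1
  · have hcL : elM (cert2.getD i 0) ∈ LM := mem_LM_iff.2 ⟨_, hc, rfl⟩
    have hca := LM_comm hcL
    have hcy := wEq_spec he
    rw [wordM_two, wordM_two] at hcy
    refine ⟨elM (cert2.getD i 0), ?_, ?_⟩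
    · rw [MulAut.mul_apply, MulAut.conj_apply, ha, hca, mul_inv_cancel_right]
    · rw [MulAut.mul_apply, MulAut.conj_apply, e]
      show elM (cert2.getD i 0) * elM (rT.getD i 0) * _ = _
      rw [hcy, mul_inv_cancel_right]
      rfl

theorem chkD_facts {l : ℕ} (hl : l < 12) : elM l * aM = aM * elM l ∧ elM l * yM = yM * elM l := by
  have h := chkD_ok
  simp only [chkD, Bool.and_eq_true, List.all_eq_true, List.mem_range] at h
  obtain ⟨h1, h2⟩ := h l hl
  have e1 := wEq_spec h1
  have e2 := wEq_spec h2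
  rw [wordM_two, wordM_two] at e1 e2
  exact ⟨e1, e2⟩

/-- after a further inner automorphism, the third involution has one of two images -/
theorem exists_norm_z2 (α : MulAut ↥G315) (ha : α aM = aM) (hy : α yM = yM) :
    ∃ d : ↥G315, (MulAut.conj d * α) aM = aM ∧ (MulAut.conj d * α) yM = yM ∧
      ((MulAut.conj d * α) z2M = z2M ∨ (MulAut.conj d * α) z2M = z2M') := by
  obtain ⟨i, hi, e⟩ := aut_rM α ha chkR_facts.2.2.2.2.2.1
  rw [← z2M_eq] at e
  have h := chk3_ok
  simp only [chk3, List.all_eq_true, List.mem_range, withNat_eq, Bool.or_eq_true,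
    List.any_eq_true, Bool.and_eq_true, decide_eq_true_eq] at h
  rcases h i hi with ⟨T, hT, hf⟩ | ⟨hd, he⟩
  · exfalso
    exact test_sound α [aT, yT, z2T] [aT, yT, rT.getD i 0] T
      (letters3 α aT yT z2T (rT.getD i 0) ha hy e) (chkBase_facts.1 T hT) hf
  · obtain ⟨hda, hdy⟩ := chkD_facts hd
    refine ⟨elM (cert3.getD i 0), ?_, ?_, ?_⟩
    · rw [MulAut.mul_apply, MulAut.conj_apply, ha, hda, mul_inv_cancel_right]
    · rw [MulAut.mul_apply, MulAut.conj_apply, hy, hdy, mul_inv_cancel_right]
    · rw [MulAut.mul_apply, MulAut.conj_apply, e]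
      rcases he with he | he
      · left
        have := wEq_spec he
        rw [wordM_two, wordM_two] at this
        show elM (cert3.getD i 0) * elM (rT.getD i 0) * _ = _
        rw [this, mul_inv_cancel_right]
        rfl
      · right
        have := wEq_spec he
        rw [wordM_two, wordM_two] at this
        show elM (cert3.getD i 0) * elM (rT.getD i 0) * _ = _
        rw [this, mul_inv_cancel_right]
        rfl

/-- the image of the fourth involution, first case -/
theorem z3_of_z2 (α : MulAut ↥G315) (ha : α aM = aM) (hy : α yM = yM) (hz : α z2M = z2M) :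
    α z3M = z3M := by
  obtain ⟨j, hj, e⟩ := aut_rM α ha chkR_facts.2.2.2.2.2.2.1
  rw [← z3M_eq] at e
  have h := chk4_ok
  simp only [chk4, List.all_eq_true, List.mem_range, withNat_eq, Bool.or_eq_true,
    List.any_eq_true, beq_iff_eq] at h
  rcases h j hj with ⟨T, hT, hf⟩ | he
  · exfalso
    exact test_sound α [aT, yT, z2T, z3T] [aT, yT, z2T, rT.getD j 0] T
      (letters4 α aT yT z2T z2T z3T (rT.getD j 0) ha hy hz e) (chkBase_facts.2 T hT) hf
  · rw [e, rM, he]
    rfl

/-- the image of the fourth involution, second case -/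
theorem z3_of_z2' (α : MulAut ↥G315) (ha : α aM = aM) (hy : α yM = yM) (hz : α z2M = z2M') :
    α z3M = z3M' := by
  obtain ⟨j, hj, e⟩ := aut_rM α ha chkR_facts.2.2.2.2.2.2.1
  rw [← z3M_eq] at e
  have h := chk4'_ok
  simp only [chk4', List.all_eq_true, List.mem_range, withNat_eq, Bool.or_eq_true,
    List.any_eq_true, beq_iff_eq] at h
  rcases h j hj with ⟨T, hT, hf⟩ | he
  · exfalso
    exact test_sound α [aT, yT, z2T, z3T] [aT, yT, z2T', rT.getD j 0] T
      (letters4 α aT yT z2T z2T' z3T (rT.getD j 0) ha hy hz e) (chkBase_facts.2 T hT) hf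
  · rw [e, rM, he]
    rfl

/-! ### the four involutions generate -/

theorem g315_eq (k : Fin 4) : g315 k = ((elM (sT.getD k 0) : ↥G315) : P315) := by
  have h := chkST_ok
  simp only [chkST, Bool.and_eq_true, List.all_eq_true, List.mem_range, decide_eq_true_eq] at h
  obtain ⟨h1, hlt⟩ := h k k.isLt
  rw [elM_coe hlt, ← triP_prod]
  have := prod_eq_of_baseEq (gs := [g315 k]) (hs := triP (sT.getD k 0)) (cs := [sCode.getD k 0])
    (ds := triC (sT.getD k 0)) (.cons (isCode_g315 k) .nil) (triP_code hlt)
    (by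
      intro g hg
      rw [List.mem_singleton] at hg
      rw [hg]
      exact g315_mem k) (triP_mem hlt) h1
  rw [← this, List.prod_singleton]

theorem closure_four :
    Subgroup.closure ({aM, yM, z2M, z3M} : Set ↥G315) = ⊤ := by
  have hlet : ∀ l, elM ([aT, yT, z2T, z3T].getD l 0) ∈
      Subgroup.closure ({aM, yM, z2M, z3M} : Set ↥G315) := by
    intro l
    match l with
    | 0 => exact Subgroup.subset_closure (by simp [aM])
    | 1 => exact Subgroup.subset_closure (by simp [yM])
    | 2 => exact Subgroup.subset_closure (by simp [z2M])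
    | 3 => exact Subgroup.subset_closure (by simp [z3M])
    | l + 4 =>
      simp only [List.getD_cons_succ, List.getD_nil]
      rw [elM_zero]
      exact Subgroup.one_mem _
  have hword : ∀ pat : List ℕ, wordM (pat.map fun l => [aT, yT, z2T, z3T].getD l 0) ∈
      Subgroup.closure ({aM, yM, z2M, z3M} : Set ↥G315) := by
    intro pat
    induction pat with
    | nil => exact Subgroup.one_mem _
    | cons l pat ih =>
      rw [List.map_cons, wordM_cons]
      exact Subgroup.mul_mem _ (hlet l) ih
  have hgen : ∀ k : Fin 4, elM (sT.getD k 0) ∈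
      Subgroup.closure ({aM, yM, z2M, z3M} : Set ↥G315) := by
    intro k
    have h := chkGen_ok
    simp only [chkGen, List.all_eq_true, List.mem_range] at h
    have := wEq_spec (h k k.isLt)
    rw [wordM_one] at this
    rw [this]
    exact hword _
  rw [eq_top_iff]
  rintro x -
  have hle : G315 ≤ (Subgroup.closure ({aM, yM, z2M, z3M} : Set ↥G315)).map G315.subtype := by
    unfold G315
    rw [Subgroup.closure_le]
    rintro g ⟨k, rfl⟩
    exact ⟨_, hgen k, (g315_eq k).symm⟩
  obtain ⟨k, hk, e⟩ := hle x.2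
  have : k = x := Subtype.ext e
  rw [← this]
  exact hk

theorem aut_ext (β1 β2 : MulAut ↥G315) (h0 : β1 aM = β2 aM) (h1 : β1 yM = β2 yM)
    (h2 : β1 z2M = β2 z2M) (h3 : β1 z3M = β2 z3M) : β1 = β2 := by
  have h : β1.toMonoidHom = β2.toMonoidHom := by
    apply MonoidHom.eq_of_eqOn_dense closure_four
    intro x hx
    simp only [Set.mem_insert_iff, Set.mem_singleton_iff] at hx
    rcases hx with rfl | rfl | rfl | rfl
    · exact h0
    · exact h1
    · exact h2
    · exact h3
  apply MulEquiv.ext
  intro x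
  exact DFunLike.congr_fun h x

/-! ### the outer involution -/

theorem chkTau1_facts : ∀ i < 315, tauTab.getD i 0 < 315 ∧ tauTab.getD (tauTab.getD i 0) 0 = i ∧
    look tauCode i = tauTab.getD i 0 := by
  have h := chkTau1_ok
  simp only [chkTau1, Bool.and_eq_true, List.all_eq_true, List.mem_range, withNat_eq,
    decide_eq_true_eq, beq_iff_eq] at h
  intro i hi
  obtain ⟨⟨h1, h2⟩, h3⟩ := h.2 i hi
  exact ⟨h1, h2, h3⟩

/-- the table of the outer involution as a function -/
def tauFun (j : Fin 315) : Fin 315 := ⟨tauTab.getD j.1 0 % 315, Nat.mod_lt _ (by norm_num)⟩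

theorem tauFun_val (j : Fin 315) : ((tauFun j : Fin 315) : ℕ) = tauTab.getD j.1 0 := by
  show tauTab.getD j.1 0 % 315 = _
  exact Nat.mod_eq_of_lt (chkTau1_facts j.1 j.isLt).1

theorem tauFun_invol (j : Fin 315) : tauFun (tauFun j) = j := by
  apply Fin.ext
  rw [tauFun_val, tauFun_val]
  exact (chkTau1_facts j.1 j.isLt).2.1

/-- the outer involution -/
def tauP : P315 where
  toFun := tauFun
  invFun := tauFun
  left_inv := tauFun_invol
  right_inv := tauFun_invol

theorem tauP_code : IsCode tauP tauCode := by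
  intro i
  show ((tauFun i : Fin 315) : ℕ) = _
  rw [tauFun_val, (chkTau1_facts i.1 i.isLt).2.2]

theorem tauP_sq : tauP * tauP = 1 := by
  apply Equiv.ext
  intro i
  exact tauFun_invol i

theorem tauP_inv : tauP⁻¹ = tauP := inv_eq_of_mul_eq_one_right tauP_sq

theorem tau_comm_of_code {g : P315} {c t : ℕ} (hg : IsCode g c) (ht : t < 604800)
    (h : ((List.range 315).all fun p =>
      look tauCode (look c p) == evalL (triC t) (look tauCode p)) = true) :
    tauP * g = elG t * tauP := by
  simp only [List.all_eq_true, List.mem_range, beq_iff_eq] at h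
  apply Equiv.ext
  intro p
  apply Fin.ext
  rw [Equiv.Perm.mul_apply, Equiv.Perm.mul_apply, tauP_code, hg, ← triP_prod,
    evalL_spec (triP_code ht), tauP_code]
  exact h p p.isLt

theorem tau_comm_of_idx {z z' : ℕ} (hz : z < 604800) (hz' : z' < 604800)
    (h : ((List.range 315).all fun p =>
      look tauCode (evalL (triC z) p) == evalL (triC z') (look tauCode p)) = true) :
    tauP * elG z = elG z' * tauP := by
  simp only [List.all_eq_true, List.mem_range, beq_iff_eq] at h
  apply Equiv.ext
  intro p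
  apply Fin.ext
  rw [Equiv.Perm.mul_apply, Equiv.Perm.mul_apply, tauP_code, ← triP_prod, ← triP_prod,
    evalL_spec (triP_code hz), evalL_spec (triP_code hz'), tauP_code]
  exact h p p.isLt

theorem tauP_conj_mem {g : P315} (hg : g ∈ G315) : tauP * g * tauP ∈ G315 := by
  unfold G315 at hg
  induction hg using Subgroup.closure_induction with
  | mem x hx =>
    obtain ⟨k, rfl⟩ := hx
    have h := chkTau2_ok
    simp only [chkTau2, List.all_eq_true, List.mem_range, Bool.and_eq_true,
      decide_eq_true_eq] at h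
    obtain ⟨hlt, hp⟩ := h k k.isLt
    have hp' : ((List.range 315).all fun p => look tauCode (look (sCode.getD k 0) p) ==
        evalL (triC (tauS.getD k 0)) (look tauCode p)) = true := by
      simp only [List.all_eq_true, List.mem_range]
      exact hp
    rw [tau_comm_of_code (isCode_g315 k) hlt hp', mul_assoc, tauP_sq, mul_one]
    exact elG_mem hlt
  | one =>
    rw [mul_one, tauP_sq]
    exact Subgroup.one_mem _
  | mul x y _ _ ihx ihy =>
    have : tauP * (x * y) * tauP = (tauP * x * tauP) * (tauP * y * tauP) := by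
      calc tauP * (x * y) * tauP = tauP * x * 1 * y * tauP := by group
        _ = tauP * x * (tauP * tauP) * y * tauP := by rw [tauP_sq]
        _ = (tauP * x * tauP) * (tauP * y * tauP) := by group
    rw [this]
    exact Subgroup.mul_mem _ ihx ihy
  | inv x _ ih =>
    have : tauP * x⁻¹ * tauP = (tauP * x * tauP)⁻¹ := by
      rw [mul_inv_rev, mul_inv_rev, tauP_inv, mul_assoc]
    rw [this]
    exact Subgroup.inv_mem _ ih

/-- the outer automorphism -/
noncomputable def tauA : MulAut ↥G315 where
  toFun g := ⟨tauP * g * tauP, tauP_conj_mem g.2⟩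
  invFun g := ⟨tauP * g * tauP, tauP_conj_mem g.2⟩
  left_inv g := by
    apply Subtype.ext
    show tauP * (tauP * g * tauP) * tauP = g
    calc tauP * (tauP * (g : P315) * tauP) * tauP = (tauP * tauP) * g * (tauP * tauP) := by group
      _ = g := by rw [tauP_sq, one_mul, mul_one]
  right_inv g := by
    apply Subtype.ext
    show tauP * (tauP * g * tauP) * tauP = g
    calc tauP * (tauP * (g : P315) * tauP) * tauP = (tauP * tauP) * g * (tauP * tauP) := by group
      _ = g := by rw [tauP_sq, one_mul, mul_one]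
  map_mul' g h := by
    apply Subtype.ext
    show tauP * ((g : P315) * h) * tauP = (tauP * g * tauP) * (tauP * h * tauP)
    calc tauP * ((g : P315) * h) * tauP = tauP * g * 1 * h * tauP := by group
      _ = tauP * g * (tauP * tauP) * h * tauP := by rw [tauP_sq]
      _ = (tauP * g * tauP) * (tauP * h * tauP) := by group

theorem tauA_coe (g : ↥G315) : ((tauA g : ↥G315) : P315) = tauP * g * tauP := rfl

theorem chkTau3_facts {l : ℕ} (hl : l < 4) :
    tauA (elM ([aT, yT, z2T, z3T].getD l 0)) = elM ([aT, yT, z2T', z3T'].getD l 0) := by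
  have h := chkTau3_ok
  simp only [chkTau3, List.all_eq_true, List.mem_range, withNat_eq, Bool.and_eq_true,
    decide_eq_true_eq] at h
  obtain ⟨⟨hz, hz'⟩, hp⟩ := h l hl
  have hp' : ((List.range 315).all fun p =>
      look tauCode (evalL (triC ([aT, yT, z2T, z3T].getD l 0)) p) ==
        evalL (triC ([aT, yT, z2T', z3T'].getD l 0)) (look tauCode p)) = true := by
    simp only [List.all_eq_true, List.mem_range]
    exact hp
  apply Subtype.ext
  rw [tauA_coe, elM_coe hz, elM_coe hz', tau_comm_of_idx hz hz' hp', mul_assoc, tauP_sq, mul_one]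

theorem tauA_a : tauA aM = aM := chkTau3_facts (l := 0) (by norm_num)

theorem tauA_y : tauA yM = yM := chkTau3_facts (l := 1) (by norm_num)

theorem tauA_z2 : tauA z2M = z2M' := chkTau3_facts (l := 2) (by norm_num)

theorem tauA_z3 : tauA z3M = z3M' := chkTau3_facts (l := 3) (by norm_num)

/-! ### the outer involution is not inner -/

theorem chkTau4_facts : look tauCode 0 = 0 ∧ look tauCode 106 = 106 ∧ look tauCode 29 = 29 ∧
    tauMoved < 315 ∧ look tauCode tauMoved ≠ tauMoved ∧
    (∀ p < 315, p = 0 ∨ look (g1Code.getD 0 0) p ≠ p ∨ look (g1Code.getD 1 0) p ≠ p) ∧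
    (∀ p < 315, ∃ i < 315, trPts0.getD i 999 = p) := by
  have h := chkTau4_ok
  simp only [chkTau4, Bool.and_eq_true, beq_iff_eq, decide_eq_true_eq, bne_iff_ne,
    List.all_eq_true, List.mem_range, Bool.or_eq_true, List.any_eq_true] at h
  obtain ⟨⟨⟨⟨⟨⟨h0, h1⟩, h2⟩, h3⟩, h4⟩, h5⟩, h6⟩ := h
  refine ⟨h0, h1, h2, h3, h4, ?_, h6⟩
  intro p hp
  rcases h5 p hp with (h | h) | h
  · exact Or.inl h
  · exact Or.inr (Or.inl h)
  · exact Or.inr (Or.inr h)

/-- the centraliser of the group in the symmetric group is trivial -/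
theorem centralizer_trivial (z : P315) (hz : ∀ h ∈ G315, z * h = h * z) : z = 1 := by
  have hb0 : z b0 = b0 := by
    have hfix : ∀ j < 2, gC j (z b0) = z b0 := by
      intro j hj
      have h1 := hz (gC j) (L1_le (gC_mem hj))
      have h2 := congrArg (fun f : P315 => f b0) h1
      simp only [Equiv.Perm.mul_apply] at h2
      rw [L1_b0 (gC_mem hj)] at h2
      exact h2.symm
    apply Fin.ext
    rcases chkTau4_facts.2.2.2.2.2.1 (z b0).1 (z b0).isLt with h | h | h
    · exact h
    · exfalso
      apply h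
      rw [← gC_code (j := 0) (by norm_num) (z b0), hfix 0 (by norm_num)]
    · exfalso
      apply h
      rw [← gC_code (j := 1) (by norm_num) (z b0), hfix 1 (by norm_num)]
  apply Equiv.ext
  intro p
  obtain ⟨i, hi, e⟩ := chkTau4_facts.2.2.2.2.2.2 p.1 p.isLt
  have hp : U0 i b0 = p := by
    apply Fin.ext
    rw [U0_b0 hi, e]
  have h1 := hz (U0 i) (U0_mem hi)
  have h2 := congrArg (fun f : P315 => f b0) h1
  simp only [Equiv.Perm.mul_apply] at h2
  rw [hb0, hp] at h2
  exact h2

theorem tauP_ne_one : tauP ≠ 1 := by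
  intro h
  obtain ⟨-, -, -, hm, hne, -, -⟩ := chkTau4_facts
  apply hne
  have := tauP_code ⟨tauMoved, hm⟩
  rw [h] at this
  exact this.symm

theorem tauP_not_mem : tauP ∉ G315 := by
  intro h
  apply tauP_ne_one
  obtain ⟨h0, h1, h2, -⟩ := chkTau4_facts
  apply eq_of_base h (Subgroup.one_mem _)
  · apply Fin.ext
    rw [tauP_code b0]
    exact h0
  · apply Fin.ext
    rw [tauP_code b1]
    exact h1
  · apply Fin.ext
    rw [tauP_code b2]
    exact h2

theorem tauA_not_inner (g : ↥G315) : MulAut.conj g ≠ tauA := by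
  intro h
  apply tauP_not_mem
  have hz : (g : P315)⁻¹ * tauP = 1 := by
    apply centralizer_trivial
    intro x hx
    have h1 := congrArg (fun β : MulAut ↥G315 => ((β ⟨x, hx⟩ : ↥G315) : P315)) h
    simp only [MulAut.conj_apply, tauA_coe, Subgroup.coe_mul, Subgroup.coe_inv] at h1
    -- h1 : g * x * g⁻¹ = tauP * x * tauP
    calc (g : P315)⁻¹ * tauP * x = (g : P315)⁻¹ * (tauP * x) * (tauP * tauP) := by
          rw [tauP_sq, mul_one, mul_assoc]
      _ = (g : P315)⁻¹ * (tauP * x * tauP) * tauP := by group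
      _ = (g : P315)⁻¹ * ((g : P315) * x * (g : P315)⁻¹) * tauP := by rw [h1]
      _ = x * ((g : P315)⁻¹ * tauP) := by group
  have : tauP = (g : P315) := by
    have := congrArg (fun f : P315 => (g : P315) * f) hz
    simpa using this
  rw [this]
  exact g.2

/-! ### the count -/

/-- every automorphism is inner or inner times the outer involution -/
theorem aut_class (α : MulAut ↥G315) :
    α ∈ Cfsg.Inn ↥G315 ∨ α * tauA⁻¹ ∈ Cfsg.Inn ↥G315 := by
  obtain ⟨g1, h1⟩ := exists_fix_aM α
  obtain ⟨c, h2a, h2y⟩ := exists_fix_y (MulAut.conj g1 * α) h1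
  obtain ⟨d, h3a, h3y, h3z⟩ := exists_norm_z2 (MulAut.conj c * (MulAut.conj g1 * α)) h2a h2y
  have hcomb : MulAut.conj d * (MulAut.conj c * (MulAut.conj g1 * α)) =
      MulAut.conj (d * c * g1) * α := by
    rw [map_mul, map_mul]
    group
  rw [hcomb] at h3a h3y h3z
  rcases h3z with hz | hz
  · left
    have h4 := z3_of_z2 _ h3a h3y hz
    have : MulAut.conj (d * c * g1) * α = 1 :=
      aut_ext _ _ h3a h3y hz h4
    have e : α = (MulAut.conj (d * c * g1))⁻¹ := eq_inv_of_mul_eq_one_right this
    rw [e, ← map_inv]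
    exact ⟨_, rfl⟩
  · right
    have h4 := z3_of_z2' _ h3a h3y hz
    have : MulAut.conj (d * c * g1) * α = tauA :=
      aut_ext _ _ (h3a.trans tauA_a.symm) (h3y.trans tauA_y.symm) (hz.trans tauA_z2.symm)
        (h4.trans tauA_z3.symm)
    have e : α * tauA⁻¹ = (MulAut.conj (d * c * g1))⁻¹ := by
      rw [← this]
      group
    rw [e, ← map_inv]
    exact ⟨_, rfl⟩

/-- the outer automorphism group of the group on 315 points has order two -/
theorem card_out_G315 : Nat.card (Cfsg.Out ↥G315) = 2 := by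
  have hclass := aut_class
  have hτnot : tauA ∉ Cfsg.Inn ↥G315 := fun ⟨g, hg⟩ => tauA_not_inner g hg
  have hτ2 : tauA * tauA ∈ Cfsg.Inn ↥G315 := by
    rcases hclass (tauA * tauA) with h | h
    · exact h
    · exfalso
      apply hτnot
      have : tauA * tauA * tauA⁻¹ = tauA := by group
      rwa [this] at h
  show Nat.card (MulAut ↥G315 ⧸ Cfsg.Inn ↥G315) = 2
  rw [← Subgroup.index_eq_card, Subgroup.index_eq_two_iff]
  refine ⟨tauA, fun β => ?_⟩
  rcases hclass β with h | h
  · right
    refine ⟨h, fun h2 => hτnot ?_⟩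
    have := Subgroup.mul_mem _ (Subgroup.inv_mem _ h) h2
    rwa [inv_mul_cancel_left] at this
  · left
    refine ⟨?_, fun h2 => hτnot ?_⟩
    · have : β * tauA = (β * tauA⁻¹) * (tauA * tauA) := by group
      rw [this]
      exact Subgroup.mul_mem _ h hτ2
    · have := Subgroup.mul_mem _ (Subgroup.inv_mem _ h2) h
      rw [inv_mul_cancel_left] at this
      exact (Subgroup.inv_mem_iff _).1 this

/-- isomorphic groups have outer automorphism groups of the same order -/
theorem card_out_congr' {G H : Type*} [Group G] [Group H] (e : G ≃* H) :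
    Nat.card (Cfsg.Out G) = Nat.card (Cfsg.Out H) := by
  have he : (Cfsg.Inn G).map (MulAut.congr e : MulAut G →* MulAut H) = Cfsg.Inn H := by
    ext f
    constructor
    · rintro ⟨_, ⟨g, rfl⟩, rfl⟩
      refine ⟨e g, ?_⟩
      ext x
      simp [MulAut.congr, MulAut.conj_apply]
    · rintro ⟨h, rfl⟩
      refine ⟨MulAut.conj (e.symm h), ⟨e.symm h, rfl⟩, ?_⟩
      ext x
      simp [MulAut.congr, MulAut.conj_apply]
  exact Nat.card_congr (QuotientGroup.congr _ _ (MulAut.congr e) he).toEquiv

/-- the outer automorphism group of any group isomorphic to the group on 315 points -/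
theorem card_out_of_equiv {G : Type*} [Group G] (e : G ≃* ↥G315) :
    Nat.card (Cfsg.Out G) = 2 := by
  rw [card_out_congr' e, card_out_G315]

end Cfsg.Agent.Helper98.J2
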