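import Mathlib
import Cfsg.Agent.Helper7.J2.G315

/-!
# Packed permutations of `Fin 315`

A permutation of `Fin 315` is described by a natural number, nine bits per point.  Boolean checks
on such codes are evaluated by the kernel; this file relates them to statements about permutations.
-/

set_option autoImplicit false

namespace Cfsg.Agent.Helper98.J2

open Cfsg.Agent.Helper7.J2

/-- force the evaluation of a natural number before it is used -/
def withNat {α : Type} [Inhabited α] (v : ℕ) (f : ℕ → α) : α :=
  match v + 1 with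
  | 0 => default
  | n + 1 => f n

theorem withNat_eq {α : Type} [Inhabited α] (v : ℕ) (f : ℕ → α) : withNat v f = f v := rfl

/-- field `i` of width `w` of a packed table -/
def fld (T w i : ℕ) : ℕ :=
  Nat.land (Nat.shiftRight T (Nat.mul w i)) (Nat.sub (Nat.shiftLeft 1 w) 1)

theorem fld_eq (T w i : ℕ) : fld T w i = (T >>> (w * i)) &&& (1 <<< w - 1) := rfl

theorem fld_lt (T w i : ℕ) : fld T w i < 2 ^ w := by
  rw [fld_eq, Nat.one_shiftLeft, Nat.and_two_pow_sub_one_eq_mod]
  exact Nat.mod_lt _ (Nat.two_pow_pos w)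

/-- the image of the point `i` under the packed permutation `c` -/
def look (c i : ℕ) : ℕ := fld c 9 i

/-- the width of a packed permutation -/
def pw : ℕ := 2835

/-- `c` is the code of the permutation `g` -/
def IsCode (g : Equiv.Perm (Fin 315)) (c : ℕ) : Prop :=
  ∀ i : Fin 315, ((g i : Fin 315) : ℕ) = look c i

theorem IsCode.ext {g h : Equiv.Perm (Fin 315)} {c : ℕ} (hg : IsCode g c) (hh : IsCode h c) :
    g = h := by
  apply Equiv.ext
  intro i
  apply Fin.ext
  rw [hg i, hh i]

/-- the code of the identity -/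
def idOK (c : ℕ) : Bool := (List.range 315).all fun i => look c i == i

theorem isCode_one {c : ℕ} (h : idOK c = true) : IsCode 1 c := by
  simp only [idOK, List.all_eq_true, List.mem_range, beq_iff_eq] at h
  intro i
  rw [h i i.isLt]
  rfl

/-- pointwise check of `c ∘ d = e` -/
def mulOK (c d e : ℕ) : Bool :=
  (List.range 315).all fun i => withNat (look d i) fun j => look c j == look e i

theorem IsCode.mul {g h : Equiv.Perm (Fin 315)} {c d e : ℕ} (hg : IsCode g c) (hh : IsCode h d)
    (hm : mulOK c d e = true) : IsCode (g * h) e := by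
  simp only [mulOK, List.all_eq_true, List.mem_range, withNat_eq, beq_iff_eq] at hm
  intro i
  rw [Equiv.Perm.mul_apply, hg (h i), hh i, hm i i.isLt]

/-- pointwise check of `c ∘ d = d' ∘ c` -/
def conjOK (c d d' : ℕ) : Bool :=
  (List.range 315).all fun i =>
    withNat (look c i) fun j => withNat (look d i) fun l => look d' j == look c l

theorem conj_of_code {g h h' : Equiv.Perm (Fin 315)} {c d d' : ℕ} (hg : IsCode g c)
    (hh : IsCode h d) (hh' : IsCode h' d') (hm : conjOK c d d' = true) : g * h * g⁻¹ = h' := by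
  simp only [conjOK, List.all_eq_true, List.mem_range, withNat_eq, beq_iff_eq] at hm
  rw [mul_inv_eq_iff_eq_mul]
  apply Equiv.ext
  intro i
  apply Fin.ext
  rw [Equiv.Perm.mul_apply, Equiv.Perm.mul_apply, hg (h i), hh i, hh' (g i), hg i, hm i i.isLt]

/-- two codes describe different permutations -/
theorem ne_of_code {g h : Equiv.Perm (Fin 315)} {c d : ℕ} (hg : IsCode g c) (hh : IsCode h d)
    (i : Fin 315) (hi : look c i ≠ look d i) : g ≠ h := by
  intro e
  apply hi
  rw [← hg i, ← hh i, e]

/-- `Rep S c`: some element of `S` has code `c` -/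
def Rep (S : Subgroup (Equiv.Perm (Fin 315))) (c : ℕ) : Prop := ∃ g ∈ S, IsCode g c

theorem Rep.mul {S : Subgroup (Equiv.Perm (Fin 315))} {c d e : ℕ} (hc : Rep S c) (hd : Rep S d)
    (hm : mulOK c d e = true) : Rep S e := by
  obtain ⟨g, hg, hgc⟩ := hc
  obtain ⟨h, hh, hhd⟩ := hd
  exact ⟨g * h, S.mul_mem hg hh, hgc.mul hhd hm⟩

theorem Rep.mono {S S' : Subgroup (Equiv.Perm (Fin 315))} (h : S ≤ S') {c : ℕ} (hc : Rep S c) :
    Rep S' c := by
  obtain ⟨g, hg, e⟩ := hc
  exact ⟨g, h hg, e⟩

/-- the code of a conjugate -/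
theorem IsCode.conj {g h : Equiv.Perm (Fin 315)} {c d d' : ℕ} (hg : IsCode g c) (hh : IsCode h d)
    (hm : conjOK c d d' = true) : IsCode (g * h * g⁻¹) d' := by
  simp only [conjOK, List.all_eq_true, List.mem_range, withNat_eq, beq_iff_eq] at hm
  intro i
  obtain ⟨j, rfl⟩ : ∃ j, i = g j := ⟨g⁻¹ i, by simp⟩
  have e : (g * h * g⁻¹) (g j) = g (h j) := by simp
  rw [e, hg (h j), hh j, hg j, hm j j.isLt]

/-! ### straight line programs -/

/-- entry `k ≥ k0` of `tab` is the product of two earlier entries -/
def slpOK (tab : List ℕ) (prog : List (ℕ × ℕ)) (k0 : ℕ) : Bool :=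
  (List.range' k0 (tab.length - k0)).all fun k =>
    decide ((prog.getD k (0, 0)).1 < k) && decide ((prog.getD k (0, 0)).2 < k) &&
      mulOK (tab.getD (prog.getD k (0, 0)).1 0) (tab.getD (prog.getD k (0, 0)).2 0) (tab.getD k 0)

theorem slpOK_spec {tab : List ℕ} {prog : List (ℕ × ℕ)} {k0 : ℕ} (h : slpOK tab prog k0 = true)
    (k : ℕ) (h1 : k0 ≤ k) (h2 : k < tab.length) :
    (prog.getD k (0, 0)).1 < k ∧ (prog.getD k (0, 0)).2 < k ∧
      mulOK (tab.getD (prog.getD k (0, 0)).1 0) (tab.getD (prog.getD k (0, 0)).2 0)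
        (tab.getD k 0) = true := by
  simp only [slpOK, List.all_eq_true, List.mem_range'_1, Bool.and_eq_true,
    decide_eq_true_eq] at h
  obtain ⟨⟨h3, h4⟩, h5⟩ := h k ⟨h1, by omega⟩
  exact ⟨h3, h4, h5⟩

theorem rep_of_slp {S : Subgroup (Equiv.Perm (Fin 315))} {tab : List ℕ} {prog : List (ℕ × ℕ)}
    {k0 : ℕ} (h : slpOK tab prog k0 = true) (h0 : ∀ k < k0, Rep S (tab.getD k 0)) :
    ∀ k < tab.length, Rep S (tab.getD k 0) := by
  intro k
  induction k using Nat.strong_induction_on with
  | _ k ih =>
    intro hk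
    rcases Nat.lt_or_ge k k0 with h1 | h1
    · exact h0 k h1
    · obtain ⟨h3, h4, h5⟩ := slpOK_spec h k h1 hk
      exact Rep.mul (ih _ h3 (by omega)) (ih _ h4 (by omega)) h5

/-! ### spanning trees -/

/-- every point `x < 315` is a root, or the image of a point of smaller depth under a generator -/
def treeOK (gens par gen dep : List ℕ) (isRoot : ℕ → Bool) : Bool :=
  (List.range 315).all fun x => isRoot x ||
    (withNat (par.getD x 0) fun p => withNat (gen.getD x 0) fun k =>
      decide (p < 315) && decide (k < gens.length) && decide (dep.getD p 0 < dep.getD x 0) &&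
        (look (gens.getD k 0) p == x))

theorem tree_induction {P : ℕ → Prop} {gens par gen dep : List ℕ} {isRoot : ℕ → Bool}
    (h : treeOK gens par gen dep isRoot = true)
    (hroot : ∀ x < 315, isRoot x = true → P x)
    (hstep : ∀ p < 315, ∀ k < gens.length, P p → P (look (gens.getD k 0) p)) :
    ∀ x < 315, P x := by
  simp only [treeOK, List.all_eq_true, List.mem_range, withNat_eq, Bool.or_eq_true,
    Bool.and_eq_true, decide_eq_true_eq, beq_iff_eq] at h
  have key : ∀ n x, dep.getD x 0 = n → x < 315 → P x := by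
    intro n
    induction n using Nat.strong_induction_on with
    | _ n ih =>
      intro x hx hx315
      rcases h x hx315 with h1 | ⟨⟨⟨h1, h2⟩, h3⟩, h4⟩
      · exact hroot x hx315 h1
      · have := hstep _ h1 _ h2 (ih _ (by omega) _ rfl h1)
        rwa [h4] at this
  intro x hx
  exact key _ x rfl hx

/-- the conjugation relation of a table of involutions under the generators:
`s ∘ r_a = r_{s a} ∘ s` -/
def conjAllOK (gens : List ℕ) (T : ℕ) : Bool :=
  (List.range gens.length).all fun k => withNat (gens.getD k 0) fun sk =>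
    (List.range 315).all fun a => withNat (fld T pw a) fun ra =>
      withNat (fld T pw (look sk a)) fun rb => conjOK sk ra rb

theorem conjAllOK_spec {gens : List ℕ} {T : ℕ} (h : conjAllOK gens T = true) (k : ℕ)
    (hk : k < gens.length) (a : ℕ) (ha : a < 315) :
    conjOK (gens.getD k 0) (fld T pw a) (fld T pw (look (gens.getD k 0) a)) = true := by
  simp only [conjAllOK, List.all_eq_true, List.mem_range, withNat_eq] at h
  exact h k hk a ha

/-- a function on points is invariant under the generators -/
def invarOK (gens : List ℕ) (f : List ℕ) : Bool :=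
  (List.range gens.length).all fun k => withNat (gens.getD k 0) fun sk =>
    (List.range 315).all fun x => f.getD (look sk x) 0 == f.getD x 0

theorem invarOK_spec {gens f : List ℕ} (h : invarOK gens f = true) (k : ℕ)
    (hk : k < gens.length) (x : ℕ) (hx : x < 315) :
    f.getD (look (gens.getD k 0) x) 0 = f.getD x 0 := by
  simp only [invarOK, List.all_eq_true, List.mem_range, withNat_eq, beq_iff_eq] at h
  exact h k hk x hx

/-! ### faster loops -/

/-- `f i` holds for all `i < n` -/
def allBelow (n : ℕ) (f : ℕ → Bool) : Bool :=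
  Nat.rec (motive := fun _ => Bool) true (fun i ih => f i && ih) n

theorem allBelow_succ (n : ℕ) (f : ℕ → Bool) : allBelow (n + 1) f = (f n && allBelow n f) := rfl

theorem allBelow_eq_true {n : ℕ} {f : ℕ → Bool} : allBelow n f = true ↔ ∀ i < n, f i = true := by
  induction n with
  | zero => simp [allBelow]
  | succ n ih =>
    rw [allBelow_succ, Bool.and_eq_true, ih]
    constructor
    · rintro ⟨h1, h2⟩ i hi
      rcases Nat.lt_succ_iff_lt_or_eq.1 hi with h | rfl
      · exact h2 i h
      · exact h1
    · intro h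
      exact ⟨h n (Nat.lt_succ_self n), fun i hi => h i (Nat.lt_succ_of_lt hi)⟩

/-- pointwise check of `c ∘ d = e`, fast version -/
def mulOK' (c d e : ℕ) : Bool :=
  allBelow 315 fun i => withNat (look d i) fun j => look c j == look e i

theorem mulOK_of_mulOK' {c d e : ℕ} (h : mulOK' c d e = true) : mulOK c d e = true := by
  simp only [mulOK', allBelow_eq_true, withNat_eq, beq_iff_eq] at h
  simp only [mulOK, List.all_eq_true, List.mem_range, withNat_eq, beq_iff_eq]
  exact h

/-- transversal check: entry `0` is the identity and entry `i ≥ 1` is a generator times an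
earlier entry -/
def travOK (gens : List ℕ) (T n : ℕ) (par gen : List ℕ) : Bool :=
  idOK (fld T pw 0) && allBelow n fun i => i == 0 ||
    (withNat (par.getD i 0) fun p => withNat (gen.getD i 0) fun k =>
      decide (p < i) && decide (k < gens.length) &&
        withNat (gens.getD k 0) fun g => withNat (fld T pw p) fun A => withNat (fld T pw i) fun B =>
          mulOK' g A B)

theorem travOK_spec {gens : List ℕ} {T n : ℕ} {par gen : List ℕ}
    (h : travOK gens T n par gen = true) :
    idOK (fld T pw 0) = true ∧ ∀ i < n, i ≠ 0 → par.getD i 0 < i ∧ gen.getD i 0 < gens.length ∧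
      mulOK (gens.getD (gen.getD i 0) 0) (fld T pw (par.getD i 0)) (fld T pw i) = true := by
  simp only [travOK, Bool.and_eq_true, allBelow_eq_true, Bool.or_eq_true, beq_iff_eq, withNat_eq,
    decide_eq_true_eq] at h
  refine ⟨h.1, fun i hi hi0 => ?_⟩
  rcases h.2 i hi with h1 | ⟨⟨h1, h2⟩, h3⟩
  · exact absurd h1 hi0
  · exact ⟨h1, h2, mulOK_of_mulOK' h3⟩

theorem rep_of_trav {S : Subgroup (Equiv.Perm (Fin 315))} {gens : List ℕ} {T n : ℕ}
    {par gen : List ℕ} (h : travOK gens T n par gen = true)
    (hg : ∀ k < gens.length, Rep S (gens.getD k 0)) : ∀ i < n, Rep S (fld T pw i) := by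
  obtain ⟨h0, h1⟩ := travOK_spec h
  intro i
  induction i using Nat.strong_induction_on with
  | _ i ih =>
    intro hi
    rcases Nat.eq_zero_or_pos i with rfl | hpos
    · exact ⟨1, S.one_mem, isCode_one h0⟩
    · obtain ⟨h2, h3, h4⟩ := h1 i hi (by omega)
      exact Rep.mul (hg _ h3) (ih _ h2 (by omega)) h4

/-- Schreier certificates: `g ∘ U_i = A_a ∘ B_b ∘ D_c` for the entries of three transversals -/
def certOK (g TU n off ta tb tc TA TB TD : ℕ) : Bool :=
  allBelow n fun i =>
    withNat (fld ta 9 (off + i)) fun a => withNat (fld tb 8 (off + i)) fun b =>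
    withNat (fld tc 4 (off + i)) fun c =>
      decide (a < 315) && decide (b < 160) && decide (c < 12) &&
      withNat (fld TU pw i) fun U => withNat (fld TA pw a) fun A =>
      withNat (fld TB pw b) fun B => withNat (fld TD pw c) fun D =>
        allBelow 315 fun x => look g (look U x) == look A (look B (look D x))

theorem certOK_spec {g TU n off ta tb tc TA TB TD : ℕ}
    (h : certOK g TU n off ta tb tc TA TB TD = true) (i : ℕ) (hi : i < n) :
    fld ta 9 (off + i) < 315 ∧ fld tb 8 (off + i) < 160 ∧ fld tc 4 (off + i) < 12 ∧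
      ∀ x < 315, look g (look (fld TU pw i) x) =
        look (fld TA pw (fld ta 9 (off + i))) (look (fld TB pw (fld tb 8 (off + i)))
          (look (fld TD pw (fld tc 4 (off + i))) x)) := by
  simp only [certOK, allBelow_eq_true, withNat_eq, Bool.and_eq_true, decide_eq_true_eq,
    beq_iff_eq] at h
  obtain ⟨⟨⟨h1, h2⟩, h3⟩, h4⟩ := h i hi
  exact ⟨h1, h2, h3, h4⟩

/-- base images of a transversal: entry `i` maps `β` to `pts[i]`, whose position is `i`, and
fixes the points of `fix` -/
def ptsOK (T n β : ℕ) (fix pts pos : List ℕ) : Bool :=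
  allBelow n fun i => withNat (fld T pw i) fun U =>
    (look U β == pts.getD i 999) && (pos.getD (pts.getD i 999) 999 == i) &&
      fix.all fun f => look U f == f

theorem ptsOK_spec {T n β : ℕ} {fix pts pos : List ℕ} (h : ptsOK T n β fix pts pos = true)
    (i : ℕ) (hi : i < n) :
    look (fld T pw i) β = pts.getD i 999 ∧ pos.getD (pts.getD i 999) 999 = i ∧
      ∀ f ∈ fix, look (fld T pw i) f = f := by
  simp only [ptsOK, allBelow_eq_true, withNat_eq, Bool.and_eq_true, beq_iff_eq,
    List.all_eq_true] at h
  obtain ⟨⟨h1, h2⟩, h3⟩ := h i hi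
  exact ⟨h1, h2, h3⟩

end Cfsg.Agent.Helper98.J2
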