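import Cfsg.Agent.Helper98.J2Check7
import Cfsg.Agent.Helper98.SU33c
import Cfsg.Agent.Helper96.GTwoCheckD
import Cfsg.Agent.S0779
import Cfsg.Agent.S0780
import Cfsg.Agent.S0280

/-!
# The stabiliser of the first subset in the Hall–Janko group is `PSU₃(3)`

The stabiliser `HM` of the set `D0` of 252 points in `G315` acts on `D0` like `SU₃(3)` acts on the 252
vectors of norm one of the Hermitian space over `GF9`. Every unitary transvection is matched with an element
of `G315` (kernel check), the transvections generate `SU₃(3)`, and elements of `G315` are determined by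
their action on `D0` (which contains a base), so that one obtains an injective homomorphism
`SU₃(3) → HM`; it is bijective as soon as `HM` has order 6048.
-/

set_option autoImplicit false

namespace Cfsg.Agent.Helper98.J2

open Pointwise Matrix Cfsg.Agent.Helper96.GTwo Cfsg.Agent.Helper98 Cfsg.Agent.Helper7.J2

/-- `3 × 3` matrices over the explicit field with nine elements -/
abbrev Mat3 := Matrix (Fin 3) (Fin 3) GF9

/-- `SU₃(3)` over the explicit field with nine elements -/
abbrev SU3 := Cfsg.SU 3 GF9 3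

/-- the first subset -/
def D0 : Set (Fin 315) := {p | inD 0 p.val = true}

/-- the stabiliser of the first subset -/
def HM : Subgroup ↥G315 := MulAction.stabilizer ↥G315 D0

theorem smul_def315 (g : ↥G315) (p : Fin 315) : g • p = (g : P315) p := rfl

theorem mem_HM_of_maps {g : ↥G315} (h : ∀ p : Fin 315, p ∈ D0 → (g : P315) p ∈ D0) : g ∈ HM := by
  rw [HM, MulAction.mem_stabilizer_iff]
  apply Set.eq_of_subset_of_ncard_le
  · rintro _ ⟨p, hp, rfl⟩
    exact h p hp
  · rw [Set.ncard_smul_set]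
  · exact Set.toFinite _

theorem maps_of_mem_HM {g : ↥G315} (hg : g ∈ HM) {p : Fin 315} (hp : p ∈ D0) : (g : P315) p ∈ D0 := by
  have h1 : g • D0 = D0 := MulAction.mem_stabilizer_iff.1 hg
  have h2 : g • p ∈ g • D0 := Set.smul_mem_smul_set hp
  rw [h1] at h2
  exact h2

/-! ### points and vectors -/

/-- the `i`-th point of `D0` -/
def ptQ (i : ℕ) : Fin 315 := Fin.ofNat 315 (ptF i)

/-- the `i`-th vector of norm one -/
def vecQ (i : ℕ) : Pt := ptOf (vcF i)

theorem ptQ_val {i : ℕ} (h : i < 252) : (ptQ i).val = ptF i := Nat.mod_eq_of_lt (ptF_spec i h).1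

theorem ptQ_mem {i : ℕ} (h : i < 252) : ptQ i ∈ D0 := by
  show inD 0 (ptQ i).val = true
  rw [ptQ_val h]
  exact (ptF_spec i h).2.1

theorem ptQ_inj {i j : ℕ} (hi : i < 252) (hj : j < 252) (e : ptQ i = ptQ j) : i = j := by
  have h := congrArg Fin.val e
  rw [ptQ_val hi, ptQ_val hj] at h
  rw [← (ptF_spec i hi).2.2, ← (ptF_spec j hj).2.2, h]

theorem exists_ptQ {p : Fin 315} (hp : p ∈ D0) : ∃ i < 252, p = ptQ i := by
  obtain ⟨h1, h2⟩ := pinv_spec p.val p.isLt hp
  exact ⟨_, h1, Fin.ext (by rw [ptQ_val h1, h2])⟩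

theorem vecQ_inj {i j : ℕ} (hi : i < 252) (hj : j < 252) (e : vecQ i = vecQ j) : i = j := by
  have h := congrArg pc e
  unfold vecQ at h
  rw [pc_ptOf _ (vcF_spec i hi).1, pc_ptOf _ (vcF_spec j hj).1] at h
  rw [← (vcF_spec i hi).2, ← (vcF_spec j hj).2, h]

theorem mulVec_eq_mv3 (M : Mat3) (v : Pt) : M *ᵥ v = mv3 M v := by
  funext i
  fin_cases i <;> simp [mv3, Matrix.mulVec, dotProduct, Fin.sum_univ_three]

/-! ### compatible pairs -/

/-- the matrix `A` moves the vectors like the permutation `h` moves the points -/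
def Compat (A : Mat3) (h : P315) : Prop :=
  ∀ i < 252, ∃ i' < 252, A *ᵥ vecQ i = vecQ i' ∧ h (ptQ i) = ptQ i'

theorem compat_one : Compat 1 1 := fun i hi => ⟨i, hi, by rw [Matrix.one_mulVec], rfl⟩

theorem Compat.mul {A B : Mat3} {h k : P315} (h1 : Compat A h) (h2 : Compat B k) :
    Compat (A * B) (h * k) := by
  intro i hi
  obtain ⟨i1, hi1, e1, f1⟩ := h2 i hi
  obtain ⟨i2, hi2, e2, f2⟩ := h1 i1 hi1
  exact ⟨i2, hi2, by rw [← Matrix.mulVec_mulVec, e1, e2], by rw [Equiv.Perm.mul_apply, f1, f2]⟩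

theorem Compat.pow {A : Mat3} {h : P315} (h1 : Compat A h) (n : ℕ) : Compat (A ^ n) (h ^ n) := by
  induction n with
  | zero => rw [pow_zero, pow_zero]; exact compat_one
  | succ n ih => rw [pow_succ, pow_succ]; exact ih.mul h1

theorem Compat.apply_eq {A : Mat3} {h k : P315} (h1 : Compat A h) (h2 : Compat A k) {i : ℕ}
    (hi : i < 252) : h (ptQ i) = k (ptQ i) := by
  obtain ⟨i1, hi1, e1, f1⟩ := h1 i hi
  obtain ⟨i2, hi2, e2, f2⟩ := h2 i hi
  have : i1 = i2 := vecQ_inj hi1 hi2 (e1.symm.trans e2)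
  rw [f1, f2, this]

theorem ptQ_b0 : ptQ 0 = b0 := Fin.ext (by rw [ptQ_val (by norm_num), base_pts.1]; rfl)

theorem ptQ_b1 : ptQ 85 = b1 := Fin.ext (by rw [ptQ_val (by norm_num), base_pts.2.1]; rfl)

theorem ptQ_b2 : ptQ 23 = b2 := Fin.ext (by rw [ptQ_val (by norm_num), base_pts.2.2]; rfl)

theorem Compat.unique {A : Mat3} {h k : P315} (hh : h ∈ G315) (hk : k ∈ G315) (h1 : Compat A h)
    (h2 : Compat A k) : h = k := by
  apply eq_of_base hh hk
  · rw [← ptQ_b0]; exact h1.apply_eq h2 (by norm_num)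
  · rw [← ptQ_b1]; exact h1.apply_eq h2 (by norm_num)
  · rw [← ptQ_b2]; exact h1.apply_eq h2 (by norm_num)

theorem Compat.maps {A : Mat3} {h : P315} (h1 : Compat A h) {p : Fin 315} (hp : p ∈ D0) :
    h p ∈ D0 := by
  obtain ⟨i, hi, rfl⟩ := exists_ptQ hp
  obtain ⟨i', hi', _, e⟩ := h1 i hi
  rw [e]
  exact ptQ_mem hi'

theorem compat_tl : ∀ nt ∈ tlD, nt.2 < 604800 ∧ Compat (matOf nt.1) (elG nt.2) := by
  intro nt hnt
  have h := chkTl_ok nt hnt
  simp only [chkTlRow, Bool.and_eq_true, decide_eq_true_eq, List.all_eq_true, List.mem_range,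
    withNat_eq, beq_iff_eq] at h
  obtain ⟨ht, h⟩ := h
  refine ⟨ht, fun i hi => ?_⟩
  obtain ⟨hi', hev⟩ := h i hi
  refine ⟨_, hi', ?_, ?_⟩
  · rw [mulVec_eq_mv3]
    unfold vecQ
    rw [vinv_spec _ (pc_lt _) hi', ptOf_pc]
  · apply Fin.ext
    rw [ptQ_val hi', ← hev, ← triP_prod, evalL_spec (triP_code ht), ptQ_val hi]
    rfl

/-! ### generation by transvections -/

theorem card_GF9'' : Fintype.card GF9 = 3 ^ 2 := by rw [card_GF9]; norm_num

/-- the generating set of `SU₃(3)` -/
def tsetU : Set SU3 :=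
  {A : SU3 | ∃ (v : Fin 3 → GF9) (c : GF9), Cfsg.hermForm 3 GF9 3 v v = 0 ∧
    ((A : Matrix.SpecialLinearGroup (Fin 3) GF9) : Matrix (Fin 3) (Fin 3) GF9) =
      Cfsg.unitaryTransvection 3 3 v c}

theorem closure_tsetU : Subgroup.closure tsetU = ⊤ :=
  Cfsg.Agent.S0780.result (F := GF9) (q := 3) card_GF9'' 3 le_rfl (by norm_num)

theorem tsetU_mem_tl {A : SU3} (hA : A ∈ tsetU) : ∃ n ∈ tlCodes, (A.1.1 : Mat3) = matOf n := by
  obtain ⟨vv, c, hv, hA⟩ := hA
  have hc : vv = 0 ∨ c = 0 ∨ c ^ 2 = -1 := by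
    by_cases h0 : vv = 0
    · exact Or.inl h0
    · right
      have h1 := (Cfsg.Agent.S0779.result (F := GF9) (q := 3) card_GF9'' 3 vv h0 hv c).1 (by
        intro x y
        rw [← hA]
        exact A.2 x y)
      simpa using h1
  obtain ⟨n, hn, h⟩ := transv_mem vv c hv hc
  exact ⟨n, hn, hA.trans h⟩

theorem exists_compat (A : SU3) : ∃ h : ↥G315, Compat A.1.1 (h : P315) := by
  have hA : A ∈ Subgroup.closure tsetU := by rw [closure_tsetU]; trivial
  induction hA using Subgroup.closure_induction with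
  | mem x hx =>
    obtain ⟨n, hn, h⟩ := tsetU_mem_tl hx
    rw [← tl_cover, List.mem_map] at hn
    obtain ⟨nt, hnt, rfl⟩ := hn
    obtain ⟨ht, hc⟩ := compat_tl nt hnt
    exact ⟨⟨elG nt.2, elG_mem ht⟩, by rw [h]; exact hc⟩
  | one => exact ⟨1, compat_one⟩
  | mul x y _ _ hx hy =>
    obtain ⟨h, hh⟩ := hx
    obtain ⟨k, hk⟩ := hy
    exact ⟨h * k, hh.mul hk⟩
  | inv x _ hx =>
    obtain ⟨h, hh⟩ := hx
    have h1 : x⁻¹ = x ^ (orderOf x - 1) := by
      rw [inv_eq_iff_mul_eq_one, ← pow_succ']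
      have := orderOf_pos x
      rw [show orderOf x - 1 + 1 = orderOf x by omega]
      exact pow_orderOf_eq_one x
    refine ⟨h ^ (orderOf x - 1), ?_⟩
    rw [h1]
    exact hh.pow _

/-! ### the homomorphism -/

/-- the element of `G315` attached to a unitary matrix -/
noncomputable def thetaFun (A : SU3) : ↥G315 := Classical.choose (exists_compat A)

theorem thetaFun_spec (A : SU3) : Compat A.1.1 (thetaFun A : P315) :=
  Classical.choose_spec (exists_compat A)

theorem thetaFun_mul (A B : SU3) : thetaFun (A * B) = thetaFun A * thetaFun B :=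
  Subtype.ext (Compat.unique (thetaFun (A * B)).2 (thetaFun A * thetaFun B).2 (thetaFun_spec (A * B))
    ((thetaFun_spec A).mul (thetaFun_spec B)))

/-- the homomorphism from `SU₃(3)` to `G315` -/
noncomputable def theta : SU3 →* ↥G315 := MonoidHom.mk' thetaFun thetaFun_mul

theorem theta_spec (A : SU3) : Compat A.1.1 (theta A : P315) := thetaFun_spec A

theorem theta_mem (A : SU3) : theta A ∈ HM :=
  mem_HM_of_maps fun _ hp => (theta_spec A).maps hp

theorem theta_injective : Function.Injective theta := by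
  rw [injective_iff_map_eq_one]
  intro A hA
  have hc := theta_spec A
  rw [hA] at hc
  have key : ∀ i < 252, A.1.1 *ᵥ vecQ i = vecQ i := by
    intro i hi
    obtain ⟨i', hi', e, f⟩ := hc i hi
    have : i = i' := ptQ_inj hi hi' f
    rw [e, this]
  have k0 := key 80 (by norm_num)
  have k1 := key 195 (by norm_num)
  have k2 := key 94 (by norm_num)
  unfold vecQ at k0 k1 k2
  rw [unit_vecs.1] at k0
  rw [unit_vecs.2.1] at k1
  rw [unit_vecs.2.2] at k2
  apply Subtype.ext
  apply Subtype.ext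
  show (A.1.1 : Mat3) = 1
  refine Matrix.ext fun i j => ?_
  fin_cases j
  · have := congrFun k0 i
    rw [Matrix.mulVec_single_one] at this
    simpa [Matrix.one_apply, Pi.single_apply, eq_comm] using this
  · have := congrFun k1 i
    rw [Matrix.mulVec_single_one] at this
    simpa [Matrix.one_apply, Pi.single_apply, eq_comm] using this
  · have := congrFun k2 i
    rw [Matrix.mulVec_single_one] at this
    simpa [Matrix.one_apply, Pi.single_apply, eq_comm] using this

/-- the homomorphism from `SU₃(3)` to the stabiliser -/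
noncomputable def thetaH : SU3 →* ↥HM := theta.codRestrict HM theta_mem

theorem thetaH_injective : Function.Injective thetaH := by
  intro A B h
  apply theta_injective
  have := congrArg Subtype.val h
  exact this

theorem card_PSU33 : Nat.card (Cfsg.PSU 3 GF9 3) = 6048 := by
  have h := Cfsg.Agent.S0280.result (F := GF9) (q := 3) card_GF9'' 3 (by norm_num)
  have h2 : (3 : ℕ) ^ (3 * (3 - 1) / 2) * ∏ i ∈ Finset.range 3,
      (if Even i then 3 ^ (i + 1) + 1 else 3 ^ (i + 1) - 1) = 24192 := by decide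
  rw [h2] at h
  have h3 : Nat.gcd 3 (3 + 1) = 1 := by decide
  rw [h3] at h
  omega

theorem card_SU3 : Nat.card SU3 = 6048 := by
  rw [← card_PSU33]
  exact (Nat.card_congr (SU33.psuEquiv (F := GF9) card_GF9).toEquiv).symm

/-- if the stabiliser has order 6048 then it is isomorphic to `PSU₃(3)` -/
theorem nonempty_HM_equiv (hcard : Nat.card ↥HM = 6048) : Nonempty (↥HM ≃* Cfsg.PSU 3 GF9 3) := by
  have hb : Function.Bijective thetaH :=
    (Nat.bijective_iff_injective_and_card thetaH).2 ⟨thetaH_injective, by rw [card_SU3, hcard]⟩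
  exact ⟨((MulEquiv.ofBijective thetaH hb).symm).trans (SU33.psuEquiv (F := GF9) card_GF9).symm⟩

end Cfsg.Agent.Helper98.J2
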