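import Cfsg.Agent.Helper98.J3Check2

/-!
# Kernel checks for `3·J₃`: the coset cover (second half)
-/

set_option autoImplicit false

namespace Cfsg.Agent.Helper98.J3

set_option maxRecDepth 1000000 in
set_option maxHeartbeats 0 in
theorem cover_2 : coverG 11628 5814 = true := by decide +kernel

set_option maxRecDepth 1000000 in
set_option maxHeartbeats 0 in
theorem cover_3 : coverG 17442 5814 = true := by decide +kernel

end Cfsg.Agent.Helper98.J3
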