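import Cfsg.Agent.Helper98.J3Chk
import Cfsg.Agent.Helper98.J3Data1
import Cfsg.Agent.Helper98.J3Data7
import Cfsg.Agent.Helper98.J3Data8
import Cfsg.Agent.Helper98.J3Check3

/-!
# Kernel checks for `3·J₃`: straight line programs, Sylow tables, orders
-/

set_option autoImplicit false

namespace Cfsg.Agent.Helper98.J3

set_option maxRecDepth 1000000 in
theorem slpG_ok : slpOK slpG slpGprog 2 = true := by decide +kernel

set_option maxRecDepth 1000000 in
theorem slpG_facts : slpG.getD 0 0 = aCode ∧ slpG.getD 1 0 = bCode ∧ slpG.length = 285 ∧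
    slpG.getD ix_h1 0 = h1Code ∧ slpG.getD ix_h2 0 = h2Code ∧ slpG.getD ix_wI 0 = wICode ∧
    slpG.getD ix_e5 0 = e5Code ∧ slpG.getD ix_e19 0 = e19Code ∧
    slpG.getD ix_p2_0 0 = p2Gens.getD 0 0 ∧ slpG.getD ix_p2_1 0 = p2Gens.getD 1 0 ∧
    slpG.getD ix_p2_2 0 = p2Gens.getD 2 0 ∧
    slpG.getD ix_p3_0 0 = p3Gens.getD 0 0 ∧ slpG.getD ix_p3_1 0 = p3Gens.getD 1 0 ∧
    slpG.getD ix_p3_2 0 = p3Gens.getD 2 0 ∧ slpG.getD ix_p3_3 0 = p3Gens.getD 3 0 ∧
    slpG.getD ix_p3_4 0 = p3Gens.getD 4 0 ∧ slpG.getD ix_p3_5 0 = p3Gens.getD 5 0 ∧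
    p3Gens.getD 6 0 = wICode ∧ p2Gens.length = 3 ∧ p3Gens.length = 7 := by decide +kernel

set_option maxRecDepth 1000000 in
theorem ix_facts : ix_h1 < 285 ∧ ix_h2 < 285 ∧ ix_wI < 285 ∧ ix_e5 < 285 ∧ ix_e19 < 285 ∧
    ix_p2_0 < 285 ∧ ix_p2_1 < 285 ∧ ix_p2_2 < 285 ∧ ix_p3_0 < 285 ∧ ix_p3_1 < 285 ∧
    ix_p3_2 < 285 ∧ ix_p3_3 < 285 ∧ ix_p3_4 < 285 ∧ ix_p3_5 < 285 := by decide +kernel

set_option maxRecDepth 1000000 in
theorem t2_ok : tblOK p2Gens t2Big 128 10 t2Perms t2Par t2Pgen 0 128 = true := by decide +kernel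

set_option maxRecDepth 1000000 in
theorem t2_sorted : sortedOK t2Big 128 10 t2Sig = true := by decide +kernel

set_option maxRecDepth 1000000 in
theorem t2_zero : fld t2Big 162 0 = idCode := by decide +kernel

set_option maxRecDepth 1000000 in
theorem t3_ok : tblOK p3Gens t3Big 729 10 t3Perms t3Par t3Pgen 0 729 = true := by decide +kernel

set_option maxRecDepth 1000000 in
theorem t3_sorted : sortedOK t3Big 729 10 t3Sig = true := by decide +kernel

set_option maxRecDepth 1000000 in
theorem t3_zero : fld t3Big 162 0 = idCode := by decide +kernel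

/-- classification of the elements of the Sylow 2-subgroup: the identity, the involution `a`, or
an element not commuting with some generator -/
def p2ClassOK : Bool :=
  (List.range 128).all fun c =>
    withNat (fld t2Big 162 c) fun A => withNat (fld t2Kind 4 c) fun k =>
      if k = 0 then c == 0 else if k = 1 then A == aCode else
        withNat (fld t2Aux 8 c) fun g =>
          decide (g < 3) && !(eqProd (p2Gens.getD g 0) A A (p2Gens.getD g 0))

theorem p2ClassOK_spec (h : p2ClassOK = true) (c : ℕ) (hc : c < 128) :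
    c = 0 ∨ fld t2Big 162 c = aCode ∨ ∃ g < 3,
      toMat (p2Gens.getD g 0) * toMat (fld t2Big 162 c) ≠
        toMat (fld t2Big 162 c) * toMat (p2Gens.getD g 0) := by
  simp only [p2ClassOK, List.all_eq_true, List.mem_range, withNat_eq] at h
  have h1 := h c hc
  split_ifs at h1
  · left; exact beq_iff_eq.1 h1
  · right; left; exact beq_iff_eq.1 h1
  · right; right
    simp only [Bool.and_eq_true, decide_eq_true_eq, Bool.not_eq_true'] at h1
    exact ⟨_, h1.1, eqProd_spec_false h1.2⟩

set_option maxRecDepth 1000000 in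
theorem p2Class_ok : p2ClassOK = true := by decide +kernel

/-- classification of the elements of the Sylow 3-subgroup: a scalar, one of the roots with a
normal closure certificate, or an element not commuting modulo scalars with some generator -/
def p3ClassOK : Bool :=
  (List.range 729).all fun c =>
    withNat (fld t3Big 162 c) fun A => withNat (fld t3Kind 4 c) fun k =>
      withNat (fld t3Aux 8 c) fun x =>
        if k = 0 then (A == idCode || A == wICode || A == w2ICode)
        else if k = 1 then decide (x < 28) && A == ncRoots.getD x 0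
        else decide (x < 6) &&
          withNat (fld (t3Perms.getD 6 0) 10 c) fun c1 =>
            withNat (fld (t3Perms.getD 6 0) 10 c1) fun c2 =>
              !(eqProd (p3Gens.getD x 0) A A (p3Gens.getD x 0)) &&
              !(eqProd (p3Gens.getD x 0) A (fld t3Big 162 c1) (p3Gens.getD x 0)) &&
              !(eqProd (p3Gens.getD x 0) A (fld t3Big 162 c2) (p3Gens.getD x 0))

theorem p3ClassOK_spec (h : p3ClassOK = true) (c : ℕ) (hc : c < 729) :
    (fld t3Big 162 c = idCode ∨ fld t3Big 162 c = wICode ∨ fld t3Big 162 c = w2ICode) ∨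
    (∃ x < 28, fld t3Big 162 c = ncRoots.getD x 0) ∨
    ∃ x < 6,
      toMat (p3Gens.getD x 0) * toMat (fld t3Big 162 c) ≠
        toMat (fld t3Big 162 c) * toMat (p3Gens.getD x 0) ∧
      toMat (p3Gens.getD x 0) * toMat (fld t3Big 162 c) ≠
        toMat (fld t3Big 162 (fld (t3Perms.getD 6 0) 10 c)) * toMat (p3Gens.getD x 0) ∧
      toMat (p3Gens.getD x 0) * toMat (fld t3Big 162 c) ≠
        toMat (fld t3Big 162 (fld (t3Perms.getD 6 0) 10 (fld (t3Perms.getD 6 0) 10 c))) *
          toMat (p3Gens.getD x 0) := by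
  simp only [p3ClassOK, List.all_eq_true, List.mem_range, withNat_eq] at h
  have h1 := h c hc
  split_ifs at h1
  · left
    simp only [Bool.or_eq_true, beq_iff_eq] at h1
    rcases h1 with (h1 | h1) | h1
    · left; exact h1
    · right; left; exact h1
    · right; right; exact h1
  · right; left
    simp only [Bool.and_eq_true, decide_eq_true_eq, beq_iff_eq] at h1
    exact ⟨_, h1.1, h1.2⟩
  · right; right
    simp only [Bool.and_eq_true, decide_eq_true_eq, Bool.not_eq_true'] at h1
    exact ⟨_, h1.1, eqProd_spec_false h1.2.1.1, eqProd_spec_false h1.2.1.2,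
      eqProd_spec_false h1.2.2⟩

set_option maxRecDepth 1000000 in
theorem p3Class_ok : p3ClassOK = true := by decide +kernel

/-! ### orders of `a`, `b`, `e5`, `e19`, the scalar `ω`, and non-triviality -/

set_option maxRecDepth 1000000 in
theorem ordA_ok : eqMul aCode aCode idCode = true ∧ eqProd aCode idCode idCode idCode = false := by
  decide +kernel

set_option maxRecDepth 1000000 in
theorem ordB_ok : bPow.getD 0 0 = bCode ∧
    eqMul (bPow.getD 0 0) (bPow.getD 0 0) (bPow.getD 1 0) = true ∧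
    eqMul (bPow.getD 1 0) (bPow.getD 1 0) (bPow.getD 2 0) = true ∧
    eqMul (bPow.getD 2 0) (bPow.getD 2 0) (bPow.getD 3 0) = true ∧
    eqMul (bPow.getD 3 0) (bPow.getD 3 0) (bPow.getD 4 0) = true ∧
    eqMul (bPow.getD 4 0) (bPow.getD 0 0) idCode = true ∧
    eqProd bCode idCode idCode idCode = false := by
  decide +kernel

set_option maxRecDepth 1000000 in
theorem ordE5_ok : e5Pow.getD 0 0 = e5Code ∧
    eqMul (e5Pow.getD 0 0) (e5Pow.getD 0 0) (e5Pow.getD 1 0) = true ∧
    eqMul (e5Pow.getD 1 0) (e5Pow.getD 1 0) (e5Pow.getD 2 0) = true ∧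
    eqMul (e5Pow.getD 2 0) (e5Pow.getD 0 0) idCode = true ∧
    eqProd e5Code idCode idCode idCode = false := by
  decide +kernel

set_option maxRecDepth 1000000 in
theorem ordE19_ok : e19Pow.getD 0 0 = e19Code ∧
    eqMul (e19Pow.getD 0 0) (e19Pow.getD 0 0) (e19Pow.getD 1 0) = true ∧
    eqMul (e19Pow.getD 1 0) (e19Pow.getD 1 0) (e19Pow.getD 2 0) = true ∧
    eqMul (e19Pow.getD 2 0) (e19Pow.getD 2 0) (e19Pow.getD 3 0) = true ∧
    eqMul (e19Pow.getD 3 0) (e19Pow.getD 3 0) (e19Pow.getD 4 0) = true ∧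
    eqMul (e19Pow.getD 4 0) (e19Pow.getD 1 0) (e19Pow.getD 5 0) = true ∧
    eqMul (e19Pow.getD 5 0) (e19Pow.getD 0 0) idCode = true ∧
    eqProd e19Code idCode idCode idCode = false := by
  decide +kernel

set_option maxRecDepth 1000000 in
theorem ordW_ok : eqMul wICode wICode w2ICode = true ∧ eqMul wICode w2ICode idCode = true ∧
    eqProd wICode idCode idCode idCode = false ∧ eqProd wICode aCode aCode wICode = true ∧
    eqProd wICode bCode bCode wICode = true ∧ eqProd aCode bCode bCode aCode = false := by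
  decide +kernel

end Cfsg.Agent.Helper98.J3
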