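import Cfsg.Agent.Helper98.J3Chk
import Cfsg.Agent.Helper98.J3Data1
import Cfsg.Agent.Helper98.J3Data8
import Cfsg.Agent.Helper98.J3Check4

/-!
# Kernel checks for `3·J₃`: normal closure certificates
-/

set_option autoImplicit false

namespace Cfsg.Agent.Helper98.J3

/-- each certificate is a valid normal closure program from its root to `a` -/
def ncOK : Bool :=
  (List.range 28).all fun k =>
    nslpOK [aCode, bCode] (ncTabs.getD k []) (ncProgs.getD k []) &&
      ((ncTabs.getD k []).getD 0 0 == ncRoots.getD k 0) &&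
      ((ncTabs.getD k []).getD ((ncTabs.getD k []).length - 1) 0 == aCode) &&
      decide (0 < (ncTabs.getD k []).length)

theorem ncOK_spec (h : ncOK = true) (k : ℕ) (hk : k < 28) :
    nslpOK [aCode, bCode] (ncTabs.getD k []) (ncProgs.getD k []) = true ∧
      (ncTabs.getD k []).getD 0 0 = ncRoots.getD k 0 ∧
      (ncTabs.getD k []).getD ((ncTabs.getD k []).length - 1) 0 = aCode ∧
      0 < (ncTabs.getD k []).length := by
  simp only [ncOK, List.all_eq_true, List.mem_range, Bool.and_eq_true, beq_iff_eq,
    decide_eq_true_eq] at h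
  obtain ⟨⟨⟨h1, h2⟩, h3⟩, h4⟩ := h k hk
  exact ⟨h1, h2, h3, h4⟩

set_option maxRecDepth 1000000 in
set_option maxHeartbeats 0 in
theorem nc_ok : ncOK = true := by decide +kernel

set_option maxRecDepth 1000000 in
set_option maxHeartbeats 0 in
theorem ncB_ok : (nslpOK [aCode, bCode] ncBTab ncBProg && (ncBTab.getD 0 0 == aCode) &&
    (ncBTab.getD (ncBTab.length - 1) 0 == bCode) && decide (0 < ncBTab.length)) = true := by
  decide +kernel

end Cfsg.Agent.Helper98.J3
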