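import Cfsg.Agent.Helper98.J3OutChk
import Cfsg.Agent.Helper98.J3Data10
import Cfsg.Agent.Helper98.J3Data11
import Cfsg.Agent.Helper98.J3Data12
import Cfsg.Agent.Helper98.J3Data13
import Cfsg.Agent.Helper98.J3Check5

/-!
# Kernel checks for the automorphisms of `J₃`: the class of involutions
-/

set_option autoImplicit false

namespace Cfsg.Agent.Helper98.J3

open Cfsg.Agent.Helper27

/-- the chunks of the table of involutions -/
def invChunks : List ℕ :=
  [invBig0, invBig1, invBig2, invBig3, invBig4, invBig5, invBig6, invBig7, invBig8]

/-- the `i`-th involution -/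
def invC (i : ℕ) : ℕ := chk invChunks 2907 i

/-- the table of involutions is closed under conjugation by `a` and `b` -/
def invClosedOK (lo len : ℕ) : Bool :=
  (List.range' lo len).all fun i =>
    withNat (invC i) fun x =>
      withNat (fld invPermA 15 i) fun pa => withNat (fld invPermB 15 i) fun pb =>
        decide (pa < 26163) && decide (pb < 26163) &&
          eqProd aCode x (invC pa) aCode && eqProd bCode x (invC pb) bCode

theorem invClosedOK_spec {lo len : ℕ} (h : invClosedOK lo len = true) (i : ℕ) (h1 : lo ≤ i)
    (h2 : i < lo + len) :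
    fld invPermA 15 i < 26163 ∧ fld invPermB 15 i < 26163 ∧
      toMat aCode * toMat (invC i) = toMat (invC (fld invPermA 15 i)) * toMat aCode ∧
      toMat bCode * toMat (invC i) = toMat (invC (fld invPermB 15 i)) * toMat bCode := by
  simp only [invClosedOK, List.all_eq_true, List.mem_range'_1, withNat_eq, Bool.and_eq_true,
    decide_eq_true_eq] at h
  obtain ⟨⟨⟨h3, h4⟩, h5⟩, h6⟩ := h i ⟨h1, h2⟩
  exact ⟨h3, h4, eqProd_spec h5, eqProd_spec h6⟩

set_option maxRecDepth 1000000 in
set_option maxHeartbeats 0 in
theorem invClosed_0 : invClosedOK 0 6541 = true := by decide +kernel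

set_option maxRecDepth 1000000 in
set_option maxHeartbeats 0 in
theorem invClosed_1 : invClosedOK 6541 6541 = true := by decide +kernel

set_option maxRecDepth 1000000 in
set_option maxHeartbeats 0 in
theorem invClosed_2 : invClosedOK 13082 6541 = true := by decide +kernel

set_option maxRecDepth 1000000 in
set_option maxHeartbeats 0 in
theorem invClosed_3 : invClosedOK 19623 6540 = true := by decide +kernel

/-- every involution of the Sylow 2-subgroup is in the table -/
def p2InvOK : Bool :=
  (List.range 128).all fun c =>
    withNat (fld t2Big 162 c) fun A =>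
      !(eqMul A A idCode) || c == 0 ||
        withNat (fld p2InvIdx 16 c) fun k =>
          decide (0 < k) && decide (k - 1 < 26163) && (invC (k - 1) == A)

theorem p2InvOK_spec (h : p2InvOK = true) (c : ℕ) (hc : c < 128)
    (hsq : toMat (fld t2Big 162 c) * toMat (fld t2Big 162 c) = 1) (hc0 : c ≠ 0) :
    ∃ i < 26163, invC i = fld t2Big 162 c := by
  simp only [p2InvOK, List.all_eq_true, List.mem_range, withNat_eq, Bool.or_eq_true,
    Bool.not_eq_true', beq_iff_eq, Bool.and_eq_true, decide_eq_true_eq] at h
  rcases h c hc with (h1 | h1) | h1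
  · exfalso
    apply eqProd_spec_false h1
    rw [hsq, toMat_idCode, mul_one]
  · exact absurd h1 hc0
  · exact ⟨_, h1.1.2, h1.2⟩

set_option maxRecDepth 1000000 in
theorem p2Inv_ok : p2InvOK = true := by decide +kernel

end Cfsg.Agent.Helper98.J3
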