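import Cfsg.Agent.Helper98.J3OutCheck2

/-!
# Kernel checks for the automorphisms of `J₃`: candidates for `b ↦ b ^ 3`, and basic facts
-/

set_option autoImplicit false

namespace Cfsg.Agent.Helper98.J3

open Cfsg.Agent.Helper27

set_option maxRecDepth 1000000 in
set_option maxHeartbeats 0 in
theorem cand3_0 : cand3OK 0 6541 = true := by decide +kernel

set_option maxRecDepth 1000000 in
set_option maxHeartbeats 0 in
theorem cand3_1 : cand3OK 6541 6541 = true := by decide +kernel

set_option maxRecDepth 1000000 in
set_option maxHeartbeats 0 in
theorem cand3_2 : cand3OK 13082 6541 = true := by decide +kernel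

set_option maxRecDepth 1000000 in
set_option maxHeartbeats 0 in
theorem cand3_3 : cand3OK 19623 6540 = true := by decide +kernel

set_option maxRecDepth 1000000 in
theorem bPows_ok : bPows.getD 0 0 = idCode ∧ bPows.getD 1 0 = bCode ∧
    (∀ j < 16, eqMul bCode (bPows.getD j 0) (bPows.getD (j + 1) 0) = true) ∧
    eqMul bCode (bPows.getD 16 0) idCode = true := by decide +kernel

set_option maxRecDepth 1000000 in
theorem conjA_ok : ∀ j < 17, eqProd (bPows.getD j 0) aCode (conjA.getD j 0) (bPows.getD j 0) = true := by
  decide +kernel

set_option maxRecDepth 1000000 in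
theorem conjT_ok : ∀ j < 17,
    eqProd (bPows.getD j 0) atauCode (conjT.getD j 0) (bPows.getD j 0) = true := by
  decide +kernel

set_option maxRecDepth 1000000 in
theorem rel_ok : ∀ r < 5, isScal (relCode bPows r aCode 1) = true := by decide +kernel

set_option maxRecDepth 1000000 in
theorem n_ok : eqProd nCode bCode (bPows.getD 2 0) nCode = true := by decide +kernel

set_option maxRecDepth 1000000 in
theorem tau_ok : eqMul qCode qInvCode idCode = true ∧ eqProd qCode afCode atauCode qCode = true ∧
    eqProd qCode bfCode bCode qCode = true ∧ eqProd qCode w2ICode w2ICode qCode = true := by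
  decide +kernel

set_option maxRecDepth 100000 in
theorem frob_a : ∀ i j : Fin 9,
    decide (toMat afCode i j = (toMat aCode i j) * (toMat aCode i j)) = true := by
  decide +kernel

set_option maxRecDepth 100000 in
theorem frob_b : ∀ i j : Fin 9,
    decide (toMat bfCode i j = (toMat bCode i j) * (toMat bCode i j)) = true := by
  decide +kernel

set_option maxRecDepth 100000 in
theorem frob_w : ∀ i j : Fin 9,
    decide (toMat w2ICode i j = (toMat wICode i j) * (toMat wICode i j)) = true := by
  decide +kernel

set_option maxRecDepth 1000000 in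
theorem slpO_ok : slpOK slpO slpOprog 2 = true := by decide +kernel

set_option maxRecDepth 1000000 in
theorem slpO_facts : slpO.getD 0 0 = aCode ∧ slpO.getD 1 0 = bCode ∧
    slpO.getD ixO_n 0 = nCode ∧ slpO.getD ixO_atau 0 = atauCode ∧ ixO_n < slpO.length ∧
    ixO_atau < slpO.length := by decide +kernel

end Cfsg.Agent.Helper98.J3
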