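import Cfsg.Agent.Helper98.J3TblC
import Cfsg.Agent.Helper98.J3OutCheck1
import Cfsg.Agent.Helper98.J3Data30
import Cfsg.Agent.Helper98.J3Data31
import Cfsg.Agent.Helper98.J3OutCheck3

/-!
# Kernel checks for the centraliser of an involution of `3·J₃`
-/

set_option autoImplicit false

namespace Cfsg.Agent.Helper98.J3

open Cfsg.Agent.Helper27

/-! ### the class of involutions: spanning tree and distinctness -/

/-- every involution of the table other than the first is the conjugate by `a` or `b` of an
earlier one -/
def invTreeOK (lo len : ℕ) : Bool :=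
  (List.range' lo len).all fun i =>
    i == 0 || withNat (fld invPar 15 i) fun p =>
      decide (p < i) && (fld (if fld invPg 1 i = 0 then invPermA else invPermB) 15 p == i)

theorem invTreeOK_spec {lo len : ℕ} (h : invTreeOK lo len = true) (i : ℕ) (h1 : lo ≤ i)
    (h2 : i < lo + len) (hi : i ≠ 0) :
    fld invPar 15 i < i ∧
      (fld invPermA 15 (fld invPar 15 i) = i ∨ fld invPermB 15 (fld invPar 15 i) = i) := by
  simp only [invTreeOK, List.all_eq_true, List.mem_range'_1, withNat_eq, Bool.and_eq_true,
    decide_eq_true_eq, Bool.or_eq_true, beq_iff_eq] at h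
  rcases h i ⟨h1, h2⟩ with h3 | ⟨h3, h4⟩
  · exact absurd h3 hi
  · refine ⟨h3, ?_⟩
    split_ifs at h4
    · exact Or.inl h4
    · exact Or.inr h4

/-- the codes of the involutions are strictly increasing along `invSig` -/
def invSortG (lo len : ℕ) : Bool := sortedOKc invChunks 2907 26163 15 invSig lo len

set_option maxRecDepth 1000000 in
set_option maxHeartbeats 0 in
theorem invTree_ok : invTreeOK 0 26163 = true := by decide +kernel

set_option maxRecDepth 1000000 in
set_option maxHeartbeats 0 in
theorem invSort_0 : invSortG 0 13081 = true := by decide +kernel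

set_option maxRecDepth 1000000 in
set_option maxHeartbeats 0 in
theorem invSort_1 : invSortG 13081 13081 = true := by decide +kernel

set_option maxRecDepth 1000000 in
theorem inv_zero : invC 0 = aCode := by decide +kernel

/-! ### the centraliser -/

/-- the chunks of the table of the centraliser -/
def cenChunks : List ℕ := [cenBig0, cenBig1, cenBig2, cenBig3]

/-- the `i`-th element of the centraliser -/
def cenC (i : ℕ) : ℕ := chk cenChunks 1440 i

def cenTblG (lo len : ℕ) : Bool :=
  tblOKc cenGens cenChunks 1440 5760 13 [cenPerm0, cenPerm1, cenPerm2, cenPerm3] cenPar cenPgen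
    lo len

def cenSortG (lo len : ℕ) : Bool := sortedOKc cenChunks 1440 5760 13 cenSig lo len

set_option maxRecDepth 1000000 in
set_option maxHeartbeats 0 in
theorem cenTbl_0 : cenTblG 0 2880 = true := by decide +kernel

set_option maxRecDepth 1000000 in
set_option maxHeartbeats 0 in
theorem cenTbl_1 : cenTblG 2880 2880 = true := by decide +kernel

set_option maxRecDepth 1000000 in
set_option maxHeartbeats 0 in
theorem cenSort_ok : cenSortG 0 5759 = true := by decide +kernel

/-- the generators of the centraliser: three involutions commuting with `a`, and the scalar -/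
theorem cenGens_facts : cenGens.length = 4 ∧ cenGens.getD 3 0 = wICode ∧
    (∀ j < 4, eqProd aCode (cenGens.getD j 0) (cenGens.getD j 0) aCode = true) ∧
    (∀ j < 3, eqMul (cenGens.getD j 0) (cenGens.getD j 0) idCode = true) ∧
    cenC 0 = idCode := by decide +kernel

set_option maxRecDepth 1000000 in
theorem slpC_ok : slpOK slpC slpCprog 2 = true := by decide +kernel

set_option maxRecDepth 1000000 in
theorem slpC_facts : slpC.getD 0 0 = aCode ∧ slpC.getD 1 0 = bCode ∧ ixC.length = 3 ∧
    (∀ j < 3, ixC.getD j 0 < slpC.length ∧ slpC.getD (ixC.getD j 0) 0 = cenGens.getD j 0) := by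
  decide +kernel

/-! ### the Sylow 2-subgroup -/

/-- the `i`-th element of the Sylow 2-subgroup -/
def sylC (i : ℕ) : ℕ := chk [sylBig] 128 i

set_option maxRecDepth 1000000 in
theorem sylTbl_ok : tblOKc sylGens [sylBig] 128 128 7 [sylPerm0, sylPerm1, sylPerm2] sylPar sylPgen
    0 128 = true := by decide +kernel

set_option maxRecDepth 1000000 in
theorem sylSort_ok : sortedOKc [sylBig] 128 128 7 sylSig 0 127 = true := by decide +kernel

/-- the generators of the Sylow 2-subgroup: three involutions from the centraliser -/
theorem sylGens_facts : sylGens.length = 3 ∧ ixS.length = 3 ∧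
    (∀ j < 3, ixS.getD j 0 < 5760 ∧ cenC (ixS.getD j 0) = sylGens.getD j 0 ∧
      eqMul (sylGens.getD j 0) (sylGens.getD j 0) idCode = true ∧ sylGens.getD j 0 ≠ idCode) ∧
    sylC 0 = idCode := by decide +kernel

/-- the only central involution of the Sylow 2-subgroup is `a` -/
def zsOK : Bool :=
  (List.range 128).all fun i =>
    withNat (sylC i) fun c => withNat (fld zsCert 3 i) fun k =>
      (k == 0 && c == idCode) || (k == 1 && c == aCode) ||
      (k == 2 && !eqProd c c idCode idCode) ||
      (decide (3 ≤ k) && decide (k < 6) &&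
        !eqProd c (sylGens.getD (k - 3) 0) (sylGens.getD (k - 3) 0) c)

theorem zsOK_spec (h : zsOK = true) (i : ℕ) (hi : i < 128) :
    sylC i = idCode ∨ sylC i = aCode ∨ toMat (sylC i) * toMat (sylC i) ≠ 1 ∨
      ∃ j < 3, toMat (sylC i) * toMat (sylGens.getD j 0) ≠
        toMat (sylGens.getD j 0) * toMat (sylC i) := by
  simp only [zsOK, List.all_eq_true, List.mem_range, withNat_eq, Bool.and_eq_true,
    decide_eq_true_eq, Bool.or_eq_true, beq_iff_eq, Bool.not_eq_true'] at h
  rcases h i hi with ((h1 | h1) | h1) | h1
  · exact Or.inl h1.2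
  · exact Or.inr (Or.inl h1.2)
  · refine Or.inr (Or.inr (Or.inl ?_))
    have := eqProd_spec_false h1.2
    rwa [toMat_idCode, mul_one] at this
  · exact Or.inr (Or.inr (Or.inr ⟨_, by omega, eqProd_spec_false h1.2⟩))

set_option maxRecDepth 1000000 in
theorem zs_ok : zsOK = true := by decide +kernel

/-! ### the extraspecial subgroup -/

/-- the `i`-th element of the extraspecial subgroup -/
def exC (i : ℕ) : ℕ := chk [exBig] 32 i

set_option maxRecDepth 1000000 in
theorem exTbl_ok : tblOKc exGens [exBig] 32 32 5 [exPerm0, exPerm1, exPerm2, exPerm3] exPar exPgen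
    0 32 = true := by decide +kernel

set_option maxRecDepth 1000000 in
theorem exSort_ok : sortedOKc [exBig] 32 32 5 exSig 0 31 = true := by decide +kernel

theorem exGens_facts : exGens.length = 4 ∧ ixE.length = 4 ∧ ixES.length = 4 ∧
    (∀ j < 4, ixE.getD j 0 < 5760 ∧ cenC (ixE.getD j 0) = exGens.getD j 0 ∧
      ixES.getD j 0 < 128 ∧ sylC (ixES.getD j 0) = exGens.getD j 0) ∧
    exC 0 = idCode ∧ ixEa < 32 ∧ exC ixEa = aCode := by decide +kernel

/-- the extraspecial subgroup is normalised by the generators of the centraliser -/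
def exNormOK : Bool :=
  (List.range 3).all fun g => (List.range 32).all fun i =>
    withNat (fld (exNorm.getD g 0) 5 i) fun j =>
      decide (j < 32) && eqProd (cenGens.getD g 0) (exC i) (exC j) (cenGens.getD g 0)

theorem exNormOK_spec (h : exNormOK = true) (g : ℕ) (hg : g < 3) (i : ℕ) (hi : i < 32) :
    fld (exNorm.getD g 0) 5 i < 32 ∧
      toMat (cenGens.getD g 0) * toMat (exC i) =
        toMat (exC (fld (exNorm.getD g 0) 5 i)) * toMat (cenGens.getD g 0) := by
  simp only [exNormOK, List.all_eq_true, List.mem_range, withNat_eq, Bool.and_eq_true,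
    decide_eq_true_eq] at h
  exact ⟨(h g hg i hi).1, eqProd_spec (h g hg i hi).2⟩

set_option maxRecDepth 1000000 in
theorem exNorm_ok : exNormOK = true := by decide +kernel

/-- an element of the centraliser commuting with the extraspecial subgroup is `±1` times a
scalar -/
def ceOK (lo len : ℕ) : Bool :=
  (List.range' lo len).all fun i =>
    withNat (cenC i) fun c => withNat (fld ceCert 3 i) fun k =>
      (k == 7 && zaList.contains c) ||
      (decide (k < 4) && !eqProd c (exGens.getD k 0) (exGens.getD k 0) c)

theorem ceOK_spec {lo len : ℕ} (h : ceOK lo len = true) (i : ℕ) (h1 : lo ≤ i) (h2 : i < lo + len) :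
    cenC i ∈ zaList ∨ ∃ j < 4, toMat (cenC i) * toMat (exGens.getD j 0) ≠
      toMat (exGens.getD j 0) * toMat (cenC i) := by
  simp only [ceOK, List.all_eq_true, List.mem_range'_1, withNat_eq, Bool.and_eq_true,
    decide_eq_true_eq, Bool.or_eq_true, beq_iff_eq, Bool.not_eq_true',
    List.contains_iff_mem] at h
  rcases h i ⟨h1, h2⟩ with h3 | h3
  · exact Or.inl h3.2
  · exact Or.inr ⟨_, h3.1, eqProd_spec_false h3.2⟩

set_option maxRecDepth 1000000 in
set_option maxHeartbeats 0 in
theorem ce_ok : ceOK 0 5760 = true := by decide +kernel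

theorem zaList_facts : zaList = [idCode, wICode, w2ICode, prodCode aCode idCode,
    prodCode aCode wICode, prodCode aCode w2ICode] := by decide +kernel

end Cfsg.Agent.Helper98.J3
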