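import Cfsg.Agent.Helper98.J3Out
import Cfsg.Agent.Helper98.J3CenCheck

/-!
# The centraliser of an involution of `3·J₃`

All involutions of `3·J₃` are conjugate, the class has `26163` elements, and so the centraliser of
the involution `a` has order `5760`; it is described by a table, together with a Sylow 2-subgroup
and its normal extraspecial subgroup of order `32`.
-/

set_option autoImplicit false
set_option linter.unusedSectionVars false

namespace Cfsg.Agent.Helper98.J3

open Cfsg.Agent.Helper27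

theorem invSort_spec (k : ℕ) (hk : k + 1 < 26163) :
    fld invSig 15 k < 26163 ∧ fld invSig 15 (k + 1) < 26163 ∧
      invC (fld invSig 15 k) < invC (fld invSig 15 (k + 1)) := by
  rcases Nat.lt_or_ge k 13081 with h1 | h1
  · exact sortedOKc_spec invSort_0 k (by omega) (by omega)
  · exact sortedOKc_spec invSort_1 k (by omega) (by omega)

theorem invC_inj {i j : ℕ} (hi : i < 26163) (hj : j < 26163) (e : invC i = invC j) : i = j :=
  inj_of_sorted invC (fun k => fld invSig 15 k) 26163 invSort_spec hi hj e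

theorem invC_lt (i : ℕ) : invC i < 2 ^ 162 := chk_lt _ _ _

theorem cenTbl_spec (i : ℕ) (hi : i < 5760) :
    (∀ g < cenGens.length,
      fld ([cenPerm0, cenPerm1, cenPerm2, cenPerm3].getD g 0) 13 i < 5760 ∧
      toMat (cenGens.getD g 0) * toMat (cenC i) =
        toMat (cenC (fld ([cenPerm0, cenPerm1, cenPerm2, cenPerm3].getD g 0) 13 i))) ∧
    (i ≠ 0 → fld cenPar 13 i < i ∧ fld cenPgen 4 i < cenGens.length ∧
      fld ([cenPerm0, cenPerm1, cenPerm2, cenPerm3].getD (fld cenPgen 4 i) 0) 13
        (fld cenPar 13 i) = i) := by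
  rcases Nat.lt_or_ge i 2880 with h1 | h1
  · exact tblOKc_spec cenTbl_0 i (by omega) (by omega)
  · exact tblOKc_spec cenTbl_1 i (by omega) (by omega)

theorem cenC_inj {i j : ℕ} (hi : i < 5760) (hj : j < 5760) (e : cenC i = cenC j) : i = j :=
  inj_of_sorted cenC (fun k => fld cenSig 13 k) 5760
    (fun k hk => sortedOKc_spec cenSort_ok k (by omega) (by omega)) hi hj e

theorem sylC_inj {i j : ℕ} (hi : i < 128) (hj : j < 128) (e : sylC i = sylC j) : i = j :=
  inj_of_sorted sylC (fun k => fld sylSig 7 k) 128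
    (fun k hk => sortedOKc_spec sylSort_ok k (by omega) (by omega)) hi hj e

theorem exC_inj {i j : ℕ} (hi : i < 32) (hj : j < 32) (e : exC i = exC j) : i = j :=
  inj_of_sorted exC (fun k => fld exSig 5 k) 32
    (fun k hk => sortedOKc_spec exSort_ok k (by omega) (by omega)) hi hj e

section

variable {K : Type*} [Group K] [Finite K] {φ : K →* Matrix (Fin 9) (Fin 9) GF4}
  (hφ : Function.Injective φ) {a b : K} (ha : φ a = toMat aCode) (hb : φ b = toMat bCode)
  (hgen : Subgroup.closure {a, b} = (⊤ : Subgroup K))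

include hφ ha hb hgen

omit hφ hgen in
/-- every entry of the table of involutions is a conjugate of `a` -/
theorem inv_rep (i : ℕ) (hi : i < 26163) : ∃ g : K, φ (g * a * g⁻¹) = toMat (invC i) := by
  induction i using Nat.strong_induction_on with
  | _ i ih =>
    rcases Nat.eq_zero_or_pos i with rfl | hpos
    · exact ⟨1, by rw [one_mul, inv_one, mul_one, ha, inv_zero]⟩
    · obtain ⟨hp, hAB⟩ := invTreeOK_spec invTree_ok i (by omega) (by omega) (by omega)
      obtain ⟨g, hg⟩ := ih _ hp (by omega)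
      obtain ⟨h1, h2, h3, h4⟩ := invClosed_spec (fld invPar 15 i) (by omega)
      rcases hAB with e | e
      · refine ⟨a * g, ?_⟩
        have hrw : a * g * a * (a * g)⁻¹ = a * (g * a * g⁻¹) * a⁻¹ := by group
        rw [hrw]
        apply mul_right_cancel_map (φ := φ) a
        rw [← map_mul, inv_mul_cancel_right, map_mul, hg, ha, h3, e]
      · refine ⟨b * g, ?_⟩
        have hrw : b * g * a * (b * g)⁻¹ = b * (g * a * g⁻¹) * b⁻¹ := by group
        rw [hrw]
        apply mul_right_cancel_map (φ := φ) b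
        rw [← map_mul, inv_mul_cancel_right, map_mul, hg, hb, h4, e]

/-- all involutions of `3·J₃` are conjugate -/
theorem involution_conj (x : K) (hx2 : x ^ 2 = 1) (hx1 : x ≠ 1) : ∃ g : K, g * a * g⁻¹ = x := by
  obtain ⟨i, hi, e⟩ := involution_in_table hφ ha hb hgen x hx2 hx1
  obtain ⟨g, hg⟩ := inv_rep ha hb i hi
  exact ⟨g, hφ (hg.trans e.symm)⟩

/-- the centraliser of the involution `a` has order `5760` -/
theorem card_centralizer_a : Nat.card (Subgroup.centralizer ({a} : Set K)) = 5760 := by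
  have hK : Nat.card K = 150698880 := (main hφ ha hb hgen).1
  have hmem : ∀ g : K, g * a * g⁻¹ ∈ MulAction.orbit (ConjAct K) a := by
    intro g
    exact ⟨ConjAct.toConjAct g, ConjAct.toConjAct_smul g a⟩
  have horb : Nat.card (MulAction.orbit (ConjAct K) a) = 26163 := by
    let f : Fin 26163 → MulAction.orbit (ConjAct K) a := fun i =>
      ⟨Classical.choose (inv_rep ha hb i.val i.isLt) * a *
        (Classical.choose (inv_rep ha hb i.val i.isLt))⁻¹, hmem _⟩
    have hf : ∀ i, φ (f i : K) = toMat (invC i.val) :=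
      fun i => Classical.choose_spec (inv_rep ha hb i.val i.isLt)
    have hbij : Function.Bijective f := by
      constructor
      · intro i j hij
        have h3 : toMat (invC i.val) = toMat (invC j.val) := by rw [← hf i, ← hf j, hij]
        exact Fin.ext (invC_inj i.isLt j.isLt (toMat_inj (invC_lt _) (invC_lt _) h3))
      · rintro ⟨x, g, rfl⟩
        obtain ⟨i', hi', e⟩ := conj_table ha hb hgen (ConjAct.ofConjAct g) 0 (by norm_num) a
          (by rw [ha, inv_zero])
        refine ⟨⟨i', hi'⟩, Subtype.ext (hφ ?_)⟩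
        rw [hf]
        exact e.symm
    rw [← Nat.card_eq_of_bijective f hbij, Nat.card_fin]
  have h := Nat.card_congr (MulAction.orbitProdStabilizerEquivGroup (ConjAct K) a)
  rw [Nat.card_prod, horb, ← Subgroup.nat_card_centralizer_nat_card_stabilizer] at h
  have hK' : Nat.card (ConjAct K) = 150698880 := hK
  rw [hK'] at h
  exact Nat.eq_of_mul_eq_mul_left (by norm_num : 0 < 26163)
    (h.trans (by norm_num : 150698880 = 26163 * 5760))


omit hφ hgen in
/-- the generators of the centraliser, as elements of the group -/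
theorem cen_gens_exist : ∃ gsC : ℕ → K,
    ∀ j < cenGens.length, φ (gsC j) = toMat (cenGens.getD j 0) := by
  obtain ⟨f0, f1, f2, f3⟩ := slpC_facts
  have key := rep_of_slp (φ := φ) (S := ⊤) slpC_ok (by
    intro k hk
    interval_cases k
    · rw [f0]; exact ⟨a, Subgroup.mem_top _, ha⟩
    · rw [f1]; exact ⟨b, Subgroup.mem_top _, hb⟩)
  obtain ⟨-, -, ⟨w, hw⟩, -⟩ := elements ha hb
  have h3 : ∀ j, j < 3 → ∃ g : K, φ g = toMat (cenGens.getD j 0) := by
    intro j hj
    obtain ⟨h1, h2⟩ := f3 j hj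
    obtain ⟨g, -, e⟩ := key _ h1
    exact ⟨g, by rw [e, h2]⟩
  choose! gs hgs using h3
  refine ⟨fun j => if j < 3 then gs j else w, ?_⟩
  intro j hj
  rw [cenGens_facts.1] at hj
  by_cases h : j < 3
  · simp only [h, if_true]
    exact hgs j h
  · have : j = 3 := by omega
    subst this
    simp only [if_neg h]
    rw [cenGens_facts.2.1]
    exact hw

/-- the centraliser of `a`, as a table -/
theorem centralizer_table : ∃ gsC : ℕ → K,
    (∀ j < 4, φ (gsC j) = toMat (cenGens.getD j 0)) ∧
    Subgroup.centralizer ({a} : Set K) = Subgroup.closure {g : K | ∃ j < 4, g = gsC j} ∧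
    (∀ g ∈ Subgroup.centralizer ({a} : Set K), ∃ c < 5760, φ g = toMat (cenC c)) ∧
    (∀ c < 5760, ∃ g ∈ Subgroup.centralizer ({a} : Set K), φ g = toMat (cenC c)) := by
  obtain ⟨gsC, hgsC⟩ := cen_gens_exist ha hb
  obtain ⟨fl, fw, fcomm, fsq, f0⟩ := cenGens_facts
  obtain ⟨hC1, hC2⟩ := table_level_f (φ := φ) cenC 5760 cenGens
    (fun g i => fld ([cenPerm0, cenPerm1, cenPerm2, cenPerm3].getD g 0) 13 i)
    (fun i => fld cenPar 13 i) (fun i => fld cenPgen 4 i) cenTbl_spec f0 (by norm_num) _ hgsC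
  have hcard := table_card_f hφ cenC 5760 (fun i => chk_lt _ _ _)
    (fun i j hi hj e => cenC_inj hi hj e) _ hC1 hC2
  rw [fl] at hgsC hC1 hC2 hcard
  have hle : Subgroup.closure {g : K | ∃ j < 4, g = gsC j} ≤
      Subgroup.centralizer ({a} : Set K) := by
    rw [Subgroup.closure_le]
    rintro g ⟨j, hj, rfl⟩
    rw [SetLike.mem_coe, Subgroup.mem_centralizer_iff]
    intro h hh
    rw [Set.mem_singleton_iff] at hh
    subst hh
    apply hφ
    rw [map_mul, map_mul, hgsC j hj, ha]
    exact eqProd_spec (fcomm j hj)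
  have heq : Subgroup.closure {g : K | ∃ j < 4, g = gsC j} =
      Subgroup.centralizer ({a} : Set K) := by
    apply Subgroup.eq_of_le_of_card_ge hle
    rw [hcard, card_centralizer_a hφ ha hb hgen]
  refine ⟨gsC, hgsC, heq.symm, ?_, ?_⟩
  · rw [← heq]; exact hC1
  · rw [← heq]; exact hC2

/-- The local structure at the involution `a`: a Sylow 2-subgroup `S` generated by involutions,
its subgroup `E` of order 32 which is normal in the centraliser of `a` and self-centralising
modulo scalars. -/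
theorem local_data : ∃ (S E : Subgroup K) (cs ss : ℕ → K),
    Nat.card S = 128 ∧ E ≤ S ∧ a ∈ E ∧ Nat.card E = 32 ∧
    S = Subgroup.closure {g : K | ∃ j < 3, g = ss j} ∧ (∀ j < 3, ss j ^ 2 = 1 ∧ ss j ≠ 1) ∧
    Subgroup.centralizer ({a} : Set K) = Subgroup.closure {g : K | ∃ j < 4, g = cs j} ∧
    (∀ j < 3, cs j ^ 2 = 1) ∧ cs 3 ∈ Subgroup.center K ∧
    S ≤ Subgroup.centralizer ({a} : Set K) ∧
    (∀ k ∈ Subgroup.centralizer ({a} : Set K), ∀ x ∈ E, k * x * k⁻¹ ∈ E) ∧
    (∀ s ∈ S, s ^ 2 = 1 → (∀ j < 3, s * ss j = ss j * s) → s = 1 ∨ s = a) ∧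
    (∀ k ∈ Subgroup.centralizer ({a} : Set K), (∀ x ∈ E, k * x = x * k) →
      ∃ z ∈ Subgroup.center K, k = z ∨ k = a * z) := by
  obtain ⟨cs, hcs, hCeq, hC1, hC2⟩ := centralizer_table hφ ha hb hgen
  obtain ⟨fl, fw, fcomm, fsq, f0⟩ := cenGens_facts
  obtain ⟨sl, sl', sfacts, s0⟩ := sylGens_facts
  obtain ⟨el, el', el'', efacts, e0, ea1, ea2⟩ := exGens_facts
  -- the generators of `S` and `E`
  have hs : ∀ j, j < 3 → ∃ g ∈ Subgroup.centralizer ({a} : Set K),
      φ g = toMat (sylGens.getD j 0) := by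
    intro j hj
    obtain ⟨h1, h2, -, -⟩ := sfacts j hj
    obtain ⟨g, hg, e⟩ := hC2 _ h1
    exact ⟨g, hg, by rw [e, h2]⟩
  choose! ss hssC hss using hs
  have he : ∀ j, j < 4 → ∃ g ∈ Subgroup.centralizer ({a} : Set K),
      φ g = toMat (exGens.getD j 0) := by
    intro j hj
    obtain ⟨h1, h2, -, -⟩ := efacts j hj
    obtain ⟨g, hg, e⟩ := hC2 _ h1
    exact ⟨g, hg, by rw [e, h2]⟩
  choose! es hesC hes using he
  -- the tables of `S` and `E`
  obtain ⟨hS1, hS2⟩ := table_level_f (φ := φ) sylC 128 sylGens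
    (fun g i => fld ([sylPerm0, sylPerm1, sylPerm2].getD g 0) 7 i)
    (fun i => fld sylPar 7 i) (fun i => fld sylPgen 4 i)
    (fun i hi => tblOKc_spec sylTbl_ok i (by omega) (by omega)) s0 (by norm_num) ss
    (by rw [sl]; exact hss)
  have hScard := table_card_f hφ sylC 128 (fun i => chk_lt _ _ _)
    (fun i j hi hj e => sylC_inj hi hj e) _ hS1 hS2
  obtain ⟨hE1, hE2⟩ := table_level_f (φ := φ) exC 32 exGens
    (fun g i => fld ([exPerm0, exPerm1, exPerm2, exPerm3].getD g 0) 5 i)
    (fun i => fld exPar 5 i) (fun i => fld exPgen 4 i)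
    (fun i hi => tblOKc_spec exTbl_ok i (by omega) (by omega)) e0 (by norm_num) es
    (by rw [el]; exact hes)
  have hEcard := table_card_f hφ exC 32 (fun i => chk_lt _ _ _)
    (fun i j hi hj e => exC_inj hi hj e) _ hE1 hE2
  rw [sl] at hS1 hS2 hScard
  rw [el] at hE1 hE2 hEcard
  -- the scalars
  obtain ⟨-, -, ⟨w, hw⟩, -⟩ := elements ha hb
  have hw2 : φ (w * w) = toMat w2ICode := map_mul_code hw hw ordW_ok.1
  have hwc : w ∈ Subgroup.center K := center_of_scalar hφ ha hb hgen (Or.inr (Or.inl hw))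
  have hw2c : w * w ∈ Subgroup.center K := Subgroup.mul_mem _ hwc hwc
  have hcs3 : cs 3 ∈ Subgroup.center K := by
    apply center_of_scalar hφ ha hb hgen
    right; left
    rw [hcs 3 (by norm_num), fw]
  -- normality of `E` in the centraliser
  have hnorm : ∀ k ∈ Subgroup.centralizer ({a} : Set K),
      ∀ x ∈ Subgroup.closure {g : K | ∃ j < 4, g = es j}, k * x * k⁻¹ ∈
        Subgroup.closure {g : K | ∃ j < 4, g = es j} := by
    intro k hk
    rw [hCeq] at hk
    revert hk
    refine closure_left_induction _ (fun k => ∀ x ∈ Subgroup.closure {g : K | ∃ j < 4, g = es j},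
      k * x * k⁻¹ ∈ Subgroup.closure {g : K | ∃ j < 4, g = es j}) ?_ ?_ k
    · intro x hx
      rwa [one_mul, inv_one, mul_one]
    · rintro s ⟨j, hj, rfl⟩ y ih x hx
      have hrw : cs j * y * x * (cs j * y)⁻¹ = cs j * (y * x * y⁻¹) * (cs j)⁻¹ := by group
      rw [hrw]
      have hy := ih x hx
      rcases Nat.lt_or_ge j 3 with hj3 | hj3
      · obtain ⟨i, hi, ei⟩ := hE1 _ hy
        obtain ⟨h1, h2⟩ := exNormOK_spec exNorm_ok j hj3 i hi
        obtain ⟨g, hg, eg⟩ := hE2 _ h1
        have : cs j * (y * x * y⁻¹) * (cs j)⁻¹ = g := by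
          apply hφ
          apply mul_right_cancel_map (φ := φ) (cs j)
          rw [← map_mul, inv_mul_cancel_right, map_mul, ei, hcs j hj, h2, eg]
        rw [this]
        exact hg
      · have hj' : j = 3 := by omega
        subst hj'
        have hc := Subgroup.mem_center_iff.1 hcs3 (y * x * y⁻¹)
        rw [← hc, mul_inv_cancel_right]
        exact hy
  refine ⟨Subgroup.closure {g : K | ∃ j < 3, g = ss j},
    Subgroup.closure {g : K | ∃ j < 4, g = es j}, cs, ss, hScard, ?_, ?_, hEcard, rfl, ?_, hCeq,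
    ?_, hcs3, ?_, hnorm, ?_, ?_⟩
  · -- `E ≤ S`
    rw [Subgroup.closure_le]
    rintro g ⟨j, hj, rfl⟩
    obtain ⟨-, -, h3, h4⟩ := efacts j hj
    obtain ⟨g, hg, eg⟩ := hS2 _ h3
    rw [h4, ← hes j hj] at eg
    rw [SetLike.mem_coe, ← hφ eg]
    exact hg
  · -- `a ∈ E`
    obtain ⟨g, hg, eg⟩ := hE2 _ ea1
    rw [ea2, ← ha] at eg
    rw [← hφ eg]
    exact hg
  · -- the generators of `S` are involutions
    intro j hj
    obtain ⟨-, h2, h3, h4⟩ := sfacts j hj
    constructor
    · rw [pow_two]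
      exact eq_one_of_code hφ (map_mul_code (hss j hj) (hss j hj) h3)
    · rintro h1
      apply h4
      apply toMat_inj (h2 ▸ chk_lt _ _ _) scal_lt.1
      rw [← hss j hj, h1, map_one, toMat_idCode]
  · -- the generators of the centraliser are involutions
    intro j hj
    rw [pow_two]
    exact eq_one_of_code hφ (map_mul_code (hcs j (by omega)) (hcs j (by omega)) (fsq j hj))
  · -- `S` centralises `a`
    rw [Subgroup.closure_le]
    rintro g ⟨j, hj, rfl⟩
    exact hssC j hj
  · -- central involutions of `S`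
    intro s hs hs2 hcomm
    obtain ⟨i, hi, ei⟩ := hS1 _ hs
    rcases zsOK_spec zs_ok i hi with h | h | h | ⟨j, hj, h⟩
    · left
      rw [h] at ei
      exact eq_one_of_code hφ ei
    · right
      rw [h, ← ha] at ei
      exact hφ ei
    · exfalso
      apply h
      rw [← ei, ← map_mul, ← pow_two, hs2, map_one]
    · exfalso
      apply h
      rw [← ei, ← hss j hj, ← map_mul, ← map_mul, hcomm j hj]
  · -- the centraliser of `E`
    intro k hk hcomm
    obtain ⟨i, hi, ei⟩ := hC1 _ hk
    rcases ceOK_spec ce_ok i (by omega) (by omega) with h | ⟨j, hj, h⟩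
    · rw [zaList_facts] at h
      simp only [List.mem_cons, List.not_mem_nil, or_false] at h
      have hcase : ∀ z : K, ∀ c : ℕ, φ z = toMat c → cenC i = prodCode aCode c → k = a * z := by
        intro z c hz hc
        apply hφ
        rw [ei, hc, toMat_prodCode, map_mul, ha, hz]
      rcases h with h | h | h | h | h | h
      · exact ⟨1, Subgroup.one_mem _, Or.inl (eq_one_of_code hφ (by rw [ei, h]))⟩
      · exact ⟨w, hwc, Or.inl (hφ (by rw [ei, h, hw]))⟩
      · exact ⟨w * w, hw2c, Or.inl (hφ (by rw [ei, h, hw2]))⟩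
      · exact ⟨1, Subgroup.one_mem _, Or.inr (hcase 1 idCode (by rw [map_one, toMat_idCode]) h)⟩
      · exact ⟨w, hwc, Or.inr (hcase w wICode hw h)⟩
      · exact ⟨w * w, hw2c, Or.inr (hcase (w * w) w2ICode hw2 h)⟩
    · exfalso
      apply h
      have hmem : es j ∈ Subgroup.closure {g : K | ∃ j < 4, g = es j} :=
        Subgroup.subset_closure ⟨j, hj, rfl⟩
      rw [← ei, ← hes j hj, ← map_mul, ← map_mul, hcomm _ hmem]

end

end Cfsg.Agent.Helper98.J3
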