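import Cfsg.Agent.Helper98.J3CenCheck
import Cfsg.Agent.Helper98.J3Data32

/-!
# Kernel checks for the structure of the centraliser of an involution of `3·J₃`
-/

set_option autoImplicit false

namespace Cfsg.Agent.Helper98.J3

open Cfsg.Agent.Helper27

/-! ### the extraspecial subgroup -/

/-- squares and commutators in `E` are `1` or `a`, and the centre of `E` is `{1, a}` -/
def exStructOK : Bool :=
  (List.range 32).all fun i =>
    withNat (exC i) fun ei =>
      (eqMul ei ei idCode || eqMul ei ei aCode) &&
      ((List.range 32).all fun j =>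
        withNat (exC j) fun ej => eqProd ei ej ej ei || eqProd ei ej (prodCode aCode ej) ei) &&
      (i == 0 || i == ixEa || (List.range 32).any fun j => !eqProd ei (exC j) (exC j) ei)

theorem exStructOK_spec (h : exStructOK = true) (i : ℕ) (hi : i < 32) :
    (toMat (exC i) * toMat (exC i) = 1 ∨ toMat (exC i) * toMat (exC i) = toMat aCode) ∧
    (∀ j < 32, toMat (exC i) * toMat (exC j) = toMat (exC j) * toMat (exC i) ∨
      toMat (exC i) * toMat (exC j) = toMat aCode * toMat (exC j) * toMat (exC i)) ∧
    (i = 0 ∨ i = ixEa ∨ ∃ j < 32, toMat (exC i) * toMat (exC j) ≠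
      toMat (exC j) * toMat (exC i)) := by
  simp only [exStructOK, List.all_eq_true, List.mem_range, withNat_eq, Bool.and_eq_true,
    Bool.or_eq_true, beq_iff_eq, List.any_eq_true, Bool.not_eq_true'] at h
  obtain ⟨⟨h1, h2⟩, h3⟩ := h i hi
  refine ⟨?_, ?_, ?_⟩
  · rcases h1 with h1 | h1
    · left
      have := eqMul_spec h1
      rwa [toMat_idCode] at this
    · right
      exact eqMul_spec h1
  · intro j hj
    rcases h2 j hj with h | h
    · left
      exact eqProd_spec h
    · right
      have := eqProd_spec h
      rwa [toMat_prodCode] at this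
  · rcases h3 with (h3 | h3) | ⟨j, hj, h3⟩
    · exact Or.inl h3
    · exact Or.inr (Or.inl h3)
    · exact Or.inr (Or.inr ⟨j, hj, eqProd_spec_false h3⟩)

set_option maxRecDepth 1000000 in
theorem exStruct_ok : exStructOK = true := by decide +kernel

/-- `exC i` is an involution or the identity -/
def exInv (i : ℕ) : Bool := eqMul (exC i) (exC i) idCode

/-- `exC i` and `exC j` commute -/
def exComm (i j : ℕ) : Bool := eqProd (exC i) (exC j) (exC j) (exC i)

/-- three pairwise commuting involutions of `E` are dependent -/
def exNoE8OK : Bool :=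
  (List.range 32).all fun i => !exInv i || i == 0 ||
    (List.range 32).all fun j => !exInv j || j == 0 || j == i || !exComm i j ||
      (List.range 32).all fun k => !exInv k || !exComm i k || !exComm j k || k == 0 || k == i ||
        k == j || exC k == prodCode (exC i) (exC j)

theorem exNoE8OK_spec (h : exNoE8OK = true) (i j k : ℕ) (hi : i < 32) (hj : j < 32) (hk : k < 32)
    (h1 : toMat (exC i) * toMat (exC i) = 1) (h2 : toMat (exC j) * toMat (exC j) = 1)
    (h3 : toMat (exC k) * toMat (exC k) = 1)
    (h4 : toMat (exC i) * toMat (exC j) = toMat (exC j) * toMat (exC i))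
    (h5 : toMat (exC i) * toMat (exC k) = toMat (exC k) * toMat (exC i))
    (h6 : toMat (exC j) * toMat (exC k) = toMat (exC k) * toMat (exC j)) :
    i = 0 ∨ j = 0 ∨ j = i ∨ k = 0 ∨ k = i ∨ k = j ∨ exC k = prodCode (exC i) (exC j) := by
  simp only [exNoE8OK, List.all_eq_true, List.mem_range, Bool.or_eq_true, beq_iff_eq,
    Bool.not_eq_true'] at h
  have inv_true : ∀ m, toMat (exC m) * toMat (exC m) = 1 → exInv m = true := by
    intro m hm
    by_contra hcon
    rw [Bool.not_eq_true] at hcon
    have := eqProd_spec_false hcon
    rw [toMat_idCode, mul_one] at this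
    exact this hm
  have comm_true : ∀ m n, toMat (exC m) * toMat (exC n) = toMat (exC n) * toMat (exC m) →
      exComm m n = true := by
    intro m n hmn
    by_contra hcon
    rw [Bool.not_eq_true] at hcon
    exact eqProd_spec_false hcon hmn
  have e1 := inv_true i h1
  have e2 := inv_true j h2
  have e3 := inv_true k h3
  have e4 := comm_true i j h4
  have e5 := comm_true i k h5
  have e6 := comm_true j k h6
  rcases h i hi with (hh | hh) | hh
  · rw [e1] at hh; exact absurd hh (by decide)
  · exact Or.inl hh
  rcases hh j hj with (((hh | hh) | hh) | hh) | hh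
  · rw [e2] at hh; exact absurd hh (by decide)
  · exact Or.inr (Or.inl hh)
  · exact Or.inr (Or.inr (Or.inl hh))
  · rw [e4] at hh; exact absurd hh (by decide)
  rcases hh k hk with (((((hh | hh) | hh) | hh) | hh) | hh) | hh
  · rw [e3] at hh; exact absurd hh (by decide)
  · rw [e5] at hh; exact absurd hh (by decide)
  · rw [e6] at hh; exact absurd hh (by decide)
  · exact Or.inr (Or.inr (Or.inr (Or.inl hh)))
  · exact Or.inr (Or.inr (Or.inr (Or.inr (Or.inl hh))))
  · exact Or.inr (Or.inr (Or.inr (Or.inr (Or.inr (Or.inl hh)))))
  · exact Or.inr (Or.inr (Or.inr (Or.inr (Or.inr (Or.inr hh)))))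

set_option maxRecDepth 1000000 in
theorem exNoE8_ok : exNoE8OK = true := by decide +kernel

/-! ### the complement -/

/-- the `i`-th element of the complement -/
def compC (i : ℕ) : ℕ := chk [compBig] 60 i

set_option maxRecDepth 1000000 in
theorem compTbl_ok : tblOKc compGens [compBig] 60 60 6 [compPerm0, compPerm1] compPar compPgen
    0 60 = true := by decide +kernel

set_option maxRecDepth 1000000 in
theorem compSort_ok : sortedOKc [compBig] 60 60 6 compSig 0 59 = true := by decide +kernel

theorem compGens_facts : compGens.length = 2 ∧ ixH.length = 2 ∧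
    (∀ j < 2, ixH.getD j 0 < 5760 ∧ cenC (ixH.getD j 0) = compGens.getD j 0) ∧
    compC 0 = idCode := by decide +kernel

/-- the generators of the complement are commutators -/
def compCommOK : Bool :=
  (List.range 2).all fun g =>
    withNat (compComm.getD g (0, 0)).1 fun cu => withNat (compComm.getD g (0, 0)).2 fun cv =>
      decide (cu < 60) && decide (cv < 60) &&
        eqProd (prodCode (compGens.getD g 0) (compC cv)) (compC cu) (compC cu) (compC cv)

theorem compCommOK_spec (h : compCommOK = true) (g : ℕ) (hg : g < 2) :
    ∃ cu < 60, ∃ cv < 60, toMat (compGens.getD g 0) * toMat (compC cv) * toMat (compC cu) =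
      toMat (compC cu) * toMat (compC cv) := by
  simp only [compCommOK, List.all_eq_true, List.mem_range, withNat_eq, Bool.and_eq_true,
    decide_eq_true_eq] at h
  obtain ⟨⟨h1, h2⟩, h3⟩ := h g hg
  refine ⟨_, h1, _, h2, ?_⟩
  have := eqProd_spec h3
  rwa [toMat_prodCode] at this

set_option maxRecDepth 1000000 in
theorem compComm_ok : compCommOK = true := by decide +kernel

/-- the complement meets `E` times the scalars trivially -/
def compDisjOK : Bool :=
  (List.range' 1 59).all fun i =>
    withNat (compC i) fun c =>
      (List.range 32).all fun j => withNat (exC j) fun e =>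
        c != prodCode e idCode && c != prodCode e wICode && c != prodCode e w2ICode

theorem compDisjOK_spec (h : compDisjOK = true) (i : ℕ) (hi : i < 60) (hi0 : i ≠ 0) (j : ℕ)
    (hj : j < 32) : compC i ≠ prodCode (exC j) idCode ∧ compC i ≠ prodCode (exC j) wICode ∧
      compC i ≠ prodCode (exC j) w2ICode := by
  simp only [compDisjOK, List.all_eq_true, List.mem_range'_1, List.mem_range, withNat_eq,
    Bool.and_eq_true, bne_iff_ne, ne_eq] at h
  obtain ⟨⟨h1, h2⟩, h3⟩ := h i ⟨by omega, by omega⟩ j hj
  exact ⟨h1, h2, h3⟩

set_option maxRecDepth 1000000 in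
theorem compDisj_ok : compDisjOK = true := by decide +kernel

end Cfsg.Agent.Helper98.J3
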