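import Cfsg.Agent.Helper98.J3Cen
import Cfsg.Agent.Helper98.J3CenCheck2

/-!
# The structure of the centraliser of an involution of `3·J₃`: extraspecial subgroup and complement
-/

set_option autoImplicit false
set_option linter.unusedSectionVars false

namespace Cfsg.Agent.Helper98.J3

open Cfsg.Agent.Helper27

theorem compC_inj {i j : ℕ} (hi : i < 60) (hj : j < 60) (e : compC i = compC j) : i = j :=
  inj_of_sorted compC (fun k => fld compSig 6 k) 60
    (fun k hk => sortedOKc_spec compSort_ok k (by omega) (by omega)) hi hj e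

section

variable {K : Type*} [Group K] [Finite K] {φ : K →* Matrix (Fin 9) (Fin 9) GF4}
  (hφ : Function.Injective φ) {a b : K} (ha : φ a = toMat aCode) (hb : φ b = toMat bCode)
  (hgen : Subgroup.closure {a, b} = (⊤ : Subgroup K))

include hφ ha hb hgen

/-- The extraspecial subgroup `E` of order 32 of the centraliser of `a` and a complement `H` of
order 60, with the elementwise facts needed for the structure of the centraliser. -/
theorem local_data2 : ∃ (E H : Subgroup K) (hs : ℕ → K),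
    Nat.card E = 32 ∧ a ∈ E ∧ E ≤ Subgroup.centralizer ({a} : Set K) ∧
    (∀ k ∈ Subgroup.centralizer ({a} : Set K), ∀ x ∈ E, k * x * k⁻¹ ∈ E) ∧
    (∀ x ∈ E, x * x = 1 ∨ x * x = a) ∧
    (∀ x ∈ E, ∀ y ∈ E, x * y = y * x ∨ x * y = a * y * x) ∧
    (∀ x ∈ E, (∀ y ∈ E, x * y = y * x) → x = 1 ∨ x = a) ∧
    (∀ x ∈ E, ∀ y ∈ E, ∀ w ∈ E, x * x = 1 → y * y = 1 → w * w = 1 → x * y = y * x →
      x * w = w * x → y * w = w * y →
      x = 1 ∨ y = 1 ∨ y = x ∨ w = 1 ∨ w = x ∨ w = y ∨ w = x * y) ∧
    Nat.card H = 60 ∧ H ≤ Subgroup.centralizer ({a} : Set K) ∧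
    H = Subgroup.closure {g : K | ∃ j < 2, g = hs j} ∧
    (∀ j < 2, ∃ u ∈ H, ∃ v ∈ H, hs j = u * v * u⁻¹ * v⁻¹) ∧
    (∀ h ∈ H, ∀ e ∈ E, ∀ z ∈ Subgroup.center K, h = e * z → h = 1) := by
  obtain ⟨cs, hcs, hCeq, hC1, hC2⟩ := centralizer_table hφ ha hb hgen
  obtain ⟨fl, fw, fcomm, fsq, f0⟩ := cenGens_facts
  obtain ⟨el, el', el'', efacts, e0, ea1, ea2⟩ := exGens_facts
  obtain ⟨cl, cl', cfacts, c0⟩ := compGens_facts
  -- generators
  have he : ∀ j, j < 4 → ∃ g ∈ Subgroup.centralizer ({a} : Set K),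
      φ g = toMat (exGens.getD j 0) := by
    intro j hj
    obtain ⟨h1, h2, -, -⟩ := efacts j hj
    obtain ⟨g, hg, e⟩ := hC2 _ h1
    exact ⟨g, hg, by rw [e, h2]⟩
  choose! es hesC hes using he
  have hh : ∀ j, j < 2 → ∃ g ∈ Subgroup.centralizer ({a} : Set K),
      φ g = toMat (compGens.getD j 0) := by
    intro j hj
    obtain ⟨h1, h2⟩ := cfacts j hj
    obtain ⟨g, hg, e⟩ := hC2 _ h1
    exact ⟨g, hg, by rw [e, h2]⟩
  choose! hs hhsC hhs using hh
  -- tables
  obtain ⟨hE1, hE2⟩ := table_level_f (φ := φ) exC 32 exGens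
    (fun g i => fld ([exPerm0, exPerm1, exPerm2, exPerm3].getD g 0) 5 i)
    (fun i => fld exPar 5 i) (fun i => fld exPgen 4 i)
    (fun i hi => tblOKc_spec exTbl_ok i (by omega) (by omega)) e0 (by norm_num) es
    (by rw [el]; exact hes)
  have hEcard := table_card_f hφ exC 32 (fun i => chk_lt _ _ _)
    (fun i j hi hj e => exC_inj hi hj e) _ hE1 hE2
  obtain ⟨hH1, hH2⟩ := table_level_f (φ := φ) compC 60 compGens
    (fun g i => fld ([compPerm0, compPerm1].getD g 0) 6 i)
    (fun i => fld compPar 6 i) (fun i => fld compPgen 4 i)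
    (fun i hi => tblOKc_spec compTbl_ok i (by omega) (by omega)) c0 (by norm_num) hs
    (by rw [cl]; exact hhs)
  have hHcard := table_card_f hφ compC 60 (fun i => chk_lt _ _ _)
    (fun i j hi hj e => compC_inj hi hj e) _ hH1 hH2
  rw [el] at hE1 hE2 hEcard
  rw [cl] at hH1 hH2 hHcard
  have hcs3 : cs 3 ∈ Subgroup.center K := by
    apply center_of_scalar hφ ha hb hgen
    right; left
    rw [hcs 3 (by norm_num), fw]
  -- normality of `E` in the centraliser
  have hnorm : ∀ k ∈ Subgroup.centralizer ({a} : Set K),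
      ∀ x ∈ Subgroup.closure {g : K | ∃ j < 4, g = es j}, k * x * k⁻¹ ∈
        Subgroup.closure {g : K | ∃ j < 4, g = es j} := by
    intro k hk
    rw [hCeq] at hk
    revert hk
    refine closure_left_induction _ (fun k => ∀ x ∈ Subgroup.closure {g : K | ∃ j < 4, g = es j},
      k * x * k⁻¹ ∈ Subgroup.closure {g : K | ∃ j < 4, g = es j}) ?_ ?_ k
    · intro x hx
      rwa [one_mul, inv_one, mul_one]
    · rintro s ⟨j, hj, rfl⟩ y ih x hx
      have hrw : cs j * y * x * (cs j * y)⁻¹ = cs j * (y * x * y⁻¹) * (cs j)⁻¹ := by group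
      rw [hrw]
      have hy := ih x hx
      rcases Nat.lt_or_ge j 3 with hj3 | hj3
      · obtain ⟨i, hi, ei⟩ := hE1 _ hy
        obtain ⟨h1, h2⟩ := exNormOK_spec exNorm_ok j hj3 i hi
        obtain ⟨g, hg, eg⟩ := hE2 _ h1
        have : cs j * (y * x * y⁻¹) * (cs j)⁻¹ = g := by
          apply hφ
          apply mul_right_cancel_map (φ := φ) (cs j)
          rw [← map_mul, inv_mul_cancel_right, map_mul, ei, hcs j hj, h2, eg]
        rw [this]
        exact hg
      · have hj' : j = 3 := by omega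
        subst hj'
        have hc := Subgroup.mem_center_iff.1 hcs3 (y * x * y⁻¹)
        rw [← hc, mul_inv_cancel_right]
        exact hy
  refine ⟨Subgroup.closure {g : K | ∃ j < 4, g = es j},
    Subgroup.closure {g : K | ∃ j < 2, g = hs j}, hs, hEcard, ?_, ?_, hnorm, ?_, ?_, ?_, ?_,
    hHcard, ?_, rfl, ?_, ?_⟩
  · -- `a ∈ E`
    obtain ⟨g, hg, eg⟩ := hE2 _ ea1
    rw [ea2, ← ha] at eg
    rw [← hφ eg]
    exact hg
  · -- `E ≤ C(a)`
    rw [Subgroup.closure_le]
    rintro g ⟨j, hj, rfl⟩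
    exact hesC j hj
  · -- squares
    intro x hx
    obtain ⟨i, hi, ei⟩ := hE1 _ hx
    rcases (exStructOK_spec exStruct_ok i hi).1 with h | h
    · left
      apply hφ
      rw [map_mul, ei, h, map_one]
    · right
      apply hφ
      rw [map_mul, ei, h, ha]
  · -- commutators
    intro x hx y hy
    obtain ⟨i, hi, ei⟩ := hE1 _ hx
    obtain ⟨j, hj, ej⟩ := hE1 _ hy
    rcases (exStructOK_spec exStruct_ok i hi).2.1 j hj with h | h
    · left
      apply hφ
      rw [map_mul, map_mul, ei, ej, h]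
    · right
      apply hφ
      rw [map_mul, map_mul, map_mul, ei, ej, ha, h]
  · -- the centre
    intro x hx hcomm
    obtain ⟨i, hi, ei⟩ := hE1 _ hx
    rcases (exStructOK_spec exStruct_ok i hi).2.2 with h | h | ⟨j, hj, h⟩
    · left
      rw [h, e0] at ei
      exact eq_one_of_code hφ ei
    · right
      rw [h, ea2, ← ha] at ei
      exact hφ ei
    · exfalso
      obtain ⟨y, hy, ey⟩ := hE2 _ hj
      apply h
      rw [← ei, ← ey, ← map_mul, ← map_mul, hcomm y hy]
  · -- no elementary abelian subgroup of order 8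
    intro x hx y hy w hw hx2 hy2 hw2 hxy hxw hyw
    obtain ⟨i, hi, ei⟩ := hE1 _ hx
    obtain ⟨j, hj, ej⟩ := hE1 _ hy
    obtain ⟨k, hk, ek⟩ := hE1 _ hw
    have key := exNoE8OK_spec exNoE8_ok i j k hi hj hk
      (by rw [← ei, ← map_mul, hx2, map_one]) (by rw [← ej, ← map_mul, hy2, map_one])
      (by rw [← ek, ← map_mul, hw2, map_one])
      (by rw [← ei, ← ej, ← map_mul, ← map_mul, hxy])
      (by rw [← ei, ← ek, ← map_mul, ← map_mul, hxw])
      (by rw [← ej, ← ek, ← map_mul, ← map_mul, hyw])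
    rcases key with h | h | h | h | h | h | h
    · left
      rw [h, e0] at ei
      exact eq_one_of_code hφ ei
    · right; left
      rw [h, e0] at ej
      exact eq_one_of_code hφ ej
    · right; right; left
      rw [h, ← ei] at ej
      exact hφ ej
    · right; right; right; left
      rw [h, e0] at ek
      exact eq_one_of_code hφ ek
    · right; right; right; right; left
      rw [h, ← ei] at ek
      exact hφ ek
    · right; right; right; right; right; left
      rw [h, ← ej] at ek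
      exact hφ ek
    · right; right; right; right; right; right
      apply hφ
      rw [ek, h, toMat_prodCode, map_mul, ei, ej]
  · -- `H ≤ C(a)`
    rw [Subgroup.closure_le]
    rintro g ⟨j, hj, rfl⟩
    exact hhsC j hj
  · -- the generators of `H` are commutators
    intro j hj
    obtain ⟨cu, hcu, cv, hcv, e⟩ := compCommOK_spec compComm_ok j hj
    obtain ⟨u, hu, eu⟩ := hH2 _ hcu
    obtain ⟨v, hv, ev⟩ := hH2 _ hcv
    refine ⟨u, hu, v, hv, ?_⟩
    have h1 : hs j * v * u = u * v := by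
      apply hφ
      rw [map_mul, map_mul, map_mul, hhs j hj, eu, ev, e]
    calc hs j = hs j * v * u * u⁻¹ * v⁻¹ := by group
      _ = u * v * u⁻¹ * v⁻¹ := by rw [h1]
  · -- `H` meets `E Z` trivially
    intro h hh e he z hz hez
    obtain ⟨i, hi, ei⟩ := hH1 _ hh
    obtain ⟨j, hj, ej⟩ := hE1 _ he
    by_cases hi0 : i = 0
    · rw [hi0, c0] at ei
      exact eq_one_of_code hφ ei
    exfalso
    obtain ⟨d1, d2, d3⟩ := compDisjOK_spec compDisj_ok i hi hi0 j hj
    have hcase : ∀ c : ℕ, φ z = toMat c → compC i = prodCode (exC j) c := by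
      intro c hc
      have h1 : toMat (compC i) = toMat (prodCode (exC j) c) := by
        rw [toMat_prodCode, ← ei, ← ej, ← hc, ← map_mul, hez]
      exact toMat_inj (chk_lt _ _ _) (prodCode_lt _ _) h1
    rcases scalar_of_center hφ ha hb hgen hz with h | h | h
    · exact d1 (hcase _ h)
    · exact d2 (hcase _ h)
    · exact d3 (hcase _ h)

end

end Cfsg.Agent.Helper98.J3
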