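import Cfsg.Agent.Helper98.J3Chk
import Cfsg.Agent.Helper98.J3Data1

/-!
# Kernel checks for `3·J₃`: the stabiliser table
-/

set_option autoImplicit false

namespace Cfsg.Agent.Helper98.J3

set_option maxRecDepth 1000000 in
set_option maxHeartbeats 0 in
theorem t1_ok : tblOK [h1Code, h2Code] t1Big 6480 13 [t1Perm0, t1Perm1] t1Par t1Pgen 0 6480 = true := by
  decide +kernel

set_option maxRecDepth 1000000 in
theorem t1_zero : fld t1Big 162 0 = idCode := by decide +kernel

end Cfsg.Agent.Helper98.J3
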