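import Cfsg.Agent.Helper98.J3Chk
import Cfsg.Agent.Helper98.J3Data1
import Cfsg.Agent.Helper98.J3Data2
import Cfsg.Agent.Helper98.J3Data3
import Cfsg.Agent.Helper98.J3Data4
import Cfsg.Agent.Helper98.J3Data5
import Cfsg.Agent.Helper98.J3Data6
import Cfsg.Agent.Helper98.J3Check1

/-!
# Kernel checks for `3·J₃`: the coset cover (first half)
-/

set_option autoImplicit false

namespace Cfsg.Agent.Helper98.J3

/-- the chunks of the table of coset representatives -/
def uChunks : List ℕ := [uBig0, uBig1, uBig2, uBig3, uBig4, uBig5, uBig6, uBig7]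

/-- the cover check on a range of cosets -/
def coverG (lo len : ℕ) : Bool :=
  coverOK [aCode, bCode] uChunks 2907 23256 t1Big 6480 [uPerm0, uPerm1] [uCert0, uCert1] uPar uPgen
    15 13 lo len

set_option maxRecDepth 1000000 in
set_option maxHeartbeats 0 in
theorem cover_0 : coverG 0 5814 = true := by decide +kernel

set_option maxRecDepth 1000000 in
set_option maxHeartbeats 0 in
theorem cover_1 : coverG 5814 5814 = true := by decide +kernel

set_option maxRecDepth 1000000 in
theorem u_zero : chk uChunks 2907 0 = idCode := by decide +kernel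

end Cfsg.Agent.Helper98.J3
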