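import Cfsg.Agent.Helper98.J3Enc

/-!
# Boolean checks on packed data for the verification of `3·J₃`
-/

set_option autoImplicit false

namespace Cfsg.Agent.Helper98.J3

open Cfsg.Agent.Helper27

theorem fld_lt (T w i : ℕ) : fld T w i < 2 ^ w := by
  rw [fld_eq, Nat.one_shiftLeft, Nat.and_two_pow_sub_one_eq_mod]
  exact Nat.mod_lt _ (Nat.two_pow_pos w)

/-! ### tables closed under left multiplication -/

/-- `T` is a table of `n` codes closed under left multiplication by `gens`, with images
`perms[g][i]` and a spanning tree `par`, `pgen` (indices of width `w`). -/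
def tblOK (gens : List ℕ) (T n w : ℕ) (perms : List ℕ) (par pgen lo len : ℕ) : Bool :=
  (List.range' lo len).all fun i =>
    withNat (fld T 162 i) fun A =>
      ((List.range gens.length).all fun g =>
        withNat (fld (perms.getD g 0) w i) fun j =>
          decide (j < n) && withNat (fld T 162 j) fun B => eqMul (gens.getD g 0) A B) &&
      (i == 0 || (withNat (fld par w i) fun p => withNat (fld pgen 4 i) fun g =>
        decide (p < i) && decide (g < gens.length) && (fld (perms.getD g 0) w p == i)))

theorem tblOK_spec {gens : List ℕ} {T n w : ℕ} {perms : List ℕ} {par pgen lo len : ℕ}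
    (h : tblOK gens T n w perms par pgen lo len = true) (i : ℕ) (h1 : lo ≤ i) (h2 : i < lo + len) :
    (∀ g < gens.length, fld (perms.getD g 0) w i < n ∧
      toMat (gens.getD g 0) * toMat (fld T 162 i) = toMat (fld T 162 (fld (perms.getD g 0) w i))) ∧
    (i ≠ 0 → fld par w i < i ∧ fld pgen 4 i < gens.length ∧
      fld (perms.getD (fld pgen 4 i) 0) w (fld par w i) = i) := by
  simp only [tblOK, List.all_eq_true, List.mem_range'_1, withNat_eq, Bool.and_eq_true,
    decide_eq_true_eq, List.mem_range, Bool.or_eq_true, beq_iff_eq] at h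
  obtain ⟨h3, h4⟩ := h i ⟨h1, h2⟩
  refine ⟨fun g hg => ⟨(h3 g hg).1, eqMul_spec (h3 g hg).2⟩, fun hi => ?_⟩
  rcases h4 with h4 | h4
  · exact absurd h4 hi
  · exact ⟨h4.1.1, h4.1.2, h4.2⟩

/-- the codes of the table are strictly increasing along the sorting map `sig` -/
def sortedOK (T n w sig : ℕ) : Bool :=
  (List.range (n - 1)).all fun k =>
    withNat (fld sig w k) fun a => withNat (fld sig w (k + 1)) fun b =>
      decide (a < n) && decide (b < n) && decide (fld T 162 a < fld T 162 b)

theorem sortedOK_spec {T n w sig : ℕ} (h : sortedOK T n w sig = true) (k : ℕ) (hk : k + 1 < n) :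
    fld sig w k < n ∧ fld sig w (k + 1) < n ∧
      fld T 162 (fld sig w k) < fld T 162 (fld sig w (k + 1)) := by
  simp only [sortedOK, List.all_eq_true, List.mem_range, withNat_eq, Bool.and_eq_true,
    decide_eq_true_eq] at h
  obtain ⟨⟨h1, h2⟩, h3⟩ := h k (by omega)
  exact ⟨h1, h2, h3⟩

/-! ### straight line programs -/

/-- entry `k ≥ k0` of `tab` is the product of two earlier entries -/
def slpOK (tab : List ℕ) (prog : List (ℕ × ℕ)) (k0 : ℕ) : Bool :=
  (List.range' k0 (tab.length - k0)).all fun k =>
    decide ((prog.getD k (0, 0)).1 < k) && decide ((prog.getD k (0, 0)).2 < k) &&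
      eqMul (tab.getD (prog.getD k (0, 0)).1 0) (tab.getD (prog.getD k (0, 0)).2 0) (tab.getD k 0)

theorem slpOK_spec {tab : List ℕ} {prog : List (ℕ × ℕ)} {k0 : ℕ} (h : slpOK tab prog k0 = true)
    (k : ℕ) (h1 : k0 ≤ k) (h2 : k < tab.length) :
    (prog.getD k (0, 0)).1 < k ∧ (prog.getD k (0, 0)).2 < k ∧
      toMat (tab.getD (prog.getD k (0, 0)).1 0) * toMat (tab.getD (prog.getD k (0, 0)).2 0) =
        toMat (tab.getD k 0) := by
  simp only [slpOK, List.all_eq_true, List.mem_range'_1, Bool.and_eq_true,
    decide_eq_true_eq] at h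
  obtain ⟨⟨h3, h4⟩, h5⟩ := h k ⟨h1, by omega⟩
  exact ⟨h3, h4, eqMul_spec h5⟩

/-- normal closure programs: entry `k ≥ 1` is either the conjugate of an earlier entry by the
generator `gens[j]` (kind 1) or the product of two earlier entries (kind 2) -/
def nslpOK (gens : List ℕ) (tab : List ℕ) (prog : List (ℕ × ℕ × ℕ)) : Bool :=
  (List.range' 1 (tab.length - 1)).all fun k =>
    let e := prog.getD k (0, 0, 0)
    decide (e.2.1 < k) &&
      (if e.1 = 1 then decide (e.2.2 < gens.length) &&
          eqProd (tab.getD k 0) (gens.getD e.2.2 0) (gens.getD e.2.2 0) (tab.getD e.2.1 0)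
        else decide (e.2.2 < k) && eqMul (tab.getD e.2.1 0) (tab.getD e.2.2 0) (tab.getD k 0))

theorem nslpOK_spec {gens tab : List ℕ} {prog : List (ℕ × ℕ × ℕ)}
    (h : nslpOK gens tab prog = true) (k : ℕ) (h1 : 1 ≤ k) (h2 : k < tab.length) :
    (prog.getD k (0, 0, 0)).2.1 < k ∧
      (((prog.getD k (0, 0, 0)).2.2 < gens.length ∧
          toMat (tab.getD k 0) * toMat (gens.getD (prog.getD k (0, 0, 0)).2.2 0) =
            toMat (gens.getD (prog.getD k (0, 0, 0)).2.2 0) *
              toMat (tab.getD (prog.getD k (0, 0, 0)).2.1 0)) ∨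
        ((prog.getD k (0, 0, 0)).2.2 < k ∧
          toMat (tab.getD (prog.getD k (0, 0, 0)).2.1 0) *
            toMat (tab.getD (prog.getD k (0, 0, 0)).2.2 0) = toMat (tab.getD k 0))) := by
  simp only [nslpOK, List.all_eq_true, List.mem_range'_1, Bool.and_eq_true,
    decide_eq_true_eq] at h
  obtain ⟨h3, h4⟩ := h k ⟨h1, by omega⟩
  refine ⟨h3, ?_⟩
  split_ifs at h4
  · left
    simp only [Bool.and_eq_true, decide_eq_true_eq] at h4
    exact ⟨h4.1, eqProd_spec h4.2⟩
  · right
    simp only [Bool.and_eq_true, decide_eq_true_eq] at h4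
    exact ⟨h4.1, eqMul_spec h4.2⟩

/-! ### coset covers -/

/-- entry `i` of a table split into chunks of `cs` codes -/
def chk (chunks : List ℕ) (cs i : ℕ) : ℕ := fld (chunks.getD (i / cs) 0) 162 (i % cs)

/-- cover check: `gens[g] * U_i = U_j * T_c` with `j = perms[g][i]`, `c = certs[g][i]`, and a
spanning tree for the `U_i` whose edges have trivial certificate -/
def coverOK (gens : List ℕ) (chunks : List ℕ) (cs N : ℕ) (T n : ℕ) (perms certs : List ℕ)
    (par pgen wN wn lo len : ℕ) : Bool :=
  (List.range' lo len).all fun i =>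
    withNat (chk chunks cs i) fun A =>
      ((List.range gens.length).all fun g =>
        withNat (fld (perms.getD g 0) wN i) fun j => withNat (fld (certs.getD g 0) wn i) fun c =>
          decide (j < N) && decide (c < n) &&
            withNat (chk chunks cs j) fun B => withNat (fld T 162 c) fun h =>
              eqProd (gens.getD g 0) A B h) &&
      (i == 0 || (withNat (fld par wN i) fun p => withNat (fld pgen 4 i) fun g =>
        decide (p < i) && decide (g < gens.length) && (fld (perms.getD g 0) wN p == i) &&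
          (fld (certs.getD g 0) wn p == 0)))

theorem coverOK_spec {gens chunks : List ℕ} {cs N T n : ℕ} {perms certs : List ℕ}
    {par pgen wN wn lo len : ℕ}
    (h : coverOK gens chunks cs N T n perms certs par pgen wN wn lo len = true) (i : ℕ)
    (h1 : lo ≤ i) (h2 : i < lo + len) :
    (∀ g < gens.length, fld (perms.getD g 0) wN i < N ∧ fld (certs.getD g 0) wn i < n ∧
      toMat (gens.getD g 0) * toMat (chk chunks cs i) =
        toMat (chk chunks cs (fld (perms.getD g 0) wN i)) *
          toMat (fld T 162 (fld (certs.getD g 0) wn i))) ∧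
    (i ≠ 0 → fld par wN i < i ∧ fld pgen 4 i < gens.length ∧
      fld (perms.getD (fld pgen 4 i) 0) wN (fld par wN i) = i ∧
      fld (certs.getD (fld pgen 4 i) 0) wn (fld par wN i) = 0) := by
  simp only [coverOK, List.all_eq_true, List.mem_range'_1, withNat_eq, Bool.and_eq_true,
    decide_eq_true_eq, List.mem_range, Bool.or_eq_true, beq_iff_eq] at h
  obtain ⟨h3, h4⟩ := h i ⟨h1, h2⟩
  refine ⟨fun g hg => ⟨(h3 g hg).1.1, (h3 g hg).1.2, eqProd_spec (h3 g hg).2⟩, fun hi => ?_⟩
  rcases h4 with h4 | h4
  · exact absurd h4 hi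
  · exact ⟨h4.1.1.1, h4.1.1.2, h4.1.2, h4.2⟩

end Cfsg.Agent.Helper98.J3
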