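import Mathlib
import Cfsg.Agent.Helper27.GF4

/-!
# Packed `9 × 9` matrices over the field with four elements

A row is a natural number below `2 ^ 18`: bit `j` is the low bit and bit `9 + j` the high bit of
entry `j` (entry `= high * ω + low`).  A matrix is the number whose `i`-th block of 18 bits is
row `i`.  Products are computed row-wise with bitwise operations.
-/

set_option autoImplicit false

namespace Cfsg.Agent.Helper98.J3

open Cfsg.Agent.Helper27

/-- decode two bits -/
def dec (h l : Bool) : GF4 :=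
  match h, l with
  | false, false => GF4.z
  | false, true => GF4.o
  | true, false => GF4.w
  | true, true => GF4.w2

theorem dec_xor (h1 l1 h2 l2 : Bool) :
    dec (h1 ^^ h2) (l1 ^^ l2) = dec h1 l1 + dec h2 l2 := by
  cases h1 <;> cases l1 <;> cases h2 <;> cases l2 <;> rfl

theorem dec_w (h l : Bool) : dec (h ^^ l) h = GF4.w * dec h l := by
  cases h <;> cases l <;> rfl

theorem dec_eq (h l : Bool) :
    dec h l = (if l then 1 else 0) + (if h then GF4.w else 0) := by
  cases h <;> cases l <;> rfl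

theorem dec_inj {h1 l1 h2 l2 : Bool} (e : dec h1 l1 = dec h2 l2) : h1 = h2 ∧ l1 = l2 := by
  cases h1 <;> cases l1 <;> cases h2 <;> cases l2 <;> first | exact ⟨rfl, rfl⟩ | cases e

/-- evaluate a natural number first (forces the kernel to compute `v` once) -/
def withNat {α : Type} [Inhabited α] (v : ℕ) (f : ℕ → α) : α :=
  match v + 1 with
  | 0 => default
  | n + 1 => f n

theorem withNat_eq {α : Type} [Inhabited α] (v : ℕ) (f : ℕ → α) : withNat v f = f v := rfl

/-- field `i` of width `w` of a packed table -/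
def fld (T w i : ℕ) : ℕ :=
  Nat.land (Nat.shiftRight T (Nat.mul w i)) (Nat.sub (Nat.shiftLeft 1 w) 1)

theorem fld_eq (T w i : ℕ) : fld T w i = (T >>> (w * i)) &&& (1 <<< w - 1) := rfl

/-- entry `j` of a packed row -/
def entRow (r j : ℕ) : GF4 := dec (r.testBit (9 + j)) (r.testBit j)

/-- row `i` of a packed matrix -/
def rowOf (A i : ℕ) : ℕ := (A >>> (18 * i)) &&& 262143

theorem rowOf_lt (A i : ℕ) : rowOf A i < 2 ^ 18 := by
  have : rowOf A i = (A >>> (18 * i)) % 2 ^ 18 := by
    rw [rowOf]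
    exact Nat.and_two_pow_sub_one_eq_mod _ 18
  rw [this]
  exact Nat.mod_lt _ (by norm_num)

/-- the matrix of a code -/
def toMat (A : ℕ) : Matrix (Fin 9) (Fin 9) GF4 := fun i j => entRow (rowOf A i.val) j.val

/-- `ω` times a packed row -/
def wRow (r : ℕ) : ℕ := (((r >>> 9) ^^^ (r &&& 511)) <<< 9) ||| (r >>> 9)

theorem testBit_ge {r n k : ℕ} (hr : r < 2 ^ n) (hk : n ≤ k) : r.testBit k = false :=
  Nat.testBit_lt_two_pow (lt_of_lt_of_le hr (Nat.pow_le_pow_right (by norm_num) hk))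

theorem entRow_wRow {r : ℕ} (hr : r < 2 ^ 18) {j : ℕ} (hj : j < 9) :
    entRow (wRow r) j = GF4.w * entRow r j := by
  have h511 : (511 : ℕ) = 2 ^ 9 - 1 := by norm_num
  have h1 : (wRow r).testBit j = r.testBit (9 + j) := by
    rw [wRow, Nat.testBit_or, Nat.testBit_shiftLeft, Nat.testBit_shiftRight]
    have : ¬ (j ≥ 9) := by omega
    simp [this]
  have h2 : (wRow r).testBit (9 + j) = (r.testBit (9 + j) ^^ r.testBit j) := by
    rw [wRow, Nat.testBit_or, Nat.testBit_shiftLeft, Nat.testBit_shiftRight, Nat.testBit_xor,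
      Nat.testBit_shiftRight, Nat.testBit_and, h511, Nat.testBit_two_pow_sub_one]
    have h3 : r.testBit (9 + (9 + j)) = false := testBit_ge hr (by omega)
    have h4 : 9 + j - 9 = j := by omega
    have h5 : 9 + j ≥ 9 := by omega
    simp [h3, h4, h5, hj]
  rw [entRow, entRow, h1, h2, dec_w]

theorem entRow_xor (x y j : ℕ) : entRow (x ^^^ y) j = entRow x j + entRow y j := by
  rw [entRow, entRow, entRow, Nat.testBit_xor, Nat.testBit_xor, dec_xor]

theorem entRow_zero (j : ℕ) : entRow 0 j = 0 := by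
  rw [entRow, Nat.zero_testBit, Nat.zero_testBit]; rfl

/-- one step of the row-times-matrix product -/
def rowStep (r B acc k : ℕ) : ℕ :=
  withNat (rowOf B k) fun bk =>
    (if r.testBit k then acc ^^^ bk else acc) ^^^ (if r.testBit (9 + k) then wRow bk else 0)

/-- row vector times matrix -/
def rowMul (r B : ℕ) : ℕ := (List.range 9).foldl (rowStep r B) 0

theorem entRow_rowStep (r B acc k : ℕ) {j : ℕ} (hj : j < 9) :
    entRow (rowStep r B acc k) j = entRow acc j + entRow r k * entRow (rowOf B k) j := by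
  rw [rowStep, withNat_eq, entRow_xor]
  have h1 : entRow (if r.testBit k then acc ^^^ rowOf B k else acc) j =
      entRow acc j + (if r.testBit k then 1 else 0) * entRow (rowOf B k) j := by
    split_ifs
    · rw [entRow_xor, one_mul]
    · rw [zero_mul, add_zero]
  have h2 : entRow (if r.testBit (9 + k) then wRow (rowOf B k) else 0) j =
      (if r.testBit (9 + k) then GF4.w else 0) * entRow (rowOf B k) j := by
    split_ifs
    · rw [entRow_wRow (rowOf_lt B k) hj]
    · rw [entRow_zero, zero_mul]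
  rw [h1, h2, add_assoc, ← add_mul]
  congr 2
  rw [entRow, dec_eq]

theorem entRow_foldl (r B : ℕ) {j : ℕ} (hj : j < 9) (L : List ℕ) (acc : ℕ) :
    entRow (L.foldl (rowStep r B) acc) j =
      entRow acc j + (L.map fun k => entRow r k * entRow (rowOf B k) j).sum := by
  induction L generalizing acc with
  | nil => simp
  | cons k L ih =>
    rw [List.foldl_cons, ih, entRow_rowStep r B acc k hj, List.map_cons, List.sum_cons, add_assoc]

theorem entRow_rowMul (r B : ℕ) {j : ℕ} (hj : j < 9) :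
    entRow (rowMul r B) j = ∑ k : Fin 9, entRow r k.val * entRow (rowOf B k.val) j := by
  rw [rowMul, entRow_foldl r B hj, entRow_zero, zero_add, Fin.sum_univ_eq_sum_range
    (fun k => entRow r k * entRow (rowOf B k) j) 9]
  have h9 : List.range 9 = [0, 1, 2, 3, 4, 5, 6, 7, 8] := rfl
  rw [h9]
  simp only [List.map_cons, List.map_nil, List.sum_cons, List.sum_nil, Finset.sum_range_succ,
    Finset.sum_range_zero]
  ring

theorem toMat_mul_apply (A B : ℕ) (i j : Fin 9) :
    (toMat A * toMat B) i j = entRow (rowMul (rowOf A i.val) B) j.val := by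
  rw [Matrix.mul_apply, entRow_rowMul _ _ j.isLt]
  rfl

/-! ### bounds -/

theorem wRow_lt {r : ℕ} (hr : r < 2 ^ 18) : wRow r < 2 ^ 18 := by
  have h1 : r >>> 9 < 2 ^ 9 := by
    rw [Nat.shiftRight_eq_div_pow]
    exact Nat.div_lt_of_lt_mul (by rw [← pow_add]; exact hr)
  have h2 : r &&& 511 < 2 ^ 9 := by
    have : (511 : ℕ) = 2 ^ 9 - 1 := by norm_num
    rw [this, Nat.and_two_pow_sub_one_eq_mod]
    exact Nat.mod_lt _ (by norm_num)
  have h3 : (r >>> 9) ^^^ (r &&& 511) < 2 ^ 9 := Nat.xor_lt_two_pow h1 h2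
  have h4 : ((r >>> 9) ^^^ (r &&& 511)) <<< 9 < 2 ^ 18 := by
    rw [Nat.shiftLeft_eq]
    calc ((r >>> 9) ^^^ (r &&& 511)) * 2 ^ 9 < 2 ^ 9 * 2 ^ 9 :=
          Nat.mul_lt_mul_of_pos_right h3 (by norm_num)
      _ = 2 ^ 18 := by norm_num
  exact Nat.or_lt_two_pow h4 (lt_trans h1 (by norm_num))

theorem rowStep_lt (r B : ℕ) {acc : ℕ} (hacc : acc < 2 ^ 18) (k : ℕ) :
    rowStep r B acc k < 2 ^ 18 := by
  rw [rowStep, withNat_eq]
  apply Nat.xor_lt_two_pow
  · split_ifs
    · exact Nat.xor_lt_two_pow hacc (rowOf_lt B k)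
    · exact hacc
  · split_ifs
    · exact wRow_lt (rowOf_lt B k)
    · norm_num

theorem foldl_rowStep_lt (r B : ℕ) (L : List ℕ) {acc : ℕ} (hacc : acc < 2 ^ 18) :
    L.foldl (rowStep r B) acc < 2 ^ 18 := by
  induction L generalizing acc with
  | nil => exact hacc
  | cons k L ih => exact ih (rowStep_lt r B hacc k)

theorem rowMul_lt (r B : ℕ) : rowMul r B < 2 ^ 18 :=
  foldl_rowStep_lt r B _ (by norm_num)

/-! ### vectors -/

/-- the vector of a code -/
def toVec (v : ℕ) : Fin 9 → GF4 := fun j => entRow v j.val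

theorem toVec_inj {v w : ℕ} (hv : v < 2 ^ 18) (hw : w < 2 ^ 18) (h : toVec v = toVec w) :
    v = w := by
  apply Nat.eq_of_testBit_eq
  intro k
  rcases Nat.lt_or_ge k 18 with hk | hk
  · rcases Nat.lt_or_ge k 9 with hk9 | hk9
    · have := congrFun h ⟨k, hk9⟩
      exact (dec_inj this).2
    · have := congrFun h ⟨k - 9, by omega⟩
      have h2 := (dec_inj this).1
      have h3 : 9 + (k - 9) = k := by omega
      simp only [h3] at h2
      exact h2
  · rw [testBit_ge hv hk, testBit_ge hw hk]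

theorem testBit_rowOf (A i t : ℕ) (ht : t < 18) : (rowOf A i).testBit t = A.testBit (18 * i + t) := by
  have h : (262143 : ℕ) = 2 ^ 18 - 1 := by norm_num
  rw [rowOf, Nat.testBit_and, Nat.testBit_shiftRight, h, Nat.testBit_two_pow_sub_one]
  simp [ht]

theorem row_eq_of_entRow_eq {r r' : ℕ} (hr : r < 2 ^ 18) (hr' : r' < 2 ^ 18)
    (h : ∀ j < 9, entRow r j = entRow r' j) : r = r' := by
  apply toVec_inj hr hr'
  funext j
  exact h j.val j.isLt

/-- codes below `2 ^ 162` are determined by their rows -/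
theorem code_ext {A B : ℕ} (hA : A < 2 ^ 162) (hB : B < 2 ^ 162)
    (hrow : ∀ i < 9, rowOf A i = rowOf B i) : A = B := by
  apply Nat.eq_of_testBit_eq
  intro k
  rcases Nat.lt_or_ge k 162 with hk | hk
  · have h1 := testBit_rowOf A (k / 18) (k % 18) (Nat.mod_lt _ (by norm_num))
    have h2 := testBit_rowOf B (k / 18) (k % 18) (Nat.mod_lt _ (by norm_num))
    rw [Nat.div_add_mod] at h1 h2
    rw [← h1, ← h2, hrow (k / 18) (by omega)]
  · rw [testBit_ge hA hk, testBit_ge hB hk]

/-- codes below `2 ^ 162` are determined by their matrices -/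
theorem toMat_inj {A B : ℕ} (hA : A < 2 ^ 162) (hB : B < 2 ^ 162) (h : toMat A = toMat B) :
    A = B := by
  apply code_ext hA hB
  intro i hi
  apply row_eq_of_entRow_eq (rowOf_lt A i) (rowOf_lt B i)
  intro j hj
  exact congrFun (congrFun h ⟨i, hi⟩) ⟨j, hj⟩

/-! ### the product of two codes, all rows at once -/

/-- the mask of the lowest bit of each row -/
def colMask : ℕ := 22300830269446873167754772512960987242168321

/-- the mask of the lowest bit of each of the first `n` rows -/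
def maskN : ℕ → ℕ
  | 0 => 0
  | n + 1 => 1 + 2 ^ 18 * maskN n

theorem colMask_eq : colMask = maskN 9 := by decide +kernel

theorem mul_block {r : ℕ} (hr : r < 2 ^ 18) (n : ℕ) : ∀ (X i : ℕ), i < n →
    ((X &&& maskN n) * r) / 2 ^ (18 * i) % 2 ^ 18 = (X / 2 ^ (18 * i) % 2) * r := by
  induction n with
  | zero => intro X i hi; omega
  | succ n ih =>
    intro X i hi
    have h1 : (X &&& maskN (n + 1)) % 2 ^ 18 = X % 2 := by
      rw [Nat.and_mod_two_pow, maskN, Nat.add_mul_mod_self_left]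
      have : (1 : ℕ) % 2 ^ 18 = 1 := by norm_num
      rw [this, Nat.and_one_is_mod, Nat.mod_mod_of_dvd _ (by norm_num : 2 ∣ 2 ^ 18)]
    have h2 : (X &&& maskN (n + 1)) / 2 ^ 18 = (X / 2 ^ 18) &&& maskN n := by
      rw [Nat.and_div_two_pow, maskN, Nat.add_mul_div_left _ _ (by norm_num : 0 < 2 ^ 18)]
      norm_num
    have h3 : (X &&& maskN (n + 1)) * r =
        (X % 2) * r + 2 ^ 18 * (((X / 2 ^ 18) &&& maskN n) * r) := by
      conv_lhs => rw [← Nat.mod_add_div (X &&& maskN (n + 1)) (2 ^ 18), h1, h2]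
      ring
    have hb : (X % 2) * r < 2 ^ 18 := by
      have : X % 2 ≤ 1 := by omega
      calc (X % 2) * r ≤ 1 * r := Nat.mul_le_mul_right _ this
        _ = r := one_mul r
        _ < 2 ^ 18 := hr
    rw [h3]
    cases i with
    | zero =>
      rw [Nat.mul_zero, pow_zero, Nat.div_one, Nat.div_one, Nat.add_mul_mod_self_left,
        Nat.mod_eq_of_lt hb]
    | succ i =>
      have h4 : 2 ^ (18 * (i + 1)) = 2 ^ 18 * 2 ^ (18 * i) := by rw [← pow_add]; ring_nf
      rw [h4, ← Nat.div_div_eq_div_mul, ← Nat.div_div_eq_div_mul,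
        Nat.add_mul_div_left _ _ (by norm_num : 0 < 2 ^ 18), Nat.div_eq_of_lt hb, zero_add]
      exact ih (X / 2 ^ 18) i (by omega)

/-- raw form of `wRow` -/
def wRowR (r : ℕ) : ℕ :=
  Nat.lor (Nat.shiftLeft (Nat.xor (Nat.shiftRight r 9) (Nat.land r 511)) 9) (Nat.shiftRight r 9)

theorem wRowR_eq (r : ℕ) : wRowR r = wRow r := rfl

/-- the contribution of row `k` of `B` to the product `A * B`, all rows at once -/
def pTerm (A B M k : ℕ) : ℕ :=
  withNat (Nat.land (Nat.shiftRight B (Nat.mul 18 k)) 262143) fun bk =>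
    Nat.xor (Nat.mul (Nat.land (Nat.shiftRight A k) M) bk)
      (Nat.mul (Nat.land (Nat.shiftRight A (Nat.add 9 k)) M) (wRowR bk))

theorem pTerm_eq (A B M k : ℕ) : pTerm A B M k =
    (((A >>> k) &&& M) * rowOf B k) ^^^ (((A >>> (9 + k)) &&& M) * wRow (rowOf B k)) := rfl

/-- the code of the product of two matrices -/
def prodCode (A B : ℕ) : ℕ :=
  withNat colMask fun M =>
    Nat.xor (Nat.xor (Nat.xor (Nat.xor (Nat.xor (Nat.xor (Nat.xor (Nat.xor
      (pTerm A B M 0) (pTerm A B M 1)) (pTerm A B M 2)) (pTerm A B M 3)) (pTerm A B M 4))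
      (pTerm A B M 5)) (pTerm A B M 6)) (pTerm A B M 7)) (pTerm A B M 8)

theorem prodCode_eq (A B : ℕ) : prodCode A B =
    pTerm A B colMask 0 ^^^ pTerm A B colMask 1 ^^^ pTerm A B colMask 2 ^^^ pTerm A B colMask 3 ^^^
      pTerm A B colMask 4 ^^^ pTerm A B colMask 5 ^^^ pTerm A B colMask 6 ^^^
      pTerm A B colMask 7 ^^^ pTerm A B colMask 8 := rfl

theorem rowOf_eq_div_mod (Y i : ℕ) : rowOf Y i = Y / 2 ^ (18 * i) % 2 ^ 18 := by
  rw [rowOf, Nat.shiftRight_eq_div_pow]
  exact Nat.and_two_pow_sub_one_eq_mod _ 18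

theorem rowOf_xor (X Y i : ℕ) : rowOf (X ^^^ Y) i = rowOf X i ^^^ rowOf Y i := by
  rw [rowOf, rowOf, rowOf, Nat.shiftRight_xor_distrib, Nat.and_xor_distrib_right]

theorem rowOf_sel (A : ℕ) {r : ℕ} (hr : r < 2 ^ 18) (k : ℕ) {i : ℕ} (hi : i < 9) :
    rowOf (((A >>> k) &&& colMask) * r) i = if A.testBit (18 * i + k) then r else 0 := by
  rw [rowOf_eq_div_mod, colMask_eq, mul_block hr 9 _ i hi, Nat.shiftRight_eq_div_pow,
    Nat.div_div_eq_div_mul, ← pow_add, ← Nat.toNat_testBit, Nat.add_comm k]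
  cases A.testBit (18 * i + k) <;> simp

theorem rowStep_eq (r B acc k : ℕ) : rowStep r B acc k =
    acc ^^^ ((if r.testBit k then rowOf B k else 0) ^^^
      (if r.testBit (9 + k) then wRow (rowOf B k) else 0)) := by
  rw [rowStep, withNat_eq]
  split_ifs <;> simp [Nat.xor_assoc]

theorem rowOf_pTerm (A B k : ℕ) (hk : k < 9) {i : ℕ} (hi : i < 9) :
    rowOf (pTerm A B colMask k) i =
      (if (rowOf A i).testBit k then rowOf B k else 0) ^^^
        (if (rowOf A i).testBit (9 + k) then wRow (rowOf B k) else 0) := by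
  rw [pTerm_eq, rowOf_xor, rowOf_sel A (rowOf_lt B k) k hi,
    rowOf_sel A (wRow_lt (rowOf_lt B k)) (9 + k) hi, testBit_rowOf A i k (by omega),
    testBit_rowOf A i (9 + k) (by omega)]

theorem rowOf_prodCode (A B : ℕ) {i : ℕ} (hi : i < 9) :
    rowOf (prodCode A B) i = rowMul (rowOf A i) B := by
  have h9 : List.range 9 = [0, 1, 2, 3, 4, 5, 6, 7, 8] := rfl
  rw [rowMul, h9, prodCode_eq]
  simp only [List.foldl_cons, List.foldl_nil, rowStep_eq, rowOf_xor]
  rw [rowOf_pTerm A B 0 (by norm_num) hi, rowOf_pTerm A B 1 (by norm_num) hi,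
    rowOf_pTerm A B 2 (by norm_num) hi, rowOf_pTerm A B 3 (by norm_num) hi,
    rowOf_pTerm A B 4 (by norm_num) hi, rowOf_pTerm A B 5 (by norm_num) hi,
    rowOf_pTerm A B 6 (by norm_num) hi, rowOf_pTerm A B 7 (by norm_num) hi,
    rowOf_pTerm A B 8 (by norm_num) hi, Nat.zero_xor]

theorem sel_mul_lt (X : ℕ) {r : ℕ} (hr : r < 2 ^ 18) : (X &&& colMask) * r < 2 ^ 162 := by
  have h1 : X &&& colMask ≤ colMask := Nat.and_le_right
  have h2 : r ≤ 2 ^ 18 - 1 := by omega
  calc (X &&& colMask) * r ≤ colMask * (2 ^ 18 - 1) := Nat.mul_le_mul h1 h2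
    _ < 2 ^ 162 := by decide +kernel

theorem pTerm_lt (A B k : ℕ) : pTerm A B colMask k < 2 ^ 162 := by
  rw [pTerm_eq]
  exact Nat.xor_lt_two_pow (sel_mul_lt _ (rowOf_lt B k)) (sel_mul_lt _ (wRow_lt (rowOf_lt B k)))

theorem prodCode_lt (A B : ℕ) : prodCode A B < 2 ^ 162 := by
  rw [prodCode_eq]
  have h := fun k => pTerm_lt A B k
  exact Nat.xor_lt_two_pow (Nat.xor_lt_two_pow (Nat.xor_lt_two_pow (Nat.xor_lt_two_pow
    (Nat.xor_lt_two_pow (Nat.xor_lt_two_pow (Nat.xor_lt_two_pow (Nat.xor_lt_two_pow (h 0) (h 1))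
    (h 2)) (h 3)) (h 4)) (h 5)) (h 6)) (h 7)) (h 8)

/-- `A * B = C * D` as a Boolean check -/
def eqProd (A B C D : ℕ) : Bool := Nat.beq (prodCode A B) (prodCode C D)

theorem eqProd_iff {A B C D : ℕ} : eqProd A B C D = true ↔ prodCode A B = prodCode C D := by
  rw [eqProd]
  exact ⟨Nat.eq_of_beq_eq_true, fun h => by rw [h]; exact Nat.beq_refl _⟩

theorem eqProd_spec {A B C D : ℕ} (h : eqProd A B C D = true) :
    toMat A * toMat B = toMat C * toMat D := by
  have h1 := eqProd_iff.1 h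
  ext i j
  rw [toMat_mul_apply, toMat_mul_apply, ← rowOf_prodCode A B i.isLt, ← rowOf_prodCode C D i.isLt,
    h1]

theorem eqProd_spec_false {A B C D : ℕ} (h : eqProd A B C D = false) :
    toMat A * toMat B ≠ toMat C * toMat D := by
  intro e
  have h2 : eqProd A B C D = true := by
    rw [eqProd_iff]
    apply code_ext (prodCode_lt _ _) (prodCode_lt _ _)
    intro i hi
    rw [rowOf_prodCode A B hi, rowOf_prodCode C D hi]
    apply row_eq_of_entRow_eq (rowMul_lt _ _) (rowMul_lt _ _)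
    intro j hj
    have := congrFun (congrFun e ⟨i, hi⟩) ⟨j, hj⟩
    rwa [toMat_mul_apply, toMat_mul_apply] at this
  rw [h] at h2
  exact Bool.false_ne_true h2

/-- code of the identity matrix -/
def idCode : ℕ :=
  1 + 2 <<< 18 + 4 <<< 36 + 8 <<< 54 + 16 <<< 72 + 32 <<< 90 + 64 <<< 108 + 128 <<< 126 +
    256 <<< 144

theorem toMat_idCode : toMat idCode = 1 := by
  ext i j
  have h : ∀ i j : Fin 9, entRow (rowOf idCode i.val) j.val = if i = j then 1 else 0 := by
    decide +kernel
  rw [toMat, h, Matrix.one_apply]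

/-- `A * B = C` as a Boolean check -/
def eqMul (A B C : ℕ) : Bool := eqProd A B C idCode

theorem eqMul_spec {A B C : ℕ} (h : eqMul A B C = true) : toMat A * toMat B = toMat C := by
  have := eqProd_spec h
  rwa [toMat_idCode, mul_one] at this

end Cfsg.Agent.Helper98.J3
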