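import Cfsg.Agent.Helper98.J3Cen
import Cfsg.Agent.Helper84.SimpleCrit2

/-!
# The 2-fusion system of `J₃` is simple

The local data of `J3Cen.local_data` in `3·J₃`, pushed to the quotient by the centre, verify the
hypotheses of the simplicity criterion `Helper84.isSimple_of_locGen_conj`.
-/

set_option autoImplicit false
set_option linter.unusedSectionVars false

namespace Cfsg.Agent.Helper98.J3

open Cfsg Cfsg.FusionSystem

section

variable {K G : Type*} [Group K] [Finite K] [Group G] [Finite G]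

theorem factorization_j3 : (50232960 : ℕ).factorization 2 = 7 := by
  have h : (50232960 : ℕ) = 2 ^ 7 * 392445 := by norm_num
  rw [h, Nat.factorization_mul (by norm_num) (by norm_num), Finsupp.add_apply,
    Nat.Prime.factorization_pow Nat.prime_two, Finsupp.single_eq_same,
    Nat.factorization_eq_zero_of_not_dvd (by norm_num)]

/-- the criterion, from local data in a central extension by a group of order three -/
theorem fusion_simple_of_local (π : K →* G) (hπ : Function.Surjective π)
    (hker : π.ker = Subgroup.center K) (hZ : Nat.card (Subgroup.center K) = 3)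
    (hG : Nat.card G = 50232960)
    (a : K) (ha2 : a ^ 2 = 1) (ha1 : a ≠ 1)
    (hconj : ∀ x : K, x ^ 2 = 1 → x ≠ 1 → ∃ g : K, g * a * g⁻¹ = x)
    (S E : Subgroup K) (cs ss : ℕ → K)
    (hS : Nat.card S = 128) (hES : E ≤ S) (haE : a ∈ E)
    (hSgen : S = Subgroup.closure {g : K | ∃ j < 3, g = ss j})
    (hss : ∀ j < 3, ss j ^ 2 = 1 ∧ ss j ≠ 1)
    (hC : Subgroup.centralizer ({a} : Set K) = Subgroup.closure {g : K | ∃ j < 4, g = cs j})
    (hcs : ∀ j < 3, cs j ^ 2 = 1) (hcs3 : cs 3 ∈ Subgroup.center K)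
    (hSC : S ≤ Subgroup.centralizer ({a} : Set K))
    (hnorm : ∀ k ∈ Subgroup.centralizer ({a} : Set K), ∀ x ∈ E, k * x * k⁻¹ ∈ E)
    (hZS : ∀ s ∈ S, s ^ 2 = 1 → (∀ j < 3, s * ss j = ss j * s) → s = 1 ∨ s = a)
    (hCE : ∀ k ∈ Subgroup.centralizer ({a} : Set K), (∀ x ∈ E, k * x = x * k) →
      ∃ z ∈ Subgroup.center K, k = z ∨ k = a * z)
    (T : Sylow 2 G) : (groupFusionSystem (T : Subgroup G)).IsSimple 2 := by
  have : Fact (Nat.Prime 2) := ⟨Nat.prime_two⟩
  -- the centre meets `S` trivially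
  have hcop : ∀ z ∈ Subgroup.center K, z ∈ S → z = 1 := fun z hz hzS =>
    eq_one_of_mem_of_mem hzS hz (by rw [hS, hZ]; norm_num)
  have hkerc : ∀ x : K, π x = 1 ↔ x ∈ Subgroup.center K := by
    intro x
    rw [← hker, MonoidHom.mem_ker]
  have hinjS : ∀ x ∈ S, ∀ y ∈ S, π x = π y → x = y := by
    intro x hx y hy hxy
    have h1 : y⁻¹ * x ∈ Subgroup.center K := by
      rw [← hker]
      exact (MonoidHom.eq_iff π).1 hxy
    have h2 := hcop _ h1 (S.mul_mem (S.inv_mem hy) hx)
    exact (inv_mul_eq_one.1 h2).symm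
  have haS : a ∈ S := hES haE
  have hcomm_a : ∀ s ∈ S, s * a = a * s := by
    intro s hs
    have := Subgroup.mem_centralizer_iff.1 (hSC hs) a (Set.mem_singleton a)
    exact this.symm
  have hssS : ∀ j < 3, ss j ∈ S := by
    intro j hj
    rw [hSgen]
    exact Subgroup.subset_closure ⟨j, hj, rfl⟩
  have hπa1 : π a ≠ 1 := by
    intro h
    exact ha1 (hcop a ((hkerc a).1 h) haS)
  -- an element of `S` whose image is an involution or trivial is an involution or trivial
  have hsq : ∀ s ∈ S, π s ^ 2 = 1 → s ^ 2 = 1 := by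
    intro s hs h
    apply hcop
    · rw [← hkerc, map_pow, h]
    · exact S.pow_mem hs 2
  -- lifting the centraliser of `π a`
  have cent_lift : ∀ k : K, π k * π a = π a * π k → k ∈ Subgroup.centralizer ({a} : Set K) := by
    intro k hk
    have h1 : π (k * a * k⁻¹) = π a := by
      rw [map_mul, map_mul, hk, map_inv, mul_inv_cancel_right]
    have hz : a⁻¹ * (k * a * k⁻¹) ∈ Subgroup.center K := by
      rw [← hker]
      exact (MonoidHom.eq_iff π).1 h1
    set z := a⁻¹ * (k * a * k⁻¹) with hzdef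
    have hkz : k * a * k⁻¹ = a * z := by rw [hzdef, mul_inv_cancel_left]
    have hzc := Subgroup.mem_center_iff.1 hz
    have hz2 : z ^ 2 = 1 := by
      have h2 : (k * a * k⁻¹) ^ 2 = 1 := by
        rw [pow_two]
        have : k * a * k⁻¹ * (k * a * k⁻¹) = k * a ^ 2 * k⁻¹ := by rw [pow_two]; group
        rw [this, ha2, mul_one, mul_inv_cancel]
      rw [hkz, pow_two] at h2
      have h3 : a * z * (a * z) = a ^ 2 * z ^ 2 := by
        calc a * z * (a * z) = a * (z * a) * z := by group
          _ = a * (a * z) * z := by rw [← hzc a]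
          _ = a ^ 2 * z ^ 2 := by rw [pow_two, pow_two]; group
      rw [h3, ha2, one_mul] at h2
      exact h2
    have hz3 : z ^ 3 = 1 := by
      have := Subgroup.orderOf_dvd_natCard (Subgroup.center K) hz
      rw [hZ] at this
      exact orderOf_dvd_iff_pow_eq_one.1 this
    have hz1 : z = 1 := by
      have : z ^ 3 = z ^ 2 * z := pow_succ z 2
      rw [hz3, hz2, one_mul] at this
      exact this.symm
    rw [hz1, mul_one] at hkz
    rw [Subgroup.mem_centralizer_iff]
    intro h hh
    rw [Set.mem_singleton_iff] at hh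
    subst hh
    have : k * h = h * k := by
      have := congrArg (· * k) hkz
      simpa using this
    exact this.symm
  -- the images of `S` and `E`
  obtain ⟨SG, hSGdef⟩ : ∃ SG : Subgroup G, SG = S.map π := ⟨_, rfl⟩
  obtain ⟨EG, hEGdef⟩ : ∃ EG : Subgroup G, EG = E.map π := ⟨_, rfl⟩
  have hSGcard : Nat.card SG = 128 := by
    have hinj : Function.Injective (π.comp S.subtype) := by
      intro x y hxy
      exact Subtype.ext (hinjS _ x.2 _ y.2 hxy)
    have hr : (π.comp S.subtype).range = SG := by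
      rw [MonoidHom.range_comp, Subgroup.range_subtype, hSGdef]
    rw [← hr, ← hS]
    exact Nat.card_congr (MonoidHom.ofInjective hinj).toEquiv.symm
  have hπaE : π a ∈ EG := by rw [hEGdef]; exact Subgroup.mem_map_of_mem π haE
  have hEGle : EG ≤ SG := by rw [hEGdef, hSGdef]; exact Subgroup.map_mono hES
  have hπaS : π a ∈ SG := hEGle hπaE
  -- the normaliser of `EG`
  have norm_lift : ∀ k ∈ Subgroup.centralizer ({a} : Set K),
      π k ∈ Subgroup.normalizer (EG : Set G) := by
    intro k hk
    rw [Subgroup.mem_normalizer_iff]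
    intro h
    constructor
    · intro hh
      rw [hEGdef] at hh ⊢
      obtain ⟨e, he, rfl⟩ := hh
      refine ⟨k * e * k⁻¹, hnorm k hk e he, ?_⟩
      rw [map_mul, map_mul, map_inv]
    · intro hh
      rw [hEGdef] at hh ⊢
      obtain ⟨e, he, hee⟩ := hh
      refine ⟨k⁻¹ * e * (k⁻¹)⁻¹, hnorm k⁻¹ (Subgroup.inv_mem _ hk) e he, ?_⟩
      rw [map_mul, map_mul, map_inv, hee]
      group
  have hSGnorm : SG ≤ Subgroup.normalizer (EG : Set G) := by
    intro x hx
    rw [hSGdef] at hx
    obtain ⟨s, hs, rfl⟩ := hx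
    exact norm_lift s (hSC hs)
  -- `EG` is self-centralising
  have hCEG : Subgroup.centralizer (EG : Set G) ≤ EG := by
    intro g hg
    obtain ⟨k, rfl⟩ := hπ g
    have hk : k ∈ Subgroup.centralizer ({a} : Set K) :=
      cent_lift k (Subgroup.mem_centralizer_iff.1 hg (π a) hπaE).symm
    have hkE : ∀ x ∈ E, k * x = x * k := by
      intro x hx
      have h1 : π (k * x * k⁻¹) = π x := by
        have h2 := Subgroup.mem_centralizer_iff.1 hg (π x)
          (by rw [hEGdef]; exact Subgroup.mem_map_of_mem π hx)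
        rw [map_mul, map_mul, ← h2, map_inv, mul_inv_cancel_right]
      have h3 : x⁻¹ * (k * x * k⁻¹) ∈ Subgroup.center K := by
        rw [← hker]
        exact (MonoidHom.eq_iff π).1 h1
      have h4 := hcop _ h3 (S.mul_mem (S.inv_mem (hES hx)) (hES (hnorm k hk x hx)))
      have h5 : k * x * k⁻¹ = x := (inv_mul_eq_one.1 h4).symm
      have := congrArg (· * k) h5
      simpa using this
    obtain ⟨z, hz, h | h⟩ := hCE k hk hkE
    · rw [h, (hkerc z).2 hz]
      exact Subgroup.one_mem _
    · rw [h, map_mul, (hkerc z).2 hz, mul_one]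
      exact hπaE
  -- the normaliser of `SG` centralises `π a`
  have hNC : ∀ g ∈ Subgroup.normalizer (SG : Set G), g * π a = π a * g := by
    intro g hg
    have hu : g * π a * g⁻¹ ∈ SG := (Subgroup.mem_normalizer_iff.1 hg (π a)).1 hπaS
    rw [hSGdef] at hu
    obtain ⟨s, hsS, hs⟩ := hu
    have hs2 : s ^ 2 = 1 := by
      apply hsq s hsS
      rw [hs, pow_two]
      have : g * π a * g⁻¹ * (g * π a * g⁻¹) = g * π (a ^ 2) * g⁻¹ := by
        rw [pow_two, map_mul]; group
      rw [this, ha2, map_one, mul_one, mul_inv_cancel]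
    have hscomm : ∀ j < 3, s * ss j = ss j * s := by
      intro j hj
      apply hinjS _ (S.mul_mem hsS (hssS j hj)) _ (S.mul_mem (hssS j hj) hsS)
      have hy : g⁻¹ * π (ss j) * g ∈ SG :=
        (Subgroup.mem_normalizer_iff''.1 hg (π (ss j))).1
          (by rw [hSGdef]; exact Subgroup.mem_map_of_mem π (hssS j hj))
      rw [hSGdef] at hy
      obtain ⟨y, hyS, hy⟩ := hy
      have hy' : π (ss j) = g * π y * g⁻¹ := by rw [hy]; group
      rw [map_mul, map_mul, hs, hy']
      have h1 : g * π a * g⁻¹ * (g * π y * g⁻¹) = g * π (a * y) * g⁻¹ := by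
        rw [map_mul]; group
      have h2 : g * π y * g⁻¹ * (g * π a * g⁻¹) = g * π (y * a) * g⁻¹ := by
        rw [map_mul]; group
      rw [h1, h2, hcomm_a y hyS]
    rcases hZS s hsS hs2 hscomm with h | h
    · exfalso
      rw [h, map_one] at hs
      apply hπa1
      have : π a = g⁻¹ * (g * π a * g⁻¹) * g := by group
      rw [this, ← hs]
      group
    · rw [h] at hs
      have := congrArg (· * g) hs
      simpa using this.symm
  -- the images of the generators of the centraliser
  have hcsmem : ∀ j < 4, π (cs j) ∈ Subgroup.closure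
      {x : G | x ∈ Subgroup.normalizer (EG : Set G) ∧ ∃ n : ℕ, orderOf x = 2 ^ n} := by
    intro j hj
    rcases Nat.lt_or_ge j 3 with hj3 | hj3
    · apply Subgroup.subset_closure
      refine ⟨norm_lift _ (by rw [hC]; exact Subgroup.subset_closure ⟨j, hj, rfl⟩), ?_⟩
      have h1 : π (cs j) ^ 2 = 1 := by rw [← map_pow, hcs j hj3, map_one]
      have h2 := orderOf_dvd_of_pow_eq_one h1
      rcases (Nat.dvd_prime Nat.prime_two).1 h2 with h | h
      · exact ⟨0, by rw [h, pow_zero]⟩
      · exact ⟨1, by rw [h, pow_one]⟩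
    · have : j = 3 := by omega
      subst this
      rw [(hkerc _).2 hcs3]
      exact Subgroup.one_mem _
  have hCmap : ∀ k ∈ Subgroup.centralizer ({a} : Set K), π k ∈ Subgroup.closure
      {x : G | x ∈ Subgroup.normalizer (EG : Set G) ∧ ∃ n : ℕ, orderOf x = 2 ^ n} := by
    intro k hk
    rw [hC] at hk
    have h1 : π k ∈ (Subgroup.closure {g : K | ∃ j < 4, g = cs j}).map π :=
      Subgroup.mem_map_of_mem π hk
    rw [MonoidHom.map_closure] at h1
    refine (Subgroup.closure_le _).2 ?_ h1
    rintro x ⟨y, ⟨j, hj, rfl⟩, rfl⟩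
    exact hcsmem j hj
  -- the Sylow subgroup
  have hcardS : Nat.card SG = 2 ^ (Nat.card G).factorization 2 := by
    rw [hSGcard, hG, factorization_j3]
    norm_num
  have hcoe : ((Sylow.ofCard SG hcardS : Sylow 2 G) : Subgroup G) = SG := Sylow.coe_ofCard SG hcardS
  refine Cfsg.Agent.Helper84.isSimple_of_locGen_conj 2 (Sylow.ofCard SG hcardS) ?_ ?_ ?_ T
  · rw [hcoe]
    intro h
    rw [h, Subgroup.card_bot] at hSGcard
    omega
  · rw [hcoe]
    intro g hg
    apply Subgroup.subset_closure
    refine ⟨hg, Or.inr (Or.inr ⟨EG, hEGle, hSGnorm, hCEG, ?_⟩)⟩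
    obtain ⟨k, rfl⟩ := hπ g
    exact hCmap k (cent_lift k (hNC _ hg))
  · rw [hcoe]
    intro T' hT' hcl
    by_cases hbot : T' = ⊥
    · exact Or.inl hbot
    right
    apply le_antisymm hT'
    have hP : IsPGroup 2 T' := (IsPGroup.of_card (n := 7) (by rw [hSGcard]; norm_num)).to_le hT'
    obtain ⟨n, hn⟩ := IsPGroup.iff_card.1 hP
    have hn0 : n ≠ 0 := by
      rintro rfl
      rw [pow_zero] at hn
      exact hbot (Subgroup.card_eq_one.1 hn)
    have h2 : 2 ∣ Nat.card T' := by rw [hn]; exact dvd_pow_self 2 hn0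
    obtain ⟨u, hu⟩ := exists_prime_orderOf_dvd_card' 2 h2
    have huG : orderOf (u : G) = 2 := by rw [Subgroup.orderOf_coe, hu]
    have huS : (u : G) ∈ SG := hT' u.2
    rw [hSGdef] at huS
    obtain ⟨s, hsS, hs⟩ := huS
    have hs2 : s ^ 2 = 1 := by
      apply hsq s hsS
      rw [hs, ← huG]
      exact pow_orderOf_eq_one _
    have hs1 : s ≠ 1 := by
      rintro rfl
      rw [map_one] at hs
      rw [← hs, orderOf_one] at huG
      omega
    obtain ⟨g0, hg0⟩ := hconj s hs2 hs1
    have hmemT : ∀ j < 3, π (ss j) ∈ T' := by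
      intro j hj
      obtain ⟨g1, hg1⟩ := hconj (ss j) (hss j hj).1 (hss j hj).2
      have e : π (ss j) = π (g1 * g0⁻¹) * (u : G) * (π (g1 * g0⁻¹))⁻¹ := by
        rw [← hs, ← map_inv, ← map_mul, ← map_mul, ← hg1, ← hg0]
        congr 1
        group
      rw [e]
      apply hcl _ u.2
      rw [← e, hSGdef]
      exact Subgroup.mem_map_of_mem π (hssS j hj)
    rw [hSGdef, hSgen, MonoidHom.map_closure, Subgroup.closure_le]
    rintro x ⟨y, ⟨j, hj, rfl⟩, rfl⟩
    exact hmemT j hj

end

end Cfsg.Agent.Helper98.J3
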