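import Cfsg.Agent.Helper98.J3Fus
import Cfsg.Agent.Helper98.J3Gen
import Cfsg.Prelude.Def_Spor_J3

/-!
# The 2-fusion system of `J₃`, for the group of the definition
-/

set_option autoImplicit false
set_option linter.unusedSectionVars false

namespace Cfsg.Agent.Helper98.J3

open Cfsg Cfsg.Spor Cfsg.Agent.Helper27

section

variable {K : Type*} [Group K] [Finite K] {φ : K →* Matrix (Fin 9) (Fin 9) GF4}
  (hφ : Function.Injective φ) {a b : K} (ha : φ a = toMat aCode) (hb : φ b = toMat bCode)
  (hgen : Subgroup.closure {a, b} = (⊤ : Subgroup K))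

include hφ ha hb hgen

/-- the 2-fusion system of any group isomorphic to `3·J₃` modulo its centre is simple -/
theorem fusion_simple_K {G : Type*} [Group G] [Finite G] (e : G ≃* K ⧸ Subgroup.center K)
    (T : Sylow 2 G) : (groupFusionSystem (T : Subgroup G)).IsSimple 2 := by
  obtain ⟨r1, r2, r3, r4⟩ := main hφ ha hb hgen
  obtain ⟨S, E, cs, ss, hS, hES, haE, -, hSgen, hss, hC, hcs, hcs3, hSC, hnorm, hZS, hCE⟩ :=
    local_data hφ ha hb hgen
  have oa := order_a hφ ha
  have ha2 : a ^ 2 = 1 := by rw [← oa]; exact pow_orderOf_eq_one a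
  have ha1 : a ≠ 1 := by
    rintro rfl
    rw [orderOf_one] at oa
    omega
  let π : K →* G := e.symm.toMonoidHom.comp (QuotientGroup.mk' (Subgroup.center K))
  have hπ : Function.Surjective π :=
    e.symm.surjective.comp (QuotientGroup.mk'_surjective (Subgroup.center K))
  have hker : π.ker = Subgroup.center K := by
    ext x
    rw [MonoidHom.mem_ker]
    show e.symm (QuotientGroup.mk' (Subgroup.center K) x) = 1 ↔ _
    rw [MulEquiv.map_eq_one_iff, QuotientGroup.mk'_apply, QuotientGroup.eq_one_iff]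
  have hG : Nat.card G = 50232960 := by rw [Nat.card_congr e.toEquiv, r4]
  exact fusion_simple_of_local π hπ hker r2 hG a ha2 ha1 (involution_conj hφ ha hb hgen) S E cs ss
    hS hES haE hSgen hss hC hcs hcs3 hSC hnorm hZS hCE T

end

/-- the 2-fusion system of a group isomorphic to `J₃ F ω` is simple -/
theorem threeJ3_fusion {F : Type*} [Field F] (ω : F) (σ : F ≃+* GF4) (hσ : σ ω = GF4.w)
    {G : Type*} [Group G] [Finite G] (e : G ≃* J3 F ω) (T : Sylow 2 G) :
    (groupFusionSystem (T : Subgroup G)).IsSimple 2 := by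
  obtain ⟨a0, b0, ea, eb, heq⟩ := threeJ3_eq ω σ hσ
  have key : ∀ U : Subgroup (GL F9 F), U = Subgroup.closure {a0, b0} →
      ∀ e : G ≃* ↥U ⧸ Subgroup.center ↥U, (groupFusionSystem (T : Subgroup G)).IsSimple 2 := by
    rintro _ rfl e
    obtain ⟨_, φ, hφ, a, b, ha, hb, hgen⟩ := closure_setup σ a0 b0 ea eb
    exact fusion_simple_K hφ ha hb hgen e T
  exact key _ heq e

end Cfsg.Agent.Helper98.J3
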