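import Cfsg.Agent.Helper98.J3Main
import Cfsg.Agent.Helper98.J3OutCheck3

/-!
# The involutions of `3·J₃` form one conjugacy class, listed in a table
-/

set_option autoImplicit false
set_option linter.unusedSectionVars false

namespace Cfsg.Agent.Helper98.J3

open Cfsg.Agent.Helper27

/-- a `p`-element is conjugate into any `p`-subgroup of index prime to `p` -/
theorem exists_conj_mem_sylow {G : Type*} [Group G] [Finite G] {p : ℕ} [Fact p.Prime]
    (P : Subgroup G) (hP1 : IsPGroup p P) (hP2 : ¬ p ∣ P.index) (z : G) (k : ℕ)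
    (hz : orderOf z = p ^ k) : ∃ g : G, g * z * g⁻¹ ∈ P := by
  have hZ : IsPGroup p (Subgroup.zpowers z) :=
    IsPGroup.of_card (n := k) (by rw [Nat.card_zpowers, hz])
  obtain ⟨Q, hQ⟩ := hZ.exists_le_sylow
  obtain ⟨g, hg⟩ := MulAction.exists_smul_eq G Q (hP1.toSylow hP2)
  refine ⟨g, ?_⟩
  have hzQ : z ∈ Q := hQ (Subgroup.mem_zpowers z)
  have h1 : g * z * g⁻¹ ∈ ((g • Q : Sylow p G) : Subgroup G) := by
    rw [Sylow.coe_subgroup_smul]
    have := Subgroup.smul_mem_pointwise_smul z (MulAut.conj g) (Q : Subgroup G) hzQ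
    rwa [MulAut.smul_def, MulAut.conj_apply] at this
  rw [hg] at h1
  exact (IsPGroup.mem_toSylow hP1 hP2).1 h1

/-! ### combining the range checks -/

theorem invClosed_spec (i : ℕ) (hi : i < 26163) :
    fld invPermA 15 i < 26163 ∧ fld invPermB 15 i < 26163 ∧
      toMat aCode * toMat (invC i) = toMat (invC (fld invPermA 15 i)) * toMat aCode ∧
      toMat bCode * toMat (invC i) = toMat (invC (fld invPermB 15 i)) * toMat bCode := by
  rcases Nat.lt_or_ge i 6541 with h1 | h1
  · exact invClosedOK_spec invClosed_0 i (by omega) (by omega)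
  rcases Nat.lt_or_ge i 13082 with h2 | h2
  · exact invClosedOK_spec invClosed_1 i (by omega) (by omega)
  rcases Nat.lt_or_ge i 19623 with h3 | h3
  · exact invClosedOK_spec invClosed_2 i (by omega) (by omega)
  · exact invClosedOK_spec invClosed_3 i (by omega) (by omega)

theorem cand1_spec (i : ℕ) (hi : i < 26163) :
    (∃ r < 5, isScal (relCode bPows r (invC i) 1) = false) ∨
      (∃ j < 17, invC i = conjA.getD j 0) ∨ (∃ j < 17, invC i = conjT.getD j 0) := by
  rcases Nat.lt_or_ge i 6541 with h1 | h1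
  · exact cand1OK_spec cand1_0 i (by omega) (by omega)
  rcases Nat.lt_or_ge i 13082 with h2 | h2
  · exact cand1OK_spec cand1_1 i (by omega) (by omega)
  rcases Nat.lt_or_ge i 19623 with h3 | h3
  · exact cand1OK_spec cand1_2 i (by omega) (by omega)
  · exact cand1OK_spec cand1_3 i (by omega) (by omega)

theorem cand3_spec (i : ℕ) (hi : i < 26163) :
    ∃ r < 5, isScal (relCode bPows r (invC i) 3) = false := by
  rcases Nat.lt_or_ge i 6541 with h1 | h1
  · exact cand3OK_spec cand3_0 i (by omega) (by omega)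
  rcases Nat.lt_or_ge i 13082 with h2 | h2
  · exact cand3OK_spec cand3_1 i (by omega) (by omega)
  rcases Nat.lt_or_ge i 19623 with h3 | h3
  · exact cand3OK_spec cand3_2 i (by omega) (by omega)
  · exact cand3OK_spec cand3_3 i (by omega) (by omega)

section

variable {K : Type*} [Group K] [Finite K] {φ : K →* Matrix (Fin 9) (Fin 9) GF4}

/-- the Sylow 2-subgroup as a table -/
theorem p2_table (hφ : Function.Injective φ) (gs2 : ℕ → K)
    (hgs2 : ∀ j < 3, φ (gs2 j) = toMat (p2Gens.getD j 0)) :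
    ∃ P2 : Subgroup K, Nat.card P2 = 128 ∧
      ∀ z ∈ P2, ∃ c < 128, φ z = toMat (fld t2Big 162 c) := by
  have fl2 : p2Gens.length = 3 := slpG_facts.2.2.2.2.2.2.2.2.2.2.2.2.2.2.2.2.2.2.1
  obtain ⟨hP1, hP2⟩ := table_level (φ := φ) t2_ok t2_zero (by norm_num) gs2
    (by rw [fl2]; exact hgs2)
  exact ⟨_, table_card hφ t2_sorted _ hP1 hP2, hP1⟩

/-- the table of involutions is closed under conjugation -/
theorem conj_table {a b : K} (ha : φ a = toMat aCode) (hb : φ b = toMat bCode)
    (hgen : Subgroup.closure {a, b} = (⊤ : Subgroup K)) (g : K) :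
    ∀ i < 26163, ∀ x : K, φ x = toMat (invC i) →
      ∃ i' < 26163, φ (g * x * g⁻¹) = toMat (invC i') := by
  have hg : g ∈ Subgroup.closure ({a, b} : Set K) := by rw [hgen]; exact Subgroup.mem_top g
  revert hg
  refine closure_left_induction ({a, b} : Set K)
    (fun g => ∀ i < 26163, ∀ x : K, φ x = toMat (invC i) →
      ∃ i' < 26163, φ (g * x * g⁻¹) = toMat (invC i')) ?_ ?_ g
  · intro i hi x hx
    exact ⟨i, hi, by rw [one_mul, inv_one, mul_one, hx]⟩
  · intro s hs y ih i hi x hx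
    obtain ⟨i1, hi1, e1⟩ := ih i hi x hx
    obtain ⟨h1, h2, h3, h4⟩ := invClosed_spec i1 hi1
    have hrw : s * y * x * (s * y)⁻¹ = s * (y * x * y⁻¹) * s⁻¹ := by group
    rw [hrw]
    rcases hs with rfl | hs
    · refine ⟨_, h1, ?_⟩
      apply mul_right_cancel_map (φ := φ) s
      rw [← map_mul, inv_mul_cancel_right, map_mul, e1, ha, h3]
    · rw [Set.mem_singleton_iff] at hs
      subst hs
      refine ⟨_, h2, ?_⟩
      apply mul_right_cancel_map (φ := φ) s
      rw [← map_mul, inv_mul_cancel_right, map_mul, e1, hb, h4]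

/-- every involution is in the table -/
theorem involution_in_table (hφ : Function.Injective φ) {a b : K} (ha : φ a = toMat aCode)
    (hb : φ b = toMat bCode) (hgen : Subgroup.closure {a, b} = (⊤ : Subgroup K)) (x : K)
    (hx2 : x ^ 2 = 1) (hx1 : x ≠ 1) : ∃ i < 26163, φ x = toMat (invC i) := by
  obtain ⟨-, -, -, -, -, ⟨gs2, hgs2⟩, -⟩ := elements ha hb
  obtain ⟨P2, cP2, tP2⟩ := p2_table hφ gs2 hgs2
  have hcard : Nat.card K = 150698880 := (main hφ ha hb hgen).1
  have : Fact (Nat.Prime 2) := ⟨Nat.prime_two⟩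
  have hox : orderOf x = 2 ^ 1 := by rw [pow_one]; exact orderOf_eq_prime hx2 hx1
  have hidx : ¬ 2 ∣ P2.index := by
    intro h
    have h2 := Subgroup.card_mul_index P2
    rw [cP2, hcard] at h2
    obtain ⟨m, hm⟩ := h
    rw [hm] at h2
    omega
  obtain ⟨g, hg⟩ := exists_conj_mem_sylow P2 (IsPGroup.of_card (n := 7) (by rw [cP2]; norm_num))
    hidx x 1 hox
  obtain ⟨c, hc, e⟩ := tP2 _ hg
  have hy2 : (g * x * g⁻¹) ^ 2 = 1 := by
    rw [pow_two]
    have : g * x * g⁻¹ * (g * x * g⁻¹) = g * (x ^ 2) * g⁻¹ := by rw [pow_two]; group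
    rw [this, hx2, mul_one, mul_inv_cancel]
  have hsq : toMat (fld t2Big 162 c) * toMat (fld t2Big 162 c) = 1 := by
    rw [← e, ← map_mul, ← pow_two, hy2, map_one]
  have hc0 : c ≠ 0 := by
    rintro rfl
    rw [t2_zero] at e
    have h1 := eq_one_of_code hφ e
    apply hx1
    have : x = g⁻¹ * (g * x * g⁻¹) * g := by group
    rw [this, h1, mul_one, inv_mul_cancel]
  obtain ⟨i0, hi0, e0⟩ := p2InvOK_spec p2Inv_ok c hc hsq hc0
  rw [← e0] at e
  obtain ⟨i', hi', e'⟩ := conj_table ha hb hgen g⁻¹ i0 hi0 _ e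
  refine ⟨i', hi', ?_⟩
  rw [← e']
  congr 1
  group

end

end Cfsg.Agent.Helper98.J3
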