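import Cfsg.Agent.Helper98.J3Chk
import Cfsg.Agent.Helper98.J3Grp

/-!
# From Boolean checks to statements about a group of `9 × 9` matrices over `GF4`

`K` is any group with a homomorphism `φ` to matrices; elements are described by packed codes.
-/

set_option autoImplicit false

namespace Cfsg.Agent.Helper98.J3

open Cfsg.Agent.Helper27

variable {K : Type*} [Group K] (φ : K →* Matrix (Fin 9) (Fin 9) GF4)

/-- `Rep φ S c`: some element of `S` has matrix `toMat c` -/
def Rep (S : Subgroup K) (c : ℕ) : Prop := ∃ g ∈ S, φ g = toMat c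

theorem Rep.one (S : Subgroup K) : Rep φ S idCode :=
  ⟨1, S.one_mem, by rw [map_one, toMat_idCode]⟩

variable {φ}

theorem Rep.mul {S : Subgroup K} {x y z : ℕ} (hx : Rep φ S x) (hy : Rep φ S y)
    (h : toMat x * toMat y = toMat z) : Rep φ S z := by
  obtain ⟨g, hg, e⟩ := hx
  obtain ⟨g', hg', e'⟩ := hy
  exact ⟨g * g', S.mul_mem hg hg', by rw [map_mul, e, e', h]⟩

theorem Rep.mono {S S' : Subgroup K} (h : S ≤ S') {c : ℕ} (hc : Rep φ S c) : Rep φ S' c := by
  obtain ⟨g, hg, e⟩ := hc
  exact ⟨g, h hg, e⟩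

theorem rep_of_slp {S : Subgroup K} {tab : List ℕ} {prog : List (ℕ × ℕ)} {k0 : ℕ}
    (h : slpOK tab prog k0 = true) (h0 : ∀ k < k0, Rep φ S (tab.getD k 0)) :
    ∀ k < tab.length, Rep φ S (tab.getD k 0) := by
  intro k
  induction k using Nat.strong_induction_on with
  | _ k ih =>
    intro hk
    rcases Nat.lt_or_ge k k0 with h1 | h1
    · exact h0 k h1
    · obtain ⟨h3, h4, h5⟩ := slpOK_spec h k h1 hk
      exact Rep.mul (ih _ h3 (by omega)) (ih _ h4 (by omega)) h5

/-- cancel an invertible matrix on the right -/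
theorem mul_right_cancel_map (g : K) {A B : Matrix (Fin 9) (Fin 9) GF4} (h : A * φ g = B * φ g) :
    A = B := by
  have := congrArg (fun M => M * φ g⁻¹) h
  simp only [mul_assoc, ← map_mul, mul_inv_cancel, map_one, mul_one] at this
  exact this

/-- every entry of a normal closure program lies in the normal closure of its root -/
theorem nslp_mem {gens tab : List ℕ} {prog : List (ℕ × ℕ × ℕ)} (h : nslpOK gens tab prog = true)
    (gs : ℕ → K) (hgs : ∀ j < gens.length, φ (gs j) = toMat (gens.getD j 0))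
    (z : K) (hz : φ z = toMat (tab.getD 0 0)) :
    ∀ k < tab.length, ∃ x ∈ Subgroup.normalClosure ({z} : Set K), φ x = toMat (tab.getD k 0) := by
  intro k
  induction k using Nat.strong_induction_on with
  | _ k ih =>
    intro hk
    rcases Nat.eq_zero_or_pos k with rfl | hpos
    · exact ⟨z, Subgroup.subset_normalClosure (Set.mem_singleton z), hz⟩
    · obtain ⟨h3, h4⟩ := nslpOK_spec h k hpos hk
      obtain ⟨x, hx, ex⟩ := ih _ h3 (by omega)
      rcases h4 with ⟨hj, e⟩ | ⟨hq, e⟩
      · set j := (prog.getD k (0, 0, 0)).2.2 with hjdef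
        refine ⟨gs j * x * (gs j)⁻¹, Subgroup.normalClosure_normal.conj_mem _ hx _, ?_⟩
        apply mul_right_cancel_map (φ := φ) (gs j)
        rw [← map_mul, inv_mul_cancel_right, map_mul, hgs _ hj, ex]
        exact e.symm
      · obtain ⟨y, hy, ey⟩ := ih _ hq (by omega)
        exact ⟨x * y, Subgroup.mul_mem _ hx hy, by rw [map_mul, ex, ey, e]⟩

/-- A table closed under left multiplication by generators describes the generated subgroup. -/
theorem table_level [Finite K] {gens : List ℕ} {T n w : ℕ} {perms : List ℕ} {par pgen : ℕ}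
    (hok : tblOK gens T n w perms par pgen 0 n = true) (h0 : fld T 162 0 = idCode) (hn : 0 < n)
    (gs : ℕ → K) (hgs : ∀ j < gens.length, φ (gs j) = toMat (gens.getD j 0)) :
    (∀ g ∈ Subgroup.closure {g : K | ∃ j < gens.length, g = gs j},
      ∃ c < n, φ g = toMat (fld T 162 c)) ∧
    (∀ c < n, Rep φ (Subgroup.closure {g : K | ∃ j < gens.length, g = gs j}) (fld T 162 c)) := by
  have hspec := fun i (hi : i < n) => tblOK_spec hok i (Nat.zero_le _) (by rw [Nat.zero_add]; exact hi)
  constructor
  · apply closure_left_induction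
    · exact ⟨0, hn, by rw [map_one, h0, toMat_idCode]⟩
    · rintro s ⟨j, hj, rfl⟩ y ⟨c, hc, e⟩
      obtain ⟨h1, h2⟩ := (hspec c hc).1 j hj
      exact ⟨_, h1, by rw [map_mul, e, hgs j hj, h2]⟩
  · intro c
    induction c using Nat.strong_induction_on with
    | _ c ih =>
      intro hc
      rcases Nat.eq_zero_or_pos c with rfl | hpos
      · rw [h0]; exact Rep.one φ _
      · obtain ⟨h3, h4, h5⟩ := (hspec c hc).2 (by omega)
        have hp : fld par w c < n := by omega
        obtain ⟨-, h2⟩ := (hspec _ hp).1 _ h4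
        rw [h5] at h2
        exact Rep.mul ⟨gs _, Subgroup.subset_closure ⟨_, h4, rfl⟩, hgs _ h4⟩ (ih _ h3 hp) h2

/-- the order of a group described by a table with pairwise distinct codes -/
theorem table_card [Finite K] (hφ : Function.Injective φ) {T n w sig : ℕ}
    (hsorted : sortedOK T n w sig = true) (S : Subgroup K)
    (h1 : ∀ g ∈ S, ∃ c < n, φ g = toMat (fld T 162 c)) (h2 : ∀ c < n, Rep φ S (fld T 162 c)) :
    Nat.card S = n := by
  have hinj : ∀ i j, i < n → j < n → fld T 162 i = fld T 162 j → i = j := by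
    intro i j hi hj e
    exact inj_of_sorted (fun i => fld T 162 i) (fun k => fld sig w k) n
      (fun k hk => sortedOK_spec hsorted k hk) hi hj e
  let f : Fin n → S := fun c => ⟨Classical.choose (h2 c.val c.isLt),
    (Classical.choose_spec (h2 c.val c.isLt)).1⟩
  have hf : ∀ c : Fin n, φ (f c : K) = toMat (fld T 162 c.val) :=
    fun c => (Classical.choose_spec (h2 c.val c.isLt)).2
  have hbij : Function.Bijective f := by
    constructor
    · intro c d hcd
      have h3 : toMat (fld T 162 c.val) = toMat (fld T 162 d.val) := by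
        rw [← hf c, ← hf d, hcd]
      exact Fin.ext (hinj _ _ c.isLt d.isLt (toMat_inj (fld_lt _ _ _) (fld_lt _ _ _) h3))
    · rintro ⟨g, hg⟩
      obtain ⟨c, hc, e⟩ := h1 g hg
      refine ⟨⟨c, hc⟩, ?_⟩
      apply Subtype.ext
      apply hφ
      rw [hf ⟨c, hc⟩, e]
  rw [← Nat.card_eq_of_bijective f hbij, Nat.card_fin]

/-- every element of the group generated by `gs` is `U_i * T_c` -/
theorem cover_level [Finite K] {gens chunks : List ℕ} {cs N T n : ℕ} {perms certs : List ℕ}
    {wN wn : ℕ}
    (hstep : ∀ i < N, ∀ g < gens.length, fld (perms.getD g 0) wN i < N ∧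
      fld (certs.getD g 0) wn i < n ∧
      toMat (gens.getD g 0) * toMat (chk chunks cs i) =
        toMat (chk chunks cs (fld (perms.getD g 0) wN i)) *
          toMat (fld T 162 (fld (certs.getD g 0) wn i)))
    (hN : 0 < N) (hn : 0 < n) (hU0 : chk chunks cs 0 = idCode) (hT0 : fld T 162 0 = idCode)
    (gs : ℕ → K) (hgs : ∀ j < gens.length, φ (gs j) = toMat (gens.getD j 0))
    (H : Subgroup K) (hH1 : ∀ h ∈ H, ∃ c < n, φ h = toMat (fld T 162 c))
    (hH2 : ∀ c < n, Rep φ H (fld T 162 c)) :
    ∀ g ∈ Subgroup.closure {g : K | ∃ j < gens.length, g = gs j},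
      ∃ i < N, ∃ c < n, φ g = toMat (chk chunks cs i) * toMat (fld T 162 c) := by
  apply closure_left_induction
  · exact ⟨0, hN, 0, hn, by rw [map_one, hU0, hT0, toMat_idCode, mul_one]⟩
  · rintro s ⟨j, hj, rfl⟩ y ⟨i, hi, c, hc, e⟩
    obtain ⟨h1, h2, h3⟩ := hstep i hi j hj
    obtain ⟨x, hx, ex⟩ := hH2 _ h2
    obtain ⟨x', hx', ex'⟩ := hH2 c hc
    obtain ⟨c', hc', e'⟩ := hH1 (x * x') (H.mul_mem hx hx')
    refine ⟨_, h1, c', hc', ?_⟩
    rw [map_mul, e, hgs j hj, ← mul_assoc, h3, mul_assoc, ← ex, ← ex', ← map_mul, e']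

/-- the resulting bound on the order -/
theorem card_le_of_cover [Finite K] (hφ : Function.Injective φ) {chunks : List ℕ} {cs N T n : ℕ}
    (hN : 0 < N) (hn : 0 < n)
    (h : ∀ g : K, ∃ i < N, ∃ c < n, φ g = toMat (chk chunks cs i) * toMat (fld T 162 c)) :
    Nat.card K ≤ N * n := by
  let f : K → Fin N × Fin n := fun g =>
    (⟨Classical.choose (h g), (Classical.choose_spec (h g)).1⟩,
      ⟨Classical.choose (Classical.choose_spec (h g)).2,
        (Classical.choose_spec (Classical.choose_spec (h g)).2).1⟩)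
  have hf : ∀ g, φ g = toMat (chk chunks cs (f g).1.val) * toMat (fld T 162 (f g).2.val) :=
    fun g => (Classical.choose_spec (Classical.choose_spec (h g)).2).2
  have hinj : Function.Injective f := by
    intro g g' e
    apply hφ
    rw [hf g, hf g', e]
  have := Nat.card_le_card_of_injective f hinj
  rwa [Nat.card_prod, Nat.card_fin, Nat.card_fin] at this

end Cfsg.Agent.Helper98.J3
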