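import Cfsg.Agent.Helper98.J3Lev
import Cfsg.Agent.Helper98.J3Check1
import Cfsg.Agent.Helper98.J3Check2
import Cfsg.Agent.Helper98.J3Check3
import Cfsg.Agent.Helper98.J3Check4
import Cfsg.Agent.Helper98.J3Check5

/-!
# The group generated by two `9 × 9` matrices over `GF4` is `3·J₃`

`K` is a finite group with an injective homomorphism `φ` to matrices, generated by two elements
`a`, `b` whose matrices have the codes `aCode`, `bCode`.  Then `K` has order `150698880`, its
centre has order `3`, and the quotient is simple of order `50232960`.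
-/

set_option autoImplicit false
set_option linter.unusedSectionVars false

namespace Cfsg.Agent.Helper98.J3

open Cfsg.Agent.Helper27

/-! ### general group theory -/

theorem mem_zpowers_three {K : Type*} [Group K] {w : K} (hw : orderOf w = 3) {c : K}
    (hc : c ∈ Subgroup.zpowers w) : c = 1 ∨ c = w ∨ c = w * w := by
  obtain ⟨k, rfl⟩ := Subgroup.mem_zpowers_iff.1 hc
  rw [← zpow_mod_orderOf, hw]
  push_cast
  have h1 : 0 ≤ k % 3 := Int.emod_nonneg _ (by norm_num)
  have h2 : k % 3 < 3 := Int.emod_lt_of_pos _ (by norm_num)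
  obtain ⟨n, hn⟩ := Int.eq_ofNat_of_zero_le h1
  rw [hn] at h2 ⊢
  have h3 : n < 3 := by exact_mod_cast h2
  interval_cases n
  · left; simp
  · right; left; simp
  · right; right; rw [zpow_natCast, pow_two]

theorem not_dvd_index_sup {K : Type*} [Group K] [Finite K] (P Z : Subgroup K) {p k : ℕ}
    (hP : p ^ k ∣ Nat.card P) (hK : ¬ p ^ (k + 1) ∣ Nat.card K) : ¬ p ∣ (P ⊔ Z).index := by
  intro h
  apply hK
  rw [← Subgroup.card_mul_index (P ⊔ Z), pow_succ]
  exact Nat.mul_dvd_mul (hP.trans (Subgroup.card_dvd_of_le le_sup_left)) h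

theorem orderOf_eq_of_pow {K : Type*} [Group K] {x : K} {p : ℕ} (hp : p.Prime) (h1 : x ^ p = 1)
    (h2 : x ≠ 1) : orderOf x = p := by
  have : Fact p.Prime := ⟨hp⟩
  exact orderOf_eq_prime h1 h2

theorem eq_one_of_mem_of_mem {K : Type*} [Group K] [Finite K] {P Z : Subgroup K} {c : K}
    (hP : c ∈ P) (hZ : c ∈ Z) (hco : (Nat.card P).Coprime (Nat.card Z)) : c = 1 := by
  have h1 := Subgroup.orderOf_dvd_natCard P hP
  have h2 := Subgroup.orderOf_dvd_natCard Z hZ
  have := Nat.eq_one_of_dvd_coprimes hco h1 h2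
  exact orderOf_eq_one_iff.1 this

theorem center_eq_bot_of_simple {G : Type*} [Group G] [Finite G] [IsSimpleGroup G]
    (h : ¬ (Nat.card G).Prime) : Subgroup.center G = ⊥ := by
  rcases IsSimpleGroup.eq_bot_or_eq_top_of_normal (Subgroup.center G) inferInstance with h1 | h1
  · exact h1
  · exfalso
    let _ : CommGroup G := Group.commGroupOfCenterEqTop h1
    exact h (IsSimpleGroup.prime_card (α := G))

theorem prime_dvd_j3 {p : ℕ} (hp : p.Prime) (h : p ∣ 50232960) :
    p = 2 ∨ p = 3 ∨ p = 5 ∨ p = 17 ∨ p = 19 := by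
  have e : 50232960 = 2 ^ 7 * (3 ^ 5 * (5 * (17 * 19))) := by norm_num
  rw [e] at h
  rcases (Nat.Prime.dvd_mul hp).1 h with h | h
  · left; exact (Nat.prime_dvd_prime_iff_eq hp Nat.prime_two).1 (hp.dvd_of_dvd_pow h)
  rcases (Nat.Prime.dvd_mul hp).1 h with h | h
  · right; left; exact (Nat.prime_dvd_prime_iff_eq hp Nat.prime_three).1 (hp.dvd_of_dvd_pow h)
  rcases (Nat.Prime.dvd_mul hp).1 h with h | h
  · right; right; left; exact (Nat.prime_dvd_prime_iff_eq hp Nat.prime_five).1 h
  rcases (Nat.Prime.dvd_mul hp).1 h with h | h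
  · right; right; right; left
    exact (Nat.prime_dvd_prime_iff_eq hp (by norm_num : Nat.Prime 17)).1 h
  · right; right; right; right
    exact (Nat.prime_dvd_prime_iff_eq hp (by norm_num : Nat.Prime 19)).1 h

/-! ### combining the range checks -/

theorem cover_spec (i : ℕ) (hi : i < 23256) :
    (∀ g < 2, fld ([uPerm0, uPerm1].getD g 0) 15 i < 23256 ∧
      fld ([uCert0, uCert1].getD g 0) 13 i < 6480 ∧
      toMat ([aCode, bCode].getD g 0) * toMat (chk uChunks 2907 i) =
        toMat (chk uChunks 2907 (fld ([uPerm0, uPerm1].getD g 0) 15 i)) *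
          toMat (fld t1Big 162 (fld ([uCert0, uCert1].getD g 0) 13 i))) := by
  have key : ∀ lo len, coverG lo len = true → lo ≤ i → i < lo + len → _ :=
    fun lo len h h1 h2 => (coverOK_spec h i h1 h2).1
  rcases Nat.lt_or_ge i 5814 with h1 | h1
  · exact key _ _ cover_0 (by omega) (by omega)
  rcases Nat.lt_or_ge i 11628 with h2 | h2
  · exact key _ _ cover_1 (by omega) (by omega)
  rcases Nat.lt_or_ge i 17442 with h3 | h3
  · exact key _ _ cover_2 (by omega) (by omega)
  · exact key _ _ cover_3 (by omega) (by omega)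

theorem ncRoots_facts : ncRoots.getD 0 0 = aCode ∧ ncRoots.getD 25 0 = e5Code ∧
    ncRoots.getD 26 0 = bCode ∧ ncRoots.getD 27 0 = e19Code ∧ ncTabs.length = 28 := by
  decide +kernel


/-! ### the group -/

section Main

variable {K : Type*} [Group K] [Finite K] {φ : K →* Matrix (Fin 9) (Fin 9) GF4}

theorem eq_one_of_code (hφ : Function.Injective φ) {x : K} (hx : φ x = toMat idCode) : x = 1 := by
  apply hφ
  rw [hx, map_one, toMat_idCode]

theorem ne_one_of_code {x : K} {c : ℕ} (hx : φ x = toMat c)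
    (h : eqProd c idCode idCode idCode = false) : x ≠ 1 := by
  rintro rfl
  apply eqProd_spec_false h
  rw [← hx, map_one, toMat_idCode]

theorem map_mul_code {x y : K} {c d e : ℕ} (hx : φ x = toMat c) (hy : φ y = toMat d)
    (h : eqMul c d e = true) : φ (x * y) = toMat e := by
  rw [map_mul, hx, hy, eqMul_spec h]

theorem rep_slpG {a b : K} (ha : φ a = toMat aCode) (hb : φ b = toMat bCode) :
    ∀ k < 285, Rep φ ⊤ (slpG.getD k 0) := by
  obtain ⟨h0, h1, hlen, -⟩ := slpG_facts
  have key := rep_of_slp (φ := φ) (S := ⊤) slpG_ok (by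
    intro k hk
    interval_cases k
    · rw [h0]; exact ⟨a, Subgroup.mem_top _, ha⟩
    · rw [h1]; exact ⟨b, Subgroup.mem_top _, hb⟩)
  intro k hk
  exact key k (by rw [hlen]; exact hk)

/-- the elements given by the straight line program -/
theorem elements {a b : K} (ha : φ a = toMat aCode) (hb : φ b = toMat bCode) :
    (∃ h1 : K, φ h1 = toMat h1Code) ∧ (∃ h2 : K, φ h2 = toMat h2Code) ∧
    (∃ w : K, φ w = toMat wICode) ∧ (∃ e5 : K, φ e5 = toMat e5Code) ∧
    (∃ e19 : K, φ e19 = toMat e19Code) ∧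
    (∃ gs2 : ℕ → K, ∀ j < 3, φ (gs2 j) = toMat (p2Gens.getD j 0)) ∧
    (∃ gs3 : ℕ → K, ∀ j < 7, φ (gs3 j) = toMat (p3Gens.getD j 0)) := by
  have R := rep_slpG ha hb
  obtain ⟨-, -, -, fh1, fh2, fw, fe5, fe19, fp20, fp21, fp22, fp30, fp31, fp32, fp33, fp34, fp35,
    fp36, -, -⟩ := slpG_facts
  obtain ⟨i1, i2, i3, i4, i5, i6, i7, i8, i9, i10, i11, i12, i13, i14⟩ := ix_facts
  have get : ∀ k < 285, ∃ g : K, φ g = toMat (slpG.getD k 0) := fun k hk => by
    obtain ⟨g, -, e⟩ := R k hk
    exact ⟨g, e⟩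
  obtain ⟨w, hw⟩ := get _ i3
  rw [fw] at hw
  refine ⟨by rw [← fh1]; exact get _ i1, by rw [← fh2]; exact get _ i2, ⟨w, hw⟩,
    by rw [← fe5]; exact get _ i4, by rw [← fe19]; exact get _ i5, ?_, ?_⟩
  · obtain ⟨g0, e0⟩ := get _ i6
    obtain ⟨g1, e1⟩ := get _ i7
    obtain ⟨g2, e2⟩ := get _ i8
    refine ⟨fun j => [g0, g1, g2].getD j 1, ?_⟩
    intro j hj
    interval_cases j
    · rw [← fp20]; exact e0
    · rw [← fp21]; exact e1
    · rw [← fp22]; exact e2
  · obtain ⟨g0, e0⟩ := get _ i9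
    obtain ⟨g1, e1⟩ := get _ i10
    obtain ⟨g2, e2⟩ := get _ i11
    obtain ⟨g3, e3⟩ := get _ i12
    obtain ⟨g4, e4⟩ := get _ i13
    obtain ⟨g5, e5⟩ := get _ i14
    refine ⟨fun j => [g0, g1, g2, g3, g4, g5, w].getD j 1, ?_⟩
    intro j hj
    interval_cases j
    · rw [← fp30]; exact e0
    · rw [← fp31]; exact e1
    · rw [← fp32]; exact e2
    · rw [← fp33]; exact e3
    · rw [← fp34]; exact e4
    · rw [← fp35]; exact e5
    · rw [fp36]; exact hw

theorem gens_ab {a b : K} (ha : φ a = toMat aCode) (hb : φ b = toMat bCode) :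
    ∀ j < [aCode, bCode].length,
      φ ((fun j => if j = 0 then a else b) j) = toMat ([aCode, bCode].getD j 0) := by
  intro j hj
  have hj' : j < 2 := hj
  interval_cases j
  · exact ha
  · exact hb

theorem closure_ab (a b : K) :
    Subgroup.closure {g : K | ∃ j < [aCode, bCode].length, g = (fun j => if j = 0 then a else b) j} =
      Subgroup.closure {a, b} := by
  congr 1
  ext g
  simp only [Set.mem_ofPred_eq, Set.mem_insert_iff, Set.mem_singleton_iff]
  constructor
  · rintro ⟨j, -, rfl⟩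
    by_cases h : j = 0
    · left; simp [h]
    · right; simp [h]
  · rintro (rfl | rfl)
    · exact ⟨0, by norm_num, by simp⟩
    · exact ⟨1, by norm_num, by simp⟩

theorem card_le_K (hφ : Function.Injective φ) {a b h1 h2 : K} (ha : φ a = toMat aCode)
    (hb : φ b = toMat bCode) (hh1 : φ h1 = toMat h1Code) (hh2 : φ h2 = toMat h2Code)
    (hgen : Subgroup.closure {a, b} = (⊤ : Subgroup K)) : Nat.card K ≤ 150698880 := by
  have hgs1 : ∀ j < [h1Code, h2Code].length,
      φ ((fun j => if j = 0 then h1 else h2) j) = toMat ([h1Code, h2Code].getD j 0) := by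
    intro j hj
    have hj' : j < 2 := hj
    interval_cases j
    · exact hh1
    · exact hh2
  obtain ⟨hH1, hH2⟩ := table_level (φ := φ) t1_ok t1_zero (by norm_num) _ hgs1
  have hcov := cover_level (φ := φ) (gens := [aCode, bCode]) (chunks := uChunks) (cs := 2907)
    (N := 23256) (T := t1Big) (n := 6480) (perms := [uPerm0, uPerm1]) (certs := [uCert0, uCert1])
    (wN := 15) (wn := 13) (fun i hi g hg => cover_spec i hi g hg) (by norm_num) (by norm_num)
    u_zero t1_zero _ (gens_ab ha hb) _ hH1 hH2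
  rw [closure_ab, hgen] at hcov
  have := card_le_of_cover hφ (by norm_num : 0 < 23256) (by norm_num : 0 < 6480)
    (fun g => hcov g (Subgroup.mem_top g))
  exact this

/-- the Sylow 2-subgroup -/
theorem p2_facts (hφ : Function.Injective φ) {a : K} (ha : φ a = toMat aCode) (gs2 : ℕ → K)
    (hgs2 : ∀ j < 3, φ (gs2 j) = toMat (p2Gens.getD j 0)) :
    ∃ P2 : Subgroup K, Nat.card P2 = 128 ∧
      ∀ z ∈ P2, z = 1 ∨ z = a ∨ ∃ y ∈ P2, y * z ≠ z * y := by
  have fl2 : p2Gens.length = 3 := slpG_facts.2.2.2.2.2.2.2.2.2.2.2.2.2.2.2.2.2.2.1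
  obtain ⟨hP1, hP2⟩ := table_level (φ := φ) t2_ok t2_zero (by norm_num) gs2
    (by rw [fl2]; exact hgs2)
  refine ⟨_, table_card hφ t2_sorted _ hP1 hP2, ?_⟩
  intro z hz
  obtain ⟨c, hc, e⟩ := hP1 z hz
  rcases p2ClassOK_spec p2Class_ok c hc with rfl | h | ⟨g, hg, hne⟩
  · left
    rw [t2_zero] at e
    exact eq_one_of_code hφ e
  · right; left
    apply hφ
    rw [e, h, ha]
  · right; right
    refine ⟨gs2 g, Subgroup.subset_closure ⟨g, by rw [fl2]; exact hg, rfl⟩, ?_⟩
    intro h
    apply hne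
    rw [← hgs2 g hg, ← e, ← map_mul, ← map_mul, h]

/-- the Sylow 3-subgroup -/
theorem p3_facts (hφ : Function.Injective φ) {w : K} (hw : φ w = toMat wICode) (gs3 : ℕ → K)
    (hgs3 : ∀ j < 7, φ (gs3 j) = toMat (p3Gens.getD j 0)) :
    ∃ P3 : Subgroup K, Nat.card P3 = 729 ∧ w ∈ P3 ∧
      ∀ z ∈ P3, (z = 1 ∨ z = w ∨ z = w * w) ∨
        (∃ x < 28, φ z = toMat (ncRoots.getD x 0)) ∨
        ∃ y ∈ P3, y * z ≠ z * y ∧ y * z ≠ w * (z * y) ∧ y * z ≠ w * w * (z * y) := by
  have fl3 : p3Gens.length = 7 := slpG_facts.2.2.2.2.2.2.2.2.2.2.2.2.2.2.2.2.2.2.2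
  have f6 : p3Gens.getD 6 0 = wICode := slpG_facts.2.2.2.2.2.2.2.2.2.2.2.2.2.2.2.2.2.1
  obtain ⟨hP1, hP2⟩ := table_level (φ := φ) t3_ok t3_zero (by norm_num) gs3
    (by rw [fl3]; exact hgs3)
  have hw6 : gs3 6 = w := by
    apply hφ
    rw [hgs3 6 (by norm_num), f6, hw]
  refine ⟨_, table_card hφ t3_sorted _ hP1 hP2, ?_, ?_⟩
  · rw [← hw6]
    exact Subgroup.subset_closure ⟨6, by rw [fl3]; norm_num, rfl⟩
  intro z hz
  obtain ⟨c, hc, e⟩ := hP1 z hz
  have hstep : ∀ c < 729, fld (t3Perms.getD 6 0) 10 c < 729 ∧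
      toMat wICode * toMat (fld t3Big 162 c) =
        toMat (fld t3Big 162 (fld (t3Perms.getD 6 0) 10 c)) := by
    intro c hc
    have := (tblOK_spec t3_ok c (Nat.zero_le _) (by rw [Nat.zero_add]; exact hc)).1 6
      (by rw [fl3]; norm_num)
    rw [f6] at this
    exact this
  rcases p3ClassOK_spec p3Class_ok c hc with (h | h | h) | ⟨x, hx, h⟩ | ⟨x, hx, n1, n2, n3⟩
  · left; left
    rw [h] at e
    exact eq_one_of_code hφ e
  · left; right; left
    apply hφ
    rw [e, h, hw]
  · left; right; right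
    apply hφ
    rw [e, h, map_mul_code hw hw ordW_ok.1]
  · right; left
    exact ⟨x, hx, by rw [e, h]⟩
  · right; right
    have hx7 : x < 7 := by omega
    refine ⟨gs3 x, Subgroup.subset_closure ⟨x, by rw [fl3]; exact hx7, rfl⟩, ?_, ?_, ?_⟩
    · intro h
      apply n1
      rw [← hgs3 x hx7, ← e, ← map_mul, ← map_mul, h]
    · intro h
      apply n2
      rw [← (hstep c hc).2, ← hgs3 x hx7, ← e, ← hw, ← map_mul, ← map_mul, ← map_mul, h, mul_assoc]
    · intro h
      apply n3
      obtain ⟨hc1, e1⟩ := hstep c hc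
      rw [← (hstep _ hc1).2, ← e1, ← hgs3 x hx7, ← e, ← hw, ← map_mul, ← map_mul, ← map_mul,
        ← map_mul, h, mul_assoc, mul_assoc, mul_assoc]

/-- the normal closure of `a` is everything -/
theorem nc_a_top (hφ : Function.Injective φ) {a b : K} (ha : φ a = toMat aCode)
    (hb : φ b = toMat bCode) (hgen : Subgroup.closure {a, b} = (⊤ : Subgroup K)) :
    Subgroup.normalClosure ({a} : Set K) = ⊤ := by
  have hB := ncB_ok
  simp only [Bool.and_eq_true, beq_iff_eq, decide_eq_true_eq] at hB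
  obtain ⟨⟨⟨h1, h2⟩, h3⟩, h4⟩ := hB
  obtain ⟨x, hx, ex⟩ := nslp_mem (φ := φ) h1 _ (gens_ab ha hb) a (by rw [h2]; exact ha)
    (ncBTab.length - 1) (by omega)
  rw [h3, ← hb] at ex
  have hxb : x = b := hφ ex
  rw [hxb] at hx
  rw [eq_top_iff, ← hgen, Subgroup.closure_le]
  intro g hg
  rcases hg with rfl | rfl
  · exact Subgroup.subset_normalClosure (Set.mem_singleton _)
  · exact hx

/-- the normal closure of each root is everything -/
theorem nc_root_top (hφ : Function.Injective φ) {a b : K} (ha : φ a = toMat aCode)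
    (hb : φ b = toMat bCode) (hgen : Subgroup.closure {a, b} = (⊤ : Subgroup K)) {x : ℕ}
    (hx : x < 28) {z : K} (hz : φ z = toMat (ncRoots.getD x 0)) :
    Subgroup.normalClosure ({z} : Set K) = ⊤ := by
  obtain ⟨h1, h2, h3, h4⟩ := ncOK_spec nc_ok x hx
  obtain ⟨y, hy, ey⟩ := nslp_mem (φ := φ) h1 _ (gens_ab ha hb) z (by rw [h2]; exact hz)
    ((ncTabs.getD x []).length - 1) (by omega)
  rw [h3, ← ha] at ey
  have hya : y = a := hφ ey
  rw [hya] at hy
  rw [eq_top_iff, ← nc_a_top hφ ha hb hgen]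
  exact Subgroup.normalClosure_le_normal (Set.singleton_subset_iff.2 hy)

/-! ### orders of elements -/

theorem order_a (hφ : Function.Injective φ) {a : K} (ha : φ a = toMat aCode) : orderOf a = 2 := by
  obtain ⟨h1, h2⟩ := ordA_ok
  apply orderOf_eq_of_pow Nat.prime_two
  · rw [pow_two]
    exact eq_one_of_code hφ (map_mul_code ha ha h1)
  · exact ne_one_of_code ha h2

theorem order_b (hφ : Function.Injective φ) {b : K} (hb : φ b = toMat bCode) :
    orderOf b = 17 := by
  obtain ⟨h0, h1, h2, h3, h4, h5, h6⟩ := ordB_ok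
  have e0 : φ b = toMat (bPow.getD 0 0) := by rw [h0]; exact hb
  have e1 := map_mul_code e0 e0 h1
  have e2 := map_mul_code e1 e1 h2
  have e3 := map_mul_code e2 e2 h3
  have e4 := map_mul_code e3 e3 h4
  have e5 := eq_one_of_code hφ (map_mul_code e4 e0 h5)
  apply orderOf_eq_of_pow (by norm_num : Nat.Prime 17)
  · rw [← e5]
    simp only [pow_succ, pow_zero, one_mul, mul_assoc]
  · exact ne_one_of_code hb h6

theorem order_e5 (hφ : Function.Injective φ) {e : K} (he : φ e = toMat e5Code) :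
    orderOf e = 5 := by
  obtain ⟨h0, h1, h2, h3, h4⟩ := ordE5_ok
  have e0 : φ e = toMat (e5Pow.getD 0 0) := by rw [h0]; exact he
  have e1 := map_mul_code e0 e0 h1
  have e2 := map_mul_code e1 e1 h2
  have e3 := eq_one_of_code hφ (map_mul_code e2 e0 h3)
  apply orderOf_eq_of_pow Nat.prime_five
  · rw [← e3]
    simp only [pow_succ, pow_zero, one_mul, mul_assoc]
  · exact ne_one_of_code he h4

theorem order_e19 (hφ : Function.Injective φ) {e : K} (he : φ e = toMat e19Code) :
    orderOf e = 19 := by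
  obtain ⟨h0, h1, h2, h3, h4, h5, h6, h7⟩ := ordE19_ok
  have e0 : φ e = toMat (e19Pow.getD 0 0) := by rw [h0]; exact he
  have e1 := map_mul_code e0 e0 h1
  have e2 := map_mul_code e1 e1 h2
  have e3 := map_mul_code e2 e2 h3
  have e4 := map_mul_code e3 e3 h4
  have e5 := map_mul_code e4 e1 h5
  have e6 := eq_one_of_code hφ (map_mul_code e5 e0 h6)
  apply orderOf_eq_of_pow (by norm_num : Nat.Prime 19)
  · rw [← e6]
    simp only [pow_succ, pow_zero, one_mul, mul_assoc]
  · exact ne_one_of_code he h7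

theorem order_w (hφ : Function.Injective φ) {w : K} (hw : φ w = toMat wICode) :
    orderOf w = 3 := by
  obtain ⟨h1, h2, h3, -⟩ := ordW_ok
  have e1 := map_mul_code hw hw h1
  have e2 := eq_one_of_code hφ (map_mul_code hw e1 h2)
  apply orderOf_eq_of_pow Nat.prime_three
  · rw [← e2]
    simp only [pow_succ, pow_zero, one_mul, mul_assoc]
  · exact ne_one_of_code hw h3

theorem central_w (hφ : Function.Injective φ) {a b w : K} (ha : φ a = toMat aCode)
    (hb : φ b = toMat bCode) (hw : φ w = toMat wICode)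
    (hgen : Subgroup.closure {a, b} = (⊤ : Subgroup K)) : ∀ g : K, g * w = w * g := by
  obtain ⟨-, -, -, h4, h5, -⟩ := ordW_ok
  have ca : w * a = a * w := by
    apply hφ
    rw [map_mul, map_mul, hw, ha, eqProd_spec h4]
  have cb : w * b = b * w := by
    apply hφ
    rw [map_mul, map_mul, hw, hb, eqProd_spec h5]
  have hle : Subgroup.closure {a, b} ≤ Subgroup.centralizer {w} := by
    rw [Subgroup.closure_le]
    intro g hg
    rw [SetLike.mem_coe, Subgroup.mem_centralizer_iff]
    intro h hh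
    rw [Set.mem_singleton_iff] at hh
    subst hh
    rcases hg with rfl | rfl
    · exact ca
    · exact cb
  intro g
  have hg : g ∈ Subgroup.centralizer {w} := hle (by rw [hgen]; exact Subgroup.mem_top g)
  rw [Subgroup.mem_centralizer_iff] at hg
  exact (hg w (Set.mem_singleton w)).symm

/-! ### the main theorem -/

theorem main (hφ : Function.Injective φ) {a b : K} (ha : φ a = toMat aCode)
    (hb : φ b = toMat bCode) (hgen : Subgroup.closure {a, b} = (⊤ : Subgroup K)) :
    Nat.card K = 150698880 ∧ Nat.card (Subgroup.center K) = 3 ∧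
      IsSimpleGroup (K ⧸ Subgroup.center K) ∧ Nat.card (K ⧸ Subgroup.center K) = 50232960 := by
  obtain ⟨⟨h1, hh1⟩, ⟨h2, hh2⟩, ⟨w, hw⟩, ⟨e5, he5⟩, ⟨e19, he19⟩, ⟨gs2, hgs2⟩, ⟨gs3, hgs3⟩⟩ :=
    elements ha hb
  have hle := card_le_K hφ ha hb hh1 hh2 hgen
  obtain ⟨P2, cP2, clsP2⟩ := p2_facts hφ ha gs2 hgs2
  obtain ⟨P3, cP3, hwP3, clsP3⟩ := p3_facts hφ hw gs3 hgs3
  have oa := order_a hφ ha
  have ob := order_b hφ hb
  have o5 := order_e5 hφ he5
  have o19 := order_e19 hφ he19
  have ow := order_w hφ hw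
  have hcen := central_w hφ ha hb hw hgen
  -- the order
  have d2 : 128 ∣ Nat.card K := cP2 ▸ Subgroup.card_subgroup_dvd_card P2
  have d3 : 729 ∣ Nat.card K := cP3 ▸ Subgroup.card_subgroup_dvd_card P3
  have d5 : 5 ∣ Nat.card K := o5 ▸ orderOf_dvd_natCard e5
  have d17 : 17 ∣ Nat.card K := ob ▸ orderOf_dvd_natCard b
  have d19 : 19 ∣ Nat.card K := o19 ▸ orderOf_dvd_natCard e19
  have hcard : Nat.card K = 150698880 := by
    have hd : 150698880 ∣ Nat.card K := by
      have t1 := Nat.Coprime.mul_dvd_of_dvd_of_dvd (by norm_num : Nat.Coprime 128 729) d2 d3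
      have t2 := Nat.Coprime.mul_dvd_of_dvd_of_dvd (by norm_num : Nat.Coprime (128 * 729) 5) t1 d5
      have t3 := Nat.Coprime.mul_dvd_of_dvd_of_dvd
        (by norm_num : Nat.Coprime (128 * 729 * 5) 17) t2 d17
      have t4 := Nat.Coprime.mul_dvd_of_dvd_of_dvd
        (by norm_num : Nat.Coprime (128 * 729 * 5 * 17) 19) t3 d19
      norm_num at t4
      exact t4
    exact Nat.le_antisymm hle (Nat.le_of_dvd Nat.card_pos hd)
  -- the centre
  obtain ⟨Z, hZ⟩ : ∃ Z : Subgroup K, Z = Subgroup.zpowers w := ⟨_, rfl⟩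
  have hwZ : w ∈ Z := by rw [hZ]; exact Subgroup.mem_zpowers w
  have hZcen : Z ≤ Subgroup.center K := by
    rw [hZ, Subgroup.zpowers_le, Subgroup.mem_center_iff]
    exact hcen
  have hZn : Z.Normal := ⟨fun z hz g => by
    rw [Subgroup.mem_center_iff.1 (hZcen hz) g, mul_inv_cancel_right]
    exact hz⟩
  have cZ : Nat.card Z = 3 := by rw [hZ, Nat.card_zpowers, ow]
  have cQ : Nat.card (K ⧸ Z) = 50232960 := by
    have := Subgroup.card_eq_card_quotient_mul_card_subgroup Z
    rw [hcard, cZ] at this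
    exact Nat.eq_of_mul_eq_mul_right (by norm_num : 0 < 3)
      (this.symm.trans (by norm_num : 150698880 = 50232960 * 3))
  have : Nontrivial (K ⧸ Z) := by
    apply Finite.one_lt_card_iff_nontrivial.1
    rw [cQ]
    norm_num
  have hsimple : IsSimpleGroup (K ⧸ Z) := by
    apply simple_quotient_cert Z
    intro p hp hpd
    rw [cQ] at hpd
    rcases prime_dvd_j3 hp hpd with rfl | rfl | rfl | rfl | rfl
    · refine ⟨P2, IsPGroup.of_card (n := 7) (by rw [cP2]; norm_num),
        not_dvd_index_sup P2 Z (k := 7) (by rw [cP2]; norm_num) (by rw [hcard]; norm_num), ?_⟩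
      intro z hz hzZ hcomm
      rcases clsP2 z hz with rfl | rfl | ⟨y, hy, hne⟩
      · exact absurd Z.one_mem hzZ
      · exact nc_a_top hφ ha hb hgen
      · exfalso
        obtain ⟨c, hc, e⟩ := hcomm y hy
        have hcP : c ∈ P2 := by
          have : c = (y * z) * (z * y)⁻¹ := by rw [e]; group
          rw [this]
          exact P2.mul_mem (P2.mul_mem hy hz) (P2.inv_mem (P2.mul_mem hz hy))
        have hc1 : c = 1 := eq_one_of_mem_of_mem hcP hc (by rw [cP2, cZ]; norm_num)
        rw [hc1, one_mul] at e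
        exact hne e
    · refine ⟨P3, IsPGroup.of_card (n := 6) (by rw [cP3]; norm_num),
        not_dvd_index_sup P3 Z (k := 6) (by rw [cP3]; norm_num) (by rw [hcard]; norm_num), ?_⟩
      intro z hz hzZ hcomm
      rcases clsP3 z hz with (rfl | rfl | rfl) | ⟨x, hx, hzx⟩ | ⟨y, hy, n1, n2, n3⟩
      · exact absurd Z.one_mem hzZ
      · exact absurd hwZ hzZ
      · exact absurd (Z.mul_mem hwZ hwZ) hzZ
      · exact nc_root_top hφ ha hb hgen hx hzx
      · exfalso
        obtain ⟨c, hc, e⟩ := hcomm y hy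
        rw [hZ] at hc
        rcases mem_zpowers_three ow hc with rfl | rfl | rfl
        · rw [one_mul] at e; exact n1 e
        · exact n2 e
        · exact n3 e
    · refine ⟨Subgroup.zpowers e5,
        IsPGroup.of_card (n := 1) (by rw [Nat.card_zpowers, o5]; norm_num),
        not_dvd_index_sup _ Z (k := 1) (by rw [Nat.card_zpowers, o5]; norm_num)
          (by rw [hcard]; norm_num), ?_⟩
      intro z hz hzZ _
      have hz1 : z ≠ 1 := fun h => hzZ (h ▸ Z.one_mem)
      exact cyclic_cert (by norm_num) e5 o5 (nc_root_top hφ ha hb hgen (x := 25) (by norm_num)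
        (by rw [ncRoots_facts.2.1]; exact he5)) z hz hz1
    · refine ⟨Subgroup.zpowers b,
        IsPGroup.of_card (n := 1) (by rw [Nat.card_zpowers, ob]; norm_num),
        not_dvd_index_sup _ Z (k := 1) (by rw [Nat.card_zpowers, ob]; norm_num)
          (by rw [hcard]; norm_num), ?_⟩
      intro z hz hzZ _
      have hz1 : z ≠ 1 := fun h => hzZ (h ▸ Z.one_mem)
      exact cyclic_cert (by norm_num) b ob (nc_root_top hφ ha hb hgen (x := 26) (by norm_num)
        (by rw [ncRoots_facts.2.2.1]; exact hb)) z hz hz1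
    · refine ⟨Subgroup.zpowers e19,
        IsPGroup.of_card (n := 1) (by rw [Nat.card_zpowers, o19]; norm_num),
        not_dvd_index_sup _ Z (k := 1) (by rw [Nat.card_zpowers, o19]; norm_num)
          (by rw [hcard]; norm_num), ?_⟩
      intro z hz hzZ _
      have hz1 : z ≠ 1 := fun h => hzZ (h ▸ Z.one_mem)
      exact cyclic_cert (by norm_num) e19 o19 (nc_root_top hφ ha hb hgen (x := 27) (by norm_num)
        (by rw [ncRoots_facts.2.2.2.1]; exact he19)) z hz hz1
  -- the centre is `Z`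
  have hcenter : Subgroup.center K = Z := by
    apply le_antisymm _ hZcen
    intro c hc
    have hcq : (QuotientGroup.mk c : K ⧸ Z) ∈ Subgroup.center (K ⧸ Z) := by
      rw [Subgroup.mem_center_iff]
      intro q
      obtain ⟨g, rfl⟩ := QuotientGroup.mk_surjective q
      rw [← QuotientGroup.mk_mul, ← QuotientGroup.mk_mul, Subgroup.mem_center_iff.1 hc g]
    rw [center_eq_bot_of_simple (G := K ⧸ Z) (by rw [cQ]; norm_num), Subgroup.mem_bot] at hcq
    exact (QuotientGroup.eq_one_iff c).1 hcq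
  have key : ∀ (Z' : Subgroup K) [Z'.Normal], Z' = Z →
      IsSimpleGroup (K ⧸ Z') ∧ Nat.card (K ⧸ Z') = 50232960 := by
    intro Z' _ h
    subst h
    exact ⟨hsimple, cQ⟩
  obtain ⟨r1, r2⟩ := key (Subgroup.center K) hcenter
  exact ⟨hcard, by rw [hcenter]; exact cZ, r1, r2⟩

end Main

end Cfsg.Agent.Helper98.J3
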