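import Cfsg.Agent.Helper98.J3LineCheck
import Cfsg.Agent.Helper98.J3Main

/-!
# The orbits of `3·J₃` on the lines of its `9`-dimensional module over `GF4`

`K` is a finite group with an injective homomorphism `φ` to matrices, generated by two elements
`a`, `b` whose matrices have the codes `aCode`, `bCode`.  The line through the first basis vector
has `23256` images, indexed by the coset representatives, and the nonzero isotropic vectors form
one orbit up to scalars.
-/

set_option autoImplicit false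
set_option linter.unusedSectionVars false

namespace Cfsg.Agent.Helper98.J3

open Cfsg.Agent.Helper27 Matrix

/-- the first basis vector -/
def e0 : Fin 9 → GF4 := Pi.single 0 1

/-! ### combining the range checks -/

theorem isoTree_spec (i : ℕ) (hi : i < 43605) (h0 : i ≠ 0) :
    fld isoPar 16 i < i ∧
      propB (isoT i) (rowMul (isoT (fld isoPar 16 i))
        (if isoPg.testBit i then bTCode else aTCode)) = true := by
  rcases Nat.lt_or_ge i 8721 with h1 | h1
  · exact isoTreeOK_spec isoTree_0 i (by omega) (by omega) h0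
  rcases Nat.lt_or_ge i 17442 with h2 | h2
  · exact isoTreeOK_spec isoTree_1 i (by omega) (by omega) h0
  rcases Nat.lt_or_ge i 26163 with h3 | h3
  · exact isoTreeOK_spec isoTree_2 i (by omega) (by omega) h0
  rcases Nat.lt_or_ge i 34884 with h4 | h4
  · exact isoTreeOK_spec isoTree_3 i (by omega) (by omega) h0
  · exact isoTreeOK_spec isoTree_4 i (by omega) (by omega) h0

theorem isoAll_spec (k : ℕ) (hk : k < 2 ^ 18) (h0 : k ≠ 0) (hiso : isoB k = true) :
    ∃ j < 43605, propB (isoT j) k = true := by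
  have key : ∀ q, isoAllOK q 0 16384 = true → k / 16384 = q →
      ∃ j < 43605, propB (isoT j) k = true := by
    intro q hq e
    have e2 : 16384 * q + k % 16384 = k := by rw [← e]; exact Nat.div_add_mod k 16384
    have := isoAllOK_spec hq (k % 16384) (Nat.zero_le _)
      (by rw [Nat.zero_add]; exact Nat.mod_lt _ (by norm_num)) (by rw [e2]; exact h0)
      (by rw [e2]; exact hiso)
    rwa [e2] at this
  have hq : k / 16384 < 16 := by
    apply Nat.div_lt_of_lt_mul
    calc k < 2 ^ 18 := hk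
      _ = 16384 * 16 := by norm_num
  obtain ⟨q, hq2⟩ : ∃ q, k / 16384 = q := ⟨_, rfl⟩
  rw [hq2] at hq
  interval_cases q
  · exact key _ isoAll_0 hq2
  · exact key _ isoAll_1 hq2
  · exact key _ isoAll_2 hq2
  · exact key _ isoAll_3 hq2
  · exact key _ isoAll_4 hq2
  · exact key _ isoAll_5 hq2
  · exact key _ isoAll_6 hq2
  · exact key _ isoAll_7 hq2
  · exact key _ isoAll_8 hq2
  · exact key _ isoAll_9 hq2
  · exact key _ isoAll_10 hq2
  · exact key _ isoAll_11 hq2
  · exact key _ isoAll_12 hq2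
  · exact key _ isoAll_13 hq2
  · exact key _ isoAll_14 hq2
  · exact key _ isoAll_15 hq2

/-- the first column of `toMat A` -/
theorem toMat_mulVec_e0 (A : ℕ) : toMat A *ᵥ e0 = fun i => entRow (rowOf A i.val) 0 := by
  rw [e0, Matrix.mulVec_single_one]
  rfl

theorem h1Col_spec (c : ℕ) (hc : c < 6480) :
    ∃ l : GF4, l ≠ 0 ∧ toMat (fld t1Big 162 c) *ᵥ e0 = l • e0 := by
  have h := h1Col_ok
  simp only [h1ColOK, List.all_eq_true, List.mem_range'_1, withNat_eq, Bool.and_eq_true] at h
  obtain ⟨h1, h2⟩ := h c ⟨Nat.zero_le _, by omega⟩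
  rw [colZ_spec] at h1
  refine ⟨entRow (rowOf (fld t1Big 162 c) 0) 0, ?_, ?_⟩
  · intro e
    rw [entRow_eq_zero_iff, h2] at e
    cases e
  · rw [toMat_mulVec_e0]
    funext i
    rw [Pi.smul_apply, smul_eq_mul, e0]
    by_cases hi : i = 0
    · subst hi
      rw [Pi.single_eq_same, mul_one]
      rfl
    · rw [Pi.single_eq_of_ne hi, mul_zero]
      exact h1 i.val (Nat.pos_of_ne_zero fun e => hi (Fin.ext e)) i.isLt

theorem uCol_spec (i : ℕ) (h1 : 1 ≤ i) (hi : i < 23256) :
    ∃ r : Fin 9, r ≠ 0 ∧ (toMat (chk uChunks 2907 i) *ᵥ e0) r ≠ 0 := by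
  have key : ∀ lo len, uColOK lo len = true → lo ≤ i → i < lo + len →
      ∃ r : Fin 9, r ≠ 0 ∧ (toMat (chk uChunks 2907 i) *ᵥ e0) r ≠ 0 := by
    intro lo len h h2 h3
    simp only [uColOK, List.all_eq_true, List.mem_range'_1, withNat_eq, Bool.not_eq_true'] at h
    have h4 := h i ⟨h2, h3⟩
    by_contra hcon
    push Not at hcon
    have : colZ (chk uChunks 2907 i) = true := by
      rw [colZ_spec]
      intro k hk1 hk2
      have := hcon ⟨k, hk2⟩ (fun e => by
        have := congrArg Fin.val e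
        simp only [] at this
        change k = 0 at this
        omega)
      rw [toMat_mulVec_e0] at this
      exact this
    rw [this] at h4
    cases h4
  rcases Nat.lt_or_ge i 5814 with h2 | h2
  · exact key _ _ uCol_0 h1 (by omega)
  rcases Nat.lt_or_ge i 11628 with h3 | h3
  · exact key _ _ uCol_1 h2 (by omega)
  rcases Nat.lt_or_ge i 17442 with h4 | h4
  · exact key _ _ uCol_2 h3 (by omega)
  · exact key _ _ uCol_3 h4 (by omega)

section

variable {K : Type*} [Group K] [Finite K] {φ : K →* Matrix (Fin 9) (Fin 9) GF4}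

/-- unique factorisation from a cover and the order of the group -/
theorem cover_unique (hφ : Function.Injective φ) {chunks : List ℕ} {cs N T n : ℕ}
    (hcard : Nat.card K = N * n)
    (h : ∀ g : K, ∃ i < N, ∃ c < n, φ g = toMat (chk chunks cs i) * toMat (fld T 162 c)) :
    (∀ i < N, ∀ c < n, ∃ g : K, φ g = toMat (chk chunks cs i) * toMat (fld T 162 c)) ∧
    (∀ i < N, ∀ c < n, ∀ i' < N, ∀ c' < n,
      toMat (chk chunks cs i) * toMat (fld T 162 c) =
        toMat (chk chunks cs i') * toMat (fld T 162 c') → i = i' ∧ c = c') := by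
  let f : K → Fin N × Fin n := fun g =>
    (⟨Classical.choose (h g), (Classical.choose_spec (h g)).1⟩,
      ⟨Classical.choose (Classical.choose_spec (h g)).2,
        (Classical.choose_spec (Classical.choose_spec (h g)).2).1⟩)
  have hf : ∀ g, φ g = toMat (chk chunks cs (f g).1.val) * toMat (fld T 162 (f g).2.val) :=
    fun g => (Classical.choose_spec (Classical.choose_spec (h g)).2).2
  have hinj : Function.Injective f := by
    intro g g' e
    apply hφ
    rw [hf g, hf g', e]
  have hbij : Function.Bijective f := by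
    rw [Nat.bijective_iff_injective_and_card]
    exact ⟨hinj, by rw [hcard, Nat.card_prod, Nat.card_fin, Nat.card_fin]⟩
  have hex : ∀ i (hi : i < N) c (hc : c < n), ∃ g : K, f g = (⟨i, hi⟩, ⟨c, hc⟩) :=
    fun i hi c hc => hbij.2 _
  constructor
  · intro i hi c hc
    obtain ⟨g, hg⟩ := hex i hi c hc
    exact ⟨g, by rw [hf g, hg]⟩
  · intro i hi c hc i' hi' c' hc' e
    obtain ⟨g, hg⟩ := hex i hi c hc
    obtain ⟨g', hg'⟩ := hex i' hi' c' hc'
    have h1 : φ g = φ g' := by rw [hf g, hf g', hg, hg']; exact e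
    have h2 := hφ h1
    rw [h2, hg'] at hg
    have h3 := Prod.ext_iff.1 hg
    exact ⟨(congrArg Fin.val h3.1).symm, (congrArg Fin.val h3.2).symm⟩

theorem map_inv_mul_map (x : K) : φ x⁻¹ * φ x = 1 := by
  rw [← map_mul, inv_mul_cancel, map_one]

/-- the orbit of the line through the first basis vector -/
theorem line_orbit (hφ : Function.Injective φ) {a b : K} (ha : φ a = toMat aCode)
    (hb : φ b = toMat bCode) (hgen : Subgroup.closure {a, b} = (⊤ : Subgroup K)) :
    ∃ gU : ℕ → K,
      (∀ g : K, ∃ i < 23256, ∃ h : K, g = gU i * h ∧ ∃ l : GF4, l ≠ 0 ∧ φ h *ᵥ e0 = l • e0) ∧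
      (∀ i < 23256, ∀ j < 23256, ∀ μ : GF4,
        φ (gU i) *ᵥ e0 = μ • (φ (gU j) *ᵥ e0) → i = j) := by
  obtain ⟨⟨h1, hh1⟩, ⟨h2, hh2⟩, -⟩ := elements ha hb
  have hgs1 : ∀ j < [h1Code, h2Code].length,
      φ ((fun j => if j = 0 then h1 else h2) j) = toMat ([h1Code, h2Code].getD j 0) := by
    intro j hj
    have hj' : j < 2 := hj
    interval_cases j
    · exact hh1
    · exact hh2
  obtain ⟨hH1, hH2⟩ := table_level (φ := φ) t1_ok t1_zero (by norm_num) _ hgs1
  have hcov := cover_level (φ := φ) (gens := [aCode, bCode]) (chunks := uChunks) (cs := 2907)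
    (N := 23256) (T := t1Big) (n := 6480) (perms := [uPerm0, uPerm1]) (certs := [uCert0, uCert1])
    (wN := 15) (wn := 13) (fun i hi g hg => cover_spec i hi g hg) (by norm_num) (by norm_num)
    u_zero t1_zero _ (gens_ab ha hb) _ hH1 hH2
  rw [closure_ab, hgen] at hcov
  have hcov' : ∀ g : K, ∃ i < 23256, ∃ c < 6480,
      φ g = toMat (chk uChunks 2907 i) * toMat (fld t1Big 162 c) :=
    fun g => hcov g (Subgroup.mem_top g)
  have hcard : Nat.card K = 23256 * 6480 := by
    rw [(main hφ ha hb hgen).1]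
  obtain ⟨hex, huniq⟩ := cover_unique hφ hcard hcov'
  have hT0 : toMat (fld t1Big 162 0) = 1 := by rw [t1_zero, toMat_idCode]
  have hU0 : toMat (chk uChunks 2907 0) = 1 := by rw [u_zero, toMat_idCode]
  have hexU : ∀ i, ∃ g : K, i < 23256 → φ g = toMat (chk uChunks 2907 i) := by
    intro i
    by_cases hi : i < 23256
    · obtain ⟨g, hg⟩ := hex i hi 0 (by norm_num)
      exact ⟨g, fun _ => by rw [hg, hT0, mul_one]⟩
    · exact ⟨1, fun h => absurd h hi⟩
  choose gU hgU using hexU
  refine ⟨gU, ?_, ?_⟩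
  · intro g
    obtain ⟨i, hi, c, hc, e⟩ := hcov' g
    refine ⟨i, hi, (gU i)⁻¹ * g, by group, ?_⟩
    have e2 : φ ((gU i)⁻¹ * g) = toMat (fld t1Big 162 c) := by
      rw [map_mul, e, ← mul_assoc, ← hgU i hi, map_inv_mul_map, one_mul]
    rw [e2]
    exact h1Col_spec c hc
  · intro i hi j hj μ e
    obtain ⟨k, hk, c, hc, e1⟩ := hcov' ((gU j)⁻¹ * gU i)
    obtain ⟨l, hl, e2⟩ := h1Col_spec c hc
    have e3 : φ ((gU j)⁻¹ * gU i) *ᵥ e0 = μ • e0 := by
      rw [map_mul, ← Matrix.mulVec_mulVec, e, Matrix.mulVec_smul, Matrix.mulVec_mulVec,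
        map_inv_mul_map, Matrix.one_mulVec]
    have hk0 : k = 0 := by
      by_contra hne
      obtain ⟨r, hr, hne2⟩ := uCol_spec k (Nat.pos_of_ne_zero hne) hk
      have e4 := congrFun e3 r
      rw [e1, ← Matrix.mulVec_mulVec, e2, Matrix.mulVec_smul, Pi.smul_apply, Pi.smul_apply, e0,
        Pi.single_eq_of_ne hr, smul_zero, smul_eq_mul] at e4
      rcases mul_eq_zero.1 e4 with h | h
      · exact hl h
      · exact hne2 h
    rw [hk0, hU0, one_mul] at e1
    have e5 : φ (gU i) = toMat (chk uChunks 2907 j) * toMat (fld t1Big 162 c) := by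
      have : gU i = gU j * ((gU j)⁻¹ * gU i) := by group
      rw [this, map_mul, e1, hgU j hj]
    have e6 : toMat (chk uChunks 2907 i) * toMat (fld t1Big 162 0) =
        toMat (chk uChunks 2907 j) * toMat (fld t1Big 162 c) := by
      rw [hT0, mul_one, ← hgU i hi, e5]
    exact (huniq i hi 0 (by norm_num) j hj c hc e6).1

/-- the nonzero isotropic vectors form one orbit up to scalars -/
theorem iso_trans {a b : K} (ha : φ a = toMat aCode) (hb : φ b = toMat bCode)
    (v w : Fin 9 → GF4) (hv : v ≠ 0) (hw : w ≠ 0) (hv3 : ∑ j, (v j) ^ 3 = 0)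
    (hw3 : ∑ j, (w j) ^ 3 = 0) : ∃ g : K, ∃ c : GF4, c ≠ 0 ∧ φ g *ᵥ v = c • w := by
  -- the tree
  have tree : ∀ i < 43605, ∃ g : K, ∃ c : GF4, c ≠ 0 ∧
      φ g *ᵥ toVec (isoT 0) = c • toVec (isoT i) := by
    intro i
    induction i using Nat.strong_induction_on with
    | _ i ih =>
      intro hi
      rcases Nat.eq_zero_or_pos i with rfl | hpos
      · exact ⟨1, 1, by decide, by rw [map_one, Matrix.one_mulVec, one_smul]⟩
      · obtain ⟨h1, h2⟩ := isoTree_spec i hi (by omega)
        obtain ⟨g, c, hc, e⟩ := ih _ h1 (by omega)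
        obtain ⟨c', hc', e'⟩ := propB_spec h2 (rowMul_lt _ _)
        have key : ∀ (s : K) (sC sT : ℕ), φ s = toMat sC →
            (∀ i j : Fin 9, entRow (rowOf sT i.val) j.val = entRow (rowOf sC j.val) i.val) →
            toVec (isoT i) = c' • toVec (rowMul (isoT (fld isoPar 16 i)) sT) →
            ∃ g : K, ∃ c : GF4, c ≠ 0 ∧ φ g *ᵥ toVec (isoT 0) = c • toVec (isoT i) := by
          intro s sC sT hs hT e2
          refine ⟨s * g, c * c'⁻¹, mul_ne_zero hc (inv_ne_zero hc'), ?_⟩
          rw [map_mul, ← Matrix.mulVec_mulVec, e, Matrix.mulVec_smul, hs, ← toVec_rowMul hT, e2,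
            smul_smul, mul_assoc, inv_mul_cancel₀ hc', mul_one]
        by_cases hpg : isoPg.testBit i = true
        · rw [if_pos hpg] at e'
          exact key b bCode bTCode hb bT_ok e'
        · rw [if_neg hpg] at e'
          exact key a aCode aTCode ha aT_ok e'
  -- every nonzero isotropic vector is reached
  have reach : ∀ u : Fin 9 → GF4, u ≠ 0 → ∑ j, (u j) ^ 3 = 0 →
      ∃ g : K, ∃ c : GF4, c ≠ 0 ∧ φ g *ᵥ toVec (isoT 0) = c • u := by
    intro u hu hu3
    obtain ⟨k, hk, rfl⟩ := exists_code u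
    have hk0 : k ≠ 0 := by
      rintro rfl
      exact hu toVec_zero
    obtain ⟨j, hj, hp⟩ := isoAll_spec k hk hk0 ((isoB_iff k).2 hu3)
    obtain ⟨c', hc', e'⟩ := propB_spec hp hk
    obtain ⟨g, c, hc, e⟩ := tree j hj
    exact ⟨g, c * c', mul_ne_zero hc hc', by rw [e, e', smul_smul]⟩
  obtain ⟨gv, cv, hcv, ev⟩ := reach v hv hv3
  obtain ⟨gw, cw, hcw, ew⟩ := reach w hw hw3
  refine ⟨gw * gv⁻¹, cv⁻¹ * cw, mul_ne_zero (inv_ne_zero hcv) hcw, ?_⟩
  have e1 : φ gv⁻¹ *ᵥ v = cv⁻¹ • toVec (isoT 0) := by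
    have : v = cv⁻¹ • (φ gv *ᵥ toVec (isoT 0)) := by
      rw [ev, smul_smul, inv_mul_cancel₀ hcv, one_smul]
    rw [this, Matrix.mulVec_smul, Matrix.mulVec_mulVec, map_inv_mul_map, Matrix.one_mulVec]
  rw [map_mul, ← Matrix.mulVec_mulVec, e1, Matrix.mulVec_smul, ew, smul_smul]

end

end Cfsg.Agent.Helper98.J3
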