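import Cfsg.Agent.Helper98.J3TblC
import Cfsg.Agent.Helper98.J3Data1
import Cfsg.Agent.Helper98.J3Data7
import Cfsg.Agent.Helper98.J3Data20
import Cfsg.Agent.Helper98.J3Data21
import Cfsg.Agent.Helper98.J3Data22
import Cfsg.Agent.Helper98.J3Data23
import Cfsg.Agent.Helper98.J3CenCheck2

/-!
# Kernel checks for the subgroup of index 6156 in `3·J₃`
-/

set_option autoImplicit false

namespace Cfsg.Agent.Helper98.J3

/-- the chunks of the table of the subgroup -/
def mChunks : List ℕ :=
  [mBig0, mBig1, mBig2, mBig3, mBig4, mBig5, mBig6, mBig7, mBig8, mBig9, mBig10, mBig11, mBig12,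
    mBig13, mBig14, mBig15, mBig16, mBig17, mBig18, mBig19, mBig20, mBig21, mBig22, mBig23]

/-- the closure check on a range -/
def mTblG (lo len : ℕ) : Bool :=
  tblOKc [m1Code, m2Code] mChunks 1020 24480 15 [mPerm0, mPerm1] mPar mPgen lo len

/-- the sortedness check on a range -/
def mSortG (lo len : ℕ) : Bool := sortedOKc mChunks 1020 24480 15 mSig lo len

set_option maxRecDepth 1000000 in
set_option maxHeartbeats 0 in
theorem mTbl_0 : mTblG 0 6120 = true := by decide +kernel

set_option maxRecDepth 1000000 in
set_option maxHeartbeats 0 in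
theorem mTbl_1 : mTblG 6120 6120 = true := by decide +kernel

set_option maxRecDepth 1000000 in
set_option maxHeartbeats 0 in
theorem mTbl_2 : mTblG 12240 6120 = true := by decide +kernel

set_option maxRecDepth 1000000 in
set_option maxHeartbeats 0 in
theorem mTbl_3 : mTblG 18360 6120 = true := by decide +kernel

set_option maxRecDepth 1000000 in
set_option maxHeartbeats 0 in
theorem mSort_0 : mSortG 0 12240 = true := by decide +kernel

set_option maxRecDepth 1000000 in
set_option maxHeartbeats 0 in
theorem mSort_1 : mSortG 12240 12239 = true := by decide +kernel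

set_option maxRecDepth 1000000 in
theorem m_facts : chk mChunks 1020 0 = idCode ∧ ixM_w < 24480 ∧ chk mChunks 1020 ixM_w = wICode := by
  decide +kernel

set_option maxRecDepth 1000000 in
theorem slpM_ok : slpOK slpM slpMprog 2 = true := by decide +kernel

set_option maxRecDepth 1000000 in
theorem slpM_facts : slpM.getD 0 0 = aCode ∧ slpM.getD 1 0 = bCode ∧
    slpM.getD ixM_1 0 = m1Code ∧ slpM.getD ixM_2 0 = m2Code ∧ ixM_1 < slpM.length ∧
    ixM_2 < slpM.length := by decide +kernel

end Cfsg.Agent.Helper98.J3
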