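import Cfsg.Agent.Helper98.J3LineDef
import Cfsg.Agent.Helper98.J3MCheck

/-!
# Kernel checks for the orbits of `3·J₃` on lines
-/

set_option autoImplicit false
set_option Elab.async false

namespace Cfsg.Agent.Helper98.J3

open Cfsg.Agent.Helper27

/-! ### transposes -/

set_option maxRecDepth 1000000 in
theorem aT_ok : ∀ i j : Fin 9,
    entRow (rowOf aTCode i.val) j.val = entRow (rowOf aCode j.val) i.val := by decide +kernel

set_option maxRecDepth 1000000 in
theorem bT_ok : ∀ i j : Fin 9,
    entRow (rowOf bTCode i.val) j.val = entRow (rowOf bCode j.val) i.val := by decide +kernel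

/-! ### the tree -/

set_option maxRecDepth 1000000 in
set_option maxHeartbeats 0 in
theorem isoTree_0 : isoTreeOK 0 8721 = true := by decide +kernel

set_option maxRecDepth 1000000 in
set_option maxHeartbeats 0 in
theorem isoTree_1 : isoTreeOK 8721 8721 = true := by decide +kernel

set_option maxRecDepth 1000000 in
set_option maxHeartbeats 0 in
theorem isoTree_2 : isoTreeOK 17442 8721 = true := by decide +kernel

set_option maxRecDepth 1000000 in
set_option maxHeartbeats 0 in
theorem isoTree_3 : isoTreeOK 26163 8721 = true := by decide +kernel

set_option maxRecDepth 1000000 in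
set_option maxHeartbeats 0 in
theorem isoTree_4 : isoTreeOK 34884 8721 = true := by decide +kernel

/-! ### completeness -/

set_option maxRecDepth 1000000 in
set_option maxHeartbeats 0 in
theorem isoAll_0 : isoAllOK 0 0 16384 = true := by decide +kernel

set_option maxRecDepth 1000000 in
set_option maxHeartbeats 0 in
theorem isoAll_1 : isoAllOK 1 0 16384 = true := by decide +kernel

set_option maxRecDepth 1000000 in
set_option maxHeartbeats 0 in
theorem isoAll_2 : isoAllOK 2 0 16384 = true := by decide +kernel

set_option maxRecDepth 1000000 in
set_option maxHeartbeats 0 in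
theorem isoAll_3 : isoAllOK 3 0 16384 = true := by decide +kernel

set_option maxRecDepth 1000000 in
set_option maxHeartbeats 0 in
theorem isoAll_4 : isoAllOK 4 0 16384 = true := by decide +kernel

set_option maxRecDepth 1000000 in
set_option maxHeartbeats 0 in
theorem isoAll_5 : isoAllOK 5 0 16384 = true := by decide +kernel

set_option maxRecDepth 1000000 in
set_option maxHeartbeats 0 in
theorem isoAll_6 : isoAllOK 6 0 16384 = true := by decide +kernel

set_option maxRecDepth 1000000 in
set_option maxHeartbeats 0 in
theorem isoAll_7 : isoAllOK 7 0 16384 = true := by decide +kernel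

set_option maxRecDepth 1000000 in
set_option maxHeartbeats 0 in
theorem isoAll_8 : isoAllOK 8 0 16384 = true := by decide +kernel

set_option maxRecDepth 1000000 in
set_option maxHeartbeats 0 in
theorem isoAll_9 : isoAllOK 9 0 16384 = true := by decide +kernel

set_option maxRecDepth 1000000 in
set_option maxHeartbeats 0 in
theorem isoAll_10 : isoAllOK 10 0 16384 = true := by decide +kernel

set_option maxRecDepth 1000000 in
set_option maxHeartbeats 0 in
theorem isoAll_11 : isoAllOK 11 0 16384 = true := by decide +kernel

set_option maxRecDepth 1000000 in
set_option maxHeartbeats 0 in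
theorem isoAll_12 : isoAllOK 12 0 16384 = true := by decide +kernel

set_option maxRecDepth 1000000 in
set_option maxHeartbeats 0 in
theorem isoAll_13 : isoAllOK 13 0 16384 = true := by decide +kernel

set_option maxRecDepth 1000000 in
set_option maxHeartbeats 0 in
theorem isoAll_14 : isoAllOK 14 0 16384 = true := by decide +kernel

set_option maxRecDepth 1000000 in
set_option maxHeartbeats 0 in
theorem isoAll_15 : isoAllOK 15 0 16384 = true := by decide +kernel

/-! ### first columns -/

/-- the first column of the entries of the stabiliser table is a multiple of the first basis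
vector -/
def h1ColOK (lo len : ℕ) : Bool :=
  (List.range' lo len).all fun c => withNat (fld t1Big 162 c) fun A =>
    colZ A && nzBit (rowOf A 0) 0

/-- the first column of the coset representatives is not a multiple of the first basis vector -/
def uColOK (lo len : ℕ) : Bool :=
  (List.range' lo len).all fun i => withNat (chk uChunks 2907 i) fun A => !colZ A

set_option maxRecDepth 1000000 in
set_option maxHeartbeats 0 in
theorem h1Col_ok : h1ColOK 0 6480 = true := by decide +kernel

set_option maxRecDepth 1000000 in
set_option maxHeartbeats 0 in
theorem uCol_0 : uColOK 1 5813 = true := by decide +kernel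

set_option maxRecDepth 1000000 in
set_option maxHeartbeats 0 in
theorem uCol_1 : uColOK 5814 5814 = true := by decide +kernel

set_option maxRecDepth 1000000 in
set_option maxHeartbeats 0 in
theorem uCol_2 : uColOK 11628 5814 = true := by decide +kernel

set_option maxRecDepth 1000000 in
set_option maxHeartbeats 0 in
theorem uCol_3 : uColOK 17442 5814 = true := by decide +kernel

end Cfsg.Agent.Helper98.J3
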