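import Cfsg.Agent.Helper98.J3Line
import Cfsg.Agent.Helper98.J3Gen

/-!
# The orbits of `3·J₃` on lines: transport to the group of the definition
-/

set_option autoImplicit false
set_option linter.unusedSectionVars false

namespace Cfsg.Agent.Helper98.J3

open Cfsg Cfsg.Spor Cfsg.Agent.Helper27 Matrix

section Generic

variable {F : Type*} [Field F] (σ : F ≃+* GF4)

/-- vectors over `F` indexed by `F9` to vectors over `GF4` indexed by `Fin 9` -/
def vmap (v : F9 → F) : Fin 9 → GF4 := fun j => σ (v (f9 j))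

theorem vmap_injective : Function.Injective (vmap σ) := by
  intro v w h
  funext z
  obtain ⟨i, rfl⟩ := f9_bijective.2 z
  exact σ.injective (congrFun h i)

theorem vmap_mulVec (M : Matrix F9 F9 F) (v : F9 → F) :
    vmap σ (M *ᵥ v) = psi σ M *ᵥ vmap σ v := by
  funext i
  simp only [vmap, Matrix.mulVec, dotProduct, map_sum, map_mul, psi_apply]
  exact (Equiv.sum_comp f9Equiv fun z => σ (M (f9 i) z) * σ (v z)).symm

theorem vmap_smul (c : F) (v : F9 → F) : vmap σ (c • v) = σ c • vmap σ v := by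
  funext i
  simp only [vmap, Pi.smul_apply, smul_eq_mul, map_mul]

theorem vmap_zero : vmap σ 0 = 0 := by
  funext i
  simp only [vmap, Pi.zero_apply, map_zero]

theorem vmap_single : vmap σ (Pi.single (0 : F9) (1 : F)) = e0 := by
  funext i
  have h0 : f9 0 = 0 := by decide
  by_cases hi : i = 0
  · subst hi
    rw [vmap, h0, Pi.single_eq_same, map_one, e0, Pi.single_eq_same]
  · have : f9 i ≠ 0 := fun e => hi (f9_bijective.1 (e.trans h0.symm))
    rw [vmap, Pi.single_eq_of_ne this, map_zero, e0, Pi.single_eq_of_ne hi]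

theorem vmap_sum_cube (v : F9 → F) (h : ∑ z, (v z) ^ 3 = 0) : ∑ j, (vmap σ v j) ^ 3 = 0 := by
  have h1 := congrArg σ h
  rw [map_sum, map_zero] at h1
  simp only [map_pow] at h1
  rw [← h1]
  exact Equiv.sum_comp f9Equiv fun z => (σ (v z)) ^ 3

/-- the abstract setting of `J3Main` for a subgroup generated by two such elements, with the
homomorphism made explicit -/
theorem closure_setup' (a0 b0 : GL F9 F) (ea : phi0 σ a0 = toMat aCode)
    (eb : phi0 σ b0 = toMat bCode) :
    ∃ (_ : Finite ↥(Subgroup.closure {a0, b0})) (a b : ↥(Subgroup.closure {a0, b0})),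
      Function.Injective ((phi0 σ).comp (Subgroup.closure {a0, b0}).subtype) ∧
      ((phi0 σ).comp (Subgroup.closure {a0, b0}).subtype) a = toMat aCode ∧
      ((phi0 σ).comp (Subgroup.closure {a0, b0}).subtype) b = toMat bCode ∧
      Subgroup.closure {a, b} = ⊤ := by
  have hinj : Function.Injective ((phi0 σ).comp (Subgroup.closure {a0, b0}).subtype) := by
    intro x y h
    exact Subtype.ext (phi0_injective σ h)
  have hfin : Finite ↥(Subgroup.closure {a0, b0}) := Finite.of_injective _ hinj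
  have hA' : a0 ∈ Subgroup.closure {a0, b0} := Subgroup.subset_closure (Set.mem_insert _ _)
  have hB' : b0 ∈ Subgroup.closure {a0, b0} :=
    Subgroup.subset_closure (Set.mem_insert_of_mem _ (Set.mem_singleton _))
  have hgen : Subgroup.closure {(⟨a0, hA'⟩ : ↥(Subgroup.closure {a0, b0})), ⟨b0, hB'⟩} = ⊤ := by
    have h : Subgroup.closure ((Subtype.val : ↥(Subgroup.closure {a0, b0}) → GL F9 F) ⁻¹'
        {a0, b0}) = ⊤ := Subgroup.closure_closure_coe_preimage (k := ({a0, b0} : Set (GL F9 F)))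
    rw [← h]
    congr 1
    ext x
    simp only [Set.mem_insert_iff, Set.mem_singleton_iff, Set.mem_preimage, Subtype.ext_iff]
  exact ⟨hfin, ⟨a0, hA'⟩, ⟨b0, hB'⟩, hinj, ea, eb, hgen⟩

/-- counting the lines in an orbit -/
theorem ncard_lines {n : ℕ} (T : Subgroup (GL F9 F)) (x0 : F9 → F) (gU : Fin n → GL F9 F)
    (hgU : ∀ i, gU i ∈ T)
    (h1 : ∀ g ∈ T, ∃ i : Fin n, ∃ c : F, c ≠ 0 ∧
      (g : Matrix F9 F9 F) *ᵥ x0 = c • ((gU i : Matrix F9 F9 F) *ᵥ x0))
    (h2 : ∀ i j : Fin n, ∀ μ : F,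
      (gU i : Matrix F9 F9 F) *ᵥ x0 = μ • ((gU j : Matrix F9 F9 F) *ᵥ x0) → i = j) :
    {L : Submodule F (F9 → F) | ∃ g ∈ T, L = F ∙ ((g : Matrix F9 F9 F) *ᵥ x0)}.ncard = n := by
  have hset : {L : Submodule F (F9 → F) | ∃ g ∈ T, L = F ∙ ((g : Matrix F9 F9 F) *ᵥ x0)} =
      Set.range fun i : Fin n => F ∙ ((gU i : Matrix F9 F9 F) *ᵥ x0) := by
    ext L
    constructor
    · rintro ⟨g, hg, rfl⟩
      obtain ⟨i, c, hc, e⟩ := h1 g hg
      refine ⟨i, ?_⟩
      simp only []
      rw [e]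
      exact (Submodule.span_singleton_smul_eq (IsUnit.mk0 _ hc) _).symm
    · rintro ⟨i, rfl⟩
      exact ⟨_, hgU i, rfl⟩
  have hinj : Function.Injective fun i : Fin n => F ∙ ((gU i : Matrix F9 F9 F) *ᵥ x0) := by
    intro i j e
    simp only [] at e
    have hmem : (gU i : Matrix F9 F9 F) *ᵥ x0 ∈ F ∙ ((gU j : Matrix F9 F9 F) *ᵥ x0) := by
      rw [← e]
      exact Submodule.mem_span_singleton_self _
    obtain ⟨μ, hμ⟩ := Submodule.mem_span_singleton.1 hmem
    exact h2 i j μ hμ.symm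
  rw [hset, Set.ncard_range_of_injective hinj, Nat.card_fin]

end Generic

section Generic2

variable {F : Type*} [Field F] (ω : F) (σ : F ≃+* GF4) (hσ : σ ω = GF4.w)
include hσ

/-- the orbits of the group of the definition on lines -/
theorem threeJ3_lines :
    {L : Submodule F (F9 → F) | ∃ g ∈ threeJ3 F ω,
      L = F ∙ ((g : Matrix F9 F9 F) *ᵥ (Pi.single (0 : F9) (1 : F) : F9 → F))}.ncard = 23256 ∧
    ∀ v w : F9 → F, v ≠ 0 → w ≠ 0 → ∑ z, (v z) ^ 3 = 0 → ∑ z, (w z) ^ 3 = 0 →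
      ∃ g ∈ threeJ3 F ω, ∃ c : F, c ≠ 0 ∧ (g : Matrix F9 F9 F) *ᵥ v = c • w := by
  obtain ⟨a0, b0, ea, eb, heq⟩ := threeJ3_eq ω σ hσ
  rw [heq]
  obtain ⟨_, a, b, hφ, ha, hb, hgen⟩ := closure_setup' σ a0 b0 ea eb
  have hφv : ∀ (k : ↥(Subgroup.closure {a0, b0})) (v : F9 → F),
      ((phi0 σ).comp (Subgroup.closure {a0, b0}).subtype) k *ᵥ vmap σ v =
        vmap σ (((k : GL F9 F) : Matrix F9 F9 F) *ᵥ v) := by
    intro k v
    rw [vmap_mulVec]
    rfl
  constructor
  · obtain ⟨gU, h1, h2⟩ := line_orbit hφ ha hb hgen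
    apply ncard_lines (Subgroup.closure {a0, b0}) _ (fun i : Fin 23256 => (gU i.val).val)
      (fun i => (gU i.val).2)
    · intro g hg
      obtain ⟨i, hi, h, e, l, hl, e2⟩ := h1 ⟨g, hg⟩
      have e3 : ((h : GL F9 F) : Matrix F9 F9 F) *ᵥ (Pi.single (0 : F9) (1 : F) : F9 → F) =
          σ.symm l • (Pi.single (0 : F9) (1 : F) : F9 → F) := by
        apply vmap_injective σ
        rw [← hφv, vmap_single, e2, vmap_smul, vmap_single, RingEquiv.apply_symm_apply]
      have e4 : (g : Matrix F9 F9 F) =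
          ((gU i : GL F9 F) : Matrix F9 F9 F) * ((h : GL F9 F) : Matrix F9 F9 F) := by
        have := congrArg (fun x : ↥(Subgroup.closure {a0, b0}) =>
          ((x : GL F9 F) : Matrix F9 F9 F)) e
        simpa using this
      have hl' : σ.symm l ≠ 0 := by
        intro e5
        apply hl
        have := congrArg σ e5
        rwa [RingEquiv.apply_symm_apply, map_zero] at this
      refine ⟨⟨i, hi⟩, σ.symm l, hl', ?_⟩
      rw [e4, ← Matrix.mulVec_mulVec, e3, Matrix.mulVec_smul]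
    · intro i j μ hμ
      have := congrArg (vmap σ) hμ
      rw [vmap_smul, ← hφv, ← hφv, vmap_single] at this
      exact Fin.ext (h2 i.val i.isLt j.val j.isLt (σ μ) this)
  · intro v w hv hw hv3 hw3
    have hv' : vmap σ v ≠ 0 := fun e => hv (vmap_injective σ (e.trans (vmap_zero σ).symm))
    have hw' : vmap σ w ≠ 0 := fun e => hw (vmap_injective σ (e.trans (vmap_zero σ).symm))
    obtain ⟨k, c, hc, e⟩ := iso_trans ha hb (vmap σ v) (vmap σ w) hv' hw'
      (vmap_sum_cube σ v hv3) (vmap_sum_cube σ w hw3)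
    refine ⟨k.val, k.2, σ.symm c, ?_, ?_⟩
    · intro e5
      apply hc
      have := congrArg σ e5
      rwa [RingEquiv.apply_symm_apply, map_zero] at this
    · apply vmap_injective σ
      rw [← hφv, e, vmap_smul, RingEquiv.apply_symm_apply]

end Generic2

end Cfsg.Agent.Helper98.J3
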