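import Mathlib

/-!
# The permutation representation on the cosets of a subgroup containing the centre
-/

set_option autoImplicit false

namespace Cfsg.Agent.Helper98.J3

/-- If `K` modulo its centre is simple and `M` is a proper subgroup of index `d` containing the
centre, then the action on the cosets of `M` realises `K ⧸ Z(K)` as a transitive subgroup of the
symmetric group of degree `d`. -/
theorem perm_rep {K : Type*} [Group K] [Finite K] (M : Subgroup K) {d m : ℕ}
    (hsimple : IsSimpleGroup (K ⧸ Subgroup.center K))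
    (hcardJ : Nat.card (K ⧸ Subgroup.center K) = m)
    (hZM : Subgroup.center K ≤ M) (hidx : M.index = d) (hd : 1 < d) :
    ∃ H : Subgroup (Equiv.Perm (Fin d)), IsSimpleGroup H ∧ Nat.card H = m ∧
      MulAction.IsPretransitive H (Fin d) ∧
      ∀ x : Fin d, Nat.card (MulAction.stabilizer H x) * d = m := by
  have hcardX : Nat.card (K ⧸ M) = d := by rw [← Subgroup.index_eq_card, hidx]
  let e : (K ⧸ M) ≃ Fin d := Finite.equivFinOfCardEq hcardX
  let ρ0 : K →* Equiv.Perm (K ⧸ M) := MulAction.toPermHom K (K ⧸ M)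
  let ρ : K →* Equiv.Perm (Fin d) := (e.permCongrHom : _ →* _).comp ρ0
  have hρ : ∀ (k : K) (x : Fin d), ρ k x = e (k • e.symm x) := fun k x => rfl
  -- the kernel
  have hker_le : Subgroup.center K ≤ ρ.ker := by
    intro z hz
    rw [MonoidHom.mem_ker]
    ext x
    rw [hρ]
    obtain ⟨g, hg⟩ := QuotientGroup.mk_surjective (e.symm x)
    rw [← hg]
    have h1 : z • (QuotientGroup.mk g : K ⧸ M) = QuotientGroup.mk (z * g) := rfl
    have h2 : (QuotientGroup.mk (z * g) : K ⧸ M) = QuotientGroup.mk g := by
      rw [QuotientGroup.eq]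
      have h3 : (z * g)⁻¹ * g = z⁻¹ := by
        rw [← Subgroup.mem_center_iff.1 hz g]
        group
      rw [h3]
      exact M.inv_mem (hZM hz)
    rw [h1, h2, hg]
    simp
  have hker_ne : ρ.ker ≠ ⊤ := by
    intro h
    have hM : M = ⊤ := by
      rw [eq_top_iff]
      intro g _
      have hg : g ∈ ρ.ker := by rw [h]; trivial
      rw [MonoidHom.mem_ker] at hg
      have h1 := congrArg (fun p => p (e (QuotientGroup.mk 1))) hg
      simp only [hρ, Equiv.symm_apply_apply, Equiv.Perm.coe_one, id_eq,
        EmbeddingLike.apply_eq_iff_eq] at h1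
      have h2 : g • (QuotientGroup.mk 1 : K ⧸ M) = QuotientGroup.mk (g * 1) := rfl
      rw [h2, mul_one, QuotientGroup.eq, mul_one] at h1
      exact (Subgroup.inv_mem_iff _).1 h1
    rw [hM, Subgroup.index_top] at hidx
    omega
  have hker : ρ.ker = Subgroup.center K := by
    apply le_antisymm _ hker_le
    have hnorm : (ρ.ker.map (QuotientGroup.mk' (Subgroup.center K))).Normal :=
      Subgroup.Normal.map inferInstance _ (QuotientGroup.mk'_surjective _)
    rcases hsimple.eq_bot_or_eq_top_of_normal _ hnorm with h | h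
    · rw [Subgroup.map_eq_bot_iff, QuotientGroup.ker_mk'] at h
      exact h
    · exfalso
      apply hker_ne
      have h1 := Subgroup.comap_map_eq_self (f := QuotientGroup.mk' (Subgroup.center K))
        (H := ρ.ker) (by rw [QuotientGroup.ker_mk']; exact hker_le)
      rw [h, Subgroup.comap_top] at h1
      exact h1.symm
  -- the isomorphism with the range
  let iso : (K ⧸ Subgroup.center K) ≃* ρ.range :=
    (QuotientGroup.quotientMulEquivOfEq hker.symm).trans (QuotientGroup.quotientKerEquivRange ρ)
  have hcardH : Nat.card ρ.range = m := by rw [← Nat.card_congr iso.toEquiv, hcardJ]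
  have hsimpleH : IsSimpleGroup ρ.range := iso.symm.isSimpleGroup
  have htrans : MulAction.IsPretransitive ρ.range (Fin d) := by
    refine ⟨fun x y => ?_⟩
    obtain ⟨g1, hg1⟩ := QuotientGroup.mk_surjective (e.symm x)
    obtain ⟨g2, hg2⟩ := QuotientGroup.mk_surjective (e.symm y)
    refine ⟨⟨ρ (g2 * g1⁻¹), ⟨_, rfl⟩⟩, ?_⟩
    show ρ (g2 * g1⁻¹) x = y
    rw [hρ, ← hg1]
    have h1 : (g2 * g1⁻¹) • (QuotientGroup.mk g1 : K ⧸ M) = QuotientGroup.mk (g2 * g1⁻¹ * g1) := rfl
    rw [h1, inv_mul_cancel_right, hg2, Equiv.apply_symm_apply]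
  refine ⟨ρ.range, hsimpleH, hcardH, htrans, fun x => ?_⟩
  have h1 := Subgroup.card_mul_index (MulAction.stabilizer ρ.range x)
  rw [MulAction.index_stabilizer_of_transitive, Nat.card_fin, hcardH] at h1
  exact h1

end Cfsg.Agent.Helper98.J3
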