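import Cfsg.Agent.Helper98.J3SU
import Cfsg.Agent.Helper98.J3MCheck
import Cfsg.Agent.Helper98.J3Perm

/-!
# `J₃` as a transitive permutation group of degree 6156
-/

set_option autoImplicit false
set_option linter.unusedSectionVars false

namespace Cfsg.Agent.Helper98.J3

open Cfsg.Agent.Helper27

theorem mTbl_spec (i : ℕ) (hi : i < 24480) :
    (∀ g < [m1Code, m2Code].length, fld ([mPerm0, mPerm1].getD g 0) 15 i < 24480 ∧
      toMat ([m1Code, m2Code].getD g 0) * toMat (chk mChunks 1020 i) =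
        toMat (chk mChunks 1020 (fld ([mPerm0, mPerm1].getD g 0) 15 i))) ∧
    (i ≠ 0 → fld mPar 15 i < i ∧ fld mPgen 4 i < [m1Code, m2Code].length ∧
      fld ([mPerm0, mPerm1].getD (fld mPgen 4 i) 0) 15 (fld mPar 15 i) = i) := by
  have key : ∀ lo len, mTblG lo len = true → lo ≤ i → i < lo + len → _ :=
    fun lo len h h1 h2 => tblOKc_spec h i h1 h2
  rcases Nat.lt_or_ge i 6120 with h1 | h1
  · exact key _ _ mTbl_0 (by omega) (by omega)
  rcases Nat.lt_or_ge i 12240 with h2 | h2
  · exact key _ _ mTbl_1 (by omega) (by omega)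
  rcases Nat.lt_or_ge i 18360 with h3 | h3
  · exact key _ _ mTbl_2 (by omega) (by omega)
  · exact key _ _ mTbl_3 (by omega) (by omega)

theorem mSort_spec (k : ℕ) (hk : k + 1 < 24480) :
    fld mSig 15 k < 24480 ∧ fld mSig 15 (k + 1) < 24480 ∧
      chk mChunks 1020 (fld mSig 15 k) < chk mChunks 1020 (fld mSig 15 (k + 1)) := by
  rcases Nat.lt_or_ge k 12240 with h1 | h1
  · exact sortedOKc_spec mSort_0 k (by omega) (by omega)
  · exact sortedOKc_spec mSort_1 k (by omega) (by omega)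

section

variable {K : Type*} [Group K] [Finite K] {φ : K →* Matrix (Fin 9) (Fin 9) GF4}

/-- the subgroup of index 6156 -/
theorem m_subgroup (hφ : Function.Injective φ) {a b : K} (ha : φ a = toMat aCode)
    (hb : φ b = toMat bCode) (hgen : Subgroup.closure {a, b} = (⊤ : Subgroup K)) :
    ∃ M : Subgroup K, Nat.card M = 24480 ∧ Subgroup.center K ≤ M := by
  obtain ⟨f0, f1, f2, f3, f4, f5⟩ := slpM_facts
  have key := rep_of_slp (φ := φ) (S := ⊤) slpM_ok (by
    intro k hk
    interval_cases k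
    · rw [f0]; exact ⟨a, Subgroup.mem_top _, ha⟩
    · rw [f1]; exact ⟨b, Subgroup.mem_top _, hb⟩)
  obtain ⟨m1, -, e1⟩ := key ixM_1 f4
  obtain ⟨m2, -, e2⟩ := key ixM_2 f5
  rw [f2] at e1
  rw [f3] at e2
  have hgs : ∀ j < [m1Code, m2Code].length,
      φ ((fun j => if j = 0 then m1 else m2) j) = toMat ([m1Code, m2Code].getD j 0) := by
    intro j hj
    have hj' : j < 2 := hj
    interval_cases j
    · exact e1
    · exact e2
  obtain ⟨mf0, mf1, mf2⟩ := m_facts
  obtain ⟨hM1, hM2⟩ := table_level_f (φ := φ) (fun i => chk mChunks 1020 i) 24480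
    [m1Code, m2Code] (fun g i => fld ([mPerm0, mPerm1].getD g 0) 15 i) (fun i => fld mPar 15 i)
    (fun i => fld mPgen 4 i) mTbl_spec mf0 (by norm_num) _ hgs
  have hinj : ∀ i j, i < 24480 → j < 24480 → chk mChunks 1020 i = chk mChunks 1020 j → i = j :=
    fun i j hi hj e => inj_of_sorted (fun i => chk mChunks 1020 i) (fun k => fld mSig 15 k) 24480
      (fun k hk => mSort_spec k hk) hi hj e
  have hcard := table_card_f hφ (fun i => chk mChunks 1020 i) 24480 (fun i => chk_lt _ _ _) hinj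
    _ hM1 hM2
  refine ⟨_, hcard, ?_⟩
  -- the centre
  obtain ⟨-, -, ⟨w, hw⟩, -⟩ := elements ha hb
  have hcen : Subgroup.center K = Subgroup.zpowers w := by
    symm
    apply Subgroup.eq_of_le_of_card_ge
    · rw [Subgroup.zpowers_le, Subgroup.mem_center_iff]
      exact central_w hφ ha hb hw hgen
    · rw [(main hφ ha hb hgen).2.1, Nat.card_zpowers, order_w hφ hw]
  rw [hcen, Subgroup.zpowers_le]
  obtain ⟨g, hg, eg⟩ := hM2 ixM_w mf1
  rw [mf2] at eg
  have : g = w := hφ (eg.trans hw.symm)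
  rw [← this]
  exact hg

/-- `J₃` on 6156 points -/
theorem j3_perm (hφ : Function.Injective φ) {a b : K} (ha : φ a = toMat aCode)
    (hb : φ b = toMat bCode) (hgen : Subgroup.closure {a, b} = (⊤ : Subgroup K)) :
    ∃ H : Subgroup (Equiv.Perm (Fin 6156)), IsSimpleGroup H ∧ Nat.card H = 50232960 ∧
      MulAction.IsPretransitive H (Fin 6156) ∧
      ∀ x : Fin 6156, Nat.card (MulAction.stabilizer H x) * 6156 = 50232960 := by
  obtain ⟨M, cM, hZM⟩ := m_subgroup hφ ha hb hgen
  obtain ⟨r1, -, r3, r4⟩ := main hφ ha hb hgen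
  have hidx : M.index = 6156 := by
    have h := Subgroup.card_mul_index M
    rw [cM, r1] at h
    exact Nat.eq_of_mul_eq_mul_left (by norm_num : 0 < 24480)
      (h.trans (by norm_num : 150698880 = 24480 * 6156))
  exact perm_rep M r3 r4 hZM hidx (by norm_num)

end

/-- the concrete instance inside `SU₉(2)` -/
theorem j3_perm_exists : ∃ H : Subgroup (Equiv.Perm (Fin 6156)), IsSimpleGroup H ∧
    Nat.card H = 50232960 ∧ MulAction.IsPretransitive H (Fin 6156) ∧
    ∀ x : Fin 6156, Nat.card (MulAction.stabilizer H x) * 6156 = 50232960 := by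
  have hA : suA ∈ H3J3 := Subgroup.subset_closure (Set.mem_insert _ _)
  have hB : suB ∈ H3J3 := Subgroup.subset_closure (Set.mem_insert_of_mem _ (Set.mem_singleton _))
  apply j3_perm phi_inj (a := ⟨suA, hA⟩) (b := ⟨suB, hB⟩) rfl rfl
  have h : Subgroup.closure ((Subtype.val : H3J3 → Cfsg.SU 9 GF4 2) ⁻¹' {suA, suB}) = ⊤ :=
    Subgroup.closure_closure_coe_preimage (k := ({suA, suB} : Set (Cfsg.SU 9 GF4 2)))
  rw [← h]
  congr 1
  ext x
  simp only [Set.mem_insert_iff, Set.mem_singleton_iff, Set.mem_preimage, Subtype.ext_iff]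

end Cfsg.Agent.Helper98.J3
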