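import Cfsg.Agent.Helper98.J3Tau
import Cfsg.Prelude.Def_KGroupFacts

/-!
# The outer automorphism group of `J₃` has order two
-/

set_option autoImplicit false
set_option linter.unusedSectionVars false

namespace Cfsg.Agent.Helper98.J3

open Cfsg.Agent.Helper27

theorem mem_zpowers_nat {G : Type*} [Group G] {x y : G} {n : ℕ} (hn : 0 < n) (hx : orderOf x = n)
    (hy : y ∈ Subgroup.zpowers x) : ∃ k < n, y = x ^ k := by
  obtain ⟨k, rfl⟩ := Subgroup.mem_zpowers_iff.1 hy
  have h1 : 0 ≤ k % (n : ℤ) := Int.emod_nonneg _ (by exact_mod_cast hn.ne')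
  have h2 : k % (n : ℤ) < n := Int.emod_lt_of_pos _ (by exact_mod_cast hn)
  refine ⟨(k % (n : ℤ)).toNat, by omega, ?_⟩
  rw [← zpow_natCast, Int.toNat_of_nonneg h1, ← hx, zpow_mod_orderOf]

theorem scal_lt : idCode < 2 ^ 162 ∧ wICode < 2 ^ 162 ∧ w2ICode < 2 ^ 162 := by decide +kernel

theorem exists_two_pow : ∀ k < 17, k ≠ 0 → ∃ j < 8, (k * 2 ^ j) % 17 = 1 ∨ (k * 2 ^ j) % 17 = 3 := by
  decide

section

variable {K : Type*} [Group K] [Finite K] {φ : K →* Matrix (Fin 9) (Fin 9) GF4}
  (hφ : Function.Injective φ) {a b : K} (ha : φ a = toMat aCode) (hb : φ b = toMat bCode)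
  (hgen : Subgroup.closure {a, b} = (⊤ : Subgroup K))

include hφ ha hb hgen

theorem center_eq {w : K} (hw : φ w = toMat wICode) :
    Subgroup.center K = Subgroup.zpowers w := by
  symm
  apply Subgroup.eq_of_le_of_card_ge
  · rw [Subgroup.zpowers_le, Subgroup.mem_center_iff]
    exact central_w hφ ha hb hw hgen
  · rw [(main hφ ha hb hgen).2.1, Nat.card_zpowers, order_w hφ hw]

theorem scalar_of_center {z : K} (hz : z ∈ Subgroup.center K) :
    φ z = toMat idCode ∨ φ z = toMat wICode ∨ φ z = toMat w2ICode := by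
  obtain ⟨-, -, ⟨w, hw⟩, -⟩ := elements ha hb
  rw [center_eq hφ ha hb hgen hw] at hz
  rcases mem_zpowers_three (order_w hφ hw) hz with rfl | rfl | rfl
  · left; rw [map_one, toMat_idCode]
  · right; left; exact hw
  · right; right; exact map_mul_code hw hw ordW_ok.1

theorem center_of_scalar {z : K}
    (hz : φ z = toMat idCode ∨ φ z = toMat wICode ∨ φ z = toMat w2ICode) :
    z ∈ Subgroup.center K := by
  obtain ⟨-, -, ⟨w, hw⟩, -⟩ := elements ha hb
  rw [center_eq hφ ha hb hgen hw]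
  rcases hz with h | h | h
  · rw [eq_one_of_code hφ h]; exact Subgroup.one_mem _
  · rw [hφ (h.trans hw.symm)]; exact Subgroup.mem_zpowers w
  · have : z = w * w := hφ (h.trans (map_mul_code hw hw ordW_ok.1).symm)
    rw [this]
    exact Subgroup.mul_mem _ (Subgroup.mem_zpowers w) (Subgroup.mem_zpowers w)

omit hφ ha hgen in
theorem phi_b_pow (j : ℕ) (hj : j < 17) : φ (b ^ j) = toMat (bPows.getD j 0) := by
  obtain ⟨h0, -, h2, -⟩ := bPows_ok
  induction j with
  | zero => rw [pow_zero, map_one, h0, toMat_idCode]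
  | succ j ih =>
    rw [pow_succ', map_mul, hb, ih (by omega), eqMul_spec (h2 j (by omega))]

omit ha hgen in
theorem phi_b_pow_mod (m : ℕ) : φ (b ^ m) = toMat (bPows.getD (m % 17) 0) := by
  rw [← phi_b_pow hb (m % 17) (Nat.mod_lt _ (by norm_num))]
  congr 1
  rw [← order_b hφ hb, pow_mod_orderOf]

theorem a_not_center : a ∉ Subgroup.center K := by
  intro h
  have h1 := Subgroup.mem_center_iff.1 h b
  apply eqProd_spec_false ordW_ok.2.2.2.2.2
  rw [← ha, ← hb, ← map_mul, ← map_mul, h1]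

theorem b_not_center : b ∉ Subgroup.center K := by
  intro h
  have h1 := Subgroup.mem_center_iff.1 h a
  apply eqProd_spec_false ordW_ok.2.2.2.2.2
  rw [← ha, ← hb, ← map_mul, ← map_mul, h1]

omit ha hgen in
/-- the matrix of a relator word -/
theorem phi_rel {x : K} {c : ℕ} (hx : φ x = toMat c) (r e : ℕ) :
    φ ((x * b ^ (e * (r + 1))) ^ relM r) = toMat (relCode bPows r c e) := by
  rw [toMat_relCode, map_pow, map_mul, hx, phi_b_pow_mod hφ hb, relK, Nat.mul_comm e]

/-- the relators hold in `J₃` -/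
theorem rel_center (r : ℕ) (hr : r < 5) : (a * b ^ (r + 1)) ^ relM r ∈ Subgroup.center K := by
  apply center_of_scalar hφ ha hb hgen
  have h := phi_rel hφ hb ha r 1
  rw [one_mul] at h
  rw [h]
  rcases isScal_iff.1 (rel_ok r hr) with h1 | h1 | h1 <;> rw [h1] <;> simp

/-- a relator that holds forces a scalar code -/
theorem rel_scal {x : K} {c : ℕ} (hx : φ x = toMat c) (r e : ℕ)
    (h : (x * b ^ (e * (r + 1))) ^ relM r ∈ Subgroup.center K) :
    isScal (relCode bPows r c e) = true := by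
  have h1 := scalar_of_center hφ ha hb hgen h
  rw [phi_rel hφ hb hx r e] at h1
  obtain ⟨l1, l2, l3⟩ := scal_lt
  rw [isScal_iff]
  rcases h1 with h1 | h1 | h1
  · left; exact toMat_inj (relCode_lt _ _ _ _) l1 h1
  · right; left; exact toMat_inj (relCode_lt _ _ _ _) l2 h1
  · right; right; exact toMat_inj (relCode_lt _ _ _ _) l3 h1

/-! ### the quotient by the centre -/

omit hφ ha hb in
theorem closure_J : Subgroup.closure
    {(QuotientGroup.mk a : K ⧸ Subgroup.center K), (QuotientGroup.mk b : K ⧸ Subgroup.center K)} =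
      ⊤ := by
  have h1 : (Subgroup.closure ({a, b} : Set K)).map (QuotientGroup.mk' (Subgroup.center K)) = ⊤ := by
    rw [hgen, ← MonoidHom.range_eq_map, QuotientGroup.range_mk']
  rw [MonoidHom.map_closure] at h1
  rw [← h1]
  congr 1
  ext x
  simp [Set.image_pair]

omit hφ ha hb in
theorem aut_ext (β1 β2 : MulAut (K ⧸ Subgroup.center K))
    (h1 : β1 (QuotientGroup.mk a) = β2 (QuotientGroup.mk a))
    (h2 : β1 (QuotientGroup.mk b) = β2 (QuotientGroup.mk b)) : β1 = β2 := by
  have h : β1.toMonoidHom = β2.toMonoidHom := by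
    apply MonoidHom.eq_of_eqOn_dense (closure_J hgen)
    intro x hx
    rcases hx with rfl | hx
    · exact h1
    · rw [Set.mem_singleton_iff] at hx
      subst hx
      exact h2
  apply MulEquiv.ext
  intro x
  exact DFunLike.congr_fun h x

theorem order_pi_b : orderOf (QuotientGroup.mk b : K ⧸ Subgroup.center K) = 17 := by
  apply orderOf_eq_of_pow (by norm_num : Nat.Prime 17)
  · rw [← QuotientGroup.mk_pow, ← order_b hφ hb, pow_orderOf_eq_one]
    rfl
  · intro h
    exact b_not_center hφ ha hb hgen ((QuotientGroup.eq_one_iff b).1 h)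

theorem pi_a_sq : (QuotientGroup.mk a : K ⧸ Subgroup.center K) ^ 2 = 1 := by
  rw [← QuotientGroup.mk_pow, ← order_a hφ ha, pow_orderOf_eq_one]
  rfl

theorem pi_a_ne : (QuotientGroup.mk a : K ⧸ Subgroup.center K) ≠ 1 := by
  intro h
  exact a_not_center hφ ha hb hgen ((QuotientGroup.eq_one_iff a).1 h)

/-- an involution of the quotient lifts to an involution -/
theorem lift_involution (q : K ⧸ Subgroup.center K) (hq2 : q ^ 2 = 1) (hq1 : q ≠ 1) :
    ∃ x : K, (QuotientGroup.mk x : K ⧸ Subgroup.center K) = q ∧ x ^ 2 = 1 ∧ x ≠ 1 := by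
  obtain ⟨x, rfl⟩ := QuotientGroup.mk_surjective q
  have h1 : x ^ 2 ∈ Subgroup.center K := by
    rw [← QuotientGroup.eq_one_iff, QuotientGroup.mk_pow]
    exact hq2
  have h2 : (x ^ 2) ^ 3 = 1 := by
    have h3 : (⟨x ^ 2, h1⟩ : Subgroup.center K) ^ Nat.card (Subgroup.center K) = 1 :=
      pow_card_eq_one'
    rw [(main hφ ha hb hgen).2.1] at h3
    exact congrArg Subtype.val h3
  refine ⟨x ^ 3, ?_, ?_, ?_⟩
  · rw [QuotientGroup.mk_pow, pow_succ, hq2, one_mul]
  · rw [← pow_mul, mul_comm, pow_mul, h2]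
  · intro h
    apply hq1
    have : (QuotientGroup.mk x : K ⧸ Subgroup.center K) ^ 3 = 1 := by
      rw [← QuotientGroup.mk_pow, h]
      rfl
    rw [pow_succ, hq2, one_mul] at this
    exact this

omit ha hgen in
theorem n_conj {n : K} (hn : φ n = toMat nCode) : n * b * n⁻¹ = b ^ 2 := by
  have h : n * b = b ^ 2 * n := by
    apply hφ
    rw [map_mul, map_mul, hn, hb, phi_b_pow hb 2 (by norm_num), eqProd_spec n_ok]
  rw [h, mul_inv_cancel_right]

/-- after an inner automorphism, `b` is mapped to `b` or `b ^ 3` -/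
theorem aut_normalize (α : MulAut (K ⧸ Subgroup.center K)) :
    ∃ g : K ⧸ Subgroup.center K, ∃ e : ℕ, (e = 1 ∨ e = 3) ∧
      (MulAut.conj g * α) (QuotientGroup.mk b) = (QuotientGroup.mk b) ^ e := by
  obtain ⟨⟨n, hn⟩, -⟩ := elementsO ha hb
  have hob := order_pi_b hφ ha hb hgen
  have hcardJ : Nat.card (K ⧸ Subgroup.center K) = 50232960 := (main hφ ha hb hgen).2.2.2
  have : Fact (Nat.Prime 17) := ⟨by norm_num⟩
  have hcP : Nat.card (Subgroup.zpowers (QuotientGroup.mk b : K ⧸ Subgroup.center K)) = 17 := by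
    rw [Nat.card_zpowers, hob]
  have hidx : ¬ 17 ∣ (Subgroup.zpowers (QuotientGroup.mk b : K ⧸ Subgroup.center K)).index := by
    intro h
    have h2 := Subgroup.card_mul_index
      (Subgroup.zpowers (QuotientGroup.mk b : K ⧸ Subgroup.center K))
    rw [hcP, hcardJ] at h2
    obtain ⟨m, hm⟩ := h
    rw [hm] at h2
    omega
  have hoy : orderOf (α (QuotientGroup.mk b)) = 17 ^ 1 := by
    rw [pow_one, MulEquiv.orderOf_eq, hob]
  obtain ⟨g1, hg1⟩ := exists_conj_mem_sylow _ (IsPGroup.of_card (n := 1) (by rw [hcP, pow_one]))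
    hidx (α (QuotientGroup.mk b)) 1 hoy
  obtain ⟨k, hk, ek⟩ := mem_zpowers_nat (by norm_num) hob hg1
  have hk0 : k ≠ 0 := by
    rintro rfl
    rw [pow_zero] at ek
    have h1 : α (QuotientGroup.mk b) = 1 := by
      have : α (QuotientGroup.mk b) = g1⁻¹ * (g1 * α (QuotientGroup.mk b) * g1⁻¹) * g1 := by group
      rw [this, ek, mul_one, inv_mul_cancel]
    rw [h1, orderOf_one] at hoy
    norm_num at hoy
  obtain ⟨j, -, hj⟩ := exists_two_pow k hk hk0
  have hnb : ∀ j : ℕ, ∀ m : ℕ, (QuotientGroup.mk n : K ⧸ Subgroup.center K) ^ j *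
      (QuotientGroup.mk b) ^ m * ((QuotientGroup.mk n : K ⧸ Subgroup.center K) ^ j)⁻¹ =
        (QuotientGroup.mk b) ^ (m * 2 ^ j) := by
    intro j
    induction j with
    | zero => intro m; simp
    | succ j ih =>
      intro m
      have h1 : (QuotientGroup.mk n : K ⧸ Subgroup.center K) * (QuotientGroup.mk b) ^ (m * 2 ^ j) *
          (QuotientGroup.mk n)⁻¹ = (QuotientGroup.mk b) ^ (m * 2 ^ (j + 1)) := by
        rw [← QuotientGroup.mk_pow, ← QuotientGroup.mk_inv, ← QuotientGroup.mk_mul,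
          ← QuotientGroup.mk_mul, ← QuotientGroup.mk_pow]
        congr 1
        have h2 : n * b ^ (m * 2 ^ j) * n⁻¹ = (n * b * n⁻¹) ^ (m * 2 ^ j) := by
          rw [conj_pow]
        rw [h2, n_conj hφ hb hn, ← pow_mul]
        congr 1
        ring
      rw [← h1, ← ih m, pow_succ']
      group
  refine ⟨(QuotientGroup.mk n) ^ j * g1, (k * 2 ^ j) % 17,
    by rcases hj with h | h <;> [left; right] <;> exact h, ?_⟩
  rw [MulAut.mul_apply, MulAut.conj_apply]
  have h3 : (QuotientGroup.mk n : K ⧸ Subgroup.center K) ^ j * g1 * α (QuotientGroup.mk b) *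
      ((QuotientGroup.mk n : K ⧸ Subgroup.center K) ^ j * g1)⁻¹ =
      (QuotientGroup.mk n) ^ j * (g1 * α (QuotientGroup.mk b) * g1⁻¹) *
        ((QuotientGroup.mk n : K ⧸ Subgroup.center K) ^ j)⁻¹ := by group
  rw [h3, ek, hnb j k, ← hob, pow_mod_orderOf]

omit hφ ha hgen in
/-- the matrix of a conjugate by a power of `b` -/
theorem phi_conj_pow {x : K} {c d : ℕ} (hx : φ x = toMat c) (j : ℕ) (hj : j < 17)
    (h : eqProd (bPows.getD j 0) c d (bPows.getD j 0) = true) :
    φ (b ^ j * x * (b ^ j)⁻¹) = toMat d := by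
  apply mul_right_cancel_map (φ := φ) (b ^ j)
  rw [← map_mul, inv_mul_cancel_right, map_mul, hx, phi_b_pow hb j hj, eqProd_spec h]

/-- an automorphism mapping `b` to `b` or `b ^ 3` is inner, or inner times `τ` -/
theorem aut_class (τ' : MulAut (K ⧸ Subgroup.center K)) {ta : K} (hta : φ ta = toMat atauCode)
    (hτa : τ' (QuotientGroup.mk a) = QuotientGroup.mk ta)
    (hτb : τ' (QuotientGroup.mk b) = QuotientGroup.mk b)
    (β : MulAut (K ⧸ Subgroup.center K)) (e : ℕ) (he : e = 1 ∨ e = 3)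
    (hβ : β (QuotientGroup.mk b) = (QuotientGroup.mk b) ^ e) :
    ∃ g : K ⧸ Subgroup.center K, β = MulAut.conj g ∨ β = MulAut.conj g * τ' := by
  have hq2 : (β (QuotientGroup.mk a)) ^ 2 = 1 := by
    rw [← map_pow, pi_a_sq hφ ha hb hgen, map_one]
  have hq1 : β (QuotientGroup.mk a) ≠ 1 := by
    intro h
    apply pi_a_ne hφ ha hb hgen
    have := congrArg β.symm h
    rwa [MulEquiv.symm_apply_apply, map_one] at this
  obtain ⟨x, hx, hx2, hx1⟩ := lift_involution hφ ha hb hgen _ hq2 hq1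
  obtain ⟨i, hi, ei⟩ := involution_in_table hφ ha hb hgen x hx2 hx1
  -- a relator that fails for the candidate gives a contradiction
  have hrel : ∀ r < 5, isScal (relCode bPows r (invC i) e) = true := by
    intro r hr
    apply rel_scal hφ ha hb hgen ei r e
    rw [← QuotientGroup.eq_one_iff]
    have h1 : (QuotientGroup.mk ((a * b ^ (r + 1)) ^ relM r) : K ⧸ Subgroup.center K) = 1 :=
      (QuotientGroup.eq_one_iff _).2 (rel_center hφ ha hb hgen r hr)
    have h2 := congrArg β h1
    rw [map_one, QuotientGroup.mk_pow, QuotientGroup.mk_mul, QuotientGroup.mk_pow, map_pow,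
      map_mul, map_pow, hβ, hx.symm, ← pow_mul] at h2
    rw [QuotientGroup.mk_pow, QuotientGroup.mk_mul, QuotientGroup.mk_pow]
    exact h2
  rcases he with rfl | rfl
  · rcases cand1_spec i hi with ⟨r, hr, hf⟩ | ⟨j, hj, ej⟩ | ⟨j, hj, ej⟩
    · rw [hrel r hr] at hf
      exact absurd hf (by simp)
    · refine ⟨(QuotientGroup.mk b) ^ j, Or.inl ?_⟩
      apply aut_ext hgen
      · rw [MulAut.conj_apply, ← hx, ← QuotientGroup.mk_pow, ← QuotientGroup.mk_inv,
          ← QuotientGroup.mk_mul, ← QuotientGroup.mk_mul]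
        congr 1
        apply hφ
        rw [ei, ej, phi_conj_pow hb ha j hj (conjA_ok j hj)]
      · rw [MulAut.conj_apply, hβ, pow_one]
        group
    · refine ⟨(QuotientGroup.mk b) ^ j, Or.inr ?_⟩
      apply aut_ext hgen
      · rw [MulAut.mul_apply, MulAut.conj_apply, hτa, ← hx, ← QuotientGroup.mk_pow,
          ← QuotientGroup.mk_inv, ← QuotientGroup.mk_mul, ← QuotientGroup.mk_mul]
        congr 1
        apply hφ
        rw [ei, ej, phi_conj_pow hb hta j hj (conjT_ok j hj)]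
      · rw [MulAut.mul_apply, MulAut.conj_apply, hτb, hβ, pow_one]
        group
  · obtain ⟨r, hr, hf⟩ := cand3_spec i hi
    rw [hrel r hr] at hf
    exact absurd hf (by simp)

theorem center_pow_three {z : K} (hz : z ∈ Subgroup.center K) : z ^ 3 = 1 := by
  have h3 : (⟨z, hz⟩ : Subgroup.center K) ^ Nat.card (Subgroup.center K) = 1 := pow_card_eq_one'
  rw [(main hφ ha hb hgen).2.1] at h3
  exact congrArg Subtype.val h3

/-- the outer automorphism of the quotient -/
theorem exists_tauJ : ∃ (τ' : MulAut (K ⧸ Subgroup.center K)) (ta : K), φ ta = toMat atauCode ∧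
    τ' (QuotientGroup.mk a) = QuotientGroup.mk ta ∧
    τ' (QuotientGroup.mk b) = QuotientGroup.mk b ∧
    ∀ g : K ⧸ Subgroup.center K, τ' ≠ MulAut.conj g := by
  obtain ⟨τK, hτK⟩ := exists_tauK hφ ha hb hgen
  obtain ⟨-, ⟨ta, hta⟩⟩ := elementsO ha hb
  obtain ⟨-, -, ⟨w, hw⟩, -⟩ := elements ha hb
  have hmap : (Subgroup.center K).map τK.toMonoidHom = Subgroup.center K :=
    Subgroup.characteristic_iff_map_eq.1 inferInstance τK
  have hτ' : ∀ g : K, (QuotientGroup.congr _ _ τK hmap : MulAut (K ⧸ Subgroup.center K))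
      (QuotientGroup.mk g) = QuotientGroup.mk (τK g) :=
    fun g => QuotientGroup.congr_mk _ _ τK hmap g
  have e_a : τK a = ta := hφ (by rw [hτK, ha, theta_a, hta])
  have e_b : τK b = b := hφ (by rw [hτK, hb, theta_b])
  have e_w : τK w = w * w := hφ (by rw [hτK, hw, theta_w, map_mul_code hw hw ordW_ok.1])
  refine ⟨QuotientGroup.congr _ _ τK hmap, ta, hta, by rw [hτ', e_a], by rw [hτ', e_b], ?_⟩
  intro g hg
  obtain ⟨g0, rfl⟩ := QuotientGroup.mk_surjective g
  have key : ∀ x : K, ∃ z ∈ Subgroup.center K, τK x = g0 * x * g0⁻¹ * z := by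
    intro x
    have h1 : (QuotientGroup.mk (g0 * x * g0⁻¹) : K ⧸ Subgroup.center K) =
        QuotientGroup.mk (τK x) := by
      rw [← hτ', hg, MulAut.conj_apply]
      rfl
    exact ⟨(g0 * x * g0⁻¹)⁻¹ * τK x, QuotientGroup.eq.1 h1, by group⟩
  have hwc : w ∈ Subgroup.center K := by
    rw [center_eq hφ ha hb hgen hw]
    exact Subgroup.mem_zpowers w
  -- agreement on `a`
  have ha2 : a ^ 2 = 1 := by rw [← order_a hφ ha, pow_orderOf_eq_one]
  have hb17 : b ^ 17 = 1 := by rw [← order_b hφ hb, pow_orderOf_eq_one]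
  have agree_a : τK a = g0 * a * g0⁻¹ := by
    obtain ⟨z, hz, e⟩ := key a
    have hz3 := center_pow_three hφ ha hb hgen hz
    have hcomm : Commute (g0 * a * g0⁻¹) z := Subgroup.mem_center_iff.1 hz _
    have h1 : (τK a) ^ 2 = 1 := by rw [← map_pow, ha2, map_one]
    rw [e, hcomm.mul_pow, conj_pow, ha2, mul_one, mul_inv_cancel, one_mul] at h1
    have hz1 : z = 1 := by
      have : z = z ^ 3 * (z ^ 2)⁻¹ := by group
      rw [this, hz3, h1, inv_one, mul_one]
    rw [e, hz1, mul_one]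
  have agree_b : τK b = g0 * b * g0⁻¹ := by
    obtain ⟨z, hz, e⟩ := key b
    have hz3 := center_pow_three hφ ha hb hgen hz
    have hcomm : Commute (g0 * b * g0⁻¹) z := Subgroup.mem_center_iff.1 hz _
    have h1 : (τK b) ^ 17 = 1 := by rw [← map_pow, hb17, map_one]
    rw [e, hcomm.mul_pow, conj_pow, hb17, mul_one, mul_inv_cancel, one_mul] at h1
    have hz1 : z = 1 := by
      have : z = (z ^ 3) ^ 6 * (z ^ 17)⁻¹ := by group
      rw [this, hz3, h1, inv_one, mul_one, one_pow]
    rw [e, hz1, mul_one]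
  have hall : τK.toMonoidHom = (MulAut.conj g0).toMonoidHom := by
    apply MonoidHom.eq_of_eqOn_dense hgen
    intro x hx
    rcases hx with rfl | hx
    · exact agree_a
    · rw [Set.mem_singleton_iff] at hx
      subst hx
      exact agree_b
  have h2 : τK w = g0 * w * g0⁻¹ := DFunLike.congr_fun hall w
  rw [e_w, Subgroup.mem_center_iff.1 hwc g0, mul_inv_cancel_right] at h2
  have hw1 : w = 1 := by
    have : w = w⁻¹ * (w * w) := by group
    rw [this, h2, inv_mul_cancel]
  have := order_w hφ hw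
  rw [hw1, orderOf_one] at this
  norm_num at this

/-- the outer automorphism group has order two -/
theorem card_out : Nat.card (Cfsg.Out (K ⧸ Subgroup.center K)) = 2 := by
  obtain ⟨τ', ta, hta, hτa, hτb, hnot⟩ := exists_tauJ hφ ha hb hgen
  have hclass : ∀ α : MulAut (K ⧸ Subgroup.center K),
      α ∈ Cfsg.Inn (K ⧸ Subgroup.center K) ∨ α * τ'⁻¹ ∈ Cfsg.Inn (K ⧸ Subgroup.center K) := by
    intro α
    obtain ⟨g, e, he, hg⟩ := aut_normalize hφ ha hb hgen α
    obtain ⟨g', h | h⟩ := aut_class hφ ha hb hgen τ' hta hτa hτb (MulAut.conj g * α) e he hg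
    · left
      have : α = (MulAut.conj g)⁻¹ * (MulAut.conj g * α) := by group
      rw [this, h, ← map_inv, ← map_mul]
      exact ⟨_, rfl⟩
    · right
      have : α * τ'⁻¹ = (MulAut.conj g)⁻¹ * (MulAut.conj g * α) * τ'⁻¹ := by group
      rw [this, h, ← map_inv]
      have : (MulAut.conj g⁻¹ : MulAut (K ⧸ Subgroup.center K)) * (MulAut.conj g' * τ') * τ'⁻¹ =
          MulAut.conj g⁻¹ * MulAut.conj g' := by group
      rw [this, ← map_mul]
      exact ⟨_, rfl⟩
  have hτnot : τ' ∉ Cfsg.Inn (K ⧸ Subgroup.center K) := fun ⟨g, hg⟩ => hnot g hg.symm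
  have hτ2 : τ' * τ' ∈ Cfsg.Inn (K ⧸ Subgroup.center K) := by
    rcases hclass (τ' * τ') with h | h
    · exact h
    · exfalso
      apply hτnot
      have : τ' * τ' * τ'⁻¹ = τ' := by group
      rwa [this] at h
  show Nat.card (MulAut (K ⧸ Subgroup.center K) ⧸ Cfsg.Inn (K ⧸ Subgroup.center K)) = 2
  rw [← Subgroup.index_eq_card, Subgroup.index_eq_two_iff]
  refine ⟨τ', fun β => ?_⟩
  rcases hclass β with h | h
  · right
    refine ⟨h, fun h2 => hτnot ?_⟩
    have := Subgroup.mul_mem _ (Subgroup.inv_mem _ h) h2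
    rwa [inv_mul_cancel_left] at this
  · left
    refine ⟨?_, fun h2 => hτnot ?_⟩
    · have : β * τ' = (β * τ'⁻¹) * (τ' * τ') := by group
      rw [this]
      exact Subgroup.mul_mem _ h hτ2
    · have := Subgroup.mul_mem _ (Subgroup.inv_mem _ h2) h
      rw [inv_mul_cancel_left] at this
      exact (Subgroup.inv_mem_iff _).1 this

end

end Cfsg.Agent.Helper98.J3
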