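import Cfsg.Agent.Helper98.J3OutCheck1

/-!
# Kernel checks for the automorphisms of `J₃`: the candidates for the image of `a`
-/

set_option autoImplicit false

namespace Cfsg.Agent.Helper98.J3

open Cfsg.Agent.Helper27

/-- candidates when `b` is fixed: a failing relator, or a conjugate of `a` or of `τ(a)` -/
def cand1OK (lo len : ℕ) : Bool :=
  (List.range' lo len).all fun i =>
    withNat (invC i) fun x => withNat (fld kind1 4 i) fun k =>
      if k < 5 then !(isScal (relCode bPows k x 1))
      else withNat (fld aux1 5 i) fun j =>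
        decide (j < 17) && (if k = 5 then x == conjA.getD j 0 else
          if k = 6 then x == conjT.getD j 0 else false)

theorem cand1OK_spec {lo len : ℕ} (h : cand1OK lo len = true) (i : ℕ) (h1 : lo ≤ i)
    (h2 : i < lo + len) :
    (∃ r < 5, isScal (relCode bPows r (invC i) 1) = false) ∨
      (∃ j < 17, invC i = conjA.getD j 0) ∨ (∃ j < 17, invC i = conjT.getD j 0) := by
  simp only [cand1OK, List.all_eq_true, List.mem_range'_1, withNat_eq] at h
  have h3 := h i ⟨h1, h2⟩
  split_ifs at h3 with h4 h7 h8
  · left
    exact ⟨_, h4, by simpa using h3⟩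
  · right; left
    simp only [Bool.and_eq_true, decide_eq_true_eq, beq_iff_eq] at h3
    exact ⟨_, h3.1, h3.2⟩
  · right; right
    simp only [Bool.and_eq_true, decide_eq_true_eq, beq_iff_eq] at h3
    exact ⟨_, h3.1, h3.2⟩
  · simp at h3

/-- candidates when `b` is mapped to `b ^ 3`: always a failing relator -/
def cand3OK (lo len : ℕ) : Bool :=
  (List.range' lo len).all fun i =>
    withNat (invC i) fun x => withNat (fld kind3 4 i) fun k =>
      decide (k < 5) && !(isScal (relCode bPows k x 3))

theorem cand3OK_spec {lo len : ℕ} (h : cand3OK lo len = true) (i : ℕ) (h1 : lo ≤ i)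
    (h2 : i < lo + len) : ∃ r < 5, isScal (relCode bPows r (invC i) 3) = false := by
  simp only [cand3OK, List.all_eq_true, List.mem_range'_1, withNat_eq, Bool.and_eq_true,
    decide_eq_true_eq, Bool.not_eq_true'] at h
  obtain ⟨h3, h4⟩ := h i ⟨h1, h2⟩
  exact ⟨_, h3, h4⟩

set_option maxRecDepth 1000000 in
set_option maxHeartbeats 0 in
theorem cand1_0 : cand1OK 0 6541 = true := by decide +kernel

set_option maxRecDepth 1000000 in
set_option maxHeartbeats 0 in
theorem cand1_1 : cand1OK 6541 6541 = true := by decide +kernel

set_option maxRecDepth 1000000 in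
set_option maxHeartbeats 0 in
theorem cand1_2 : cand1OK 13082 6541 = true := by decide +kernel

set_option maxRecDepth 1000000 in
set_option maxHeartbeats 0 in
theorem cand1_3 : cand1OK 19623 6540 = true := by decide +kernel

end Cfsg.Agent.Helper98.J3
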