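import Cfsg.Agent.Helper98.J3Chk
import Cfsg.Agent.Helper98.J3Data1
import Cfsg.Agent.Helper98.J3Data7

/-!
# Boolean checks for the automorphisms of `J₃`: definitions and specifications
-/

set_option autoImplicit false

namespace Cfsg.Agent.Helper98.J3

open Cfsg.Agent.Helper27

theorem toMat_prodCode (A B : ℕ) : toMat (prodCode A B) = toMat A * toMat B := by
  ext i j
  rw [toMat_mul_apply, ← rowOf_prodCode A B i.isLt]
  rfl

/-- ninth power of a code -/
def pow9C (x : ℕ) : ℕ :=
  withNat (prodCode x x) fun x2 => withNat (prodCode x2 x2) fun x4 =>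
    withNat (prodCode x4 x4) fun x8 => prodCode x8 x

/-- tenth power of a code -/
def pow10C (x : ℕ) : ℕ :=
  withNat (prodCode x x) fun x2 => withNat (prodCode x2 x2) fun x4 =>
    withNat (prodCode x4 x4) fun x8 => prodCode x8 x2

/-- fifteenth power of a code -/
def pow15C (x : ℕ) : ℕ :=
  withNat (prodCode x x) fun x2 => withNat (prodCode x2 x) fun x3 =>
    withNat (prodCode x3 x3) fun x6 => withNat (prodCode x6 x6) fun x12 => prodCode x12 x3

theorem toMat_pow9C (x : ℕ) : toMat (pow9C x) = toMat x ^ 9 := by
  simp only [pow9C, withNat_eq, toMat_prodCode]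
  simp only [pow_succ, pow_zero, one_mul, mul_assoc]

theorem toMat_pow10C (x : ℕ) : toMat (pow10C x) = toMat x ^ 10 := by
  simp only [pow10C, withNat_eq, toMat_prodCode]
  simp only [pow_succ, pow_zero, one_mul, mul_assoc]

theorem toMat_pow15C (x : ℕ) : toMat (pow15C x) = toMat x ^ 15 := by
  simp only [pow15C, withNat_eq, toMat_prodCode]
  simp only [pow_succ, pow_zero, one_mul, mul_assoc]

/-- the exponent of `b` in relator `r` -/
def relK (r : ℕ) : ℕ := r + 1

/-- the order of the word of relator `r` -/
def relM (r : ℕ) : ℕ := if r = 0 then 9 else if r = 1 then 10 else if r = 2 then 15 else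
  if r = 3 then 15 else 9

/-- the code of `(x * b ^ (e * (r + 1))) ^ m_r` -/
def relCode (bP : List ℕ) (r x e : ℕ) : ℕ :=
  withNat (prodCode x (bP.getD ((relK r * e) % 17) 0)) fun y =>
    if r = 0 then pow9C y else if r = 1 then pow10C y else if r = 2 then pow15C y else
      if r = 3 then pow15C y else pow9C y

theorem toMat_relCode (bP : List ℕ) (r x e : ℕ) :
    toMat (relCode bP r x e) = (toMat x * toMat (bP.getD ((relK r * e) % 17) 0)) ^ relM r := by
  simp only [relCode, withNat_eq, relM]
  split_ifs <;> simp only [toMat_pow9C, toMat_pow10C, toMat_pow15C, toMat_prodCode]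

/-- scalar codes -/
def isScal (c : ℕ) : Bool := c == idCode || c == wICode || c == w2ICode

theorem isScal_iff {c : ℕ} : isScal c = true ↔ c = idCode ∨ c = wICode ∨ c = w2ICode := by
  simp only [isScal, Bool.or_eq_true, beq_iff_eq, or_assoc]

theorem relCode_lt (bP : List ℕ) (r x e : ℕ) : relCode bP r x e < 2 ^ 162 := by
  simp only [relCode, withNat_eq, pow9C, pow10C, pow15C]
  split_ifs <;> exact prodCode_lt _ _

end Cfsg.Agent.Helper98.J3
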