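import Cfsg.Agent.Helper98.J3Out

/-!
# The outer automorphism group of `J₃`, for the group of the definition
-/

set_option autoImplicit false

namespace Cfsg.Agent.Helper98.J3

open Cfsg Cfsg.Spor Cfsg.Agent.Helper27

theorem threeJ3_out {F : Type*} [Field F] (ω : F) (σ : F ≃+* GF4) (hσ : σ ω = GF4.w) :
    Nat.card (Cfsg.Out (J3 F ω)) = 2 := by
  obtain ⟨a0, b0, ea, eb, heq⟩ := threeJ3_eq ω σ hσ
  have key : ∀ T : Subgroup (GL F9 F), T = Subgroup.closure {a0, b0} →
      Nat.card (Cfsg.Out (↥T ⧸ Subgroup.center ↥T)) = 2 := by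
    rintro _ rfl
    obtain ⟨_, φ, hφ, a, b, ha, hb, hgen⟩ := closure_setup σ a0 b0 ea eb
    exact card_out hφ ha hb hgen
  exact key _ heq

end Cfsg.Agent.Helper98.J3
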