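import Cfsg.Agent.Helper98.J3Main
import Cfsg.Agent.Helper98.PSU32

/-!
# `3·J₃` inside `SU₉(2)`

The two generating matrices are unitary of determinant one, so the group they generate is a
subgroup of `Cfsg.SU 9 GF4 2`.
-/

set_option autoImplicit false

namespace Cfsg.Agent.Helper98.J3

open Cfsg Cfsg.Agent.Helper27 Matrix

set_option maxRecDepth 100000 in
theorem unitary_a : ∀ j k : Fin 9, ∑ i : Fin 9, toMat aCode i j * (toMat aCode i k) ^ 2 =
    if j = k then 1 else 0 := by decide +kernel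

set_option maxRecDepth 100000 in
theorem unitary_b : ∀ j k : Fin 9, ∑ i : Fin 9, toMat bCode i j * (toMat bCode i k) ^ 2 =
    if j = k then 1 else 0 := by decide +kernel

theorem gf4_sq_eq_one : ∀ x : GF4, x ^ 2 = 1 → x = 1 := by decide

theorem gf4_pow17_eq_one : ∀ x : GF4, x ^ 17 = 1 → x = 1 := by decide

theorem det_a : (toMat aCode).det = 1 := by
  apply gf4_sq_eq_one
  rw [← Matrix.det_pow, pow_two, eqMul_spec ordA_ok.1, toMat_idCode, Matrix.det_one]

theorem toMat_b_pow : (toMat bCode) ^ 17 = 1 := by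
  obtain ⟨h0, h1, h2, h3, h4, h5, -⟩ := ordB_ok
  have e1 := eqMul_spec h1
  have e2 := eqMul_spec h2
  have e3 := eqMul_spec h3
  have e4 := eqMul_spec h4
  have e5 := eqMul_spec h5
  rw [h0] at e1 e5
  rw [toMat_idCode] at e5
  rw [← e5, ← e4, ← e3, ← e2, ← e1]
  simp only [pow_succ, pow_zero, one_mul, mul_assoc]

theorem det_b : (toMat bCode).det = 1 := by
  apply gf4_pow17_eq_one
  rw [← Matrix.det_pow, toMat_b_pow, Matrix.det_one]

/-- the first generator in `SL₉(4)` -/
def slA : Matrix.SpecialLinearGroup (Fin 9) GF4 := ⟨toMat aCode, det_a⟩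

/-- the second generator in `SL₉(4)` -/
def slB : Matrix.SpecialLinearGroup (Fin 9) GF4 := ⟨toMat bCode, det_b⟩

theorem slA_mem : slA ∈ Cfsg.SU 9 GF4 2 := by
  apply PSU32.mem_SU_of_matrix
  ext j k
  rw [Matrix.mul_apply, Matrix.one_apply]
  simp only [Matrix.transpose_apply, Matrix.map_apply]
  exact unitary_a j k

theorem slB_mem : slB ∈ Cfsg.SU 9 GF4 2 := by
  apply PSU32.mem_SU_of_matrix
  ext j k
  rw [Matrix.mul_apply, Matrix.one_apply]
  simp only [Matrix.transpose_apply, Matrix.map_apply]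
  exact unitary_b j k

/-- the first generator in `SU₉(2)` -/
def suA : Cfsg.SU 9 GF4 2 := ⟨slA, slA_mem⟩

/-- the second generator in `SU₉(2)` -/
def suB : Cfsg.SU 9 GF4 2 := ⟨slB, slB_mem⟩

/-- the subgroup `3·J₃` of `SU₉(2)` -/
def H3J3 : Subgroup (Cfsg.SU 9 GF4 2) := Subgroup.closure {suA, suB}

/-- the matrix of an element -/
def phi : H3J3 →* Matrix (Fin 9) (Fin 9) GF4 :=
  (slToMat 9 GF4).comp ((Cfsg.SU 9 GF4 2).subtype.comp H3J3.subtype)

theorem phi_apply (x : H3J3) : phi x = x.1.1.1 := rfl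

theorem phi_inj : Function.Injective phi := by
  intro x y h
  rw [phi_apply, phi_apply] at h
  exact Subtype.ext (Subtype.ext (Subtype.ext h))

instance : Finite H3J3 := Finite.of_injective phi phi_inj

theorem H3J3_facts : Nat.card H3J3 = 150698880 ∧ Nat.card (Subgroup.center H3J3) = 3 ∧
    IsSimpleGroup (H3J3 ⧸ Subgroup.center H3J3) ∧
    Nat.card (H3J3 ⧸ Subgroup.center H3J3) = 50232960 := by
  have hA : suA ∈ H3J3 := Subgroup.subset_closure (Set.mem_insert _ _)
  have hB : suB ∈ H3J3 := Subgroup.subset_closure (Set.mem_insert_of_mem _ (Set.mem_singleton _))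
  apply main phi_inj (a := ⟨suA, hA⟩) (b := ⟨suB, hB⟩) rfl rfl
  have h : Subgroup.closure ((Subtype.val : H3J3 → Cfsg.SU 9 GF4 2) ⁻¹' {suA, suB}) = ⊤ :=
    Subgroup.closure_closure_coe_preimage (k := ({suA, suB} : Set (Cfsg.SU 9 GF4 2)))
  rw [← h]
  congr 1
  ext x
  simp only [Set.mem_insert_iff, Set.mem_singleton_iff, Set.mem_preimage, Subtype.ext_iff]

end Cfsg.Agent.Helper98.J3
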