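import Cfsg.Agent.Helper98.J3Cen2
import Cfsg.Agent.Helper63.SympTypeA
import Cfsg.Agent.Helper56.Order120
import Cfsg.Prelude.Def_Transfer

/-!
# The centraliser of an involution of `J₃` has shape `2^{1+4}_-:A₅`
-/

set_option autoImplicit false
set_option linter.unusedSectionVars false

namespace Cfsg.Agent.Helper98.J3

open Cfsg
open scoped commutatorElement

/-- a subgroup on which a homomorphism is injective is isomorphic to its image -/
theorem mulEquiv_map_of_injOn {K G : Type*} [Group K] [Group G] (π : K →* G) (E : Subgroup K)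
    (h : ∀ x ∈ E, ∀ y ∈ E, π x = π y → x = y) : Nonempty (↥E ≃* ↥(E.map π)) := by
  have hinj : Function.Injective (π.comp E.subtype) := by
    intro x y hxy
    exact Subtype.ext (h _ x.2 _ y.2 hxy)
  have hr : (π.comp E.subtype).range = E.map π := by
    rw [MonoidHom.range_comp, Subgroup.range_subtype]
  exact ⟨(MonoidHom.ofInjective hinj).trans (MulEquiv.subgroupCongr hr)⟩

/-- a set with more elements than a finite set has an element outside it -/
theorem exists_mem_notMem_finset {α : Type*} (S : Set α) [Finite S] (F : Finset α)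
    (h : F.card < Nat.card S) : ∃ x ∈ S, x ∉ F := by
  by_contra hcon
  push Not at hcon
  have hsub : S ⊆ (F : Set α) := fun x hx => hcon x hx
  have h1 := Set.ncard_le_ncard hsub (Finset.finite_toSet F)
  rw [Set.ncard_coe_finset, ← Nat.card_coe_set_eq] at h1
  omega

section

variable {K G : Type*} [Group K] [Finite K] [Group G] [Finite G]

/-- a group of order 60 generated by commutators of its elements is alternating of degree 5 -/
theorem alt5_of_perfect_closure (S : Set K) (hcard : Nat.card (Subgroup.closure S) = 60)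
    (hS : ∀ s ∈ S, ∃ u ∈ Subgroup.closure S, ∃ v ∈ Subgroup.closure S, s = u * v * u⁻¹ * v⁻¹) :
    Nonempty (↥(Subgroup.closure S) ≃* ↥(alternatingGroup (Fin 5))) := by
  have htop : commutator ↥(Subgroup.closure S) = ⊤ := by
    rw [eq_top_iff, ← Subgroup.closure_closure_coe_preimage (k := S), Subgroup.closure_le]
    intro x hx
    obtain ⟨u, hu, v, hv, e⟩ := hS _ hx
    have : x = ⁅(⟨u, hu⟩ : ↥(Subgroup.closure S)), ⟨v, hv⟩⁆ := by
      apply Subtype.ext
      rw [commutatorElement_def]
      exact e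
    rw [SetLike.mem_coe, this, commutator_def]
    exact Subgroup.commutator_mem_commutator (Subgroup.mem_top _) (Subgroup.mem_top _)
  have hnt : Nontrivial ↥(Subgroup.closure S) := by
    rw [← Finite.one_lt_card_iff_nontrivial, hcard]
    norm_num
  have hns : ¬ Group.IsSolvable ↥(Subgroup.closure S) := by
    intro hsol
    have := Group.IsSolvable.commutator_lt_top_of_nontrivial ↥(Subgroup.closure S)
    rw [htop] at this
    exact lt_irrefl _ this
  have hsimple := Cfsg.Agent.Helper56.Order120.simple_of_card_60 hcard hns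
  exact Cfsg.Agent.Helper9.nonempty_mulEquiv_alternatingGroup_five hcard


/-- the structure of the centraliser of an involution, from local data in a central extension by
a group of order three -/
theorem centralizer_structure (π : K →* G) (hπ : Function.Surjective π)
    (hker : π.ker = Subgroup.center K) (hZ : Nat.card (Subgroup.center K) = 3)
    (a : K) (ha2 : a ^ 2 = 1) (ha1 : a ≠ 1)
    (hconj : ∀ x : K, x ^ 2 = 1 → x ≠ 1 → ∃ g : K, g * a * g⁻¹ = x)
    (hCcard : Nat.card (Subgroup.centralizer ({a} : Set K)) = 5760)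
    (E H : Subgroup K) (hs : ℕ → K)
    (hE : Nat.card E = 32) (haE : a ∈ E) (hEC : E ≤ Subgroup.centralizer ({a} : Set K))
    (hnorm : ∀ k ∈ Subgroup.centralizer ({a} : Set K), ∀ x ∈ E, k * x * k⁻¹ ∈ E)
    (hsq : ∀ x ∈ E, x * x = 1 ∨ x * x = a)
    (hcomm : ∀ x ∈ E, ∀ y ∈ E, x * y = y * x ∨ x * y = a * y * x)
    (hcen : ∀ x ∈ E, (∀ y ∈ E, x * y = y * x) → x = 1 ∨ x = a)
    (hnoE8 : ∀ x ∈ E, ∀ y ∈ E, ∀ w ∈ E, x * x = 1 → y * y = 1 → w * w = 1 → x * y = y * x →
      x * w = w * x → y * w = w * y →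
      x = 1 ∨ y = 1 ∨ y = x ∨ w = 1 ∨ w = x ∨ w = y ∨ w = x * y)
    (hH : Nat.card H = 60) (hHC : H ≤ Subgroup.centralizer ({a} : Set K))
    (hHgen : H = Subgroup.closure {g : K | ∃ j < 2, g = hs j})
    (hHcomm : ∀ j < 2, ∃ u ∈ H, ∃ v ∈ H, hs j = u * v * u⁻¹ * v⁻¹)
    (hdisj : ∀ h ∈ H, ∀ e ∈ E, ∀ z ∈ Subgroup.center K, h = e * z → h = 1) :
    (∀ x y : G, orderOf x = 2 → orderOf y = 2 → IsConj x y) ∧
    ∃ t : G, orderOf t = 2 ∧
      ∃ (Q : Subgroup ↥(Subgroup.centralizer ({t} : Set G))) (_ : Q.Normal),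
        Cfsg.IsExtraspecial 2 Q ∧ Nat.card Q = 32 ∧
        (∀ E' : Subgroup Q, Cfsg.IsElementaryAbelian 2 E' → Nat.card E' ≤ 2 ^ 2) ∧
        (∃ H' : Subgroup ↥(Subgroup.centralizer ({t} : Set G)), Q.IsComplement' H') ∧
        Nonempty (↥(Subgroup.centralizer ({t} : Set G)) ⧸ Q ≃* ↥(alternatingGroup (Fin 5))) := by
  have : Fact (Nat.Prime 2) := ⟨Nat.prime_two⟩
  have hkerc : ∀ x : K, π x = 1 ↔ x ∈ Subgroup.center K := by
    intro x
    rw [← hker, MonoidHom.mem_ker]
  have hcopE : ∀ z ∈ Subgroup.center K, z ∈ E → z = 1 := fun z hz hzE =>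
    eq_one_of_mem_of_mem hzE hz (by rw [hE, hZ]; norm_num)
  have hinjE : ∀ x ∈ E, ∀ y ∈ E, π x = π y → x = y := by
    intro x hx y hy hxy
    have h1 : y⁻¹ * x ∈ Subgroup.center K := by
      rw [← hker]
      exact (MonoidHom.eq_iff π).1 hxy
    have h2 := hcopE _ h1 (E.mul_mem (E.inv_mem hy) hx)
    exact (inv_mul_eq_one.1 h2).symm
  have hinjH : ∀ x ∈ H, ∀ y ∈ H, π x = π y → x = y := by
    intro x hx y hy hxy
    have h1 : y⁻¹ * x ∈ Subgroup.center K := by
      rw [← hker]
      exact (MonoidHom.eq_iff π).1 hxy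
    have h2 := hdisj _ (H.mul_mem (H.inv_mem hy) hx) 1 E.one_mem _ h1 (one_mul _).symm
    exact (inv_mul_eq_one.1 h2).symm
  have hπa1 : π a ≠ 1 := fun h => ha1 (hcopE a ((hkerc a).1 h) haE)
  have hπa2 : π a ^ 2 = 1 := by rw [← map_pow, ha2, map_one]
  have hoa : orderOf (π a) = 2 := orderOf_eq_prime hπa2 hπa1
  -- lifting the centraliser of `π a`
  have cent_lift : ∀ k : K, π k * π a = π a * π k → k ∈ Subgroup.centralizer ({a} : Set K) := by
    intro k hk
    have h1 : π (k * a * k⁻¹) = π a := by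
      rw [map_mul, map_mul, hk, map_inv, mul_inv_cancel_right]
    have hz : a⁻¹ * (k * a * k⁻¹) ∈ Subgroup.center K := by
      rw [← hker]
      exact (MonoidHom.eq_iff π).1 h1
    set z := a⁻¹ * (k * a * k⁻¹) with hzdef
    have hkz : k * a * k⁻¹ = a * z := by rw [hzdef, mul_inv_cancel_left]
    have hzc := Subgroup.mem_center_iff.1 hz
    have hz2 : z ^ 2 = 1 := by
      have h2 : (k * a * k⁻¹) ^ 2 = 1 := by
        rw [pow_two]
        have : k * a * k⁻¹ * (k * a * k⁻¹) = k * a ^ 2 * k⁻¹ := by rw [pow_two]; group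
        rw [this, ha2, mul_one, mul_inv_cancel]
      rw [hkz, pow_two] at h2
      have h3 : a * z * (a * z) = a ^ 2 * z ^ 2 := by
        calc a * z * (a * z) = a * (z * a) * z := by group
          _ = a * (a * z) * z := by rw [← hzc a]
          _ = a ^ 2 * z ^ 2 := by rw [pow_two, pow_two]; group
      rw [h3, ha2, one_mul] at h2
      exact h2
    have hz3 : z ^ 3 = 1 := by
      have := Subgroup.orderOf_dvd_natCard (Subgroup.center K) hz
      rw [hZ] at this
      exact orderOf_dvd_iff_pow_eq_one.1 this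
    have hz1 : z = 1 := by
      have : z ^ 3 = z ^ 2 * z := pow_succ z 2
      rw [hz3, hz2, one_mul] at this
      exact this.symm
    rw [hz1, mul_one] at hkz
    rw [Subgroup.mem_centralizer_iff]
    intro h hh
    rw [Set.mem_singleton_iff] at hh
    subst hh
    have : k * h = h * k := by
      have := congrArg (· * k) hkz
      simpa using this
    exact this.symm
  have hCmem : ∀ g : G, g ∈ Subgroup.centralizer ({π a} : Set G) ↔ g * π a = π a * g := by
    intro g
    rw [Subgroup.mem_centralizer_iff]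
    constructor
    · intro h
      exact (h (π a) (Set.mem_singleton _)).symm
    · intro h x hx
      rw [Set.mem_singleton_iff] at hx
      subst hx
      exact h.symm
  have F1 : ∀ g ∈ Subgroup.centralizer ({π a} : Set G),
      ∃ k ∈ Subgroup.centralizer ({a} : Set K), π k = g := by
    intro g hg
    obtain ⟨k, rfl⟩ := hπ g
    exact ⟨k, cent_lift k ((hCmem _).1 hg), rfl⟩
  have F2 : ∀ k ∈ Subgroup.centralizer ({a} : Set K),
      π k ∈ Subgroup.centralizer ({π a} : Set G) := by
    intro k hk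
    rw [hCmem, ← map_mul, ← map_mul]
    congr 1
    exact (Subgroup.mem_centralizer_iff.1 hk a (Set.mem_singleton a)).symm
  -- involutions lift to involutions
  have lift_inv : ∀ g : G, orderOf g = 2 → ∃ x : K, x ^ 2 = 1 ∧ x ≠ 1 ∧ π x = g := by
    intro g hg
    obtain ⟨k, rfl⟩ := hπ g
    have hk2 : π k ^ 2 = 1 := by rw [← hg]; exact pow_orderOf_eq_one _
    have hz : k ^ 2 ∈ Subgroup.center K := by rw [← hkerc, map_pow, hk2]
    have hz3 : (k ^ 2) ^ 3 = 1 := by
      have := Subgroup.orderOf_dvd_natCard (Subgroup.center K) hz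
      rw [hZ] at this
      exact orderOf_dvd_iff_pow_eq_one.1 this
    refine ⟨k ^ 3, ?_, ?_, ?_⟩
    · rw [← pow_mul, show 3 * 2 = 2 * 3 from rfl, pow_mul, hz3]
    · intro h
      have h1 : π k ^ 3 = 1 := by rw [← map_pow, h, map_one]
      have h2 : π k = 1 := by
        have : π k ^ 3 = π k ^ 2 * π k := pow_succ _ 2
        rw [h1, hk2, one_mul] at this
        exact this.symm
      rw [h2, orderOf_one] at hg
      omega
    · rw [map_pow]
      have : π k ^ 3 = π k ^ 2 * π k := pow_succ _ 2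
      rw [this, hk2, one_mul]
  refine ⟨?_, π a, hoa, ?_⟩
  · -- all involutions are conjugate
    intro x y hx hy
    obtain ⟨x', hx2, hx1, rfl⟩ := lift_inv x hx
    obtain ⟨y', hy2, hy1, rfl⟩ := lift_inv y hy
    obtain ⟨g1, hg1⟩ := hconj x' hx2 hx1
    obtain ⟨g2, hg2⟩ := hconj y' hy2 hy1
    rw [isConj_iff]
    refine ⟨π (g2 * g1⁻¹), ?_⟩
    rw [← map_inv, ← map_mul, ← map_mul, ← hg1, ← hg2]
    congr 1
    group
  -- the subgroups of the centraliser
  have hQ'C : E.map π ≤ Subgroup.centralizer ({π a} : Set G) := by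
    rintro _ ⟨e, he, rfl⟩
    exact F2 e (hEC he)
  have hH'C : H.map π ≤ Subgroup.centralizer ({π a} : Set G) := by
    rintro _ ⟨h, hh, rfl⟩
    exact F2 h (hHC hh)
  obtain ⟨Q, hQdef⟩ : ∃ Q : Subgroup ↥(Subgroup.centralizer ({π a} : Set G)),
    Q = (E.map π).subgroupOf _ := ⟨_, rfl⟩
  obtain ⟨HH, hHHdef⟩ : ∃ HH : Subgroup ↥(Subgroup.centralizer ({π a} : Set G)),
    HH = (H.map π).subgroupOf _ := ⟨_, rfl⟩
  have hQmem : ∀ x : ↥(Subgroup.centralizer ({π a} : Set G)), x ∈ Q ↔ ∃ e ∈ E, π e = (x : G) := by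
    intro x
    rw [hQdef, Subgroup.mem_subgroupOf, Subgroup.mem_map]
  have hHHmem : ∀ x : ↥(Subgroup.centralizer ({π a} : Set G)),
      x ∈ HH ↔ ∃ h ∈ H, π h = (x : G) := by
    intro x
    rw [hHHdef, Subgroup.mem_subgroupOf, Subgroup.mem_map]
  have hQnormal : Q.Normal := by
    refine ⟨fun n hn g => ?_⟩
    obtain ⟨e, he, hen⟩ := (hQmem n).1 hn
    obtain ⟨k, hk, hkg⟩ := F1 g g.2
    refine (hQmem _).2 ⟨k * e * k⁻¹, hnorm k hk e he, ?_⟩
    rw [map_mul, map_mul, map_inv, hkg, hen]
    rfl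
  -- cardinalities
  have hQcard : Nat.card Q = 32 := by
    obtain ⟨e2⟩ := mulEquiv_map_of_injOn π E hinjE
    rw [hQdef, Nat.card_congr (Subgroup.subgroupOfEquivOfLe hQ'C).toEquiv,
      ← Nat.card_congr e2.toEquiv, hE]
  have hHHcard : Nat.card HH = 60 := by
    obtain ⟨e2⟩ := mulEquiv_map_of_injOn π H hinjH
    rw [hHHdef, Nat.card_congr (Subgroup.subgroupOfEquivOfLe hH'C).toEquiv,
      ← Nat.card_congr e2.toEquiv, hH]
  have hCGcard : Nat.card ↥(Subgroup.centralizer ({π a} : Set G)) = 1920 := by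
    let ρ : ↥(Subgroup.centralizer ({a} : Set K)) →* G :=
      π.comp (Subgroup.centralizer ({a} : Set K)).subtype
    have hρr : ρ.range = Subgroup.centralizer ({π a} : Set G) := by
      ext g
      constructor
      · rintro ⟨k, rfl⟩
        exact F2 k k.2
      · intro hg
        obtain ⟨k, hk, rfl⟩ := F1 g hg
        exact ⟨⟨k, hk⟩, rfl⟩
    have hρk : ρ.ker = (Subgroup.center K).subgroupOf (Subgroup.centralizer ({a} : Set K)) := by
      ext x
      rw [MonoidHom.mem_ker, Subgroup.mem_subgroupOf]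
      exact hkerc x
    have h3 : Nat.card ρ.ker = 3 := by
      rw [hρk, Nat.card_congr (Subgroup.subgroupOfEquivOfLe
        (Subgroup.center_le_centralizer _)).toEquiv, hZ]
    have h4 := Subgroup.card_mul_index ρ.ker
    rw [Subgroup.index_ker, h3, hCcard, hρr] at h4
    omega
  -- the centre of `Q`
  have hta : π a ∈ Subgroup.centralizer ({π a} : Set G) := (hCmem _).2 rfl
  obtain ⟨tC, htC⟩ : ∃ tC : ↥(Subgroup.centralizer ({π a} : Set G)), (tC : G) = π a :=
    ⟨⟨π a, hta⟩, rfl⟩
  have hotC : orderOf tC = 2 := by rw [← Subgroup.orderOf_coe, htC]; exact hoa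
  have hZ1mem : ∀ x : ↥(Subgroup.centralizer ({π a} : Set G)),
      (x : G) = 1 ∨ (x : G) = π a → x ∈ Subgroup.zpowers tC := by
    intro x hx
    rcases hx with h | h
    · have : x = 1 := Subtype.ext h
      rw [this]
      exact Subgroup.one_mem _
    · have : x = tC := Subtype.ext (h.trans htC.symm)
      rw [this]
      exact Subgroup.mem_zpowers tC
  have hext : Cfsg.IsExtraspecial 2 ↥Q := by
    apply Cfsg.Agent.Helper63.Symp.isExtraspecial_of_data Q (Subgroup.zpowers tC)
    · rw [Subgroup.zpowers_le]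
      exact (hQmem tC).2 ⟨a, haE, htC.symm⟩
    · rw [Nat.card_zpowers, hotC]
    · exact IsPGroup.of_card (n := 5) (by rw [hQcard]; norm_num)
    · intro x hx hxc
      obtain ⟨e, he, hex⟩ := (hQmem x).1 hx
      have h1 : e = 1 ∨ e = a := by
        apply hcen e he
        intro y hy
        apply hinjE _ (E.mul_mem he hy) _ (E.mul_mem hy he)
        have hd : (⟨π y, F2 y (hEC hy)⟩ : ↥(Subgroup.centralizer ({π a} : Set G))) ∈ Q :=
          (hQmem _).2 ⟨y, hy, rfl⟩
        have h2 := congrArg Subtype.val (hxc _ hd)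
        rw [map_mul, map_mul, hex]
        exact h2.symm
      apply hZ1mem
      rcases h1 with rfl | rfl
      · left; rw [← hex, map_one]
      · right; exact hex.symm
    · intro z hz d _
      obtain ⟨n, rfl⟩ := Subgroup.mem_zpowers_iff.1 hz
      have hc : Commute d tC := by
        apply Subtype.ext
        show (d : G) * (tC : G) = (tC : G) * (d : G)
        rw [htC]
        exact (hCmem _).1 d.2
      exact (hc.zpow_right n)
    · intro x hx y hy
      obtain ⟨e1, he1, hex⟩ := (hQmem x).1 hx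
      obtain ⟨e2, he2, hey⟩ := (hQmem y).1 hy
      apply hZ1mem
      have hval : ((x * y * x⁻¹ * y⁻¹ : ↥(Subgroup.centralizer ({π a} : Set G))) : G) =
          π (e1 * e2 * e1⁻¹ * e2⁻¹) := by
        rw [map_mul, map_mul, map_mul, map_inv, map_inv, hex, hey]
        rfl
      rw [hval]
      rcases hcomm e1 he1 e2 he2 with h | h
      · left
        rw [h]
        have : e2 * e1 * e1⁻¹ * e2⁻¹ = 1 := by group
        rw [this, map_one]
      · right
        rw [h]
        have : a * e2 * e1 * e1⁻¹ * e2⁻¹ = a := by group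
        rw [this]
    · intro x hx
      obtain ⟨e, he, hex⟩ := (hQmem x).1 hx
      apply hZ1mem
      have hval : ((x ^ 2 : ↥(Subgroup.centralizer ({π a} : Set G))) : G) = π (e * e) := by
        rw [map_mul, hex, pow_two]
        rfl
      rw [hval]
      rcases hsq e he with h | h
      · left; rw [h, map_one]
      · right; rw [h]
    · classical
      obtain ⟨e, heE, hene⟩ := exists_mem_notMem_finset (E : Set K) {1, a} (by
        have : Nat.card ↥(E : Set K) = 32 := hE
        rw [this]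
        exact lt_of_le_of_lt Finset.card_le_two (by norm_num))
      rw [Finset.mem_insert, Finset.mem_singleton] at hene
      have hnc : ∃ y ∈ E, e * y ≠ y * e := by
        by_contra hcon
        push Not at hcon
        exact hene (hcen e heE hcon)
      obtain ⟨y, hyE, hey⟩ := hnc
      refine ⟨⟨π e, F2 e (hEC heE)⟩, (hQmem _).2 ⟨e, heE, rfl⟩, ⟨π y, F2 y (hEC hyE)⟩,
        (hQmem _).2 ⟨y, hyE, rfl⟩, ?_⟩
      intro h
      apply hey
      apply hinjE _ (E.mul_mem heE hyE) _ (E.mul_mem hyE heE)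
      rw [map_mul, map_mul]
      exact congrArg Subtype.val h
  -- no elementary abelian subgroup of order 8
  have hno8 : ∀ E' : Subgroup ↥Q, Cfsg.IsElementaryAbelian 2 E' → Nat.card E' ≤ 2 ^ 2 := by
    classical
    intro E' hE'
    obtain ⟨hmc, hexp⟩ := hE'
    by_contra hcon
    have hcard' : 4 < Nat.card ↥(E' : Set ↥Q) := by
      have : Nat.card ↥(E' : Set ↥Q) = Nat.card ↥E' := rfl
      rw [this]
      omega
    have hlift : ∀ q : ↥Q, ∃ e ∈ E, π e = ((q : ↥(Subgroup.centralizer ({π a} : Set G))) : G) :=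
      fun q => (hQmem q.1).1 q.2
    choose f hfE hf using hlift
    have hf_inj : ∀ q q' : ↥Q, f q = f q' → q = q' := by
      intro q q' h
      apply Subtype.ext
      apply Subtype.ext
      rw [← hf q, ← hf q', h]
    have hf_mul : ∀ q q' : ↥Q, f (q * q') = f q * f q' := by
      intro q q'
      apply hinjE _ (hfE _) _ (E.mul_mem (hfE _) (hfE _))
      rw [hf, map_mul, hf, hf]
      rfl
    have hf_one : f 1 = 1 := by
      apply hinjE _ (hfE _) _ E.one_mem
      rw [hf, map_one]
      rfl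
    have hf_sq : ∀ q ∈ E', f q * f q = 1 := by
      intro q hq
      rw [← hf_mul, ← pow_two, hexp q hq, hf_one]
    have hf_comm : ∀ q ∈ E', ∀ q' ∈ E', f q * f q' = f q' * f q := by
      intro q hq q' hq'
      rw [← hf_mul, ← hf_mul]
      congr 1
      exact congrArg Subtype.val (hmc.is_comm.comm (⟨q, hq⟩ : ↥E') ⟨q', hq'⟩)
    obtain ⟨x, hxE', hx1⟩ := exists_mem_notMem_finset (E' : Set ↥Q) {1} (by
      rw [Finset.card_singleton]; omega)
    obtain ⟨y, hyE', hy⟩ := exists_mem_notMem_finset (E' : Set ↥Q) {1, x}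
      (lt_of_le_of_lt Finset.card_le_two (by omega))
    obtain ⟨w, hwE', hw⟩ := exists_mem_notMem_finset (E' : Set ↥Q) {1, x, y, x * y}
      (lt_of_le_of_lt Finset.card_le_four hcard')
    rw [Finset.mem_singleton] at hx1
    simp only [Finset.mem_insert, Finset.mem_singleton, not_or] at hy hw
    have key := hnoE8 (f x) (hfE x) (f y) (hfE y) (f w) (hfE w) (hf_sq x hxE') (hf_sq y hyE')
      (hf_sq w hwE') (hf_comm x hxE' y hyE') (hf_comm x hxE' w hwE') (hf_comm y hyE' w hwE')
    rcases key with h | h | h | h | h | h | h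
    · exact hx1 (hf_inj _ _ (h.trans hf_one.symm))
    · exact hy.1 (hf_inj _ _ (h.trans hf_one.symm))
    · exact hy.2 (hf_inj _ _ h)
    · exact hw.1 (hf_inj _ _ (h.trans hf_one.symm))
    · exact hw.2.1 (hf_inj _ _ h)
    · exact hw.2.2.1 (hf_inj _ _ h)
    · exact hw.2.2.2 (hf_inj _ _ (h.trans (hf_mul x y).symm))
  -- the complement
  have hcompl : Q.IsComplement' HH := by
    apply Subgroup.isComplement'_of_card_mul_and_disjoint
    · rw [hQcard, hHHcard, hCGcard]
    · rw [Subgroup.disjoint_def]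
      intro x hxQ hxH
      obtain ⟨e, he, hex⟩ := (hQmem x).1 hxQ
      obtain ⟨h, hh, hhx⟩ := (hHHmem x).1 hxH
      have h1 : e⁻¹ * h ∈ Subgroup.center K := by
        rw [← hker]
        exact (MonoidHom.eq_iff π).1 (hhx.trans hex.symm)
      have h2 : h = 1 := hdisj h hh e he _ h1 (by group)
      apply Subtype.ext
      rw [← hhx, h2, map_one]
      rfl
  -- the quotient
  have hiso : Nonempty (↥(Subgroup.centralizer ({π a} : Set G)) ⧸ Q ≃*
      ↥(alternatingGroup (Fin 5))) := by
    obtain ⟨e4⟩ := mulEquiv_map_of_injOn π H hinjH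
    have e3 : ↥HH ≃* ↥(H.map π) := by
      rw [hHHdef]
      exact Subgroup.subgroupOfEquivOfLe hH'C
    have e5 : Nonempty (↥H ≃* ↥(alternatingGroup (Fin 5))) := by
      subst hHgen
      apply alt5_of_perfect_closure _ hH
      rintro s ⟨j, hj, rfl⟩
      exact hHcomm j hj
    obtain ⟨e5⟩ := e5
    exact ⟨(hcompl.symm.QuotientMulEquiv).trans (e3.trans (e4.symm.trans e5))⟩
  exact ⟨Q, hQnormal, hext, hQcard, hno8, ⟨HH, hcompl⟩, hiso⟩

end

end Cfsg.Agent.Helper98.J3
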