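import Cfsg.Agent.Helper98.J3Inv
import Cfsg.Agent.Helper98.J3Gen

/-!
# An outer automorphism of `3·J₃`

The map `M ↦ Q * M^(2) * Q⁻¹` (entrywise Frobenius followed by a conjugation) preserves the
group generated by `a` and `b`, fixes `b` and inverts the scalars.
-/

set_option autoImplicit false
set_option linter.unusedSectionVars false

namespace Cfsg.Agent.Helper98.J3

open Cfsg.Agent.Helper27

/-- `Q * Q⁻¹ = 1` -/
theorem q_mul_qInv : toMat qCode * toMat qInvCode = 1 := by
  rw [eqMul_spec tau_ok.1, toMat_idCode]

theorem qInv_mul_q : toMat qInvCode * toMat qCode = 1 := mul_eq_one_comm.1 q_mul_qInv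

/-- the semilinear conjugation on matrices -/
noncomputable def theta : Matrix (Fin 9) (Fin 9) GF4 →* Matrix (Fin 9) (Fin 9) GF4 where
  toFun M := toMat qCode * (frobGF4 : GF4 →+* GF4).mapMatrix M * toMat qInvCode
  map_one' := by rw [map_one, mul_one, q_mul_qInv]
  map_mul' M N := by
    rw [map_mul]
    calc toMat qCode * ((frobGF4 : GF4 →+* GF4).mapMatrix M * (frobGF4 : GF4 →+* GF4).mapMatrix N) *
          toMat qInvCode
        = toMat qCode * (frobGF4 : GF4 →+* GF4).mapMatrix M * 1 *
            (frobGF4 : GF4 →+* GF4).mapMatrix N * toMat qInvCode := by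
          rw [mul_one]; simp only [mul_assoc]
      _ = _ := by rw [← qInv_mul_q]; simp only [mul_assoc]

theorem theta_apply (M : Matrix (Fin 9) (Fin 9) GF4) :
    theta M = toMat qCode * (frobGF4 : GF4 →+* GF4).mapMatrix M * toMat qInvCode := rfl

theorem theta_injective : Function.Injective theta := by
  intro M N h
  rw [theta_apply, theta_apply] at h
  have h1 := congrArg (fun X => toMat qInvCode * X * toMat qCode) h
  simp only [mul_assoc, qInv_mul_q, mul_one] at h1
  simp only [← mul_assoc, qInv_mul_q, one_mul] at h1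
  exact Matrix.map_injective frobGF4.injective h1

/-- `theta` on a code whose Frobenius image is known -/
theorem theta_code {c cf d : ℕ}
    (hf : ∀ i j : Fin 9, decide (toMat cf i j = toMat c i j * toMat c i j) = true)
    (h : eqProd qCode cf d qCode = true) : theta (toMat c) = toMat d := by
  have h1 : (frobGF4 : GF4 →+* GF4).mapMatrix (toMat c) = toMat cf := by
    ext i j
    rw [RingHom.mapMatrix_apply, Matrix.map_apply, of_decide_eq_true (hf i j)]
    rfl
  rw [theta_apply, h1, eqProd_spec h, mul_assoc, q_mul_qInv, mul_one]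

theorem theta_a : theta (toMat aCode) = toMat atauCode := theta_code frob_a tau_ok.2.1

theorem theta_b : theta (toMat bCode) = toMat bCode := theta_code frob_b tau_ok.2.2.1

theorem theta_w : theta (toMat wICode) = toMat w2ICode := theta_code frob_w tau_ok.2.2.2

section

variable {K : Type*} [Group K] [Finite K] {φ : K →* Matrix (Fin 9) (Fin 9) GF4}

/-- the elements `n` and `τ(a)` of the group -/
theorem elementsO {a b : K} (ha : φ a = toMat aCode) (hb : φ b = toMat bCode) :
    (∃ n : K, φ n = toMat nCode) ∧ (∃ ta : K, φ ta = toMat atauCode) := by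
  obtain ⟨f0, f1, f2, f3, f4, f5⟩ := slpO_facts
  have key := rep_of_slp (φ := φ) (S := ⊤) slpO_ok (by
    intro k hk
    interval_cases k
    · rw [f0]; exact ⟨a, Subgroup.mem_top _, ha⟩
    · rw [f1]; exact ⟨b, Subgroup.mem_top _, hb⟩)
  obtain ⟨n, -, en⟩ := key ixO_n f4
  obtain ⟨t, -, et⟩ := key ixO_atau f5
  rw [f2] at en
  rw [f3] at et
  exact ⟨⟨n, en⟩, ⟨t, et⟩⟩

/-- `theta` preserves the group -/
theorem theta_mem {a b : K} (ha : φ a = toMat aCode) (hb : φ b = toMat bCode)
    (hgen : Subgroup.closure {a, b} = (⊤ : Subgroup K)) (g : K) :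
    ∃ g' : K, φ g' = theta (φ g) := by
  obtain ⟨-, ⟨ta, hta⟩⟩ := elementsO ha hb
  have hg : g ∈ Subgroup.closure ({a, b} : Set K) := by rw [hgen]; exact Subgroup.mem_top g
  revert hg
  refine closure_left_induction ({a, b} : Set K) (fun g => ∃ g' : K, φ g' = theta (φ g)) ?_ ?_ g
  · exact ⟨1, by rw [map_one, map_one]⟩
  · intro s hs y ⟨y', hy'⟩
    rcases hs with rfl | hs
    · exact ⟨ta * y', by rw [map_mul, map_mul, map_mul, hy', hta, ha, theta_a]⟩
    · rw [Set.mem_singleton_iff] at hs
      subst hs
      exact ⟨s * y', by rw [map_mul, map_mul, map_mul, hy', hb, theta_b]⟩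

/-- the automorphism of the group induced by `theta` -/
theorem exists_tauK (hφ : Function.Injective φ) {a b : K} (ha : φ a = toMat aCode)
    (hb : φ b = toMat bCode) (hgen : Subgroup.closure {a, b} = (⊤ : Subgroup K)) :
    ∃ τ : K ≃* K, ∀ g, φ (τ g) = theta (φ g) := by
  choose f hf using theta_mem ha hb hgen
  let τ0 : K →* K :=
    { toFun := f
      map_one' := by
        apply hφ
        rw [hf, map_one, map_one]
      map_mul' := fun x y => by
        apply hφ
        rw [hf, map_mul, map_mul, map_mul, hf, hf] }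
  have hinj : Function.Injective τ0 := by
    intro x y h
    apply hφ
    apply theta_injective
    have h1 : f x = f y := h
    rw [← hf, ← hf, h1]
  have hbij : Function.Bijective τ0 := Finite.injective_iff_bijective.1 hinj
  exact ⟨MulEquiv.ofBijective τ0 hbij, fun g => hf g⟩

end

end Cfsg.Agent.Helper98.J3
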