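import Cfsg.Agent.Helper98.J3Lev

/-!
# Tables split into chunks: closure checks and the resulting subgroup
-/

set_option autoImplicit false

namespace Cfsg.Agent.Helper98.J3

open Cfsg.Agent.Helper27

theorem chk_lt (chunks : List ℕ) (cs i : ℕ) : chk chunks cs i < 2 ^ 162 := fld_lt _ _ _

/-- a chunked table of `n` codes closed under left multiplication by `gens`, with a spanning
tree -/
def tblOKc (gens chunks : List ℕ) (cs n w : ℕ) (perms : List ℕ) (par pgen lo len : ℕ) : Bool :=
  (List.range' lo len).all fun i =>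
    withNat (chk chunks cs i) fun A =>
      ((List.range gens.length).all fun g =>
        withNat (fld (perms.getD g 0) w i) fun j =>
          decide (j < n) && withNat (chk chunks cs j) fun B => eqMul (gens.getD g 0) A B) &&
      (i == 0 || (withNat (fld par w i) fun p => withNat (fld pgen 4 i) fun g =>
        decide (p < i) && decide (g < gens.length) && (fld (perms.getD g 0) w p == i)))

theorem tblOKc_spec {gens chunks : List ℕ} {cs n w : ℕ} {perms : List ℕ} {par pgen lo len : ℕ}
    (h : tblOKc gens chunks cs n w perms par pgen lo len = true) (i : ℕ) (h1 : lo ≤ i)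
    (h2 : i < lo + len) :
    (∀ g < gens.length, fld (perms.getD g 0) w i < n ∧
      toMat (gens.getD g 0) * toMat (chk chunks cs i) =
        toMat (chk chunks cs (fld (perms.getD g 0) w i))) ∧
    (i ≠ 0 → fld par w i < i ∧ fld pgen 4 i < gens.length ∧
      fld (perms.getD (fld pgen 4 i) 0) w (fld par w i) = i) := by
  simp only [tblOKc, List.all_eq_true, List.mem_range'_1, withNat_eq, Bool.and_eq_true,
    decide_eq_true_eq, List.mem_range, Bool.or_eq_true, beq_iff_eq] at h
  obtain ⟨h3, h4⟩ := h i ⟨h1, h2⟩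
  refine ⟨fun g hg => ⟨(h3 g hg).1, eqMul_spec (h3 g hg).2⟩, fun hi => ?_⟩
  rcases h4 with h4 | h4
  · exact absurd h4 hi
  · exact ⟨h4.1.1, h4.1.2, h4.2⟩

/-- the codes of a chunked table are strictly increasing along `sig` -/
def sortedOKc (chunks : List ℕ) (cs n w sig lo len : ℕ) : Bool :=
  (List.range' lo len).all fun k =>
    withNat (fld sig w k) fun a => withNat (fld sig w (k + 1)) fun b =>
      decide (a < n) && decide (b < n) && decide (chk chunks cs a < chk chunks cs b)

theorem sortedOKc_spec {chunks : List ℕ} {cs n w sig lo len : ℕ}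
    (h : sortedOKc chunks cs n w sig lo len = true) (k : ℕ) (h1 : lo ≤ k) (h2 : k < lo + len) :
    fld sig w k < n ∧ fld sig w (k + 1) < n ∧
      chk chunks cs (fld sig w k) < chk chunks cs (fld sig w (k + 1)) := by
  simp only [sortedOKc, List.all_eq_true, List.mem_range'_1, withNat_eq, Bool.and_eq_true,
    decide_eq_true_eq] at h
  obtain ⟨⟨h3, h4⟩, h5⟩ := h k ⟨h1, h2⟩
  exact ⟨h3, h4, h5⟩

variable {K : Type*} [Group K] {φ : K →* Matrix (Fin 9) (Fin 9) GF4}

/-- A table closed under left multiplication by generators describes the generated subgroup. -/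
theorem table_level_f [Finite K] (acc : ℕ → ℕ) (n : ℕ) (gens : List ℕ) (perm : ℕ → ℕ → ℕ)
    (par pgen : ℕ → ℕ)
    (hspec : ∀ i < n, (∀ g < gens.length, perm g i < n ∧
        toMat (gens.getD g 0) * toMat (acc i) = toMat (acc (perm g i))) ∧
      (i ≠ 0 → par i < i ∧ pgen i < gens.length ∧ perm (pgen i) (par i) = i))
    (h0 : acc 0 = idCode) (hn : 0 < n)
    (gs : ℕ → K) (hgs : ∀ j < gens.length, φ (gs j) = toMat (gens.getD j 0)) :
    (∀ g ∈ Subgroup.closure {g : K | ∃ j < gens.length, g = gs j},
      ∃ c < n, φ g = toMat (acc c)) ∧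
    (∀ c < n, Rep φ (Subgroup.closure {g : K | ∃ j < gens.length, g = gs j}) (acc c)) := by
  constructor
  · apply closure_left_induction
    · exact ⟨0, hn, by rw [map_one, h0, toMat_idCode]⟩
    · rintro s ⟨j, hj, rfl⟩ y ⟨c, hc, e⟩
      obtain ⟨h1, h2⟩ := (hspec c hc).1 j hj
      exact ⟨_, h1, by rw [map_mul, e, hgs j hj, h2]⟩
  · intro c
    induction c using Nat.strong_induction_on with
    | _ c ih =>
      intro hc
      rcases Nat.eq_zero_or_pos c with rfl | hpos
      · rw [h0]; exact Rep.one φ _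
      · obtain ⟨h3, h4, h5⟩ := (hspec c hc).2 (by omega)
        have hp : par c < n := by omega
        obtain ⟨-, h2⟩ := (hspec _ hp).1 _ h4
        rw [h5] at h2
        exact Rep.mul ⟨gs _, Subgroup.subset_closure ⟨_, h4, rfl⟩, hgs _ h4⟩ (ih _ h3 hp) h2

/-- the order of a group described by a table with pairwise distinct codes -/
theorem table_card_f [Finite K] (hφ : Function.Injective φ) (acc : ℕ → ℕ) (n : ℕ)
    (hlt : ∀ i, acc i < 2 ^ 162) (hinj : ∀ i j, i < n → j < n → acc i = acc j → i = j)
    (S : Subgroup K) (h1 : ∀ g ∈ S, ∃ c < n, φ g = toMat (acc c))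
    (h2 : ∀ c < n, Rep φ S (acc c)) : Nat.card S = n := by
  let f : Fin n → S := fun c => ⟨Classical.choose (h2 c.val c.isLt),
    (Classical.choose_spec (h2 c.val c.isLt)).1⟩
  have hf : ∀ c : Fin n, φ (f c : K) = toMat (acc c.val) :=
    fun c => (Classical.choose_spec (h2 c.val c.isLt)).2
  have hbij : Function.Bijective f := by
    constructor
    · intro c d hcd
      have h3 : toMat (acc c.val) = toMat (acc d.val) := by
        rw [← hf c, ← hf d, hcd]
      exact Fin.ext (hinj _ _ c.isLt d.isLt (toMat_inj (hlt _) (hlt _) h3))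
    · rintro ⟨g, hg⟩
      obtain ⟨c, hc, e⟩ := h1 g hg
      refine ⟨⟨c, hc⟩, ?_⟩
      apply Subtype.ext
      apply hφ
      rw [hf ⟨c, hc⟩, e]
  rw [← Nat.card_eq_of_bijective f hbij, Nat.card_fin]

end Cfsg.Agent.Helper98.J3
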