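import Cfsg.Agent.Helper7.M24Stab
import Cfsg.Agent.Helper27.GF4
import Cfsg.Agent.Helper5.SLn

/-!
# The three-point stabiliser of `M24` and `PSL(3, 4)`

An explicit identification of the 21 points of the projective plane over `GF4` with the 21 points
of `GolayPt` other than `0, 1, 2`, such that the induced action of `SL(3, GF4)` preserves the code.
-/

set_option autoImplicit false

namespace Cfsg.Agent.Helper98.M21

open Cfsg Cfsg.Agent.Helper27 Cfsg.Agent.Helper7
open scoped LinearAlgebra.Projectivization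

/-- index (in `0..23`) of the point of the plane spanned by a vector; `0` for the zero vector -/
def codeT : GF4 → GF4 → GF4 → ℕ
  | .z, .z, .z => 0
  | .z, .z, .o => 3
  | .z, .z, .w => 3
  | .z, .z, .w2 => 3
  | .z, .o, .z => 4
  | .z, .o, .o => 7
  | .z, .o, .w => 10
  | .z, .o, .w2 => 12
  | .z, .w, .z => 4
  | .z, .w, .o => 12
  | .z, .w, .w => 7
  | .z, .w, .w2 => 10
  | .z, .w2, .z => 4
  | .z, .w2, .o => 10
  | .z, .w2, .w => 12
  | .z, .w2, .w2 => 7
  | .o, .z, .z => 5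
  | .o, .z, .o => 14
  | .o, .z, .w => 17
  | .o, .z, .w2 => 23
  | .o, .o, .z => 18
  | .o, .o, .o => 20
  | .o, .o, .w => 21
  | .o, .o, .w2 => 13
  | .o, .w, .z => 9
  | .o, .w, .o => 6
  | .o, .w, .w => 11
  | .o, .w, .w2 => 22
  | .o, .w2, .z => 19
  | .o, .w2, .o => 8
  | .o, .w2, .w => 15
  | .o, .w2, .w2 => 16
  | .w, .z, .z => 5
  | .w, .z, .o => 23
  | .w, .z, .w => 14
  | .w, .z, .w2 => 17
  | .w, .o, .z => 19
  | .w, .o, .o => 16
  | .w, .o, .w => 8
  | .w, .o, .w2 => 15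
  | .w, .w, .z => 18
  | .w, .w, .o => 13
  | .w, .w, .w => 20
  | .w, .w, .w2 => 21
  | .w, .w2, .z => 9
  | .w, .w2, .o => 22
  | .w, .w2, .w => 6
  | .w, .w2, .w2 => 11
  | .w2, .z, .z => 5
  | .w2, .z, .o => 17
  | .w2, .z, .w => 23
  | .w2, .z, .w2 => 14
  | .w2, .o, .z => 9
  | .w2, .o, .o => 11
  | .w2, .o, .w => 22
  | .w2, .o, .w2 => 6
  | .w2, .w, .z => 19
  | .w2, .w, .o => 15
  | .w2, .w, .w => 16
  | .w2, .w, .w2 => 8
  | .w2, .w2, .z => 18
  | .w2, .w2, .o => 21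
  | .w2, .w2, .w => 13
  | .w2, .w2, .w2 => 20

def vecOf : ℕ → Fin 3 → GF4
  | 3 => ![.z, .z, .o]
  | 4 => ![.z, .o, .z]
  | 5 => ![.o, .z, .z]
  | 6 => ![.o, .w, .o]
  | 7 => ![.z, .o, .o]
  | 8 => ![.o, .w2, .o]
  | 9 => ![.o, .w, .z]
  | 10 => ![.z, .o, .w]
  | 11 => ![.o, .w, .w]
  | 12 => ![.z, .o, .w2]
  | 13 => ![.o, .o, .w2]
  | 14 => ![.o, .z, .o]
  | 15 => ![.o, .w2, .w]
  | 16 => ![.o, .w2, .w2]
  | 17 => ![.o, .z, .w]
  | 18 => ![.o, .o, .z]
  | 19 => ![.o, .w2, .z]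
  | 20 => ![.o, .o, .o]
  | 21 => ![.o, .o, .w]
  | 22 => ![.o, .w, .w2]
  | 23 => ![.o, .z, .w2]
  | _ => ![.z, .z, .z]


/-- Golay index of the projective point of a vector -/
def code (v : Fin 3 → GF4) : ℕ := codeT (v 0) (v 1) (v 2)

theorem codeT_smul : ∀ t a b c : GF4, t ≠ 0 → codeT (t * a) (t * b) (t * c) = codeT a b c := by
  decide

theorem code_smul (t : GF4) (ht : t ≠ 0) (v : Fin 3 → GF4) : code (t • v) = code v := by
  simp only [code, Pi.smul_apply, smul_eq_mul]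
  exact codeT_smul t _ _ _ ht

theorem codeT_range : ∀ a b c : GF4, (a ≠ 0 ∨ b ≠ 0 ∨ c ≠ 0) →
    3 ≤ codeT a b c ∧ codeT a b c < 24 := by decide

theorem ne_zero_iff (v : Fin 3 → GF4) : v ≠ 0 ↔ (v 0 ≠ 0 ∨ v 1 ≠ 0 ∨ v 2 ≠ 0) := by
  constructor
  · intro h
    by_contra hc
    push Not at hc
    apply h
    ext i
    fin_cases i
    · exact hc.1
    · exact hc.2.1
    · exact hc.2.2
  · rintro h rfl
    simp at h

theorem code_range {v : Fin 3 → GF4} (hv : v ≠ 0) : 3 ≤ code v ∧ code v < 24 :=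
  codeT_range _ _ _ ((ne_zero_iff v).1 hv)

set_option maxRecDepth 100000 in
theorem codeT_inj : ∀ a b c a' b' c' : GF4, (a ≠ 0 ∨ b ≠ 0 ∨ c ≠ 0) → (a' ≠ 0 ∨ b' ≠ 0 ∨ c' ≠ 0) →
    codeT a b c = codeT a' b' c' → ∃ t : GF4, a = t * a' ∧ b = t * b' ∧ c = t * c' := by
  decide +kernel

theorem vecOf_codeT : ∀ a b c : GF4, (a ≠ 0 ∨ b ≠ 0 ∨ c ≠ 0) →
    ∃ t : GF4, t ≠ 0 ∧ vecOf (codeT a b c) 0 = t * a ∧ vecOf (codeT a b c) 1 = t * b ∧
      vecOf (codeT a b c) 2 = t * c := by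
  decide +kernel

theorem vecOf_code {v : Fin 3 → GF4} (hv : v ≠ 0) : ∃ t : GF4, t ≠ 0 ∧ vecOf (code v) = t • v := by
  obtain ⟨t, ht, h0, h1, h2⟩ := vecOf_codeT _ _ _ ((ne_zero_iff v).1 hv)
  refine ⟨t, ht, ?_⟩
  ext i
  fin_cases i
  · exact h0
  · exact h1
  · exact h2

theorem code_vecOf_aux : ∀ k < 24, 3 ≤ k → code (vecOf k) = k ∧
    (vecOf k 0 ≠ 0 ∨ vecOf k 1 ≠ 0 ∨ vecOf k 2 ≠ 0) := by
  decide +kernel

theorem code_vecOf {k : ℕ} (h3 : 3 ≤ k) (h24 : k < 24) : code (vecOf k) = k ∧ vecOf k ≠ 0 :=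
  ⟨(code_vecOf_aux k h24 h3).1, (ne_zero_iff _).2 (code_vecOf_aux k h24 h3).2⟩

/-- the point of `GolayPt` attached to a nonzero vector -/
def f (v : {v : Fin 3 → GF4 // v ≠ 0}) : GolayPt := pt (code v.1)

theorem f_smul (a b : {v : Fin 3 → GF4 // v ≠ 0}) (t : GF4)
    (h : (a : Fin 3 → GF4) = t • (b : Fin 3 → GF4)) : f a = f b := by
  have ht : t ≠ 0 := by
    rintro rfl
    exact a.2 (by rw [h, zero_smul])
  unfold f
  rw [h, code_smul t ht]

/-- the embedding of the projective plane into the 24 points, as a function -/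
def embFun : ℙ GF4 (Fin 3 → GF4) → GolayPt := Projectivization.lift f f_smul

theorem embFun_mk (v : Fin 3 → GF4) (hv : v ≠ 0) :
    embFun (Projectivization.mk GF4 v hv) = pt (code v) := rfl

theorem embFun_injective : Function.Injective embFun := by
  intro x y
  induction x using Projectivization.ind with | _ v hv =>
  induction y using Projectivization.ind with | _ w hw =>
  intro h
  rw [embFun_mk, embFun_mk] at h
  have hv' := (ne_zero_iff v).1 hv
  have hw' := (ne_zero_iff w).1 hw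
  have h1 := code_range hv
  have h2 := code_range hw
  have h3 : code v = code w := pt_injOn h1.2 h2.2 h
  obtain ⟨t, e0, e1, e2⟩ := codeT_inj _ _ _ _ _ _ hv' hw' h3
  rw [Projectivization.mk_eq_mk_iff']
  refine ⟨t, ?_⟩
  ext i
  fin_cases i
  · exact e0.symm
  · exact e1.symm
  · exact e2.symm

/-- the embedding of the projective plane into the 24 points -/
def emb : ℙ GF4 (Fin 3 → GF4) ↪ GolayPt := ⟨embFun, embFun_injective⟩

theorem emb_mk (v : Fin 3 → GF4) (hv : v ≠ 0) :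
    emb (Projectivization.mk GF4 v hv) = pt (code v) := rfl

theorem pt_not_mem_range {k : ℕ} (hk : k < 3) : pt k ∉ Set.range emb := by
  rintro ⟨x, hx⟩
  induction x using Projectivization.ind with | _ v hv =>
  rw [emb_mk] at hx
  have h1 := code_range hv
  have := pt_injOn h1.2 (by omega) hx
  omega

/-- the action of `PSL(3, GF4)` on the 24 points -/
noncomputable def act : Matrix.ProjectiveSpecialLinearGroup (Fin 3) GF4 →* Equiv.Perm GolayPt :=
  (Equiv.Perm.viaEmbeddingHom emb).comp Projectivization.PSLAction.toPermHom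

theorem act_injective : Function.Injective act :=
  (Equiv.Perm.viaEmbeddingHom_injective emb).comp
    Matrix.ProjectiveSpecialLinearGroup.toPermHom_injective

theorem act_mk_pt_code (A : Matrix.SpecialLinearGroup (Fin 3) GF4) (v : Fin 3 → GF4) (hv : v ≠ 0) :
    act (QuotientGroup.mk A) (pt (code v)) = pt (code (A.1.mulVec v)) := by
  rw [← emb_mk v hv]
  show Equiv.Perm.viaEmbedding _ emb (emb _) = _
  rw [Equiv.Perm.viaEmbedding_apply]
  show emb (A • Projectivization.mk GF4 v hv) = _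
  rw [Projectivization.smul_mk, emb_mk]
  rfl

theorem act_mk_pt_lt (A : Matrix.SpecialLinearGroup (Fin 3) GF4) {k : ℕ} (hk : k < 3) :
    act (QuotientGroup.mk A) (pt k) = pt k := by
  show Equiv.Perm.viaEmbedding _ emb _ = _
  exact Equiv.Perm.viaEmbedding_apply_of_notMem _ _ _ (pt_not_mem_range hk)

/-- the action on indices -/
def actIdx (M : Matrix (Fin 3) (Fin 3) GF4) (k : ℕ) : ℕ :=
  if k < 3 then k else code (fun i => M i 0 * vecOf k 0 + M i 1 * vecOf k 1 + M i 2 * vecOf k 2)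

/-- the table of the action of a matrix -/
def tab (M : Matrix (Fin 3) (Fin 3) GF4) : List ℕ := (List.range 24).map (actIdx M)

theorem mulVec_eq (M : Matrix (Fin 3) (Fin 3) GF4) (v : Fin 3 → GF4) :
    M.mulVec v = fun i => M i 0 * v 0 + M i 1 * v 1 + M i 2 * v 2 := by
  ext i
  simp [Matrix.mulVec, dotProduct, Fin.sum_univ_three]

theorem tab_getD (M : Matrix (Fin 3) (Fin 3) GF4) {k : ℕ} (hk : k < 24) :
    (tab M).getD k 0 = actIdx M k := by
  have hk' : k < (tab M).length := by simp [tab, hk]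
  rw [List.getD_eq_getElem _ _ hk']
  simp [tab]

theorem isTable_act (A : Matrix.SpecialLinearGroup (Fin 3) GF4) :
    IsTable (tab A.1) (act (QuotientGroup.mk A)) := by
  refine ⟨by simp [tab], fun p => ?_⟩
  have hp := idx_lt p
  rw [tab_getD _ hp]
  by_cases h3 : idx p < 3
  · have : p = pt (idx p) := (pt_idx p).symm
    rw [this, act_mk_pt_lt A h3, idx_pt hp, actIdx, if_pos h3]
  · have h3' : 3 ≤ idx p := by omega
    obtain ⟨hc, hv⟩ := code_vecOf h3' hp
    have hpp : p = pt (code (vecOf (idx p))) := by rw [hc, pt_idx]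
    rw [actIdx, if_neg h3]
    conv_lhs => rw [hpp]
    rw [act_mk_pt_code A _ hv, mulVec_eq]
    have hne : A.1.mulVec (vecOf (idx p)) ≠ 0 := by
      intro h0
      apply hv
      have := congrArg (fun w => (A⁻¹ : Matrix.SpecialLinearGroup (Fin 3) GF4).1.mulVec w) h0
      simp only [Matrix.mulVec_mulVec, Matrix.mulVec_zero] at this
      rw [← Matrix.SpecialLinearGroup.coe_mul, inv_mul_cancel] at this
      simpa using this
    rw [mulVec_eq] at hne
    exact idx_pt (code_range hne).2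

end Cfsg.Agent.Helper98.M21
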