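import Cfsg.Agent.Helper98.M21
import Cfsg.Agent.Helper56.PSLCongr
import Cfsg.Agent.S0243

/-!
# The three-point stabiliser of `M24` is `PSL(3, 4)`
-/

set_option autoImplicit false

namespace Cfsg.Agent.Helper98.M21

open Cfsg Cfsg.Agent.Helper27 Cfsg.Agent.Helper7

/-- explicit transvection matrix -/
def tmat (i j : Fin 3) (a : GF4) : Matrix (Fin 3) (Fin 3) GF4 :=
  fun r s => if r = s then 1 else if r = i ∧ s = j then a else 0

theorem transvection_eq {i j : Fin 3} (hij : i ≠ j) (a : GF4) :
    (Matrix.SpecialLinearGroup.transvection hij a).1 = tmat i j a := by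
  show Matrix.transvection i j a = tmat i j a
  ext r s
  simp only [Matrix.transvection, Matrix.add_apply, Matrix.one_apply, Matrix.single_apply, tmat]
  by_cases hrs : r = s
  · subst hrs
    have : ¬ (i = r ∧ j = r) := by
      rintro ⟨h1, h2⟩
      exact hij (h1.trans h2.symm)
    simp [this]
  · by_cases h : r = i ∧ s = j
    · obtain ⟨rfl, rfl⟩ := h
      simp [hrs]
    · have h' : ¬ (i = r ∧ j = s) := fun ⟨h1, h2⟩ => h ⟨h1.symm, h2.symm⟩
      simp [hrs, h, h']

set_option maxRecDepth 100000 in
set_option maxHeartbeats 0 in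
theorem tmat_check : ∀ i j : Fin 3, i ≠ j → ∀ a : GF4, ∀ x ∈ gmasks,
    enc (pullMask (tab (tmat i j a)) x % 4096) = pullMask (tab (tmat i j a)) x := by
  decide +kernel

theorem act_mk_mem_M24 (g : Matrix.SpecialLinearGroup (Fin 3) GF4) :
    act (QuotientGroup.mk g) ∈ M24 := by
  refine Cfsg.Agent.Helper5.transvection_induction (fun g => act (QuotientGroup.mk g) ∈ M24) ?_ ?_ g
  · intro i j hij a
    apply mem_M24_of_isTable (isTable_act _)
    rw [transvection_eq hij a]
    exact tmat_check i j hij a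
  · intro A B hA hB
    show act (QuotientGroup.mk (A * B)) ∈ M24
    rw [QuotientGroup.mk_mul, map_mul]
    exact M24.mul_mem hA hB

theorem act_mem_fixG (x : Matrix.ProjectiveSpecialLinearGroup (Fin 3) GF4) :
    act x ∈ fixG M24 [2, 1, 0] := by
  obtain ⟨g, rfl⟩ := QuotientGroup.mk_surjective x
  refine ⟨act_mk_mem_M24 g, ?_⟩
  intro i hi
  have : i < 3 := by
    simp only [List.mem_cons, List.not_mem_nil, or_false] at hi
    omega
  exact act_mk_pt_lt g this

theorem card_psl : Nat.card (Matrix.ProjectiveSpecialLinearGroup (Fin 3) GF4) = 20160 := by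
  have := Cfsg.Agent.S0243.result (F := GF4) (q := 4) GF4.card_eq 3 (by norm_num)
  rw [Fin.prod_univ_three] at this
  generalize Nat.card (Matrix.ProjectiveSpecialLinearGroup (Fin 3) GF4) = N at this ⊢
  norm_num at this
  omega

theorem range_act : act.range = fixG M24 [2, 1, 0] := by
  apply Subgroup.eq_of_le_of_card_ge
  · rintro _ ⟨x, rfl⟩
    exact act_mem_fixG x
  · rw [card_fixG_m24_3, Nat.card_congr (MonoidHom.ofInjective act_injective).toEquiv.symm,
      card_psl]

theorem nonempty_equiv :
    Nonempty (fixG M24 [2, 1, 0] ≃* Matrix.ProjectiveSpecialLinearGroup (Fin 3) GF4) :=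
  ⟨((MonoidHom.ofInjective act_injective).trans (MulEquiv.subgroupCongr range_act)).symm⟩

end Cfsg.Agent.Helper98.M21
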