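import Mathlib
import Cfsg.Agent.Helper27.GF4

/-!
A flat encoding of `3 × 3` matrices over `GF4`, for kernel-evaluated exhaustive checks over `SL_3(4)`.
-/

set_option autoImplicit false
open Cfsg.Agent.Helper27

namespace Cfsg.Agent.Helper98

/-- `3 × 3` matrices over `GF4` as a flat structure. -/
structure M9 where
  /-- entry -/
  a11 : GF4
  /-- entry -/
  a12 : GF4
  /-- entry -/
  a13 : GF4
  /-- entry -/
  a21 : GF4
  /-- entry -/
  a22 : GF4
  /-- entry -/
  a23 : GF4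
  /-- entry -/
  a31 : GF4
  /-- entry -/
  a32 : GF4
  /-- entry -/
  a33 : GF4

namespace M9

/-- matrix product -/
def mul (x y : M9) : M9 :=
  ⟨GF4.add (GF4.add (GF4.mul x.a11 y.a11) (GF4.mul x.a12 y.a21)) (GF4.mul x.a13 y.a31),
   GF4.add (GF4.add (GF4.mul x.a11 y.a12) (GF4.mul x.a12 y.a22)) (GF4.mul x.a13 y.a32),
   GF4.add (GF4.add (GF4.mul x.a11 y.a13) (GF4.mul x.a12 y.a23)) (GF4.mul x.a13 y.a33),
   GF4.add (GF4.add (GF4.mul x.a21 y.a11) (GF4.mul x.a22 y.a21)) (GF4.mul x.a23 y.a31),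
   GF4.add (GF4.add (GF4.mul x.a21 y.a12) (GF4.mul x.a22 y.a22)) (GF4.mul x.a23 y.a32),
   GF4.add (GF4.add (GF4.mul x.a21 y.a13) (GF4.mul x.a22 y.a23)) (GF4.mul x.a23 y.a33),
   GF4.add (GF4.add (GF4.mul x.a31 y.a11) (GF4.mul x.a32 y.a21)) (GF4.mul x.a33 y.a31),
   GF4.add (GF4.add (GF4.mul x.a31 y.a12) (GF4.mul x.a32 y.a22)) (GF4.mul x.a33 y.a32),
   GF4.add (GF4.add (GF4.mul x.a31 y.a13) (GF4.mul x.a32 y.a23)) (GF4.mul x.a33 y.a33)⟩

/-- determinant (characteristic 2) -/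
def det (x : M9) : GF4 :=
  GF4.add (GF4.add
    (GF4.mul x.a11 (GF4.add (GF4.mul x.a22 x.a33) (GF4.mul x.a23 x.a32)))
    (GF4.mul x.a12 (GF4.add (GF4.mul x.a21 x.a33) (GF4.mul x.a23 x.a31))))
    (GF4.mul x.a13 (GF4.add (GF4.mul x.a21 x.a32) (GF4.mul x.a22 x.a31)))

/-- test for scalar matrices -/
def isScalar (x : M9) : Bool :=
  decide (x.a12 = GF4.z) && decide (x.a13 = GF4.z) && decide (x.a21 = GF4.z) &&
  decide (x.a23 = GF4.z) && decide (x.a31 = GF4.z) && decide (x.a32 = GF4.z) &&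
  decide (x.a11 = x.a22) && decide (x.a22 = x.a33)

/-- the check: `det x = 1` and `x ^ 15` scalar imply `x ^ 5` scalar or `x ^ 3` scalar -/
def check (x : M9) : Bool :=
  if x.det = GF4.o then
    let x2 := mul x x
    let x3 := mul x2 x
    let x5 := mul x3 x2
    let x10 := mul x5 x5
    let x15 := mul x10 x5
    !(isScalar x15) || isScalar x5 || isScalar x3
  else true

end M9

/-- all elements of `GF4` -/
def allGF4 : List GF4 := [GF4.z, GF4.o, GF4.w, GF4.w2]

/-- the check over all matrices with given first two entries -/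
def checkRow (a11 a12 : GF4) : Bool :=
  allGF4.all fun a13 =>
  allGF4.all fun a21 => allGF4.all fun a22 => allGF4.all fun a23 =>
  allGF4.all fun a31 => allGF4.all fun a32 => allGF4.all fun a33 =>
    M9.check ⟨a11, a12, a13, a21, a22, a23, a31, a32, a33⟩

end Cfsg.Agent.Helper98
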