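import Cfsg.Agent.Helper98.M9

/-!
Kernel-evaluated exhaustive check, first entry `o`.
-/

set_option autoImplicit false
open Cfsg.Agent.Helper27

namespace Cfsg.Agent.Helper98

set_option maxHeartbeats 0 in
theorem checkRow_o_z : checkRow GF4.o GF4.z = true := by decide +kernel

set_option maxHeartbeats 0 in
theorem checkRow_o_o : checkRow GF4.o GF4.o = true := by decide +kernel

set_option maxHeartbeats 0 in
theorem checkRow_o_w : checkRow GF4.o GF4.w = true := by decide +kernel

set_option maxHeartbeats 0 in
theorem checkRow_o_w2 : checkRow GF4.o GF4.w2 = true := by decide +kernel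

end Cfsg.Agent.Helper98
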