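import Mathlib

/-!
A finite group with a normal subgroup whose quotient is the quaternion group `Q_8` does not have a
complemented subgroup lattice.
-/

set_option autoImplicit false

namespace Cfsg.Agent.Helper98

theorem quaternion_involution_unique : ∀ g : QuaternionGroup 2, g ^ 2 = 1 → g = 1 ∨ g = QuaternionGroup.a 2 := by
  decide

/-- If `G / N ≅ Q_8` then the subgroup lattice of `G` is not complemented. -/
theorem not_complementedLattice_of_quotient_quaternion {G : Type*} [Group G] [Finite G]
    (N : Subgroup G) [N.Normal] (ψ : G ⧸ N ≃* QuaternionGroup 2) :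
    ¬ ComplementedLattice (Subgroup G) := by
  classical
  intro hcl
  have : Fact (Nat.Prime 2) := ⟨Nat.prime_two⟩
  -- the involution of the quotient
  set zb : G ⧸ N := ψ.symm (QuaternionGroup.a 2) with hzb
  have hzb2 : zb ^ 2 = 1 := by
    rw [hzb, ← map_pow]
    have : (QuaternionGroup.a 2 : QuaternionGroup 2) ^ 2 = 1 := by decide
    rw [this, map_one]
  have hzb1 : zb ≠ 1 := by
    rw [hzb]
    intro h
    have h2 : ψ (ψ.symm (QuaternionGroup.a 2)) = ψ 1 := by rw [h]
    rw [ψ.apply_symm_apply, map_one] at h2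
    revert h2
    decide
  -- every involution is zb
  have hinv : ∀ g : G ⧸ N, g ^ 2 = 1 → g = 1 ∨ g = zb := by
    intro g hg
    have h1 : (ψ g) ^ 2 = 1 := by rw [← map_pow, hg, map_one]
    rcases quaternion_involution_unique _ h1 with h | h
    · left
      have := congrArg ψ.symm h
      rwa [ψ.symm_apply_apply, map_one] at this
    · right
      have := congrArg ψ.symm h
      rwa [ψ.symm_apply_apply] at this
  -- every nontrivial subgroup of the quotient contains zb
  have hsub : ∀ K : Subgroup (G ⧸ N), K ≠ ⊥ → zb ∈ K := by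
    intro K hK
    have hcardQ : Nat.card (G ⧸ N) = 8 := by
      rw [Nat.card_congr ψ.toEquiv]
      simp [QuaternionGroup.card]
    have hKdvd : Nat.card K ∣ 8 := hcardQ ▸ Subgroup.card_subgroup_dvd_card K
    have hK1 : Nat.card K ≠ 1 := by
      intro h
      exact hK (Subgroup.card_eq_one.mp h)
    have h2 : 2 ∣ Nat.card K := by
      have : Nat.card K ∣ 2 ^ 3 := hKdvd
      obtain ⟨i, hi, hi2⟩ := (Nat.dvd_prime_pow Nat.prime_two).mp this
      rw [hi2] at hK1 ⊢
      rcases i with _ | i
      · simp at hK1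
      · exact Dvd.intro_left _ (pow_succ 2 i).symm
    obtain ⟨k, hk⟩ := exists_prime_orderOf_dvd_card' 2 h2
    have hk2 : (k : G ⧸ N) ^ 2 = 1 := by
      have : k ^ 2 = 1 := by rw [← hk]; exact pow_orderOf_eq_one k
      have := congrArg (fun t : K => (t : G ⧸ N)) this
      simpa using this
    rcases hinv _ hk2 with h | h
    · exfalso
      have : k = 1 := Subtype.ext h
      rw [this, orderOf_one] at hk
      norm_num at hk
    · rw [← h]
      exact k.2
  -- the subgroup H
  set H : Subgroup G := (Subgroup.zpowers zb).comap (QuotientGroup.mk' N) with hH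
  obtain ⟨X, hX⟩ := hcl.exists_isCompl H
  have hdisj : H ⊓ X = ⊥ := hX.inf_eq_bot
  have hsup : H ⊔ X = ⊤ := hX.sup_eq_top
  -- the image of X avoids zb
  have hXb : X.map (QuotientGroup.mk' N) = ⊥ := by
    by_contra hne
    have hz := hsub _ hne
    obtain ⟨g, hgX, hgz⟩ := Subgroup.mem_map.mp hz
    have hgH : g ∈ H := by
      rw [hH, Subgroup.mem_comap, hgz]
      exact Subgroup.mem_zpowers zb
    have : g ∈ H ⊓ X := ⟨hgH, hgX⟩
    rw [hdisj, Subgroup.mem_bot] at this
    rw [this, map_one] at hgz
    exact hzb1 hgz.symm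
  -- so X ≤ N ≤ H and H = ⊤
  have hXH : X ≤ H := by
    intro g hg
    have : QuotientGroup.mk' N g ∈ X.map (QuotientGroup.mk' N) := Subgroup.mem_map_of_mem _ hg
    rw [hXb, Subgroup.mem_bot] at this
    rw [hH, Subgroup.mem_comap, this]
    exact Subgroup.one_mem _
  have hHtop : H = ⊤ := by
    rw [← hsup]
    exact (sup_eq_left.mpr hXH).symm
  -- then zpowers zb = ⊤, impossible
  have hztop : Subgroup.zpowers zb = ⊤ := by
    rw [eq_top_iff]
    intro q _
    obtain ⟨g, rfl⟩ := QuotientGroup.mk'_surjective N q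
    have : g ∈ H := hHtop ▸ Subgroup.mem_top g
    exact this
  have hcardQ : Nat.card (G ⧸ N) = 8 := by
    rw [Nat.card_congr ψ.toEquiv]
    simp [QuaternionGroup.card]
  have hcz : Nat.card (Subgroup.zpowers zb) = 8 := by
    rw [hztop, Subgroup.card_top, hcardQ]
  rw [Nat.card_zpowers] at hcz
  have hle : orderOf zb ≤ 2 := orderOf_le_of_pow_eq_one (by norm_num) hzb2
  omega

end Cfsg.Agent.Helper98
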