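import Mathlib

/-!
Kernel-evaluated check: every `3 × 3` matrix of determinant one over `Z/3` has order dividing
`8`, `6` or `13`.
-/

set_option autoImplicit false

namespace Cfsg.Agent.Helper98.SL33

/-- `3 × 3` matrices over `Z/3`, flat -/
structure M3 where
  /-- entry -/
  m11 : ZMod 3
  /-- entry -/
  m12 : ZMod 3
  /-- entry -/
  m13 : ZMod 3
  /-- entry -/
  m21 : ZMod 3
  /-- entry -/
  m22 : ZMod 3
  /-- entry -/
  m23 : ZMod 3
  /-- entry -/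
  m31 : ZMod 3
  /-- entry -/
  m32 : ZMod 3
  /-- entry -/
  m33 : ZMod 3
  deriving DecidableEq

namespace M3

/-- product -/
def mul (x y : M3) : M3 :=
  ⟨x.m11 * y.m11 + x.m12 * y.m21 + x.m13 * y.m31,
   x.m11 * y.m12 + x.m12 * y.m22 + x.m13 * y.m32,
   x.m11 * y.m13 + x.m12 * y.m23 + x.m13 * y.m33,
   x.m21 * y.m11 + x.m22 * y.m21 + x.m23 * y.m31,
   x.m21 * y.m12 + x.m22 * y.m22 + x.m23 * y.m32,
   x.m21 * y.m13 + x.m22 * y.m23 + x.m23 * y.m33,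
   x.m31 * y.m11 + x.m32 * y.m21 + x.m33 * y.m31,
   x.m31 * y.m12 + x.m32 * y.m22 + x.m33 * y.m32,
   x.m31 * y.m13 + x.m32 * y.m23 + x.m33 * y.m33⟩

/-- identity -/
def one : M3 := ⟨1, 0, 0, 0, 1, 0, 0, 0, 1⟩

/-- determinant -/
def det (x : M3) : ZMod 3 :=
  x.m11 * x.m22 * x.m33 - x.m11 * x.m23 * x.m32 - x.m12 * x.m21 * x.m33 + x.m12 * x.m23 * x.m31 +
    x.m13 * x.m21 * x.m32 - x.m13 * x.m22 * x.m31

/-- the order divides 8, 6 or 13 -/
def okOrder (x : M3) : Bool :=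
  let x2 := mul x x
  let x4 := mul x2 x2
  let x8 := mul x4 x4
  let x6 := mul x4 x2
  let x13 := mul (mul x8 x4) x
  decide (x8 = one) || decide (x6 = one) || decide (x13 = one)

/-- element of order 13 -/
def e13 : M3 := ⟨0, 0, 1, 0, 1, 1, 2, 1, 1⟩
/-- element of order 8 -/
def e8 : M3 := ⟨0, 0, 1, 0, 1, 1, 2, 1, 0⟩
/-- element of order 6 -/
def e6 : M3 := ⟨0, 0, 1, 0, 1, 0, 2, 0, 1⟩

end M3

set_option maxHeartbeats 0 in
set_option maxRecDepth 100000 in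
theorem all_ok : ∀ a b c d e f g h i : ZMod 3,
    M3.det ⟨a, b, c, d, e, f, g, h, i⟩ = 1 → M3.okOrder ⟨a, b, c, d, e, f, g, h, i⟩ = true := by
  decide +kernel

end Cfsg.Agent.Helper98.SL33
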