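import Mathlib
import Cfsg.Agent.Helper98.SL33Data

/-!
The set of element orders of `SL_3(Z/3)` is `{1, 2, 3, 4, 6, 8, 13}`.
-/

set_option autoImplicit false

namespace Cfsg.Agent.Helper98.SL33

open Matrix

/-- a flat matrix as a matrix -/
def toMat (x : M3) : Matrix (Fin 3) (Fin 3) (ZMod 3) :=
  !![x.m11, x.m12, x.m13; x.m21, x.m22, x.m23; x.m31, x.m32, x.m33]

/-- a matrix as a flat matrix -/
def ofMat (A : Matrix (Fin 3) (Fin 3) (ZMod 3)) : M3 :=
  ⟨A 0 0, A 0 1, A 0 2, A 1 0, A 1 1, A 1 2, A 2 0, A 2 1, A 2 2⟩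

theorem toMat_ofMat (A : Matrix (Fin 3) (Fin 3) (ZMod 3)) : toMat (ofMat A) = A := by
  ext i j
  fin_cases i <;> fin_cases j <;> rfl

theorem toMat_mul (s t : M3) : toMat (M3.mul s t) = toMat s * toMat t := by
  ext i j
  fin_cases i <;> fin_cases j <;> simp [toMat, M3.mul, Matrix.mul_apply, Fin.sum_univ_three]

theorem toMat_one : toMat M3.one = 1 := by
  ext i j
  fin_cases i <;> fin_cases j <;> simp [toMat, M3.one]

theorem toMat_injective : Function.Injective toMat := by
  intro x y h
  have e := fun i j => congrFun (congrFun h i) j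
  have h11 := e 0 0
  have h12 := e 0 1
  have h13 := e 0 2
  have h21 := e 1 0
  have h22 := e 1 1
  have h23 := e 1 2
  have h31 := e 2 0
  have h32 := e 2 1
  have h33 := e 2 2
  cases x
  cases y
  simp only [toMat, Matrix.of_apply, Matrix.cons_val', Matrix.cons_val_zero, Matrix.cons_val_one,
    Matrix.cons_val] at h11 h12 h13 h21 h22 h23 h31 h32 h33
  simp only [M3.mk.injEq]
  tauto

theorem det_toMat (x : M3) : (toMat x).det = M3.det x := by
  rw [Matrix.det_fin_three]
  simp [toMat, M3.det]

/-- `SL_3(3)` -/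
abbrev SL3 : Type := SpecialLinearGroup (Fin 3) (ZMod 3)

theorem pow_cases (A : SL3) : A ^ 8 = 1 ∨ A ^ 6 = 1 ∨ A ^ 13 = 1 := by
  set x := ofMat A.1 with hx
  have hA : toMat x = A.1 := toMat_ofMat A.1
  have hdet : M3.det x = 1 := by rw [← det_toMat, hA]; exact A.2
  have hok := all_ok x.m11 x.m12 x.m13 x.m21 x.m22 x.m23 x.m31 x.m32 x.m33 hdet
  have hx' : (⟨x.m11, x.m12, x.m13, x.m21, x.m22, x.m23, x.m31, x.m32, x.m33⟩ : M3) = x := rfl
  rw [hx'] at hok
  simp only [M3.okOrder, Bool.or_eq_true, decide_eq_true_eq] at hok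
  have h2 : toMat (M3.mul x x) = A.1 ^ 2 := by rw [toMat_mul, hA]; noncomm_ring
  have h4 : toMat (M3.mul (M3.mul x x) (M3.mul x x)) = A.1 ^ 4 := by
    rw [toMat_mul, h2]; noncomm_ring
  rcases hok with (h | h) | h
  · left
    have := congrArg toMat h
    rw [toMat_mul, h4, toMat_one] at this
    have key : ((A ^ 8 : SL3) : Matrix (Fin 3) (Fin 3) (ZMod 3)) = 1 := by
      rw [Matrix.SpecialLinearGroup.coe_pow, ← this]; noncomm_ring
    exact Subtype.ext key
  · right; left
    have := congrArg toMat h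
    rw [toMat_mul, h4, h2, toMat_one] at this
    have key : ((A ^ 6 : SL3) : Matrix (Fin 3) (Fin 3) (ZMod 3)) = 1 := by
      rw [Matrix.SpecialLinearGroup.coe_pow, ← this]; noncomm_ring
    exact Subtype.ext key
  · right; right
    have := congrArg toMat h
    rw [toMat_mul, toMat_mul, toMat_mul, h4, hA, toMat_one] at this
    have key : ((A ^ 13 : SL3) : Matrix (Fin 3) (Fin 3) (ZMod 3)) = 1 := by
      rw [Matrix.SpecialLinearGroup.coe_pow, ← this]; noncomm_ring
    exact Subtype.ext key


/-- flat power -/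
def fpow (x : M3) : ℕ → M3
  | 0 => M3.one
  | n + 1 => M3.mul (fpow x n) x

theorem toMat_fpow (x : M3) (n : ℕ) : toMat (fpow x n) = toMat x ^ n := by
  induction n with
  | zero => simp [fpow, toMat_one]
  | succ n ih => rw [fpow, toMat_mul, ih, pow_succ]

/-- a flat matrix of determinant one as an element of `SL_3(3)` -/
def toSL (x : M3) (h : M3.det x = 1) : SL3 := ⟨toMat x, by rw [det_toMat, h]⟩

theorem toSL_pow_eq_one_iff (x : M3) (h : M3.det x = 1) (n : ℕ) :
    toSL x h ^ n = 1 ↔ fpow x n = M3.one := by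
  constructor
  · intro hn
    apply toMat_injective
    rw [toMat_fpow, toMat_one]
    have := congrArg (fun A : SL3 => (A : Matrix (Fin 3) (Fin 3) (ZMod 3))) hn
    simp only [Matrix.SpecialLinearGroup.coe_pow, Matrix.SpecialLinearGroup.coe_one] at this
    exact this
  · intro hn
    have key : ((toSL x h ^ n : SL3) : Matrix (Fin 3) (Fin 3) (ZMod 3)) = 1 := by
      rw [Matrix.SpecialLinearGroup.coe_pow]
      change toMat x ^ n = 1
      rw [← toMat_fpow, hn, toMat_one]
    exact Subtype.ext key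

theorem det_e13 : M3.det M3.e13 = 1 := by decide
theorem det_e8 : M3.det M3.e8 = 1 := by decide
theorem det_e6 : M3.det M3.e6 = 1 := by decide

theorem orderOf_e13 : orderOf (toSL M3.e13 det_e13) = 13 := by
  have : Fact (Nat.Prime 13) := ⟨by norm_num⟩
  apply orderOf_eq_prime
  · rw [toSL_pow_eq_one_iff]; decide
  · intro h
    have h1 : toSL M3.e13 det_e13 ^ 1 = 1 := by rw [pow_one, h]
    rw [toSL_pow_eq_one_iff] at h1
    revert h1; decide

theorem orderOf_e8 : orderOf (toSL M3.e8 det_e8) = 8 := by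
  have e : (8 : ℕ) = 2 ^ (2 + 1) := by norm_num
  rw [e]
  apply orderOf_eq_prime_pow
  · intro h
    rw [toSL_pow_eq_one_iff] at h
    revert h; decide
  · rw [toSL_pow_eq_one_iff]; decide

theorem orderOf_e6 : orderOf (toSL M3.e6 det_e6) = 6 := by
  apply orderOf_eq_of_pow_and_pow_div_prime (by norm_num)
  · rw [toSL_pow_eq_one_iff]; decide
  · intro q hq hq6
    have hq' : q = 2 ∨ q = 3 := by
      have h1 : q ∣ 2 * 3 := hq6
      rcases (Nat.Prime.dvd_mul hq).1 h1 with h | h
      · left; exact (Nat.prime_dvd_prime_iff_eq hq Nat.prime_two).1 h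
      · right; exact (Nat.prime_dvd_prime_iff_eq hq Nat.prime_three).1 h
    rcases hq' with rfl | rfl
    · intro h
      rw [toSL_pow_eq_one_iff] at h
      revert h; decide
    · intro h
      rw [toSL_pow_eq_one_iff] at h
      revert h; decide

/-- the spectrum of `SL_3(3)` -/
theorem range_orderOf : Set.range (orderOf : SL3 → ℕ) = {1, 2, 3, 4, 6, 8, 13} := by
  ext k
  constructor
  · rintro ⟨A, rfl⟩
    have hd : orderOf A ∣ 8 ∨ orderOf A ∣ 6 ∨ orderOf A ∣ 13 := by
      rcases pow_cases A with h | h | h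
      · left; exact orderOf_dvd_of_pow_eq_one h
      · right; left; exact orderOf_dvd_of_pow_eq_one h
      · right; right; exact orderOf_dvd_of_pow_eq_one h
    rcases hd with h | h | h
    · have : orderOf A ∈ Nat.divisors 8 := Nat.mem_divisors.2 ⟨h, by norm_num⟩
      have h8 : Nat.divisors 8 = {1, 2, 4, 8} := by decide
      rw [h8] at this
      simp only [Finset.mem_insert, Finset.mem_singleton] at this
      simp only [Set.mem_insert_iff, Set.mem_singleton_iff]
      omega
    · have : orderOf A ∈ Nat.divisors 6 := Nat.mem_divisors.2 ⟨h, by norm_num⟩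
      have h6 : Nat.divisors 6 = {1, 2, 3, 6} := by decide
      rw [h6] at this
      simp only [Finset.mem_insert, Finset.mem_singleton] at this
      simp only [Set.mem_insert_iff, Set.mem_singleton_iff]
      omega
    · have : orderOf A ∈ Nat.divisors 13 := Nat.mem_divisors.2 ⟨h, by norm_num⟩
      have h13 : Nat.divisors 13 = {1, 13} := by decide
      rw [h13] at this
      simp only [Finset.mem_insert, Finset.mem_singleton] at this
      simp only [Set.mem_insert_iff, Set.mem_singleton_iff]
      omega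
  · intro hk
    simp only [Set.mem_insert_iff, Set.mem_singleton_iff] at hk
    have ha := orderOf_e8
    have hb := orderOf_e6
    set a := toSL M3.e8 det_e8 with hadef
    set b := toSL M3.e6 det_e6 with hbdef
    rcases hk with rfl | rfl | rfl | rfl | rfl | rfl | rfl
    · exact ⟨1, orderOf_one⟩
    · exact ⟨a ^ 4, by rw [orderOf_pow' a (by norm_num), ha]; norm_num⟩
    · exact ⟨b ^ 2, by rw [orderOf_pow' b (by norm_num), hb]; norm_num⟩
    · exact ⟨a ^ 2, by rw [orderOf_pow' a (by norm_num), ha]; norm_num⟩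
    · exact ⟨b, hb⟩
    · exact ⟨a, ha⟩
    · exact ⟨_, orderOf_e13⟩

end Cfsg.Agent.Helper98.SL33
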