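import Cfsg.Agent.Helper98.M9
import Cfsg.Agent.Helper98.M9Check_z
import Cfsg.Agent.Helper98.M9Check_o
import Cfsg.Agent.Helper98.M9Check_w
import Cfsg.Agent.Helper98.M9Check_w2

/-!
Bridge between the flat encoding `M9` and `Matrix (Fin 3) (Fin 3) GF4`, and the key fact about
`SL_3(4)`: if `x ^ 15` is scalar then `x ^ 5` or `x ^ 3` is scalar.
-/

set_option autoImplicit false
open Cfsg.Agent.Helper27 Matrix

namespace Cfsg.Agent.Helper98

theorem gf4_add_def (x y : GF4) : GF4.add x y = x + y := rfl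
theorem gf4_mul_def (x y : GF4) : GF4.mul x y = x * y := rfl
theorem gf4_z_def : GF4.z = 0 := rfl
theorem gf4_o_def : GF4.o = 1 := rfl
theorem gf4_neg (x : GF4) : -x = x := rfl

theorem mem_allGF4 (a : GF4) : a ∈ allGF4 := by
  cases a <;> simp [allGF4]

namespace M9

/-- the matrix of a flat structure -/
def toMatrix (a : M9) : Matrix (Fin 3) (Fin 3) GF4 :=
  !![a.a11, a.a12, a.a13; a.a21, a.a22, a.a23; a.a31, a.a32, a.a33]

/-- the flat structure of a matrix -/
def ofMatrix (A : Matrix (Fin 3) (Fin 3) GF4) : M9 :=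
  ⟨A 0 0, A 0 1, A 0 2, A 1 0, A 1 1, A 1 2, A 2 0, A 2 1, A 2 2⟩

theorem toMatrix_ofMatrix (A : Matrix (Fin 3) (Fin 3) GF4) : toMatrix (ofMatrix A) = A := by
  ext i j
  fin_cases i <;> fin_cases j <;> rfl

theorem toMatrix_mul (a b : M9) : toMatrix (mul a b) = toMatrix a * toMatrix b := by
  ext i j
  fin_cases i <;> fin_cases j <;>
    simp [toMatrix, mul, Matrix.mul_apply, Fin.sum_univ_three, gf4_add_def, gf4_mul_def]

theorem det_toMatrix (a : M9) : (toMatrix a).det = det a := by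
  rw [Matrix.det_fin_three]
  simp only [toMatrix, det, gf4_add_def, gf4_mul_def, sub_eq_add_neg, gf4_neg]
  simp
  ring

theorem isScalar_of_eq_smul (a : M9) (c : GF4) (h : toMatrix a = c • (1 : Matrix (Fin 3) (Fin 3) GF4)) :
    isScalar a = true := by
  have h01 := congrFun (congrFun h 0) 1
  have h02 := congrFun (congrFun h 0) 2
  have h10 := congrFun (congrFun h 1) 0
  have h12 := congrFun (congrFun h 1) 2
  have h20 := congrFun (congrFun h 2) 0
  have h21 := congrFun (congrFun h 2) 1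
  have h00 := congrFun (congrFun h 0) 0
  have h11 := congrFun (congrFun h 1) 1
  have h22 := congrFun (congrFun h 2) 2
  simp [toMatrix] at h01 h02 h10 h12 h20 h21 h00 h11 h22
  simp [isScalar, h01, h02, h10, h12, h20, h21, h00, h11, h22, gf4_z_def]

theorem eq_smul_of_isScalar (a : M9) (h : isScalar a = true) :
    toMatrix a = a.a11 • (1 : Matrix (Fin 3) (Fin 3) GF4) := by
  simp only [isScalar, Bool.and_eq_true, decide_eq_true_eq, gf4_z_def] at h
  obtain ⟨⟨⟨⟨⟨⟨⟨h12, h13⟩, h21⟩, h23⟩, h31⟩, h32⟩, h1122⟩, h2233⟩ := h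
  ext i j
  fin_cases i <;> fin_cases j <;> simp [toMatrix, h12, h13, h21, h23, h31, h32, ← h2233, ← h1122]

end M9

theorem checkRow_all (a11 a12 : GF4) : checkRow a11 a12 = true := by
  cases a11 <;> cases a12
  · exact checkRow_z_z
  · exact checkRow_z_o
  · exact checkRow_z_w
  · exact checkRow_z_w2
  · exact checkRow_o_z
  · exact checkRow_o_o
  · exact checkRow_o_w
  · exact checkRow_o_w2
  · exact checkRow_w_z
  · exact checkRow_w_o
  · exact checkRow_w_w
  · exact checkRow_w_w2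
  · exact checkRow_w2_z
  · exact checkRow_w2_o
  · exact checkRow_w2_w
  · exact checkRow_w2_w2

theorem check_all (a : M9) : M9.check a = true := by
  obtain ⟨a11, a12, a13, a21, a22, a23, a31, a32, a33⟩ := a
  have h := checkRow_all a11 a12
  simp only [checkRow, List.all_eq_true] at h
  exact h a13 (mem_allGF4 _) a21 (mem_allGF4 _) a22 (mem_allGF4 _) a23 (mem_allGF4 _)
    a31 (mem_allGF4 _) a32 (mem_allGF4 _) a33 (mem_allGF4 _)

/-- Key fact on `SL_3(4)`. -/
theorem key_GF4 (A : Matrix (Fin 3) (Fin 3) GF4) (hdet : A.det = 1) (c : GF4)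
    (h15 : A ^ 15 = c • (1 : Matrix (Fin 3) (Fin 3) GF4)) :
    (∃ c' : GF4, A ^ 5 = c' • (1 : Matrix (Fin 3) (Fin 3) GF4)) ∨
      (∃ c' : GF4, A ^ 3 = c' • (1 : Matrix (Fin 3) (Fin 3) GF4)) := by
  set a := M9.ofMatrix A with ha
  have hA : M9.toMatrix a = A := M9.toMatrix_ofMatrix A
  have hc := check_all a
  have hd : M9.det a = GF4.o := by
    rw [← M9.det_toMatrix, hA, hdet]; rfl
  simp only [M9.check, hd, if_true] at hc
  have e3 : M9.toMatrix (M9.mul (M9.mul a a) a) = A ^ 3 := by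
    rw [M9.toMatrix_mul, M9.toMatrix_mul, hA]
    simp [pow_succ]
  have e5 : M9.toMatrix (M9.mul (M9.mul (M9.mul a a) a) (M9.mul a a)) = A ^ 5 := by
    rw [M9.toMatrix_mul, e3, M9.toMatrix_mul, hA, ← pow_two, ← pow_add]
  have e15 : M9.toMatrix (M9.mul (M9.mul (M9.mul (M9.mul (M9.mul a a) a) (M9.mul a a))
      (M9.mul (M9.mul (M9.mul a a) a) (M9.mul a a))) (M9.mul (M9.mul (M9.mul a a) a) (M9.mul a a))) =
      A ^ 15 := by
    rw [M9.toMatrix_mul, M9.toMatrix_mul, e5, ← pow_add, ← pow_add]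
  have hs15 := M9.isScalar_of_eq_smul _ c (e15.trans h15)
  rw [hs15] at hc
  simp only [Bool.not_true, Bool.false_or, Bool.or_eq_true] at hc
  rcases hc with h | h
  · left
    exact ⟨_, e5 ▸ M9.eq_smul_of_isScalar _ h⟩
  · right
    exact ⟨_, e3 ▸ M9.eq_smul_of_isScalar _ h⟩

end Cfsg.Agent.Helper98
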