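import Mathlib
import Cfsg.Agent.Helper98.Basic

set_option autoImplicit false

namespace Cfsg.Agent.Helper98

open MulAction
open scoped Pointwise

/-- Core of S5885: a finite group acting on a set of odd size such that every 3-cycle is realised. -/
theorem second_max_of_three_cycles {G : Type*} [Group G] {Ω : Type*} [MulAction G Ω] [Finite Ω]
    (hodd : Odd (Nat.card Ω))
    (h3 : ∀ a b c : Ω, a ≠ b → b ≠ c → a ≠ c →
      ∃ g : G, g • a = b ∧ g • b = c ∧ ∀ w, w ≠ a → w ≠ b → w ≠ c → g • w = w)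
    (α : Ω) (H K : Subgroup G) (hM : IsCoatom (stabilizer G α))
    (hHM : H ≤ stabilizer G α) (hmax : IsCoatom (H.subgroupOf (stabilizer G α)))
    (hK : IsCoatom K) (hHK : H ≤ K) : IsCoatom (H.subgroupOf K) := by
  classical
  set M := stabilizer G α with hMdef
  by_cases hKM : K = M
  · rw [hKM]; exact hmax
  rw [isCoatom_subgroupOf_iff hHM] at hmax
  obtain ⟨hHneM, hmaxM⟩ := hmax
  -- K ⊓ M = H
  have hKMH : K ⊓ M = H := by
    rcases hmaxM (K ⊓ M) (le_inf hHK hHM) inf_le_right with h | h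
    · exact h
    · exfalso
      have hMK : M ≤ K := by rw [← h]; exact inf_le_left
      rcases eq_or_lt_of_le hMK with h' | h'
      · exact hKM h'.symm
      · exact hK.1 (hM.2 K h')
  have memH : ∀ g : G, g ∈ K → g • α = α → g ∈ H := by
    intro g hgK hgα
    rw [← hKMH]
    exact ⟨hgK, hgα⟩
  rw [isCoatom_subgroupOf_iff hHK]
  refine ⟨fun h => hKM ?_, ?_⟩
  · -- H = K would give K ≤ M hence K = M
    have hKleM : K ≤ M := h ▸ hHM
    rcases eq_or_lt_of_le hKleM with h' | h'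
    · exact h'
    · exact absurd (hK.2 M h') hM.1
  intro L hHL hLK
  by_contra hcon
  push Not at hcon
  obtain ⟨hLH, hLK'⟩ := hcon
  -- elements
  obtain ⟨l, hlL, hlH⟩ : ∃ l, l ∈ L ∧ l ∉ H := by
    by_contra h
    push Not at h
    exact hLH (le_antisymm h hHL)
  obtain ⟨k, hkK, hkL⟩ : ∃ k, k ∈ K ∧ k ∉ L := by
    by_contra h
    push Not at h
    exact hLK' (le_antisymm hLK h)
  -- the orbit Γ of α under L
  set Γ : Set Ω := {x | ∃ l' ∈ L, l' • α = x} with hΓ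
  have hαΓ : α ∈ Γ := ⟨1, L.one_mem, one_smul _ _⟩
  -- disjointness of Γ and k • Γ
  have hdisj : ∀ l₁ ∈ L, ∀ l₂ ∈ L, (k * l₁) • α ≠ l₂ • α := by
    intro l₁ h₁ l₂ h₂ heq
    have : (l₂⁻¹ * (k * l₁)) • α = α := by
      rw [mul_smul, heq, ← mul_smul, inv_mul_cancel, one_smul]
    have hmem : l₂⁻¹ * (k * l₁) ∈ H :=
      memH _ (K.mul_mem (K.inv_mem (hLK h₂)) (K.mul_mem hkK (hLK h₁))) this
    have hmemL := hHL hmem
    have : k = l₂ * (l₂⁻¹ * (k * l₁)) * l₁⁻¹ := by group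
    apply hkL
    rw [this]
    exact L.mul_mem (L.mul_mem h₂ hmemL) (L.inv_mem h₁)
  set u := l • α with hu
  have huα : u ≠ α := fun h => hlH (memH l (hLK hlL) h)
  have huΓ : u ∈ Γ := ⟨l, hlL, rfl⟩
  set v := k • α with hv
  set w := k • u with hw
  have hvΓ : v ∉ Γ := by
    rintro ⟨l₂, h₂, heq⟩
    exact hdisj 1 L.one_mem l₂ h₂ (by rw [mul_one]; exact heq.symm)
  have hwΓ : w ∉ Γ := by
    rintro ⟨l₂, h₂, heq⟩
    exact hdisj l hlL l₂ h₂ (by rw [mul_smul]; exact heq.symm)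
  have hvw : v ≠ w := by
    intro h
    exact huα ((smul_left_cancel k h).symm)
  -- the subgroup S = M ⊓ stabilizer of Γ
  set S : Subgroup G := M ⊓ stabilizer G Γ with hS
  have hHS : H ≤ S := by
    intro h hh
    refine ⟨hHM hh, ?_⟩
    show h • Γ = Γ
    ext x
    constructor
    · rintro ⟨y, ⟨l', hl', rfl⟩, rfl⟩
      exact ⟨h * l', L.mul_mem (hHL hh) hl', mul_smul _ _ _⟩
    · rintro ⟨l', hl', rfl⟩
      refine ⟨(h⁻¹ * l') • α, ⟨h⁻¹ * l', L.mul_mem (L.inv_mem (hHL hh)) hl', rfl⟩, ?_⟩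
      simp [mul_smul]
  have hSne : S ≠ M := by
    intro hSM
    obtain ⟨g, hg1, hg2, hg3⟩ := h3 u v w (fun h => hvΓ (h ▸ huΓ)) hvw (fun h => hwΓ (h ▸ huΓ))
    have hgM : g ∈ M := by
      rw [hMdef, mem_stabilizer_iff]
      exact hg3 α huα.symm (fun h => hvΓ (h ▸ hαΓ)) (fun h => hwΓ (h ▸ hαΓ))
    have hgS : g ∈ S := hSM ▸ hgM
    have hgΓ : g • Γ = Γ := hgS.2
    have : v ∈ g • Γ := ⟨u, huΓ, hg1⟩
    rw [hgΓ] at this
    exact hvΓ this
  have hSH : S = H := (hmaxM S hHS inf_le_left).resolve_right hSne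
  -- find z outside Γ ∪ k • Γ
  obtain ⟨z, hzΓ, hzkΓ⟩ : ∃ z, z ∉ Γ ∧ z ∉ k • Γ := by
    by_contra h
    push Not at h
    have hunion : Γ ∪ k • Γ = Set.univ := by
      ext x
      simp only [Set.mem_union, Set.mem_univ, iff_true]
      by_cases hx : x ∈ Γ
      · exact Or.inl hx
      · exact Or.inr (h x hx)
    have hdisj' : Disjoint Γ (k • Γ) := by
      rw [Set.disjoint_left]
      rintro x ⟨l₂, h₂, rfl⟩ ⟨y, ⟨l₁, h₁, rfl⟩, heq⟩
      exact hdisj l₁ h₁ l₂ h₂ (by rw [mul_smul]; exact heq)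
    have hcard : Nat.card Ω = Γ.ncard + (k • Γ).ncard := by
      rw [← Set.ncard_union_eq hdisj' (Set.toFinite _) (Set.toFinite _), hunion, Set.ncard_univ]
    have hsm : (k • Γ).ncard = Γ.ncard := Set.ncard_image_of_injective _ (MulAction.injective k)
    rw [hsm] at hcard
    rw [hcard] at hodd
    exact (Nat.not_odd_iff_even.mpr ⟨_, rfl⟩) hodd
  -- the 3-cycle (v w z)
  have hwz : w ≠ z := fun h => hzkΓ (h ▸ ⟨u, huΓ, rfl⟩)
  have hvz : v ≠ z := fun h => hzkΓ (h ▸ ⟨α, hαΓ, rfl⟩)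
  obtain ⟨c, hc1, hc2, hc3⟩ := h3 v w z hvw hwz hvz
  have hcfix : ∀ x ∈ Γ, c • x = x := fun x hx =>
    hc3 x (fun h => hvΓ (h ▸ hx)) (fun h => hwΓ (h ▸ hx)) (fun h => hzΓ (h ▸ hx))
  have hcS : c ∈ S := by
    refine ⟨hcfix α hαΓ, ?_⟩
    show c • Γ = Γ
    ext x
    constructor
    · rintro ⟨y, hy, rfl⟩
      show c • y ∈ Γ
      rw [hcfix y hy]; exact hy
    · intro hx
      exact ⟨x, hx, hcfix x hx⟩
  have hcH : c ∈ H := hSH ▸ hcS
  have hcK : c ∈ K := hHK hcH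
  -- (k l)⁻¹ c k fixes α
  have h1 : ((k * l)⁻¹ * (c * k)) • α = α := by
    have e1 : (c * k) • α = (k * l) • α := by rw [mul_smul, ← hv, hc1, hw, hu, mul_smul]
    rw [mul_smul, e1, ← mul_smul, inv_mul_cancel, one_smul]
  have h2 : (k * l)⁻¹ * (c * k) ∈ H :=
    memH _ (K.mul_mem (K.inv_mem (K.mul_mem hkK (hLK hlL))) (K.mul_mem hcK hkK)) h1
  have h3' : k⁻¹ * c * k ∈ L := by
    have : k⁻¹ * c * k = l * ((k * l)⁻¹ * (c * k)) := by group
    rw [this]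
    exact L.mul_mem hlL (hHL h2)
  apply hzkΓ
  refine ⟨((k⁻¹ * c * k) * l) • α, ⟨_, L.mul_mem h3' hlL, rfl⟩, ?_⟩
  show k • (((k⁻¹ * c * k) * l) • α) = z
  rw [← hc2, hw, hu]
  simp only [← mul_smul]
  congr 1
  group

end Cfsg.Agent.Helper98
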