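import Mathlib
import Cfsg.Agent.Helper98.U33

/-!
The homomorphism `SL_2(Z/7) → SU_3(3)` with kernel `{±1}` and centreless image.
-/

set_option autoImplicit false

namespace Cfsg.Agent.Helper98.U33

open Matrix

/-- the homomorphism to `SL_3(9)` whose graph is `P` -/
theorem exists_hom₀ : ∃ ψ₀ : SL2 →* SL3, ∀ x y, (x, y) ∈ P ↔ ψ₀ x = y := by
  obtain ⟨ψ₀, hψ₀⟩ := Subgroup.exists_eq_graph fst_bijective
  refine ⟨ψ₀, fun x y => ?_⟩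
  rw [hψ₀, MonoidHom.mem_graph]


theorem hom₀_mem (ψ₀ : SL2 →* SL3) (hmem : ∀ x y, (x, y) ∈ P ↔ ψ₀ x = y) (x : SL2) :
    (x, ψ₀ x) ∈ P := (hmem x (ψ₀ x)).2 rfl

theorem hom₀_mem_SU (ψ₀ : SL2 →* SL3) (hmem : ∀ x y, (x, y) ∈ P ↔ ψ₀ x = y) (x : SL2) :
    ψ₀ x ∈ Cfsg.SU 3 GF9 3 := by
  have h := snd_mem_SU (hom₀_mem ψ₀ hmem x)
  exact h

theorem hom₀_eq_one_iff (ψ₀ : SL2 →* SL3) (hmem : ∀ x y, (x, y) ∈ P ↔ ψ₀ x = y) (x : SL2) :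
    ψ₀ x = 1 ↔ (x.1 = 1 ∨ x.1 = -1) := by
  constructor
  · intro hx
    have h : (x, (1 : SL3)) ∈ P := (hmem x 1).2 hx
    exact fst_eq_of_snd_eq_one h rfl
  · intro hx
    rcases hx with hx | hx
    · have : x = 1 := Subtype.ext hx
      rw [this, map_one]
    · obtain ⟨p, hp, hp1, hp2⟩ := neg_one_mem
      have hxp : x = p.1 := Subtype.ext (by rw [hx, hp1])
      have h : (p.1, p.2) ∈ P := hp
      rw [hmem] at h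
      rw [hxp, h, hp2]

theorem hom₀_centre (ψ₀ : SL2 →* SL3) (hmem : ∀ x y, (x, y) ∈ P ↔ ψ₀ x = y) (x : SL2)
    (c1 : ψ₀ x * ψ₀ G1.1 = ψ₀ G1.1 * ψ₀ x) (c2 : ψ₀ x * ψ₀ G2.1 = ψ₀ G2.1 * ψ₀ x) : ψ₀ x = 1 := by
  have hG1 : ψ₀ G1.1 = G1.2 := (hmem G1.1 G1.2).1 G1_mem
  have hG2 : ψ₀ G2.1 = G2.2 := (hmem G2.1 G2.2).1 G2_mem
  rw [hG1] at c1
  rw [hG2] at c2
  exact snd_eq_one_of_commute (hom₀_mem ψ₀ hmem x) c1 c2


/-- the homomorphism `SL_2(7) → SU_3(3)` with kernel `{±1}` and centreless image -/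
theorem exists_hom : ∃ ψ : SL2 →* Cfsg.SU 3 GF9 3,
    (∀ x, ψ x = 1 ↔ (x.1 = 1 ∨ x.1 = -1)) ∧
    (∀ x, (∀ y, ψ x * ψ y = ψ y * ψ x) → ψ x = 1) := by
  obtain ⟨ψ₀, hmem⟩ := exists_hom₀
  let ψ : SL2 →* Cfsg.SU 3 GF9 3 := ψ₀.codRestrict (Cfsg.SU 3 GF9 3) (hom₀_mem_SU ψ₀ hmem)
  have hval : ∀ x, (ψ x).1 = ψ₀ x := fun x => rfl
  have hψ1 : ∀ x, ψ x = 1 ↔ ψ₀ x = 1 := by
    intro x
    rw [← hval x]
    exact OneMemClass.coe_eq_one.symm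
  refine ⟨ψ, fun x => ?_, fun x hx => ?_⟩
  · rw [hψ1]
    exact hom₀_eq_one_iff ψ₀ hmem x
  · rw [hψ1]
    apply hom₀_centre ψ₀ hmem x
    · have h := congrArg Subtype.val (hx G1.1)
      rw [Subgroup.coe_mul, Subgroup.coe_mul, hval, hval] at h
      exact h
    · have h := congrArg Subtype.val (hx G2.1)
      rw [Subgroup.coe_mul, Subgroup.coe_mul, hval, hval] at h
      exact h

end Cfsg.Agent.Helper98.U33
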