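import Mathlib
import Cfsg.Agent.Helper98.Wreath
import Cfsg.Agent.S2119

set_option autoImplicit false

namespace Cfsg.Agent.Helper98

open Equiv Equiv.Perm
open Cfsg.Agent.S2119 (cyc conj_cyc isThreeCycle_cyc mem_of_isThreeCycle)

section CycBasics

variable {α : Type*} [DecidableEq α]

theorem cyc_rotate {x y z : α} (h1 : x ≠ y) (h2 : y ≠ z) (h3 : x ≠ z) :
    cyc x y z = cyc y z x := by
  ext w
  simp only [cyc, Perm.mul_apply, swap_apply_def]
  split_ifs <;> simp_all

theorem cyc_inv {x y z : α} (h1 : x ≠ y) (h2 : y ≠ z) (h3 : x ≠ z) :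
    (cyc x y z)⁻¹ = cyc y x z := by
  rw [inv_eq_iff_mul_eq_one]
  ext w
  simp only [cyc, Perm.mul_apply, swap_apply_def, Perm.one_apply]
  split_ifs <;> simp_all

theorem cyc_mem_alternatingGroup [Fintype α] {x y z : α} (h1 : x ≠ y) (h2 : y ≠ z) (h3 : x ≠ z) :
    cyc x y z ∈ alternatingGroup α :=
  (isThreeCycle_cyc h1 h3 h2).mem_alternatingGroup

end CycBasics

section PartStabCyc

variable {Ω : Type*} [Fintype Ω] [DecidableEq Ω] {a b : ℕ}

theorem cyc_mem_partStab (f : Ω → Fin b) {x y z : Ω} (hxy : f x = f y) (hyz : f y = f z) :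
    cyc x y z ∈ partStab f :=
  (partStab f).mul_mem (swap_mem_partStab f hxy) (swap_mem_partStab f hyz)

/-- Conjugating a 3-cycle with two points in one block by any element of the wreath product
stays in a subgroup containing the even part of the wreath product. -/
theorem conj_cyc_mem (f : Ω → Fin b) (L : Subgroup (Perm Ω))
    (hL : partStab f ⊓ alternatingGroup Ω ≤ L) {p p' r : Ω} (hpp' : p ≠ p') (hf : f p = f p')
    (hr : f r ≠ f p) (hc : cyc p p' r ∈ L) (w : Perm Ω) (hw : w ∈ partStab f) :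
    w * cyc p p' r * w⁻¹ ∈ L := by
  have hpr : p ≠ r := fun h => hr (by rw [h])
  have hp'r : p' ≠ r := fun h => hr (by rw [← h, hf])
  rcases Int.units_eq_one_or (Perm.sign w) with hs | hs
  · have hwL : w ∈ L := hL ⟨hw, Perm.mem_alternatingGroup.mpr hs⟩
    exact L.mul_mem (L.mul_mem hwL hc) (L.inv_mem hwL)
  · have hw' : w * swap p p' ∈ L := by
      apply hL
      refine ⟨(partStab f).mul_mem hw (swap_mem_partStab f hf), ?_⟩
      show w * swap p p' ∈ alternatingGroup Ω
      rw [Perm.mem_alternatingGroup, Perm.sign_mul, hs, Perm.sign_swap hpp']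
      rfl
    have hcinv : (cyc p p' r)⁻¹ ∈ L := L.inv_mem hc
    have h1 : swap p p' * cyc p p' r * (swap p p')⁻¹ = (cyc p p' r)⁻¹ := by
      rw [conj_cyc, swap_apply_left, swap_apply_right, swap_apply_of_ne_of_ne hpr.symm hp'r.symm,
        cyc_inv hpp' hp'r hpr]
    have hs2 : swap p p' * swap p p' = 1 := swap_mul_self p p'
    have h2 : w * cyc p p' r * w⁻¹ =
        (w * swap p p') * (cyc p p' r)⁻¹ * (w * swap p p')⁻¹ := by
      rw [← h1, mul_inv_rev, swap_inv]
      calc w * cyc p p' r * w⁻¹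
          = w * ((swap p p' * swap p p') * cyc p p' r * (swap p p' * swap p p')) * w⁻¹ := by
            rw [hs2, one_mul, mul_one]
        _ = w * swap p p' * (swap p p' * cyc p p' r * swap p p') * (swap p p' * w⁻¹) := by
            simp only [mul_assoc]
    rw [h2]
    exact L.mul_mem (L.mul_mem hw' hcinv) (L.inv_mem hw')

/-- The wreath product is transitive on configurations "two points in a block, one point in
another block". -/
theorem exists_partStab_three (f : Ω → Fin b) (hf : ∀ i : Fin b, Nat.card {x : Ω // f x = i} = a)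
    {p p' r u u' t : Ω} (hpp' : p ≠ p') (hfp : f p = f p') (hr : f r ≠ f p)
    (huu' : u ≠ u') (hfu : f u = f u') (ht : f t ≠ f u) :
    ∃ w ∈ partStab f, w p = u ∧ w p' = u' ∧ w r = t := by
  obtain ⟨σ, hσ1, hσ2⟩ := exists_perm_two (i := f p) (j := f r) (i' := f u) (j' := f t)
    (Ne.symm hr) (Ne.symm ht)
  set w₀ := blockPerm f hf σ with hw₀
  have hw₀W : w₀ ∈ partStab f := blockPerm_mem f hf σ
  have h1 : f (w₀ p) = f u := by rw [hw₀, f_blockPerm f hf, hσ1]
  have h1' : f (w₀ p') = f u := by rw [hw₀, f_blockPerm f hf, ← hfp, hσ1]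
  have h2 : f (w₀ r) = f t := by rw [hw₀, f_blockPerm f hf, hσ2]
  have hne : w₀ p ≠ w₀ p' := fun h => hpp' (w₀.injective h)
  -- the permutation inside the block of u
  set q := swap (w₀ p) u (w₀ p') with hq
  have hfq : f q = f u := by rw [hq, f_swap_of_eq f h1, h1']
  set τ := swap q u' * swap (w₀ p) u with hτ
  have hτW : τ ∈ partStab f :=
    (partStab f).mul_mem (swap_mem_partStab f (hfq.trans hfu)) (swap_mem_partStab f h1)
  have hτ1 : τ (w₀ p) = u := by
    rw [hτ, Perm.mul_apply, swap_apply_left]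
    apply swap_apply_of_ne_of_ne
    · intro h
      have : swap (w₀ p) u (w₀ p) = swap (w₀ p) u (w₀ p') :=
        (swap_apply_left _ _).trans (h.trans hq)
      exact hne ((swap (w₀ p) u).injective this)
    · exact huu'
  have hτ2 : τ (w₀ p') = u' := by
    rw [hτ, Perm.mul_apply, swap_apply_left]
  have hτ3 : τ (w₀ r) = w₀ r := by
    have hru : f (w₀ r) ≠ f u := by rw [h2]; exact ht
    have e1 : w₀ r ≠ w₀ p := fun h => hru (by rw [h, h1])
    have e2 : w₀ r ≠ u := fun h => hru (by rw [h])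
    have e3 : w₀ r ≠ q := fun h => hru (by rw [h, hfq])
    have e4 : w₀ r ≠ u' := fun h => hru (by rw [h, hfu])
    rw [hτ, Perm.mul_apply, swap_apply_of_ne_of_ne e1 e2, swap_apply_of_ne_of_ne e3 e4]
  refine ⟨swap (w₀ r) t * τ * w₀, ?_, ?_, ?_, ?_⟩
  · exact (partStab f).mul_mem ((partStab f).mul_mem (swap_mem_partStab f h2) hτW) hw₀W
  · have e1 : u ≠ w₀ r := fun h => ht (by rw [← h2, ← h])
    have e2 : u ≠ t := fun h => ht (by rw [h])
    rw [Perm.mul_apply, Perm.mul_apply, hτ1]
    exact swap_apply_of_ne_of_ne e1 e2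
  · have e1 : u' ≠ w₀ r := fun h => ht (by rw [← h2, ← h, hfu])
    have e2 : u' ≠ t := fun h => ht (by rw [← h, hfu])
    rw [Perm.mul_apply, Perm.mul_apply, hτ2]
    exact swap_apply_of_ne_of_ne e1 e2
  · rw [Perm.mul_apply, Perm.mul_apply, hτ3, swap_apply_left]

/-- If `L` contains the even part of the wreath product and one 3-cycle with two points in one block
and the third in another block, it contains all such 3-cycles. -/
theorem all_cyc_mem (f : Ω → Fin b) (hf : ∀ i : Fin b, Nat.card {x : Ω // f x = i} = a)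
    (L : Subgroup (Perm Ω)) (hL : partStab f ⊓ alternatingGroup Ω ≤ L) {p p' r : Ω} (hpp' : p ≠ p')
    (hfp : f p = f p') (hr : f r ≠ f p) (hc : cyc p p' r ∈ L)
    {u u' t : Ω} (huu' : u ≠ u') (hfu : f u = f u') (ht : f t ≠ f u) : cyc u u' t ∈ L := by
  obtain ⟨w, hw, h1, h2, h3⟩ := exists_partStab_three f hf hpp' hfp hr huu' hfu ht
  have := conj_cyc_mem f L hL hpp' hfp hr hc w hw
  rwa [conj_cyc, h1, h2, h3] at this

/-- If `L` contains the even part of the wreath product and one 3-cycle with two points in one block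
and the third in another block, it contains the alternating group. -/
theorem alternatingGroup_le_of_cyc_mem (f : Ω → Fin b)
    (hf : ∀ i : Fin b, Nat.card {x : Ω // f x = i} = a)
    (L : Subgroup (Perm Ω)) (hL : partStab f ⊓ alternatingGroup Ω ≤ L) {p p' r : Ω} (hpp' : p ≠ p')
    (hfp : f p = f p') (hr : f r ≠ f p) (hc : cyc p p' r ∈ L) : alternatingGroup Ω ≤ L := by
  rw [← Equiv.Perm.closure_three_cycles_eq_alternating, Subgroup.closure_le]
  intro t ht
  apply mem_of_isThreeCycle hpp' _ t ht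
  intro y hyp hyp'
  by_cases hy : f y = f p
  · apply hL
    exact ⟨cyc_mem_partStab f hfp (hfp.symm.trans hy.symm),
      cyc_mem_alternatingGroup hpp' (Ne.symm hyp') (Ne.symm hyp)⟩
  · exact all_cyc_mem f hf L hL hpp' hfp hr hc hpp' hfp hy

/-- Points of a block avoiding a small set. -/
theorem exists_mem_fibre_notMem (f : Ω → Fin b) (hf : ∀ i : Fin b, Nat.card {x : Ω // f x = i} = a)
    (i : Fin b) (T : Finset Ω) (hT : T.card < a) : ∃ z, f z = i ∧ z ∉ T := by
  have hcard : (Finset.univ.filter (fun x => f x = i)).card = a := by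
    rw [← hf i, Nat.card_eq_fintype_card, Fintype.card_subtype]
  obtain ⟨z, hz, hzT⟩ := Finset.exists_mem_notMem_of_card_lt_card (hcard ▸ hT)
  exact ⟨z, (Finset.mem_filter.mp hz).2, hzT⟩

/-- A block index avoiding a small set of indices. -/
theorem exists_index_notMem (S : Finset (Fin b)) (hS : S.card < b) : ∃ i : Fin b, i ∉ S := by
  have h : S.card < (Finset.univ : Finset (Fin b)).card := by
    rw [Finset.card_univ, Fintype.card_fin]; exact hS
  obtain ⟨i, _, hi⟩ := Finset.exists_mem_notMem_of_card_lt_card h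
  exact ⟨i, hi⟩

theorem cyc_inv_mul_cyc {α : Type*} [DecidableEq α] {p p' q r : α} (h1 : p ≠ p') (h2 : p ≠ q)
    (h3 : p ≠ r) (h4 : p' ≠ q) (h5 : p' ≠ r) (h6 : q ≠ r) :
    (cyc p q r)⁻¹ * cyc p' q r = cyc p' p r := by
  rw [inv_mul_eq_iff_eq_mul]
  ext w
  simp only [cyc, Perm.mul_apply, swap_apply_def]
  split_ifs <;> simp_all

/-- Case `a ≥ 3`: a 3-cycle with two points in one block and the third in another. -/
theorem exists_cyc_mem_of_three_le (ha : 3 ≤ a) (f : Ω → Fin b)
    (hf : ∀ i : Fin b, Nat.card {x : Ω // f x = i} = a)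
    (L : Subgroup (Perm Ω)) (hL : partStab f ⊓ alternatingGroup Ω ≤ L) {g : Perm Ω} (hg : g ∈ L)
    {x y : Ω} (hxy : f x = f y) (hgxy : f (g x) ≠ f (g y)) :
    ∃ p p' r : Ω, p ≠ p' ∧ f p = f p' ∧ f r ≠ f p ∧ cyc p p' r ∈ L := by
  classical
  have hxney : x ≠ y := fun h => hgxy (by rw [h])
  -- a third point in the block of x and y
  obtain ⟨z, hfz, hzT⟩ := exists_mem_fibre_notMem f hf (f x) {x, y}
    (lt_of_le_of_lt Finset.card_le_two (by omega))
  have hzx : z ≠ x := fun h => hzT (by rw [h]; simp)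
  have hzy : z ≠ y := fun h => hzT (by rw [h]; simp)
  have hc : cyc x y z ∈ L := hL ⟨cyc_mem_partStab f hxy (hxy.symm.trans hfz.symm),
    cyc_mem_alternatingGroup hxney hzy.symm hzx.symm⟩
  have hc' : cyc (g x) (g y) (g z) ∈ L := by
    rw [← conj_cyc]
    exact L.mul_mem (L.mul_mem hg hc) (L.inv_mem hg)
  have hpq : g x ≠ g y := fun h => hgxy (by rw [h])
  have hqr : g y ≠ g z := fun h => hzy (g.injective h.symm)
  have hpr : g x ≠ g z := fun h => hzx (g.injective h.symm)
  by_cases h1 : f (g z) = f (g x)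
  · refine ⟨g z, g x, g y, hpr.symm, h1, ?_, ?_⟩
    · rw [h1]; exact Ne.symm hgxy
    · rw [cyc_rotate hpr.symm hpq hqr.symm]
      exact hc'
  by_cases h2 : f (g z) = f (g y)
  · refine ⟨g y, g z, g x, hqr, h2.symm, hgxy, ?_⟩
    rwa [cyc_rotate hpq hqr hpr] at hc'
  -- three different blocks
  set p := g x with hp
  set q := g y with hq
  set r := g z with hr
  obtain ⟨p', hfp', hp'T⟩ := exists_mem_fibre_notMem f hf (f p) {p}
    (by rw [Finset.card_singleton]; omega)
  have hp'p : p' ≠ p := fun h => hp'T (by rw [h]; simp)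
  obtain ⟨s, hfs, hsT⟩ := exists_mem_fibre_notMem f hf (f q) {q}
    (by rw [Finset.card_singleton]; omega)
  have hsq : s ≠ q := fun h => hsT (by rw [h]; simp)
  obtain ⟨s', hfs', hs'T⟩ := exists_mem_fibre_notMem f hf (f q) {q, s}
    (lt_of_le_of_lt Finset.card_le_two (by omega))
  have hs'q : s' ≠ q := fun h => hs'T (by rw [h]; simp)
  have hs's : s' ≠ s := fun h => hs'T (by rw [h]; simp)
  -- the even element of the wreath product
  have hw : swap p p' * swap s s' ∈ L := by
    apply hL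
    refine ⟨(partStab f).mul_mem (swap_mem_partStab f hfp'.symm)
      (swap_mem_partStab f (hfs.trans hfs'.symm)), ?_⟩
    show swap p p' * swap s s' ∈ alternatingGroup Ω
    rw [Perm.mem_alternatingGroup, Perm.sign_mul, Perm.sign_swap hp'p.symm,
      Perm.sign_swap hs's.symm]
    rfl
  have e1 : (swap p p' * swap s s') p = p' := by
    have h3 : p ≠ s := fun h => hgxy (by rw [h, hfs])
    have h4 : p ≠ s' := fun h => hgxy (by rw [h, hfs'])
    rw [Perm.mul_apply, swap_apply_of_ne_of_ne h3 h4, swap_apply_left]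
  have e2 : (swap p p' * swap s s') q = q := by
    have h3 : q ≠ p := hpq.symm
    have h4 : q ≠ p' := fun h => hgxy (by rw [h, hfp'])
    rw [Perm.mul_apply, swap_apply_of_ne_of_ne hsq.symm hs'q.symm, swap_apply_of_ne_of_ne h3 h4]
  have e3 : (swap p p' * swap s s') r = r := by
    have h3 : r ≠ s := fun h => h2 (by rw [h, hfs])
    have h4 : r ≠ s' := fun h => h2 (by rw [h, hfs'])
    have h5 : r ≠ p := hpr.symm
    have h6 : r ≠ p' := fun h => h1 (by rw [h, hfp'])
    rw [Perm.mul_apply, swap_apply_of_ne_of_ne h3 h4, swap_apply_of_ne_of_ne h5 h6]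
  have hc2 : cyc p' q r ∈ L := by
    have := L.mul_mem (L.mul_mem hw hc') (L.inv_mem hw)
    rwa [conj_cyc, e1, e2, e3] at this
  have hp'q : p' ≠ q := fun h => hgxy (by rw [← h, hfp'])
  have hp'r : p' ≠ r := fun h => h1 (by rw [← h, hfp'])
  refine ⟨p', p, r, hp'p, hfp', ?_, ?_⟩
  · rw [hfp']; exact h1
  · rw [← cyc_inv_mul_cyc hp'p.symm hpq hpr hp'q hp'r hqr]
    exact L.mul_mem (L.inv_mem hc') hc2

/-- Case `a ≥ 2`, `b ≥ 5`: a 3-cycle with two points in one block and the third in another. -/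
theorem exists_cyc_mem_of_five_le (ha : 2 ≤ a) (hb : 5 ≤ b) (f : Ω → Fin b)
    (hf : ∀ i : Fin b, Nat.card {x : Ω // f x = i} = a)
    (L : Subgroup (Perm Ω)) (hL : partStab f ⊓ alternatingGroup Ω ≤ L) {g : Perm Ω} (hg : g ∈ L)
    {x x' : Ω} (hxx' : f x = f x') (hgxx' : f (g x) ≠ f (g x')) :
    ∃ p p' r : Ω, p ≠ p' ∧ f p = f p' ∧ f r ≠ f p ∧ cyc p p' r ∈ L := by
  classical
  have hxnex' : x ≠ x' := fun h => hgxx' (by rw [h])
  set p := g x with hp
  set q := g x' with hq
  have hpq : p ≠ q := fun h => hgxx' (by rw [h])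
  -- the partner of p
  obtain ⟨p', hfp', hp'T⟩ := exists_mem_fibre_notMem f hf (f p) {p}
    (by rw [Finset.card_singleton]; omega)
  have hp'p : p' ≠ p := fun h => hp'T (by rw [h]; simp)
  have hp'q : p' ≠ q := fun h => hgxx' (by rw [← h, hfp'])
  -- a block {z, z'} avoiding x and g⁻¹ p'
  obtain ⟨i₁, hi₁⟩ := exists_index_notMem ({f x, f (g⁻¹ p')} : Finset (Fin b))
    (lt_of_le_of_lt Finset.card_le_two (by omega))
  have hi₁x : i₁ ≠ f x := fun h => hi₁ (by rw [h]; simp)
  have hi₁p : i₁ ≠ f (g⁻¹ p') := fun h => hi₁ (by rw [h]; simp)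
  obtain ⟨z, hfz, -⟩ := exists_mem_fibre_notMem f hf i₁ ∅ (by rw [Finset.card_empty]; omega)
  obtain ⟨z', hfz', hz'T⟩ := exists_mem_fibre_notMem f hf i₁ {z}
    (by rw [Finset.card_singleton]; omega)
  have hz'z : z' ≠ z := fun h => hz'T (by rw [h]; simp)
  set r := g z with hr
  set s := g z' with hs
  have hrs : r ≠ s := fun h => hz'z (g.injective h.symm)
  have hzx : z ≠ x := fun h => hi₁x (by rw [← hfz, h])
  have hzx' : z ≠ x' := fun h => hi₁x (by rw [← hfz, h, hxx'])
  have hz'x : z' ≠ x := fun h => hi₁x (by rw [← hfz', h])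
  have hz'x' : z' ≠ x' := fun h => hi₁x (by rw [← hfz', h, hxx'])
  have hrp : r ≠ p := fun h => hzx (g.injective h)
  have hrq : r ≠ q := fun h => hzx' (g.injective h)
  have hsp : s ≠ p := fun h => hz'x (g.injective h)
  have hsq : s ≠ q := fun h => hz'x' (g.injective h)
  have hrp' : r ≠ p' := by
    intro h
    apply hi₁p
    have e : g⁻¹ p' = z := by rw [← h, hr]; exact g.symm_apply_apply z
    rw [e, hfz]
  have hsp' : s ≠ p' := by
    intro h
    apply hi₁p
    have e : g⁻¹ p' = z' := by rw [← h, hs]; exact g.symm_apply_apply z'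
    rw [e, hfz']
  -- a block {w, w'} avoiding p, q, r, s
  obtain ⟨i₂, hi₂⟩ := exists_index_notMem ({f p, f q, f r, f s} : Finset (Fin b))
    (lt_of_le_of_lt (Finset.card_le_four) (by omega))
  have hi₂p : i₂ ≠ f p := fun h => hi₂ (by rw [h]; simp)
  have hi₂q : i₂ ≠ f q := fun h => hi₂ (by rw [h]; simp)
  have hi₂r : i₂ ≠ f r := fun h => hi₂ (by rw [h]; simp)
  have hi₂s : i₂ ≠ f s := fun h => hi₂ (by rw [h]; simp)
  obtain ⟨w, hfw, -⟩ := exists_mem_fibre_notMem f hf i₂ ∅ (by rw [Finset.card_empty]; omega)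
  obtain ⟨w', hfw', hw'T⟩ := exists_mem_fibre_notMem f hf i₂ {w}
    (by rw [Finset.card_singleton]; omega)
  have hw'w : w' ≠ w := fun h => hw'T (by rw [h]; simp)
  -- the elements
  have ht : swap x x' * swap z z' ∈ L := by
    apply hL
    refine ⟨(partStab f).mul_mem (swap_mem_partStab f hxx')
      (swap_mem_partStab f (hfz.trans hfz'.symm)), ?_⟩
    show swap x x' * swap z z' ∈ alternatingGroup Ω
    rw [Perm.mem_alternatingGroup, Perm.sign_mul, Perm.sign_swap hxnex',
      Perm.sign_swap hz'z.symm]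
    rfl
  have hu : swap p q * swap r s ∈ L := by
    have := L.mul_mem (L.mul_mem hg ht) (L.inv_mem hg)
    have e : g * (swap x x' * swap z z') * g⁻¹ = swap p q * swap r s := by
      rw [hp, hq, hr, hs, swap_apply_apply, swap_apply_apply]
      group
    rwa [e] at this
  have hv : swap p p' * swap w w' ∈ L := by
    apply hL
    refine ⟨(partStab f).mul_mem (swap_mem_partStab f hfp'.symm)
      (swap_mem_partStab f (hfw.trans hfw'.symm)), ?_⟩
    show swap p p' * swap w w' ∈ alternatingGroup Ω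
    rw [Perm.mem_alternatingGroup, Perm.sign_mul, Perm.sign_swap hp'p.symm,
      Perm.sign_swap hw'w.symm]
    rfl
  -- the images under u
  have hwp : w ≠ p := fun h => hi₂p (by rw [← hfw, h])
  have hwq : w ≠ q := fun h => hi₂q (by rw [← hfw, h])
  have hwr : w ≠ r := fun h => hi₂r (by rw [← hfw, h])
  have hws : w ≠ s := fun h => hi₂s (by rw [← hfw, h])
  have hw'p : w' ≠ p := fun h => hi₂p (by rw [← hfw', h])
  have hw'q : w' ≠ q := fun h => hi₂q (by rw [← hfw', h])
  have hw'r : w' ≠ r := fun h => hi₂r (by rw [← hfw', h])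
  have hw's : w' ≠ s := fun h => hi₂s (by rw [← hfw', h])
  have u1 : (swap p q * swap r s) p = q := by
    rw [Perm.mul_apply, swap_apply_of_ne_of_ne hrp.symm hsp.symm, swap_apply_left]
  have u2 : (swap p q * swap r s) p' = p' := by
    rw [Perm.mul_apply, swap_apply_of_ne_of_ne hrp'.symm hsp'.symm,
      swap_apply_of_ne_of_ne hp'p hp'q]
  have u3 : (swap p q * swap r s) w = w := by
    rw [Perm.mul_apply, swap_apply_of_ne_of_ne hwr hws, swap_apply_of_ne_of_ne hwp hwq]
  have u4 : (swap p q * swap r s) w' = w' := by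
    rw [Perm.mul_apply, swap_apply_of_ne_of_ne hw'r hw's, swap_apply_of_ne_of_ne hw'p hw'q]
  have hconj : (swap p q * swap r s) * (swap p p' * swap w w') * (swap p q * swap r s)⁻¹ =
      swap q p' * swap w w' := by
    have e : ∀ (h k l : Perm Ω), h * (k * l) * h⁻¹ = (h * k * h⁻¹) * (h * l * h⁻¹) := by
      intro h k l; group
    rw [e, ← swap_apply_apply, ← swap_apply_apply, u1, u2, u3, u4]
  have hcomm : swap q p' * swap w w' * (swap p p' * swap w w')⁻¹ = cyc q p' p := by
    rw [mul_inv_rev, swap_inv, swap_inv]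
    calc swap q p' * swap w w' * (swap w w' * swap p p')
        = swap q p' * ((swap w w' * swap w w') * swap p p') := by simp only [mul_assoc]
      _ = cyc q p' p := by rw [swap_mul_self, one_mul, swap_comm p p']; rfl
  have hcyc : cyc q p' p ∈ L := by
    rw [← hcomm, ← hconj]
    exact L.mul_mem (L.mul_mem (L.mul_mem hu hv) (L.inv_mem hu)) (L.inv_mem hv)
  refine ⟨p', p, q, hp'p, hfp', ?_, ?_⟩
  · rw [hfp']; exact Ne.symm hgxx'
  · rwa [cyc_rotate hp'q.symm hp'p hpq.symm] at hcyc

end PartStabCyc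

end Cfsg.Agent.Helper98
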