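import Mathlib
import Cfsg.Agent.Helper98.Wreath

set_option autoImplicit false

namespace Cfsg.Agent.Helper98

open Equiv Equiv.Perm

section Card

variable {Ω : Type*} [Fintype Ω] [DecidableEq Ω] {a b : ℕ}

/-- The wreath product element attached to a permutation of the blocks and permutations inside the
blocks. -/
noncomputable def wreathElt (f : Ω → Fin b) (hf : ∀ i : Fin b, Nat.card {x : Ω // f x = i} = a)
    (στ : Perm (Fin b) × (Fin b → Perm (Fin a))) : Perm Ω :=
  (fibreEquiv f hf).trans ((Equiv.prodShear στ.1 στ.2).trans (fibreEquiv f hf).symm)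

theorem fibreEquiv_wreathElt (f : Ω → Fin b) (hf : ∀ i : Fin b, Nat.card {x : Ω // f x = i} = a)
    (στ : Perm (Fin b) × (Fin b → Perm (Fin a))) (x : Ω) :
    fibreEquiv f hf (wreathElt f hf στ x) =
      (στ.1 (fibreEquiv f hf x).1, στ.2 (fibreEquiv f hf x).1 (fibreEquiv f hf x).2) := by
  simp [wreathElt, Equiv.prodShear]

theorem wreathElt_injective (ha : 1 ≤ a) (f : Ω → Fin b)
    (hf : ∀ i : Fin b, Nat.card {x : Ω // f x = i} = a) :
    Function.Injective (wreathElt f hf) := by
  rintro ⟨σ, τ⟩ ⟨σ', τ'⟩ h
  have key : ∀ i j, (σ i, τ i j) = (σ' i, τ' i j) := by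
    intro i j
    have h1 := congrArg (fun g : Perm Ω => fibreEquiv f hf (g ((fibreEquiv f hf).symm (i, j)))) h
    simp only [fibreEquiv_wreathElt, Equiv.apply_symm_apply] at h1
    exact h1
  have hσ : σ = σ' := by
    ext i
    have := key i ⟨0, by omega⟩
    exact congrArg Fin.val (congrArg Prod.fst this)
  have hτ : τ = τ' := by
    funext i
    ext j
    have := key i j
    exact congrArg Fin.val (congrArg Prod.snd this)
  rw [hσ, hτ]

theorem range_wreathElt (ha : 1 ≤ a) (f : Ω → Fin b)
    (hf : ∀ i : Fin b, Nat.card {x : Ω // f x = i} = a) :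
    Set.range (wreathElt f hf) = (partStab f : Set (Perm Ω)) := by
  ext g
  constructor
  · rintro ⟨⟨σ, τ⟩, rfl⟩
    intro x y
    have hx : f (wreathElt f hf (σ, τ) x) = σ (f x) := by
      rw [← fibreEquiv_fst f hf, fibreEquiv_wreathElt, fibreEquiv_fst]
    have hy : f (wreathElt f hf (σ, τ) y) = σ (f y) := by
      rw [← fibreEquiv_fst f hf, fibreEquiv_wreathElt, fibreEquiv_fst]
    rw [hx, hy, σ.injective.eq_iff]
  · intro hg
    have hg' : ∀ x y, f x = f y ↔ f (g x) = f (g y) := hg
    set e := fibreEquiv f hf with he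
    have hfst : ∀ x, (e x).1 = f x := fun x => rfl
    let g' : Fin b × Fin a → Fin b × Fin a := fun u => e (g (e.symm u))
    have hg'inj : Function.Injective g' := by
      intro u v h
      exact e.symm.injective (g.injective (e.injective h))
    have hprop : ∀ u v : Fin b × Fin a, u.1 = v.1 ↔ (g' u).1 = (g' v).1 := by
      intro u v
      have := hg' (e.symm u) (e.symm v)
      rw [← hfst, ← hfst, Equiv.apply_symm_apply, Equiv.apply_symm_apply] at this
      rw [this]
      rfl
    let j₀ : Fin a := ⟨0, by omega⟩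
    let σ₀ : Fin b → Fin b := fun i => (g' (i, j₀)).1
    have hσ₀ : Function.Injective σ₀ := by
      intro i i' h
      exact (hprop (i, j₀) (i', j₀)).mpr h
    let σ : Perm (Fin b) := Equiv.ofBijective σ₀ (Finite.injective_iff_bijective.mp hσ₀)
    have hτinj : ∀ i, Function.Injective (fun j => (g' (i, j)).2) := by
      intro i j j' h
      have h1 : (g' (i, j)).1 = (g' (i, j')).1 := (hprop (i, j) (i, j')).mp rfl
      have h2 : g' (i, j) = g' (i, j') := Prod.ext h1 h
      have := hg'inj h2
      exact congrArg Prod.snd this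
    let τ : Fin b → Perm (Fin a) := fun i =>
      Equiv.ofBijective (fun j => (g' (i, j)).2) (Finite.injective_iff_bijective.mp (hτinj i))
    refine ⟨(σ, τ), ?_⟩
    ext x
    apply e.injective
    rw [fibreEquiv_wreathElt]
    show ((g' ((e x).1, j₀)).1, (g' ((e x).1, (e x).2)).2) = e (g x)
    have h1 : (g' ((e x).1, j₀)).1 = (g' ((e x).1, (e x).2)).1 :=
      (hprop ((e x).1, j₀) ((e x).1, (e x).2)).mp rfl
    have h2 : g' ((e x).1, (e x).2) = e (g x) := by
      show e (g (e.symm ((e x).1, (e x).2))) = e (g x)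
      rw [Prod.mk.eta, Equiv.symm_apply_apply]
    rw [h1, ← h2]

/-- The order of the wreath product `S_a ≀ S_b`. -/
theorem card_partStab (ha : 1 ≤ a) (f : Ω → Fin b)
    (hf : ∀ i : Fin b, Nat.card {x : Ω // f x = i} = a) :
    Nat.card (partStab f) = a.factorial ^ b * b.factorial := by
  have h1 : Nat.card (partStab f) = Nat.card (Set.range (wreathElt f hf)) := by
    rw [range_wreathElt ha f hf]
    rfl
  rw [h1, Nat.card_range_of_injective (wreathElt_injective ha f hf), Nat.card_prod, Nat.card_perm,
    Nat.card_fin, Nat.card_pi]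
  simp only [Nat.card_perm, Nat.card_fin, Finset.prod_const, Finset.card_univ, Fintype.card_fin]
  ring

/-- The even part of a subgroup containing an odd permutation has half its order. -/
theorem two_mul_card_inf_alternatingGroup [Nontrivial Ω] (H : Subgroup (Perm Ω))
    (hodd : ∃ w ∈ H, Perm.sign w = -1) :
    2 * Nat.card ↥(H ⊓ alternatingGroup Ω) = Nat.card H := by
  have hle : H ⊓ alternatingGroup Ω ≤ H := inf_le_left
  have h1 : (alternatingGroup Ω).relIndex H ∣ 2 := by
    have := Subgroup.relIndex_dvd_index_of_normal (alternatingGroup Ω) H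
    rwa [alternatingGroup.index_eq_two] at this
  have h2 : (alternatingGroup Ω).relIndex H ≠ 1 := by
    intro h
    rw [Subgroup.relIndex_eq_one] at h
    obtain ⟨w, hw, hs⟩ := hodd
    have := Perm.mem_alternatingGroup.mp (h hw)
    rw [hs] at this
    exact absurd this (by decide)
  have h3 : (alternatingGroup Ω).relIndex H = 2 := by
    rcases (Nat.dvd_prime Nat.prime_two).mp h1 with h | h
    · exact absurd h h2
    · exact h
  have h4 : (H ⊓ alternatingGroup Ω).relIndex H = 2 := by
    rw [Subgroup.inf_relIndex_left]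
    exact h3
  have h5 := Subgroup.relIndex_mul_index hle
  have h6 := Subgroup.index_mul_card (H ⊓ alternatingGroup Ω)
  have h7 := Subgroup.index_mul_card H
  have hH0 : H.index ≠ 0 := Subgroup.index_ne_zero_of_finite
  rw [h4] at h5
  have : H.index * (2 * Nat.card ↥(H ⊓ alternatingGroup Ω)) = H.index * Nat.card H := by
    rw [h7, ← h6, ← h5]; ring
  exact Nat.eq_of_mul_eq_mul_left (Nat.pos_of_ne_zero hH0) this

end Card

end Cfsg.Agent.Helper98
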